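import Mathlib

set_option autoImplicit false
universe w v u
open CategoryTheory Bicategory

namespace Groth.Agent.Helper3

variable {B : Type u} [Bicategory.{w, v} B] {a b : B}

theorem bicat_precomp_isEquivalence (c : B) (f : a ⟶ b) (g : b ⟶ a) (η₀ : f ≫ g ≅ 𝟙 a) (ε₀ : g ≫ f ≅ 𝟙 b) :
    (Bicategory.precomp c f).IsEquivalence := by
  let i1 : Bicategory.precomp c f ⋙ Bicategory.precomp c g ≅ 𝟭 (b ⟶ c) :=
    (associatorNatIsoRight g f c).symm ≪≫ (precomposing b b c).mapIso ε₀ ≪≫ leftUnitorNatIso b c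
  let i2 : Bicategory.precomp c g ⋙ Bicategory.precomp c f ≅ 𝟭 (a ⟶ c) :=
    (associatorNatIsoRight f g c).symm ≪≫ (precomposing a a c).mapIso η₀ ≪≫ leftUnitorNatIso a c
  exact (CategoryTheory.Equivalence.mk (Bicategory.precomp c f) (Bicategory.precomp c g) i1.symm i2).isEquivalence_functor

theorem bicat_postcomp_isEquivalence (c : B) (f : a ⟶ b) (g : b ⟶ a) (η₀ : f ≫ g ≅ 𝟙 a) (ε₀ : g ≫ f ≅ 𝟙 b) :
    (Bicategory.postcomp c f).IsEquivalence := by
  let i1 : Bicategory.postcomp c f ⋙ Bicategory.postcomp c g ≅ 𝟭 (c ⟶ a) :=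
    (associatorNatIsoLeft c f g) ≪≫ (postcomposing c a a).mapIso η₀ ≪≫ rightUnitorNatIso c a
  let i2 : Bicategory.postcomp c g ⋙ Bicategory.postcomp c f ≅ 𝟭 (c ⟶ b) :=
    (associatorNatIsoLeft c g f) ≪≫ (postcomposing c b b).mapIso ε₀ ≪≫ rightUnitorNatIso c b
  exact (CategoryTheory.Equivalence.mk (Bicategory.postcomp c f) (Bicategory.postcomp c g) i1.symm i2).isEquivalence_functor

end Groth.Agent.Helper3
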