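import Groth.Prelude.Def_FibClv
import Mathlib

set_option autoImplicit false
set_option backward.isDefEq.respectTransparency false
universe v₁ v₂ v₃ u₁ u₂ u₃
open CategoryTheory CategoryTheory.Functor

namespace Groth.Agent.Helper3

variable {𝒮 : Type u₁} {𝒳 : Type u₂} [Category.{v₁} 𝒮] [Category.{v₂} 𝒳] {p : 𝒳 ⥤ 𝒮}
  (K : FibCat.Cleavage p)

theorem clv_congr_lift {R S : 𝒮} {f f' : R ⟶ S} (e : f' = f) (a : p.Fiber S) :
    Fiber.fiberInclusion.map ((K.inverseImageCongr e).hom.app a) ≫ K.lift a.2 f = K.lift a.2 f' := by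
  subst e
  simp [FibCat.Cleavage.inverseImageCongr]

theorem clv_comp_id_app {S T : 𝒮} (f : T ⟶ S) (a : p.Fiber S) :
    Fiber.fiberInclusion.map ((K.comp f (𝟙 T)).app a ≫ (K.inverseImageCongr (Category.id_comp f)).hom.app a) =
      (K.transport (𝟙 T)).app ((K.inverseImage f).obj a) := by
  apply IsCartesian.ext p f (K.lift a.2 f)
  rw [Functor.map_comp, Category.assoc, clv_congr_lift, FibCat.Cleavage.comp_app, IsCartesian.fac]
  rfl

theorem clv_id_comp_app {S T : 𝒮} (f : T ⟶ S) (a : p.Fiber S) :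
    (K.comp (𝟙 S) f).app a ≫ (K.inverseImageCongr (Category.comp_id f)).hom.app a =
      (K.inverseImage f).map (Fiber.homMk p S (K.lift a.2 (𝟙 S))) := by
  apply Fiber.hom_ext
  apply IsCartesian.ext p f (K.lift a.2 f)
  rw [Functor.map_comp, Category.assoc, clv_congr_lift, FibCat.Cleavage.comp_app, IsCartesian.fac,
    FibCat.Cleavage.inverseImage_map, IsCartesian.fac, Fiber.fiberInclusion_homMk]

theorem clv_cocycle {S T U V : 𝒮} (f : T ⟶ S) (g : U ⟶ T) (h : V ⟶ U) :
    Functor.whiskerLeft (K.inverseImage f) (K.comp g h) ≫ K.comp f (h ≫ g) ≫ (K.inverseImageCongr (Category.assoc h g f)).hom =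
      Functor.whiskerRight (K.comp f g) (K.inverseImage h) ≫ K.comp (g ≫ f) h := by
  ext a
  apply IsCartesian.ext p (h ≫ g ≫ f) (K.lift a.2 (h ≫ g ≫ f))
  simp only [NatTrans.comp_app, Functor.whiskerLeft_app, Functor.whiskerRight_app, Functor.map_comp,
    Category.assoc, clv_congr_lift, FibCat.Cleavage.comp_app, IsCartesian.fac, IsCartesian.fac_assoc,
    FibCat.Cleavage.inverseImage_map]

theorem clv_isIso_comp_of_isFibered [p.IsFibered] {R S T : 𝒮} (f : T ⟶ S) (g : R ⟶ T) :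
    IsIso (K.comp f g) := by
  have : ∀ a, IsIso ((K.comp f g).app a) := by
    intro a
    have : p.IsCartesian (g ≫ f) (K.lift (K.obj_proj a.2 f) g ≫ K.lift a.2 f) := inferInstance
    refine ⟨⟨Fiber.homMk p R (IsCartesian.map p (g ≫ f)
      (K.lift (K.obj_proj a.2 f) g ≫ K.lift a.2 f) (K.lift a.2 (g ≫ f))), ?_, ?_⟩⟩
    · apply Fiber.hom_ext
      apply IsCartesian.ext p (g ≫ f) (K.lift (K.obj_proj a.2 f) g ≫ K.lift a.2 f)
      simp
    · apply Fiber.hom_ext
      apply IsCartesian.ext p (g ≫ f) (K.lift a.2 (g ≫ f))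
      simp
  exact NatIso.isIso_of_isIso_app _

theorem clv_isFibered_of_isIso_comp
    (h : ∀ (R S T : 𝒮) (f : T ⟶ S) (g : R ⟶ T), IsIso (K.comp f g)) : p.IsFibered := by
  have := K.isPreFibered
  refine { comp := ?_ }
  intro R S T f g a b c φ ψ hφ hψ
  have hc : p.obj c = T := IsHomLift.codomain_eq p g ψ
  let θ := IsCartesian.domainUniqueUpToIso p g (K.lift hc g) ψ
  have hθ : θ.hom ≫ K.lift hc g = ψ := by simp [θ]
  have : p.IsCartesian f (φ ≫ θ.hom) := inferInstance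
  let c' : p.Fiber T := ⟨c, hc⟩
  let θ' := IsCartesian.domainUniqueUpToIso p f (K.lift (K.obj_proj hc g) f) (φ ≫ θ.hom)
  have hθ' : θ'.hom ≫ K.lift (K.obj_proj hc g) f = φ ≫ θ.hom := by simp [θ']
  have := h R T S g f
  let κ := asIso ((K.comp g f).app c')
  let κ' : K.obj (K.obj_proj hc g) f ≅ K.obj hc (f ≫ g) := Fiber.fiberInclusion.mapIso κ
  have hκ : κ'.hom ≫ K.lift hc (f ≫ g) = K.lift (K.obj_proj hc g) f ≫ K.lift hc g := by
    simp [κ', κ, c']
  have key : φ ≫ ψ = (θ' ≪≫ κ').hom ≫ K.lift hc (f ≫ g) := by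
    rw [Iso.trans_hom, Category.assoc, hκ, ← Category.assoc, hθ', Category.assoc, hθ]
  rw [key]
  have : p.IsHomLift (𝟙 R) κ'.hom := by
    show p.IsHomLift (𝟙 R) (Fiber.fiberInclusion.map κ.hom)
    infer_instance
  have : p.IsHomLift (𝟙 R) (θ' ≪≫ κ').hom := by
    rw [Iso.trans_hom]; infer_instance
  infer_instance

theorem clv_isFibered_iff : p.IsFibered ↔ ∀ (R S T : 𝒮) (f : T ⟶ S) (g : R ⟶ T), IsIso (K.comp f g) :=
  ⟨fun _ _ _ _ f g => clv_isIso_comp_of_isFibered K f g, clv_isFibered_of_isIso_comp K⟩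

theorem clv_inverseImage_isEquivalence [p.IsFibered] {S T : 𝒮} (f : T ⟶ S) [IsIso f] :
    (K.inverseImage f).IsEquivalence := by
  have hiso : ∀ (a : p.Fiber S), IsIso (K.lift a.2 f) :=
    fun a => IsStronglyCartesian.isIso_of_base_isIso p f (K.lift a.2 f)
  have : (K.inverseImage f).Faithful := by
    constructor
    intro a b φ ψ h
    apply Fiber.hom_ext
    have := hiso a
    have h1 := congrArg (fun χ => Fiber.fiberInclusion.map χ ≫ K.lift b.2 f) h
    simp only [FibCat.Cleavage.inverseImage_map, IsCartesian.fac] at h1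
    exact (cancel_epi (K.lift a.2 f)).1 h1
  have : (K.inverseImage f).Full := by
    constructor
    intro a b χ
    have := hiso a
    have := hiso b
    have hl : p.IsHomLift (𝟙 S) (inv (K.lift a.2 f) ≫ Fiber.fiberInclusion.map χ ≫ K.lift b.2 f) := by
      have : p.IsHomLift (inv f ≫ 𝟙 T ≫ f)
        (inv (K.lift a.2 f) ≫ Fiber.fiberInclusion.map χ ≫ K.lift b.2 f) := inferInstance
      simpa using this
    refine ⟨Fiber.homMk p S (inv (K.lift a.2 f) ≫ Fiber.fiberInclusion.map χ ≫ K.lift b.2 f), ?_⟩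
    apply Fiber.hom_ext
    apply IsCartesian.ext p f (K.lift b.2 f)
    simp
  have : (K.inverseImage f).EssSurj := by
    constructor
    intro b
    let a : p.Fiber S := ⟨K.obj b.2 (inv f), K.obj_proj b.2 (inv f)⟩
    refine ⟨a, ⟨?_⟩⟩
    have : IsIso (K.lift a.2 f) := hiso a
    have : IsIso (K.lift b.2 (inv f)) := IsStronglyCartesian.isIso_of_base_isIso p (inv f) _
    have hl : p.IsHomLift (𝟙 T) (K.lift a.2 f ≫ K.lift b.2 (inv f)) := by
      have : p.IsHomLift (f ≫ inv f) (K.lift a.2 f ≫ K.lift b.2 (inv f)) := inferInstance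
      simpa using this
    have hl' : p.IsHomLift (𝟙 T) (inv (K.lift a.2 f ≫ K.lift b.2 (inv f))) := inferInstance
    exact { hom := Fiber.homMk p T (K.lift a.2 f ≫ K.lift b.2 (inv f))
            inv := Fiber.homMk p T (inv (K.lift a.2 f ≫ K.lift b.2 (inv f)))
            hom_inv_id := by apply Fiber.hom_ext; simp
            inv_hom_id := by apply Fiber.hom_ext; simp; rfl }
  exact { }

theorem clv_natTrans_existsUnique {C : Type u₃} [Category.{v₃} C] (F G : 𝒳 ⥤ C)
    (u : ∀ S : 𝒮, (Fiber.fiberInclusion ⋙ F : p.Fiber S ⥤ C) ⟶ Fiber.fiberInclusion ⋙ G)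
    (hu : ∀ ⦃T S : 𝒮⦄ (f : T ⟶ S) (a : p.Fiber S),
      F.map ((K.transport f).app a) ≫ (u S).app a =
        (u T).app ((K.inverseImage f).obj a) ≫ G.map ((K.transport f).app a)) :
    ∃! v : F ⟶ G, ∀ (S : 𝒮) (a : p.Fiber S), v.app a.1 = (u S).app a := by
  refine ⟨{ app := fun x => (u (p.obj x)).app ⟨x, rfl⟩, naturality := ?_ }, ?_, ?_⟩
  · intro x y φ
    let a : p.Fiber (p.obj y) := ⟨y, rfl⟩
    let χ : x ⟶ K.obj a.2 (p.map φ) := IsCartesian.map p (p.map φ) (K.lift a.2 (p.map φ)) φ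
    have hχ : χ ≫ K.lift a.2 (p.map φ) = φ := IsCartesian.fac p (p.map φ) (K.lift a.2 (p.map φ)) φ
    let x' : p.Fiber (p.obj x) := ⟨x, rfl⟩
    let χ' : x' ⟶ (K.inverseImage (p.map φ)).obj a :=
      Fiber.homMk p (p.obj x) χ
    have h1 := (u (p.obj x)).naturality χ'
    have h2 := hu (p.map φ) a
    have h2' : F.map (K.lift a.2 (p.map φ)) ≫ (u (p.obj y)).app a =
        (u (p.obj x)).app ((K.inverseImage (p.map φ)).obj a) ≫ G.map (K.lift a.2 (p.map φ)) := h2
    have h1' : F.map χ ≫ (u (p.obj x)).app ((K.inverseImage (p.map φ)).obj a) =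
        (u (p.obj x)).app x' ≫ G.map χ := h1
    have e1 : F.map φ = F.map χ ≫ F.map (K.lift a.2 (p.map φ)) := by rw [← Functor.map_comp, hχ]
    have e2 : G.map φ = G.map χ ≫ G.map (K.lift a.2 (p.map φ)) := by rw [← Functor.map_comp, hχ]
    show F.map φ ≫ (u (p.obj y)).app a = (u (p.obj x)).app x' ≫ G.map φ
    rw [e1, e2, Category.assoc, h2', ← Category.assoc, h1', Category.assoc]
  · intro S a
    obtain ⟨x, rfl⟩ := a
    rfl
  · intro v' hv'
    ext x
    exact hv' (p.obj x) ⟨x, rfl⟩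

end Groth.Agent.Helper3
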