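import Mathlib

/-! Coherent modules: extensions, transfer along equivalences, finite free modules, quotients. -/

namespace H3Coh

variable {R : Type*} [CommRing R]

/-- `M` is "sub-coherent": every f.g. submodule is finitely presented. -/
def SubFP (R : Type*) [CommRing R] (M : Type*) [AddCommGroup M] [Module R M] : Prop :=
  ∀ N : Submodule R M, N.FG → Module.FinitePresentation R N

theorem of_exact {M₁ M₂ M₃ : Type*} [AddCommGroup M₁] [Module R M₁] [AddCommGroup M₂] [Module R M₂]
    [AddCommGroup M₃] [Module R M₃]
    (f : M₁ →ₗ[R] M₂) (g : M₂ →ₗ[R] M₃) (hf : Function.Injective f)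
    (hfg : LinearMap.range f = LinearMap.ker g)
    (h₁ : SubFP R M₁) (h₃ : SubFP R M₃) : SubFP R M₂ := by
  intro N hN
  haveI : Module.Finite R N := Module.Finite.iff_fg.2 hN
  haveI : Module.FinitePresentation R (N.map g) := h₃ _ (hN.map g)
  have hl : Function.Surjective (g.submoduleMap N) := g.submoduleMap_surjective N
  have hker : (LinearMap.ker (g.submoduleMap N)).FG := Module.FinitePresentation.fg_ker _ hl
  let φ : (N.comap f) →ₗ[R] LinearMap.ker (g.submoduleMap N) :=
    LinearMap.codRestrict _ (LinearMap.codRestrict N (f.domRestrict (N.comap f)) (fun y => y.2))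
      (fun y => by
        rw [LinearMap.mem_ker]
        apply Subtype.ext
        show g (f y.1) = 0
        have : f y.1 ∈ LinearMap.ker g := hfg ▸ LinearMap.mem_range_self f y.1
        exact this)
  have hφinj : Function.Injective φ := by
    intro a b hab
    have : f a.1 = f b.1 :=
      congrArg (fun z : LinearMap.ker (g.submoduleMap N) => ((z.1 : N) : M₂)) hab
    exact Subtype.ext (hf this)
  have hφsurj : Function.Surjective φ := by
    rintro ⟨⟨x, hxN⟩, hx⟩
    have hgx : g x = 0 := by
      have := congrArg Subtype.val (LinearMap.mem_ker.1 hx)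
      exact this
    have : x ∈ LinearMap.range f := hfg ▸ (LinearMap.mem_ker.2 hgx)
    obtain ⟨y, rfl⟩ := this
    exact ⟨⟨y, hxN⟩, rfl⟩
  have hfg1 : (N.comap f).FG := by
    haveI : Module.Finite R (LinearMap.ker (g.submoduleMap N)) := Module.Finite.iff_fg.2 hker
    exact Module.Finite.iff_fg.1
      (Module.Finite.equiv (LinearEquiv.ofBijective φ ⟨hφinj, hφsurj⟩).symm)
  haveI : Module.FinitePresentation R (N.comap f) := h₁ _ hfg1
  haveI : Module.FinitePresentation R (LinearMap.ker (g.submoduleMap N)) :=
    Module.FinitePresentation.of_equiv (LinearEquiv.ofBijective φ ⟨hφinj, hφsurj⟩)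
  exact Module.finitePresentation_of_ker _ hl

theorem of_equiv {M M' : Type*} [AddCommGroup M] [Module R M] [AddCommGroup M'] [Module R M']
    (e : M ≃ₗ[R] M') (h : SubFP R M) : SubFP R M' := by
  intro N hN
  haveI : Module.FinitePresentation R (N.map (e.symm : M' →ₗ[R] M)) := h _ (hN.map _)
  exact Module.FinitePresentation.of_equiv (e.symm.submoduleMap N).symm

theorem prod {M M' : Type*} [AddCommGroup M] [Module R M] [AddCommGroup M'] [Module R M']
    (h : SubFP R M) (h' : SubFP R M') : SubFP R (M × M') :=
  of_exact (LinearMap.inl R M M') (LinearMap.snd R M M') LinearMap.inl_injective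
    (LinearMap.range_inl R M M') h h'

theorem pi_fin (hR : SubFP R R) (n : ℕ) : SubFP R (Fin n → R) := by
  induction n with
  | zero =>
    intro N _
    infer_instance
  | succ n ih =>
    exact of_equiv (Fin.consLinearEquiv R (fun _ => R)) (prod hR ih)

/-- Quotient of a sub-coherent module by a f.g. submodule (surjection with f.g. kernel). -/
theorem of_surjective {M M' : Type*} [AddCommGroup M] [Module R M] [AddCommGroup M'] [Module R M']
    (π : M →ₗ[R] M') (hπ : Function.Surjective π) (hker : (LinearMap.ker π).FG)
    (h : SubFP R M) : SubFP R M' := by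
  intro N hN
  have hmap : (N.comap π).map π = N := Submodule.map_comap_eq_of_surjective hπ N
  have hfg' : (N.comap π).FG := by
    apply Submodule.fg_of_fg_map_of_fg_inf_ker π
    · rw [hmap]; exact hN
    · have : N.comap π ⊓ LinearMap.ker π = LinearMap.ker π := by
        apply inf_eq_right.2
        intro x hx
        show π x ∈ N
        rw [LinearMap.mem_ker.1 hx]; exact N.zero_mem
      rw [this]; exact hker
  haveI : Module.FinitePresentation R (N.comap π) := h _ hfg'
  have hl : Function.Surjective (π.submoduleMap (N.comap π)) := π.submoduleMap_surjective _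
  have hk : (LinearMap.ker (π.submoduleMap (N.comap π))).FG := by
    apply Submodule.fg_of_fg_map_injective (N.comap π).subtype (Submodule.injective_subtype _)
    have : (LinearMap.ker (π.submoduleMap (N.comap π))).map (N.comap π).subtype = LinearMap.ker π := by
      ext x
      constructor
      · rintro ⟨y, hy, rfl⟩
        have := congrArg Subtype.val (LinearMap.mem_ker.1 hy)
        exact LinearMap.mem_ker.2 this
      · intro hx
        have hxN : x ∈ N.comap π := by
          show π x ∈ N
          rw [LinearMap.mem_ker.1 hx]; exact N.zero_mem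
        refine ⟨⟨x, hxN⟩, ?_, rfl⟩
        rw [SetLike.mem_coe, LinearMap.mem_ker]
        apply Subtype.ext
        exact LinearMap.mem_ker.1 hx
    rw [this]; exact hker
  have := Module.finitePresentation_of_surjective (π.submoduleMap (N.comap π)) hl hk
  exact hmap ▸ this

theorem of_finitePresentation (hR : SubFP R R) (M : Type*) [AddCommGroup M] [Module R M]
    [Module.FinitePresentation R M] : SubFP R M := by
  obtain ⟨n, K, e, hK⟩ := Module.FinitePresentation.exists_fin R M
  apply of_equiv e.symm
  refine of_surjective K.mkQ (Submodule.mkQ_surjective K) ?_ (pi_fin hR n)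
  rw [Submodule.ker_mkQ]; exact hK

end H3Coh
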