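import Groth.Agent.Lib.helper3.LeftInvLift

/-! Cokernel of a split injection mod `J` is projective mod `J` (helper3). -/

set_option autoImplicit false
universe u v w

namespace H3Compl

variable {A : Type u} {M : Type v} {N : Type w}
  [CommRing A] [AddCommGroup M] [Module A M] [AddCommGroup N] [Module A N]

theorem coker_projective (J : Ideal A) (u : M →ₗ[A] N)
    [Module.Projective (A ⧸ J) (N ⧸ (J • ⊤ : Submodule A N))]
    (w : N →ₗ[A] M ⧸ (J • ⊤ : Submodule A M)) (hw : ∀ x, w (u x) = Submodule.Quotient.mk x) :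
    Module.Projective (A ⧸ J)
      ((N ⧸ LinearMap.range u) ⧸ (J • (⊤ : Submodule A (N ⧸ LinearMap.range u)))) := by
  have hsurj : Function.Surjective (algebraMap A (A ⧸ J)) := Ideal.Quotient.mk_surjective
  have kM : ∀ a ∈ J, ∀ y : M ⧸ (J • ⊤ : Submodule A M), a • y = 0 :=
    fun a ha y => H3LeftInv.smul_quot_eq_zero J J le_rfl a ha y
  have kN : ∀ a ∈ J, ∀ y : N ⧸ (J • ⊤ : Submodule A N), a • y = 0 :=
    fun a ha y => H3LeftInv.smul_quot_eq_zero J J le_rfl a ha y
  have hu : (J • ⊤ : Submodule A M) ≤ (J • ⊤ : Submodule A N).comap u := by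
    rw [Submodule.smul_le]
    intro a ha m _
    rw [Submodule.mem_comap, map_smul]
    exact Submodule.smul_mem_smul ha Submodule.mem_top
  have hwk : (J • ⊤ : Submodule A N) ≤ LinearMap.ker w := by
    rw [Submodule.smul_le]
    intro a ha y _
    rw [LinearMap.mem_ker, map_smul]
    exact kM a ha _
  have he : LinearMap.range u ≤ LinearMap.ker
      ((LinearMap.id - (Submodule.mapQ _ _ u hu) ∘ₗ (Submodule.liftQ _ w hwk)) ∘ₗ
        Submodule.mkQ (J • ⊤ : Submodule A N)) := by
    rintro _ ⟨x, rfl⟩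
    rw [LinearMap.mem_ker, LinearMap.comp_apply, Submodule.mkQ_apply, LinearMap.sub_apply,
      LinearMap.id_apply, LinearMap.comp_apply, Submodule.liftQ_apply, hw, Submodule.mapQ_apply,
      sub_self]
  have hi₀ : (J • ⊤ : Submodule A (N ⧸ LinearMap.range u)) ≤ LinearMap.ker
      (Submodule.liftQ _ ((LinearMap.id - (Submodule.mapQ _ _ u hu) ∘ₗ (Submodule.liftQ _ w hwk)) ∘ₗ
        Submodule.mkQ (J • ⊤ : Submodule A N)) he) := by
    rw [Submodule.smul_le]
    intro a ha y _
    rw [LinearMap.mem_ker, map_smul]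
    exact kN a ha _
  have hs : (J • ⊤ : Submodule A N) ≤
      (J • ⊤ : Submodule A (N ⧸ LinearMap.range u)).comap (Submodule.mkQ (LinearMap.range u)) := by
    rw [Submodule.smul_le]
    intro a ha y _
    rw [Submodule.mem_comap, map_smul]
    exact Submodule.smul_mem_smul ha Submodule.mem_top
  have hsi : ∀ c, (Submodule.mapQ _ _ (Submodule.mkQ (LinearMap.range u)) hs)
      ((Submodule.liftQ _ (Submodule.liftQ _
        ((LinearMap.id - (Submodule.mapQ _ _ u hu) ∘ₗ (Submodule.liftQ _ w hwk)) ∘ₗ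
        Submodule.mkQ (J • ⊤ : Submodule A N)) he) hi₀) c) = c := by
    intro c
    obtain ⟨c', rfl⟩ := Submodule.Quotient.mk_surjective _ c
    obtain ⟨y, rfl⟩ := Submodule.Quotient.mk_surjective _ c'
    rw [Submodule.liftQ_apply, Submodule.liftQ_apply, LinearMap.comp_apply, Submodule.mkQ_apply,
      LinearMap.sub_apply, LinearMap.id_apply, LinearMap.comp_apply, Submodule.liftQ_apply, map_sub]
    obtain ⟨m, hm⟩ := Submodule.Quotient.mk_surjective _ (w y)
    rw [← hm, Submodule.mapQ_apply, Submodule.mapQ_apply, Submodule.mapQ_apply, Submodule.mkQ_apply,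
      Submodule.mkQ_apply]
    have h0 : (Submodule.Quotient.mk (u m) : N ⧸ LinearMap.range u) = 0 :=
      (Submodule.Quotient.mk_eq_zero _).2 ⟨m, rfl⟩
    rw [h0, Submodule.Quotient.mk_zero, sub_zero]
  exact Module.Projective.of_split
    ((Submodule.liftQ _ (Submodule.liftQ _
        ((LinearMap.id - (Submodule.mapQ _ _ u hu) ∘ₗ (Submodule.liftQ _ w hwk)) ∘ₗ
        Submodule.mkQ (J • ⊤ : Submodule A N)) he) hi₀).extendScalarsOfSurjective hsurj)
    ((Submodule.mapQ _ _ (Submodule.mkQ (LinearMap.range u)) hs).extendScalarsOfSurjective hsurj)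
    (LinearMap.ext fun c => hsi c)

end H3Compl
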