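import Mathlib.Algebra.Module.Torsion.Basic
import Mathlib.Algebra.Module.Projective
import Mathlib.Algebra.Algebra.Basic
import Mathlib.RingTheory.Ideal.Quotient.Operations
import Mathlib.RingTheory.Ideal.Operations
import Mathlib.RingTheory.Nilpotent.Basic
import Mathlib.LinearAlgebra.Quotient.Basic

/-! Lifting left inverses modulo a nilpotent ideal when the target is projective (helper3). -/

set_option autoImplicit false
universe u v w

namespace H3LeftInv

variable {A : Type u} [CommRing A]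

theorem lift_of_projective_quot (J : Ideal A) {N : Type w} [AddCommGroup N] [Module A N]
    [Module.Projective (A ⧸ J) (N ⧸ (J • ⊤ : Submodule A N))]
    {P Q : Type v} [AddCommGroup P] [Module A P] [AddCommGroup Q] [Module A Q]
    (hP : ∀ a ∈ J, ∀ y : P, a • y = 0) (hQ : ∀ a ∈ J, ∀ y : Q, a • y = 0)
    (f : P →ₗ[A] Q) (hf : Function.Surjective f) (v : N →ₗ[A] Q) :
    ∃ w : N →ₗ[A] P, f ∘ₗ w = v := by
  have hsurj : Function.Surjective (algebraMap A (A ⧸ J)) := Ideal.Quotient.mk_surjective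
  have tP : Module.IsTorsionBySet A P (J : Set A) := fun x a => hP a a.2 x
  have tQ : Module.IsTorsionBySet A Q (J : Set A) := fun x a => hQ a a.2 x
  letI : Module (A ⧸ J) P := tP.module
  letI : Module (A ⧸ J) Q := tQ.module
  haveI : IsScalarTower A (A ⧸ J) P := tP.isScalarTower
  haveI : IsScalarTower A (A ⧸ J) Q := tQ.isScalarTower
  have hker : (J • ⊤ : Submodule A N) ≤ LinearMap.ker v := by
    rw [Submodule.smul_le]
    intro a ha m _
    rw [LinearMap.mem_ker, map_smul]
    exact hQ a ha _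
  obtain ⟨h, hh⟩ := Module.projective_lifting_property
    (f.extendScalarsOfSurjective hsurj)
    ((Submodule.liftQ _ v hker).extendScalarsOfSurjective hsurj) hf
  refine ⟨(h.restrictScalars A) ∘ₗ (Submodule.mkQ _), ?_⟩
  ext m
  exact LinearMap.congr_fun hh (Submodule.Quotient.mk m)

theorem smul_quot_eq_zero (J : Ideal A) {M : Type v} [AddCommGroup M] [Module A M]
    (I : Ideal A) (hIJ : I ≤ J) (a : A) (ha : a ∈ I) (y : M ⧸ (J • ⊤ : Submodule A M)) :
    a • y = 0 := by
  obtain ⟨m, rfl⟩ := Submodule.Quotient.mk_surjective _ y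
  rw [← Submodule.Quotient.mk_smul, Submodule.Quotient.mk_eq_zero]
  exact Submodule.smul_mem_smul (hIJ ha) Submodule.mem_top

theorem exists_leftInv_of_mod (J L : Ideal A) (hJL : J ≤ L) (n : ℕ) (hn : L ^ n ≤ J)
    {M : Type v} {N : Type w} [AddCommGroup M] [Module A M] [AddCommGroup N] [Module A N]
    [Module.Projective (A ⧸ J) (N ⧸ (J • ⊤ : Submodule A N))] (u : M →ₗ[A] N)
    (w₀ : N →ₗ[A] M ⧸ (L • ⊤ : Submodule A M))
    (hw₀ : ∀ x, w₀ (u x) = Submodule.Quotient.mk x) :
    ∃ w : N →ₗ[A] M ⧸ (J • ⊤ : Submodule A M), ∀ x, w (u x) = Submodule.Quotient.mk x := by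
  have hle : (J • ⊤ : Submodule A M) ≤ L • ⊤ := Submodule.smul_mono_left hJL
  have hP : ∀ a ∈ J, ∀ y : M ⧸ (J • ⊤ : Submodule A M), a • y = 0 :=
    fun a ha y => smul_quot_eq_zero J J le_rfl a ha y
  have hQ : ∀ a ∈ J, ∀ y : M ⧸ (L • ⊤ : Submodule A M), a • y = 0 :=
    fun a ha y => smul_quot_eq_zero L J hJL a ha y
  obtain ⟨w₁, hw₁⟩ := lift_of_projective_quot J hP hQ (Submodule.factor hle)
    (Submodule.factor_surjective hle) w₀
  have hw₁' : ∀ y, Submodule.factor hle (w₁ y) = w₀ y := fun y => LinearMap.congr_fun hw₁ y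
  have hker : (J • ⊤ : Submodule A M) ≤ LinearMap.ker (w₁ ∘ₗ u) := by
    rw [Submodule.smul_le]
    intro a ha m _
    rw [LinearMap.mem_ker, map_smul]
    exact hP a ha _
  let et : Module.End A (M ⧸ (J • ⊤ : Submodule A M)) := Submodule.liftQ _ (w₁ ∘ₗ u) hker
  have het : ∀ m : M, et (Submodule.Quotient.mk m) = w₁ (u m) := fun m => rfl
  -- ε = et - 1 has image in L • ⊤
  have hε : ∀ y, (et - 1) y ∈ (L • ⊤ : Submodule A (M ⧸ (J • ⊤ : Submodule A M))) := by
    intro y
    obtain ⟨m, rfl⟩ := Submodule.Quotient.mk_surjective _ y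
    rw [LinearMap.sub_apply, het, Module.End.one_apply]
    obtain ⟨m', hm'⟩ := Submodule.Quotient.mk_surjective _
      (w₁ (u m) - (Submodule.Quotient.mk m : M ⧸ (J • ⊤ : Submodule A M)))
    have h0 : Submodule.factor hle (Submodule.Quotient.mk m') = 0 := by
      rw [hm', map_sub, hw₁', hw₀]
      exact sub_self _
    have h1 : m' ∈ (L • ⊤ : Submodule A M) := by
      rw [← Submodule.Quotient.mk_eq_zero]
      exact h0
    rw [← hm']
    have h2 : (Submodule.Quotient.mk m' : M ⧸ (J • ⊤ : Submodule A M)) ∈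
        (L • ⊤ : Submodule A M).map (Submodule.mkQ (J • ⊤ : Submodule A M)) :=
      Submodule.mem_map_of_mem h1
    rw [Submodule.map_smul''] at h2
    exact Submodule.smul_mono le_rfl le_top h2
  have hstep : ∀ (i : ℕ) (z : M ⧸ (J • ⊤ : Submodule A M)),
      z ∈ (L ^ i • ⊤ : Submodule A (M ⧸ (J • ⊤ : Submodule A M))) →
      (et - 1) z ∈ (L ^ (i + 1) • ⊤ : Submodule A (M ⧸ (J • ⊤ : Submodule A M))) := by
    intro i z hz
    refine Submodule.smul_induction_on hz (fun a ha p _ => ?_) (fun x y hx hy => ?_)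
    · rw [map_smul, pow_succ, Submodule.mul_smul]
      exact Submodule.smul_mem_smul ha (hε p)
    · rw [map_add]; exact Submodule.add_mem _ hx hy
  have hpow : ∀ (i : ℕ) (y : M ⧸ (J • ⊤ : Submodule A M)),
      ((et - 1) ^ i) y ∈ (L ^ i • ⊤ : Submodule A (M ⧸ (J • ⊤ : Submodule A M))) := by
    intro i
    induction i with
    | zero =>
      intro y
      rw [pow_zero, Ideal.one_eq_top, Submodule.top_smul]
      exact Submodule.mem_top
    | succ i ih =>
      intro y
      rw [pow_succ' (et - 1) i, Module.End.mul_apply]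
      exact hstep i _ (ih y)
  have hnil : (et - 1) ^ n = 0 := by
    refine LinearMap.ext fun y => ?_
    have h1 := hpow n y
    have h2 : (L ^ n • ⊤ : Submodule A (M ⧸ (J • ⊤ : Submodule A M))) ≤ ⊥ := by
      rw [Submodule.smul_le]
      intro a ha p _
      rw [Submodule.mem_bot]
      exact hP a (hn ha) p
    have h3 := h2 h1
    rw [Submodule.mem_bot] at h3
    exact h3
  have hunit : IsUnit (1 + (et - 1)) := IsNilpotent.isUnit_one_add ⟨n, hnil⟩
  rw [add_sub_cancel] at hunit
  obtain ⟨θ, hθ⟩ := hunit.exists_left_inv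
  refine ⟨θ ∘ₗ w₁, fun x => ?_⟩
  show θ (w₁ (u x)) = Submodule.Quotient.mk x
  rw [← het, ← Module.End.mul_apply, hθ, Module.End.one_apply]

end H3LeftInv
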