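import Groth.Agent.Lib.helper3.TopModLib
import Groth.Agent.Lib.helper3.LeftInvLift
import Mathlib.Topology.Algebra.IsUniformGroup.Basic
import Mathlib.Topology.UniformSpace.Cauchy
import Mathlib.Topology.Separation.Basic

/-! Honest left inverses from compatible systems of left inverses modulo a countable basis of open
ideals, in a complete Hausdorff module (helper3). -/

set_option autoImplicit false
universe u v w

namespace H3Compl

theorem dep_seq {α : ℕ → Type*} (P : ∀ n, α n → Prop) (R : ∀ n, α n → α (n + 1) → Prop)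
    (h0 : ∃ x, P 0 x) (hs : ∀ n x, P n x → ∃ y, P (n + 1) y ∧ R n x y) :
    ∃ f : ∀ n, α n, (∀ n, P n (f n)) ∧ ∀ n, R n (f n) (f (n + 1)) := by
  classical
  let g : ∀ n, {x : α n // P n x} := fun n =>
    Nat.rec ⟨h0.choose, h0.choose_spec⟩
      (fun n x => ⟨(hs n x.1 x.2).choose, (hs n x.1 x.2).choose_spec.1⟩) n
  exact ⟨fun n => (g n).1, fun n => (g n).2, fun n => (hs n (g n).1 (g n).2).choose_spec.2⟩

variable {A : Type u} {M : Type v} {N : Type w}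
  [CommRing A] [TopologicalSpace A] [AddCommGroup M] [Module A M] [UniformSpace M]
  [IsUniformAddGroup M] [CompleteSpace M] [T2Space M] [AddCommGroup N] [Module A N]

theorem basisM (𝔍 : ℕ → Ideal A) (h𝔍open : ∀ n, IsOpen (𝔍 n : Set A))
    (h𝔍basis : (nhds (0 : A)).HasBasis (fun _ : ℕ => True) (fun n => (𝔍 n : Set A)))
    (hM : TopMod.IsDeduced A M) :
    (nhds (0 : M)).HasBasis (fun _ : ℕ => True)
      (fun n => ((𝔍 n • ⊤ : Submodule A M) : Set M)) := by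
  refine hM.2.to_hasBasis ?_ ?_
  · intro J hJ
    have hmem : (J : Set A) ∈ nhds (0 : A) := hJ.mem_nhds J.zero_mem
    obtain ⟨n, -, hn⟩ := h𝔍basis.mem_iff.1 hmem
    refine ⟨n, trivial, ?_⟩
    have : (𝔍 n • ⊤ : Submodule A M) ≤ J • ⊤ := Submodule.smul_mono_left (fun a ha => hn ha)
    exact this
  · intro n _
    exact ⟨𝔍 n, h𝔍open n, le_rfl⟩

theorem eq_of_forall_sub_mem (𝔍 : ℕ → Ideal A) (h𝔍open : ∀ n, IsOpen (𝔍 n : Set A))
    (h𝔍basis : (nhds (0 : A)).HasBasis (fun _ : ℕ => True) (fun n => (𝔍 n : Set A)))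
    (hM : TopMod.IsDeduced A M) (a a' : M)
    (h : ∀ n, a - a' ∈ (𝔍 n • ⊤ : Submodule A M)) : a = a' := by
  by_contra hne
  have hne' : (0 : M) ≠ a - a' := fun h0 => hne (sub_eq_zero.1 h0.symm)
  have hmem : ({a - a'}ᶜ : Set M) ∈ nhds (0 : M) := isOpen_compl_singleton.mem_nhds hne'
  obtain ⟨n, -, hsub⟩ := (basisM 𝔍 h𝔍open h𝔍basis hM).mem_iff.1 hmem
  exact hsub (h n) rfl

theorem exists_limit (𝔍 : ℕ → Ideal A) (h𝔍open : ∀ n, IsOpen (𝔍 n : Set A)) (h𝔍anti : Antitone 𝔍)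
    (h𝔍basis : (nhds (0 : A)).HasBasis (fun _ : ℕ => True) (fun n => (𝔍 n : Set A)))
    (hM : TopMod.IsDeduced A M)
    (z : ∀ n, M ⧸ (𝔍 n • ⊤ : Submodule A M))
    (hz : ∀ n, Submodule.factor (Submodule.smul_mono_left (h𝔍anti (Nat.le_succ n)) :
      (𝔍 (n + 1) • ⊤ : Submodule A M) ≤ 𝔍 n • ⊤) (z (n + 1)) = z n) :
    ∃ a : M, ∀ n, (Submodule.Quotient.mk a : M ⧸ (𝔍 n • ⊤ : Submodule A M)) = z n := by
  haveI : IsTopologicalAddGroup M := hM.1
  have hlift : ∀ n, ∃ m : M, (Submodule.Quotient.mk m : M ⧸ (𝔍 n • ⊤ : Submodule A M)) = z n :=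
    fun n => Submodule.Quotient.mk_surjective _ (z n)
  choose m hm using hlift
  have hstep : ∀ k, m (k + 1) - m k ∈ (𝔍 k • ⊤ : Submodule A M) := by
    intro k
    rw [← Submodule.Quotient.eq, hm k, ← hz k, ← hm (k + 1)]
    rfl
  have hclaim : ∀ n k, n ≤ k → m k - m n ∈ (𝔍 n • ⊤ : Submodule A M) := by
    intro n k hnk
    induction k, hnk using Nat.le_induction with
    | base => rw [sub_self]; exact Submodule.zero_mem _
    | succ k hk ih =>
      have h1 : m (k + 1) - m n = (m (k + 1) - m k) + (m k - m n) := by abel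
      rw [h1]
      refine Submodule.add_mem _ ?_ ih
      exact (Submodule.smul_mono_left (h𝔍anti hk) : (𝔍 k • ⊤ : Submodule A M) ≤ 𝔍 n • ⊤) (hstep k)
  have hc : CauchySeq m := by
    rw [cauchySeq_iff_tendsto, uniformity_eq_comap_nhds_zero M, Filter.tendsto_comap_iff,
      (basisM 𝔍 h𝔍open h𝔍basis hM).tendsto_right_iff]
    intro n _
    rw [Filter.eventually_atTop]
    refine ⟨(n, n), fun p hp => ?_⟩
    have hp1 : n ≤ p.1 := hp.1
    have hp2 : n ≤ p.2 := hp.2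
    show m p.2 - m p.1 ∈ (𝔍 n • ⊤ : Submodule A M)
    have h1 : m p.2 - m p.1 = (m p.2 - m n) - (m p.1 - m n) := by abel
    rw [h1]
    exact Submodule.sub_mem _ (hclaim n _ hp2) (hclaim n _ hp1)
  obtain ⟨a, ha⟩ := cauchySeq_tendsto_of_complete hc
  refine ⟨a, fun n => ?_⟩
  rw [← hm n, Submodule.Quotient.eq]
  have hcl : IsClosed ((𝔍 n • ⊤ : Submodule A M) : Set M) :=
    AddSubgroup.isClosed_of_isOpen (𝔍 n • ⊤ : Submodule A M).toAddSubgroup
      (H3TopMod.isOpen_smul_top hM (𝔍 n) (h𝔍open n))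
  have ht : Filter.Tendsto (fun k => m k - m n) Filter.atTop (nhds (a - m n)) :=
    ha.sub tendsto_const_nhds
  exact hcl.mem_of_tendsto ht (Filter.eventually_atTop.2 ⟨n, fun k hk => hclaim n k hk⟩)

omit [UniformSpace M] [IsUniformAddGroup M] [CompleteSpace M] [T2Space M] [TopologicalSpace A] in
theorem step (J₁ J₀ : Ideal A) (hJ : J₁ ≤ J₀) (u : M →ₗ[A] N)
    [Module.Projective (A ⧸ J₁)
      ((N ⧸ LinearMap.range u) ⧸ (J₁ • (⊤ : Submodule A (N ⧸ LinearMap.range u))))]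
    (w₀ : N →ₗ[A] M ⧸ (J₀ • ⊤ : Submodule A M))
    (hw₀ : ∀ x, w₀ (u x) = Submodule.Quotient.mk x)
    (w' : N →ₗ[A] M ⧸ (J₁ • ⊤ : Submodule A M))
    (hw' : ∀ x, w' (u x) = Submodule.Quotient.mk x) :
    ∃ w'' : N →ₗ[A] M ⧸ (J₁ • ⊤ : Submodule A M), (∀ x, w'' (u x) = Submodule.Quotient.mk x) ∧
      ∀ y, Submodule.factor (Submodule.smul_mono_left hJ :
        (J₁ • ⊤ : Submodule A M) ≤ J₀ • ⊤) (w'' y) = w₀ y := by
  have hle : (J₁ • ⊤ : Submodule A M) ≤ J₀ • ⊤ := Submodule.smul_mono_left hJ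
  have hP : ∀ a ∈ J₁, ∀ y : M ⧸ (J₁ • ⊤ : Submodule A M), a • y = 0 :=
    fun a ha y => H3LeftInv.smul_quot_eq_zero J₁ J₁ le_rfl a ha y
  have hQ : ∀ a ∈ J₁, ∀ y : M ⧸ (J₀ • ⊤ : Submodule A M), a • y = 0 :=
    fun a ha y => H3LeftInv.smul_quot_eq_zero J₀ J₁ hJ a ha y
  have hker : LinearMap.range u ≤ LinearMap.ker ((Submodule.factor hle) ∘ₗ w' - w₀) := by
    rintro _ ⟨x, rfl⟩
    rw [LinearMap.mem_ker, LinearMap.sub_apply, LinearMap.comp_apply, hw', hw₀]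
    exact sub_self _
  obtain ⟨δ, hδ⟩ := H3LeftInv.lift_of_projective_quot J₁ (N := N ⧸ LinearMap.range u) hP hQ
    (Submodule.factor hle) (Submodule.factor_surjective hle)
    (Submodule.liftQ _ ((Submodule.factor hle) ∘ₗ w' - w₀) hker)
  refine ⟨w' - δ ∘ₗ (Submodule.mkQ (LinearMap.range u)), fun x => ?_, fun y => ?_⟩
  · have h0 : (Submodule.mkQ (LinearMap.range u)) (u x) = 0 :=
      (Submodule.Quotient.mk_eq_zero _).2 ⟨x, rfl⟩
    rw [LinearMap.sub_apply, LinearMap.comp_apply, h0, map_zero, sub_zero, hw']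
  · have h1 := LinearMap.congr_fun hδ (Submodule.Quotient.mk y)
    rw [LinearMap.comp_apply] at h1
    rw [LinearMap.sub_apply, map_sub, LinearMap.comp_apply, Submodule.mkQ_apply, h1,
      Submodule.liftQ_apply, LinearMap.sub_apply, LinearMap.comp_apply]
    abel

theorem exists_leftInv (𝔍 : ℕ → Ideal A) (h𝔍open : ∀ n, IsOpen (𝔍 n : Set A)) (h𝔍anti : Antitone 𝔍)
    (h𝔍basis : (nhds (0 : A)).HasBasis (fun _ : ℕ => True) (fun n => (𝔍 n : Set A)))
    (hM : TopMod.IsDeduced A M) (u : M →ₗ[A] N)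
    (hcoker : ∀ n, Module.Projective (A ⧸ 𝔍 n)
      ((N ⧸ LinearMap.range u) ⧸ (𝔍 n • (⊤ : Submodule A (N ⧸ LinearMap.range u)))))
    (hw : ∀ n, ∃ w : N →ₗ[A] M ⧸ (𝔍 n • ⊤ : Submodule A M),
      ∀ x : M, w (u x) = Submodule.Quotient.mk x) :
    ∃ w : N →ₗ[A] M, ∀ x : M, w (u x) = x := by
  obtain ⟨f, hf1, hf2⟩ := dep_seq (α := fun n => N →ₗ[A] M ⧸ (𝔍 n • ⊤ : Submodule A M))
    (fun n w => ∀ x : M, w (u x) = Submodule.Quotient.mk x)
    (fun n w w' => ∀ y, Submodule.factor (Submodule.smul_mono_left (h𝔍anti (Nat.le_succ n)) :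
      (𝔍 (n + 1) • ⊤ : Submodule A M) ≤ 𝔍 n • ⊤) (w' y) = w y)
    (hw 0) (fun n w hw0 => by
      obtain ⟨w', hw'⟩ := hw (n + 1)
      haveI := hcoker (n + 1)
      exact step (𝔍 (n + 1)) (𝔍 n) (h𝔍anti (Nat.le_succ n)) u w hw0 w' hw')
  have hex : ∀ y : N, ∃ a : M, ∀ n,
      (Submodule.Quotient.mk a : M ⧸ (𝔍 n • ⊤ : Submodule A M)) = f n y :=
    fun y => exists_limit 𝔍 h𝔍open h𝔍anti h𝔍basis hM (fun n => f n y) (fun n => hf2 n y)
  choose W hW using hex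
  have huniq : ∀ (a a' : M),
      (∀ n, (Submodule.Quotient.mk a : M ⧸ (𝔍 n • ⊤ : Submodule A M)) = Submodule.Quotient.mk a') →
      a = a' := by
    intro a a' h
    exact eq_of_forall_sub_mem 𝔍 h𝔍open h𝔍basis hM a a'
      (fun n => (Submodule.Quotient.eq _).1 (h n))
  refine ⟨{ toFun := W
            map_add' := fun y y' => huniq _ _ (fun n => by
              rw [hW, map_add, Submodule.Quotient.mk_add, hW, hW])
            map_smul' := fun c y => huniq _ _ (fun n => by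
              rw [hW, map_smul, RingHom.id_apply, Submodule.Quotient.mk_smul, hW]) }, fun x => ?_⟩
  exact huniq _ _ (fun n => by
    show (Submodule.Quotient.mk (W (u x)) : M ⧸ (𝔍 n • ⊤ : Submodule A M)) = _
    rw [hW, hf1])

end H3Compl
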