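import Mathlib

namespace Groth.Agent.Lib.helper3.Depth
universe u

theorem maximalIdeal_mem_ass_of_forall_not_regular (A : Type u) [CommRing A] [IsLocalRing A]
    [IsNoetherianRing A] (N : Type u) [AddCommGroup N] [Module A N] [Module.Finite A N]
    (hnr : ∀ x ∈ IsLocalRing.maximalIdeal A, ¬ IsSMulRegular N x) :
    IsLocalRing.maximalIdeal A ∈ associatedPrimes A N := by
  classical
  have hfin : (associatedPrimes A N).Finite := associatedPrimes.finite A N
  have hsub : ((IsLocalRing.maximalIdeal A : Ideal A) : Set A) ⊆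
      ⋃ i ∈ ((hfin.toFinset : Finset (Ideal A)) : Set (Ideal A)), ((id i : Ideal A) : Set A) := by
    intro a ha
    have hz : a ∈ ⋃ p ∈ associatedPrimes A N, (p : Set A) := by
      rw [biUnion_associatedPrimes_eq_zero_divisors]
      have := hnr a ha
      unfold IsSMulRegular at this
      rw [Function.Injective] at this
      push Not at this
      obtain ⟨x, y, hxy, hne⟩ := this
      exact ⟨x - y, sub_ne_zero.2 hne, by rw [smul_sub]; exact sub_eq_zero.2 hxy⟩
    obtain ⟨p, hp, hap⟩ := Set.mem_iUnion₂.1 hz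
    exact Set.mem_biUnion (by simp [hp]) hap
  obtain ⟨i, hi, hmi⟩ := (Ideal.subset_union_prime (f := id) (⊤ : Ideal A) ⊤ (by
    intro i hi _ _
    exact ((hfin.mem_toFinset).1 hi).isPrime)).1 hsub
  have hi' := (hfin.mem_toFinset).1 hi
  have hp' : i.IsPrime := hi'.isPrime
  have him : i = IsLocalRing.maximalIdeal A :=
    le_antisymm (IsLocalRing.le_maximalIdeal hp'.ne_top) hmi
  rw [← him]; exact hi'

end Groth.Agent.Lib.helper3.Depth
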