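import Mathlib

/-! Weak Cauchy–Binet: `det (B * A)` is a combination of maximal minors of `A`. -/

theorem h3_det_mul_eq_sum {R : Type*} [CommRing R] {n m : ℕ}
    (B : Matrix (Fin m) (Fin n) R) (A : Matrix (Fin n) (Fin m) R) :
    (B * A).det = ∑ g : Fin m → Fin n, (∏ i, B i (g i)) * (A.submatrix g id).det := by
  have h1 : B * A = fun i => ∑ k, B i k • A k := by
    ext i j
    simp [Matrix.mul_apply, Finset.sum_apply]
  rw [h1]
  show (Matrix.detRowAlternating (R := R) (n := Fin m)).toMultilinearMap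
    (fun i => ∑ k, B i k • A k) = _
  rw [MultilinearMap.map_sum]
  refine Finset.sum_congr rfl fun g _ => ?_
  rw [MultilinearMap.map_smul_univ]
  rfl

theorem h3_det_mul_eq_sum' {R : Type*} [CommRing R] {n m : ℕ}
    (A : Matrix (Fin n) (Fin m) R) (B : Matrix (Fin m) (Fin n) R) :
    (A * B).det = ∑ g : Fin n → Fin m, (∏ i, B (g i) i) * (A.submatrix id g).det := by
  rw [← Matrix.det_transpose, Matrix.transpose_mul, h3_det_mul_eq_sum]
  refine Finset.sum_congr rfl fun g _ => ?_
  congr 1
  rw [← Matrix.det_transpose]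
  rfl
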