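import Mathlib

/-! A Noetherian local domain in which all nonzero primes contain a fixed nonzero nonunit has
dimension one (helper3). -/

namespace H3Dim1

theorem dim_eq_one (D : Type*) [CommRing D] [IsDomain D] [IsLocalRing D] [IsNoetherianRing D]
    (z : D) (hzm : z ∈ IsLocalRing.maximalIdeal D) (hz0 : z ≠ 0)
    (hall : ∀ Q : Ideal D, Q.IsPrime → Q ≠ ⊥ → z ∈ Q) : ringKrullDim D = 1 := by
  classical
  rw [← IsLocalRing.maximalIdeal_height_eq_ringKrullDim]
  haveI : (⊥ : Ideal D).IsPrime := Ideal.isPrime_bot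
  have hbot_lt : (⊥ : Ideal D) < IsLocalRing.maximalIdeal D :=
    lt_of_le_of_ne bot_le (fun h => hz0 (by rw [← h] at hzm; exact Ideal.mem_bot.1 hzm))
  have h1 : 1 ≤ (IsLocalRing.maximalIdeal D).height := by
    have := Ideal.height_strict_mono_of_isPrime_of_isPrime hbot_lt
    exact Order.one_le_iff_pos.2 (lt_of_le_of_lt zero_le this)
  have h2 : (IsLocalRing.maximalIdeal D).height ≤ 1 := by
    have hTfin : ((Ideal.span {z}).minimalPrimes).Finite :=
      Ideal.finite_minimalPrimes_of_isNoetherianRing D _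
    have hTht : ∀ P ∈ (Ideal.span {z}).minimalPrimes, P.height ≤ 1 := fun P hP =>
      Ideal.height_le_one_of_isPrincipal_of_mem_minimalPrimes _ P hP
    by_cases hmT : IsLocalRing.maximalIdeal D ∈ (Ideal.span {z}).minimalPrimes
    · exact hTht _ hmT
    · exfalso
      have hnot : ¬ ((IsLocalRing.maximalIdeal D : Set D) ⊆
          ⋃ P ∈ (hTfin.toFinset : Set (Ideal D)), ((fun P : Ideal D => P) P : Set D)) := by
        rw [Ideal.subset_union_prime (f := fun P : Ideal D => P) (⊥ : Ideal D) ⊥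
          (fun P hP _ _ => ((hTfin.mem_toFinset).1 hP).1.1)]
        rintro ⟨P, hP, hle⟩
        have hPT := (hTfin.mem_toFinset).1 hP
        have : P = IsLocalRing.maximalIdeal D :=
          le_antisymm (IsLocalRing.le_maximalIdeal hPT.1.1.ne_top) hle
        exact hmT (this ▸ hPT)
      obtain ⟨y, hym, hyT⟩ := Set.not_subset.1 hnot
      have hyT' : ∀ P ∈ (Ideal.span {z}).minimalPrimes, y ∉ P := by
        intro P hP hyP
        apply hyT
        simp only [Set.mem_iUnion]
        exact ⟨P, (hTfin.mem_toFinset).2 hP, hyP⟩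
      obtain ⟨P₀, hP₀T, -⟩ := Ideal.exists_minimalPrimes_le
        (show Ideal.span {z} ≤ IsLocalRing.maximalIdeal D from
          (Ideal.span_singleton_le_iff_mem _).2 hzm)
      have hy0 : y ≠ 0 := fun h => hyT' P₀ hP₀T (h ▸ P₀.zero_mem)
      obtain ⟨Q, hQmin, hQle⟩ := Ideal.exists_minimalPrimes_le
        (show Ideal.span {y} ≤ IsLocalRing.maximalIdeal D from
          (Ideal.span_singleton_le_iff_mem _).2 hym)
      haveI := hQmin.1.1
      have hyQ : y ∈ Q := hQmin.1.2 (Ideal.subset_span rfl)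
      have hQht : Q.height ≤ 1 :=
        Ideal.height_le_one_of_isPrincipal_of_mem_minimalPrimes _ Q hQmin
      have hQ0 : Q ≠ ⊥ := fun h => hy0 (by rw [h] at hyQ; exact Ideal.mem_bot.1 hyQ)
      have hzQ : z ∈ Q := hall Q hQmin.1.1 hQ0
      obtain ⟨P, hPT, hPQ⟩ := Ideal.exists_minimalPrimes_le
        (show Ideal.span {z} ≤ Q from (Ideal.span_singleton_le_iff_mem _).2 hzQ)
      haveI := hPT.1.1
      have hPltQ : P < Q := lt_of_le_of_ne hPQ (fun h => hyT' P hPT (h ▸ hyQ))
      have hzP : z ∈ P := hPT.1.2 (Ideal.subset_span rfl)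
      have hbotP : (⊥ : Ideal D) < P :=
        lt_of_le_of_ne bot_le (fun h => hz0 (by rw [← h] at hzP; exact Ideal.mem_bot.1 hzP))
      have e1 := Ideal.height_strict_mono_of_isPrime_of_isPrime hbotP
      have e2 := Ideal.height_strict_mono_of_isPrime_of_isPrime hPltQ
      have e3 : P.height < 1 := lt_of_lt_of_le e2 hQht
      have e4 : P.height = 0 := ENat.lt_one_iff_eq_zero.1 e3
      rw [e4] at e1
      exact absurd e1 (not_lt.2 zero_le)
  have : (IsLocalRing.maximalIdeal D).height = 1 := le_antisymm h2 h1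
  rw [this]
  rfl

end H3Dim1
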