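import Mathlib

set_option autoImplicit false
universe u

namespace H3DirLim

variable {R : Type u} [CommRing R] {ι : Type u} [Preorder ι] [Nonempty ι] [IsDirected ι (· ≤ ·)]
  (G : ι → Type u) [∀ i, CommRing (G i)] [∀ i, Algebra R (G i)]
  (f : ∀ i j, i ≤ j → G i →+* G j) [DirectedSystem G fun i j h => f i j h]

local notation "S'" => Ring.DirectLimit G (fun i j h => f i j h)
local notation "of'" => Ring.DirectLimit.of G (fun i j h => f i j h)

theorem main (hcompat : ∀ i j (h : i ≤ j), (f i j h).comp (algebraMap R (G i)) = algebraMap R (G j))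
    (hff' : ∀ j, Module.FaithfullyFlat R (G j)) (i : ι) :
    @Module.FaithfullyFlat R S' _ _ (((of' i).comp (algebraMap R (G i))).toAlgebra.toModule) := by
  classical
  letI : Algebra R S' := ((of' i).comp (algebraMap R (G i))).toAlgebra
  show Module.FaithfullyFlat R S'
  have hcompat' : ∀ i j (h : i ≤ j) (r : R),
      f i j h (algebraMap R (G i) r) = algebraMap R (G j) r :=
    fun i j h r => RingHom.congr_fun (hcompat i j h) r
  have hofalg : ∀ j (r : R), of' j (algebraMap R (G j) r) = of' i (algebraMap R (G i) r) := by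
    intro j r
    obtain ⟨k, hik, hjk⟩ := exists_ge_ge i j
    have e1 : of' k (f j k hjk (algebraMap R (G j) r)) = of' j (algebraMap R (G j) r) :=
      Ring.DirectLimit.of_f hjk _
    have e2 : of' k (f i k hik (algebraMap R (G i) r)) = of' i (algebraMap R (G i) r) :=
      Ring.DirectLimit.of_f hik _
    rw [← e1, ← e2, hcompat', hcompat']
  have halg : ∀ r : R, algebraMap R S' r = of' i (algebraMap R (G i) r) := fun r => rfl
  have hsmul : ∀ j (r : R) (y : G j), of' j (r • y) = r • of' j y := by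
    intro j r y
    rw [Algebra.smul_def r y, Algebra.smul_def r (of' j y), map_mul, hofalg, halg]
  have hflin : ∀ j k (h : j ≤ k) (r : R) (y : G j), f j k h (r • y) = r • f j k h y := by
    intro j k h r y
    rw [Algebra.smul_def r y, Algebra.smul_def r (f j k h y), map_mul, hcompat']
  have htr : ∀ (m : Ideal R) j k (h : j ≤ k) (y : G j), y ∈ Ideal.map (algebraMap R (G j)) m →
      f j k h y ∈ Ideal.map (algebraMap R (G k)) m := by
    intro m j k h y hy
    have := Ideal.mem_map_of_mem (f j k h) hy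
    rw [Ideal.map_map, hcompat] at this
    exact this
  have hflat : Module.Flat R S' := by
    apply Module.Flat.of_forall_isTrivialRelation
    intro l c x hrel
    choose jx x' hx' using fun k => Ring.DirectLimit.exists_of (x k)
    obtain ⟨j₁, hj₁⟩ := Finset.exists_le (Finset.univ.image jx)
    have hle : ∀ k, jx k ≤ j₁ := fun k => hj₁ _ (Finset.mem_image_of_mem _ (Finset.mem_univ k))
    let x₁ : Fin l → G j₁ := fun k => f (jx k) j₁ (hle k) (x' k)
    have hx₁ : ∀ k, of' j₁ (x₁ k) = x k := fun k => by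
      rw [← hx' k]; exact Ring.DirectLimit.of_f (hle k) (x' k)
    have hz : of' j₁ (∑ k, c k • x₁ k) = 0 := by
      rw [map_sum, ← hrel]
      refine Finset.sum_congr rfl fun k _ => ?_
      rw [hsmul, hx₁]
    obtain ⟨j₂, h12, hz2⟩ := Ring.DirectLimit.of.zero_exact hz
    let x₂ : Fin l → G j₂ := fun k => f j₁ j₂ h12 (x₁ k)
    have hrel2 : ∑ k, c k • x₂ k = 0 := by
      rw [← hz2, map_sum]
      refine Finset.sum_congr rfl fun k _ => ?_
      rw [hflin]
    haveI := (hff' j₂).toFlat
    obtain ⟨κ, a, y, h1, h2⟩ := Module.Flat.isTrivialRelation_of_sum_smul_eq_zero (R := R) (M := G j₂) hrel2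
    refine ⟨κ, a, fun t => of' j₂ (y t), ?_, h2⟩
    intro k
    have hxk : x k = of' j₂ (x₂ k) := by
      rw [← hx₁ k]; exact (Ring.DirectLimit.of_f h12 (x₁ k)).symm
    rw [hxk, h1 k, map_sum]
    refine Finset.sum_congr rfl fun t _ => ?_
    rw [hsmul]
  refine { toFlat := hflat, submodule_ne_top := ?_ }
  intro m hm htop
  rw [Ideal.smul_top_eq_map] at htop
  have h1 : (1 : S') ∈ Ideal.map (algebraMap R S') m := by
    have : (1 : S') ∈ (Ideal.map (algebraMap R S') m).restrictScalars R := by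
      rw [htop]; trivial
    exact this
  have claim : ∀ z ∈ Ideal.map (algebraMap R S') m,
      ∃ (j : ι) (y : G j), y ∈ Ideal.map (algebraMap R (G j)) m ∧ of' j y = z := by
    intro z hz
    refine Submodule.span_induction (p := fun z _ => ∃ (j : ι) (y : G j),
      y ∈ Ideal.map (algebraMap R (G j)) m ∧ of' j y = z) ?_ ?_ ?_ ?_ hz
    · rintro _ ⟨r, hr, rfl⟩
      exact ⟨i, algebraMap R (G i) r, Ideal.mem_map_of_mem _ hr, rfl⟩
    · exact ⟨i, 0, zero_mem _, map_zero _⟩
    · rintro z w _ _ ⟨j₁, y₁, h₁, rfl⟩ ⟨j₂, y₂, h₂, rfl⟩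
      obtain ⟨k, h1k, h2k⟩ := exists_ge_ge j₁ j₂
      refine ⟨k, f j₁ k h1k y₁ + f j₂ k h2k y₂,
        add_mem (htr m _ _ _ _ h₁) (htr m _ _ _ _ h₂), ?_⟩
      rw [map_add]
      congr 1 <;> exact Ring.DirectLimit.of_f _ _
    · rintro a z _ ⟨j, y, hy, rfl⟩
      obtain ⟨j', a', rfl⟩ := Ring.DirectLimit.exists_of a
      obtain ⟨k, h1k, h2k⟩ := exists_ge_ge j' j
      refine ⟨k, f j' k h1k a' * f j k h2k y, Ideal.mul_mem_left _ _ (htr m _ _ _ _ hy), ?_⟩
      rw [map_mul, smul_eq_mul]
      congr 1 <;> exact Ring.DirectLimit.of_f _ _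
  obtain ⟨j, y, hy, hy1⟩ := claim 1 h1
  have h0 : of' j (y - 1) = 0 := by rw [map_sub, hy1, map_one, sub_self]
  obtain ⟨k, hjk, hk0⟩ := Ring.DirectLimit.of.zero_exact h0
  have hk1 : f j k hjk y = 1 := by
    have := hk0
    rw [map_sub, map_one, sub_eq_zero] at this
    exact this
  have hmem : (1 : G k) ∈ Ideal.map (algebraMap R (G k)) m := hk1 ▸ htr m j k hjk y hy
  have htopk : Ideal.map (algebraMap R (G k)) m = ⊤ := (Ideal.eq_top_iff_one _).mpr hmem
  apply (hff' k).submodule_ne_top hm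
  rw [Ideal.smul_top_eq_map, htopk]
  simp

end H3DirLim
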