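import Mathlib

open TensorProduct

namespace H3Epi

universe u

variable {R S : Type u} [CommRing R] [CommRing S] [Algebra R S]

/-- the right-hand vector `(1, -g, 0, …, 0)`. -/
def nvec (g : S) (k : ℕ) : Fin (k + 2) → S :=
  Fin.cons 1 (Fin.cons (-g) (fun _ => 0))

/-- `g` is represented by the matrix `a`. -/
def Rep (g : S) (k n : ℕ) (a : Fin (k + 2) → Fin n → R) : Prop :=
  ∃ (m : Fin (k + 2) → S) (y : Fin n → S), m 0 = g ∧ m 1 = 1 ∧
    (∀ i, nvec g k i = ∑ j, a i j • y j) ∧ ∀ j, ∑ i, a i j • m i = 0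

lemma sum_nvec (g : S) (k : ℕ) (m : Fin (k + 2) → S) :
    ∑ i, m i * nvec g k i = m 0 - m 1 * g := by
  rw [Fin.sum_univ_succ, Fin.sum_univ_succ]
  simp [nvec, Fin.cons_succ, sub_eq_add_neg]

lemma rep_unique {g g' : S} {k n : ℕ} {a : Fin (k + 2) → Fin n → R}
    (h : Rep g k n a) (h' : Rep g' k n a) : g = g' := by
  obtain ⟨m, y, hm0, hm1, hn, hz⟩ := h
  obtain ⟨m', y', hm0', hm1', hn', hz'⟩ := h'
  -- double sum with m' and y
  have hA : ∑ i, ∑ j, m' i * (a i j • y j) = 0 := by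
    rw [Finset.sum_comm]
    refine Finset.sum_eq_zero fun j _ => ?_
    have : ∑ i, m' i * (a i j • y j) = (∑ i, a i j • m' i) * y j := by
      rw [Finset.sum_mul]
      refine Finset.sum_congr rfl fun i _ => ?_
      rw [mul_smul_comm, smul_mul_assoc]
    rw [this, hz' j, zero_mul]
  have hB : ∑ i, ∑ j, m' i * (a i j • y j) = m' 0 - m' 1 * g := by
    rw [← sum_nvec g k m']
    refine Finset.sum_congr rfl fun i _ => ?_
    rw [hn i, Finset.mul_sum]
  rw [hA, hm0', hm1', one_mul] at hB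
  exact (sub_eq_zero.mp hB.symm).symm

lemma exists_rep [Algebra.IsEpi R S] (g : S) :
    ∃ (k n : ℕ) (a : Fin (k + 2) → Fin n → R), Rep g k n a := by
  classical
  have hepi := (Algebra.isEpi_iff_forall_one_tmul_eq R S).mp inferInstance g
  let P : Submodule R S := Submodule.span R {g, 1}
  have hgP : g ∈ P := Submodule.subset_span (by simp)
  have h1P : (1 : S) ∈ P := Submodule.subset_span (by simp)
  have hP : P.FG := Submodule.fg_span (Set.toFinite _)
  let t : P ⊗[R] S := (⟨g, hgP⟩ : P) ⊗ₜ[R] (1 : S) - (⟨1, h1P⟩ : P) ⊗ₜ[R] g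
  have ht : LinearMap.rTensor S P.subtype t = 0 := by
    simp only [t, map_sub, LinearMap.rTensor_tmul, Submodule.subtype_apply]
    rw [hepi, sub_self]
  obtain ⟨Q, hPQ, hQ, hQt⟩ := TensorProduct.eq_zero_of_fg_of_subtype_eq_zero hP ht
  obtain ⟨k, q, hq⟩ := Submodule.fg_iff_exists_fin_generating_family.mp hQ
  have hqQ : ∀ i, q i ∈ Q := fun i => hq ▸ Submodule.subset_span ⟨i, rfl⟩
  let mQ : Fin (k + 2) → Q :=
    Fin.cons ⟨g, hPQ hgP⟩ (Fin.cons ⟨1, hPQ h1P⟩ (fun i => ⟨q i, hqQ i⟩))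
  have hspan : Submodule.span R (Set.range mQ) = ⊤ := by
    rw [eq_top_iff]
    rintro ⟨x, hx⟩ -
    rw [← hq] at hx
    have : ∀ x (hx : x ∈ Submodule.span R (Set.range q)),
        (⟨x, hq ▸ hx⟩ : Q) ∈ Submodule.span R (Set.range mQ) := by
      intro x hx
      induction hx using Submodule.span_induction with
      | mem x hx =>
        obtain ⟨i, rfl⟩ := hx
        refine Submodule.subset_span ⟨i.succ.succ, ?_⟩
        simp [mQ, Fin.cons_succ]
      | zero => exact Submodule.zero_mem _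
      | add x y _ _ hx hy => exact Submodule.add_mem _ hx hy
      | smul c x _ hx => exact Submodule.smul_mem _ c hx
    exact this x hx
  have hsum : ∑ i, mQ i ⊗ₜ[R] nvec g k i = 0 := by
    rw [Fin.sum_univ_succ, Fin.sum_univ_succ]
    simp only [mQ, nvec, Fin.cons_zero, Fin.cons_succ, TensorProduct.tmul_zero,
      Finset.sum_const_zero, add_zero, TensorProduct.tmul_neg]
    have h0 : (Submodule.inclusion hPQ ⟨g, hgP⟩ : Q) = ⟨g, hPQ hgP⟩ := rfl
    have h1 : (Submodule.inclusion hPQ ⟨1, h1P⟩ : Q) = ⟨1, hPQ h1P⟩ := rfl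
    simpa [t, map_sub, LinearMap.rTensor_tmul, sub_eq_add_neg, h0, h1] using hQt
  obtain ⟨n, a, y, hay, ham⟩ := TensorProduct.vanishesTrivially_of_sum_tmul_eq_zero R hspan hsum
  refine ⟨k, n, a, fun i => (mQ i : S), y, ?_, ?_, hay, fun j => ?_⟩
  · simp [mQ]
  · simp [mQ, Fin.cons_succ]
  · have := congrArg Q.subtype (ham j)
    simpa using this

/-- encoding of matrices as lists of lists. -/
def enc : (Σ (k : ℕ) (n : ℕ), (Fin (k + 2) → Fin n → R)) → List (List R) :=
  fun x => List.ofFn (fun i => List.ofFn (x.2.2 i))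

lemma enc_injective : Function.Injective (enc (R := R)) := by
  rintro ⟨k, n, a⟩ ⟨k', n', a'⟩ h
  simp only [enc] at h
  have h1 := List.ofFn_inj'.mp h
  obtain ⟨hk, hh⟩ := Sigma.mk.inj_iff.mp h1
  have hk' : k = k' := by omega
  subst hk'
  have h2 := eq_of_heq hh
  have h3 := congrFun h2 0
  have h4 := List.ofFn_inj'.mp h3
  obtain ⟨hn, -⟩ := Sigma.mk.inj_iff.mp h4
  subst hn
  have : a = a' := by
    funext i
    exact List.ofFn_injective (congrFun h2 i)
  rw [this]

theorem card_le [Algebra.IsEpi R S] [Infinite R] : Cardinal.mk S ≤ Cardinal.mk R := by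
  choose k n a ha using fun g : S => exists_rep (R := R) g
  let F : S → List (List R) := fun g => enc ⟨k g, n g, a g⟩
  have hF : Function.Injective F := by
    intro g g' h
    have h1 := enc_injective h
    obtain ⟨hk, hh⟩ := Sigma.mk.inj_iff.mp h1
    have hg := ha g
    have hg' := ha g'
    revert hg hg' hh
    generalize k g = K, n g = N, a g = A₁, k g' = K', n g' = N', a g' = A₂ at hk
    subst hk
    intro hh hg hg'
    have h2 := eq_of_heq hh
    obtain ⟨hn, hh2⟩ := Sigma.mk.inj_iff.mp h2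
    subst hn
    have h3 := eq_of_heq hh2
    subst h3
    exact rep_unique hg hg'
  calc Cardinal.mk S ≤ Cardinal.mk (List (List R)) := Cardinal.mk_le_of_injective hF
    _ = Cardinal.mk R := by rw [Cardinal.mk_list_eq_mk, Cardinal.mk_list_eq_mk]

end H3Epi
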