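import Mathlib
import Groth.Prelude.Def_Exal
import Groth.Prelude.Def_Exal2

set_option autoImplicit false

universe u v w

namespace H3Exal

open Exal

section Basic

variable {A : Type u} {B L : Type v} [CommRing A] [CommRing B] [Algebra A B] [AddCommGroup L]
  [Module B L]

theorem proj_incl (X : Ext A B L) (z : L) : X.proj (X.incl z) = 0 :=
  (X.isExtension.exact _).2 ⟨z, rfl⟩

theorem incl_mul_incl (X : Ext A B L) (z z' : L) : X.incl z * X.incl z' = 0 := by
  rw [X.isExtension.mul_incl, proj_incl, zero_smul, map_zero]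

theorem incl_mul (X : Ext A B L) (x : X.E) (z : L) : X.incl z * x = X.incl (X.proj x • z) := by
  rw [mul_comm, X.isExtension.mul_incl]

theorem exists_incl_eq_sub (X : Ext A B L) (x y : X.E) (h : X.proj x = X.proj y) :
    ∃ z, X.incl z = x - y := by
  have : X.proj (x - y) = 0 := by rw [map_sub, h, sub_self]
  obtain ⟨z, hz⟩ := (X.isExtension.exact _).1 this
  exact ⟨z, hz⟩

theorem ker_sq (X : Ext A B L) : (RingHom.ker X.proj) ^ 2 = ⊥ := by
  rw [eq_bot_iff, pow_two, Ideal.mul_le]
  intro x hx y hy
  rw [RingHom.mem_ker] at hx hy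
  obtain ⟨z, rfl⟩ := (X.isExtension.exact x).1 hx
  obtain ⟨z', rfl⟩ := (X.isExtension.exact y).1 hy
  rw [incl_mul_incl]
  exact Ideal.zero_mem _

theorem isTrivial_of_formallySmooth [Algebra.FormallySmooth A B] (X : Ext A B L) :
    X.IsTrivial := by
  have hnil : IsNilpotent (RingHom.ker (X.proj : X.E →+* B)) := ⟨2, ker_sq X⟩
  exact ⟨Algebra.FormallySmooth.liftOfSurjective (AlgHom.id A B) X.proj
    X.isExtension.proj_surjective hnil, fun b => by
      rw [Algebra.FormallySmooth.liftOfSurjective_apply]; rfl⟩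

/-- five lemma for extensions -/
noncomputable def equivOfHom {X Y : Ext A B L} (f : X.E →ₐ[A] Y.E)
    (hp : ∀ x, Y.proj (f x) = X.proj x) (hi : ∀ z, f (X.incl z) = Y.incl z) : X.Equiv Y where
  toAlgEquiv := AlgEquiv.ofBijective f ⟨by
      rw [injective_iff_map_eq_zero]
      intro x hx
      have h1 : X.proj x = 0 := by rw [← hp, hx, map_zero]
      obtain ⟨z, rfl⟩ := (X.isExtension.exact x).1 h1
      rw [hi] at hx
      have : z = 0 := Y.isExtension.incl_injective (by rw [hx, map_zero])
      rw [this, map_zero], by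
      intro y
      obtain ⟨x, hx⟩ := X.isExtension.proj_surjective (Y.proj y)
      obtain ⟨z, hz⟩ := exists_incl_eq_sub Y y (f x) (by rw [hp, hx])
      exact ⟨x + X.incl z, by rw [map_add, hi, hz]; ring⟩⟩
  proj_apply x := hp x
  apply_incl z := hi z

end Basic

section SqZero

variable {A : Type u} {B E : Type v} [CommRing A] [CommRing B] [Algebra A B] [CommRing E]
  [Algebra A E]

theorem sqZero_key (p : E →ₐ[A] B) (hsq : ∀ x y, p x = 0 → p y = 0 → x * y = 0)
    (e e' : E) (h : p e = p e') (z : RingHom.ker p) : e * z.1 = e' * z.1 := by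
  have h1 : p (e - e') = 0 := by rw [map_sub, h, sub_self]
  have h2 : p z.1 = 0 := (RingHom.mem_ker).1 z.2
  have := hsq _ _ h1 h2
  linear_combination this

/-- The `B`-module structure on the kernel of a surjection with square-zero kernel. -/
noncomputable def kerModule (p : E →ₐ[A] B) (hp : Function.Surjective p)
    (hsq : ∀ x y, p x = 0 → p y = 0 → x * y = 0) : Module B (RingHom.ker p) :=
  { smul := fun b z => ⟨Function.surjInv hp b * z.1, Ideal.mul_mem_left _ _ z.2⟩
    one_smul := fun z => Subtype.ext (by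
      show Function.surjInv hp 1 * z.1 = z.1
      rw [sqZero_key p hsq _ 1 (by rw [Function.surjInv_eq hp, map_one]) z, one_mul])
    mul_smul := fun x y z => Subtype.ext (by
      show Function.surjInv hp (x * y) * z.1 = Function.surjInv hp x * (Function.surjInv hp y * z.1)
      rw [sqZero_key p hsq _ (Function.surjInv hp x * Function.surjInv hp y)
        (by rw [map_mul]; simp only [Function.surjInv_eq hp]) z, mul_assoc])
    smul_zero := fun b => Subtype.ext (by
      show Function.surjInv hp b * (0 : RingHom.ker p).1 = (0 : RingHom.ker p).1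
      simp)
    smul_add := fun b z z' => Subtype.ext (by
      show Function.surjInv hp b * (z + z').1 = Function.surjInv hp b * z.1 + Function.surjInv hp b * z'.1
      simp [mul_add])
    add_smul := fun x y z => Subtype.ext (by
      show Function.surjInv hp (x + y) * z.1 = Function.surjInv hp x * z.1 + Function.surjInv hp y * z.1
      rw [sqZero_key p hsq _ (Function.surjInv hp x + Function.surjInv hp y)
        (by rw [map_add]; simp only [Function.surjInv_eq hp]) z, add_mul])
    zero_smul := fun z => Subtype.ext (by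
      show Function.surjInv hp 0 * z.1 = (0 : RingHom.ker p).1
      rw [sqZero_key p hsq _ 0 (by rw [Function.surjInv_eq hp, map_zero]) z, zero_mul]; rfl) }

theorem kerModule_smul_val (p : E →ₐ[A] B) (hp : Function.Surjective p)
    (hsq : ∀ x y, p x = 0 → p y = 0 → x * y = 0) (e : E) (z : RingHom.ker p) :
    letI := kerModule p hp hsq
    ((p e • z : RingHom.ker p) : E) = e * z.1 := by
  show Function.surjInv hp (p e) * z.1 = e * z.1
  exact sqZero_key p hsq _ _ (Function.surjInv_eq hp _) z

/-- The extension defined by a surjection with square-zero kernel. -/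
noncomputable def ofSqZero (p : E →ₐ[A] B) (hp : Function.Surjective p)
    (hsq : ∀ x y, p x = 0 → p y = 0 → x * y = 0) :
    @Exal.Ext A B (RingHom.ker p) _ _ _ _ (kerModule p hp hsq) :=
  letI := kerModule p hp hsq
  { E := E
    proj := p
    incl := (RingHom.ker p).subtype.toAddMonoidHom
    isExtension :=
      { proj_surjective := hp
        incl_injective := Subtype.val_injective
        exact := fun x => ⟨fun hx => ⟨⟨x, (RingHom.mem_ker).2 hx⟩, rfl⟩, by
          rintro ⟨z, rfl⟩; exact (RingHom.mem_ker).1 z.2⟩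
        mul_incl := fun x z => by
          show x * z.1 = ((p x • z : RingHom.ker p) : E)
          exact (kerModule_smul_val p hp hsq x z).symm } }

end SqZero

section Fiber

variable {A : Type u} {B T : Type v} [CommRing A] [CommRing B] [Algebra A B] [CommRing T]
  [Algebra A T] (I : Ideal T) (g : B →ₐ[A] T ⧸ I)

/-- fibre product of `T → T/I ← B`. -/
def fiberAlg : Subalgebra A (T × B) :=
  AlgHom.equalizer ((Ideal.Quotient.mkₐ A I).comp (AlgHom.fst A T B)) (g.comp (AlgHom.snd A T B))

theorem mem_fiberAlg (x : T × B) : x ∈ fiberAlg I g ↔ Ideal.Quotient.mk I x.1 = g x.2 := by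
  rw [fiberAlg, AlgHom.mem_equalizer]; rfl

def fiberProj : fiberAlg I g →ₐ[A] B := (AlgHom.snd A T B).comp (fiberAlg I g).val

theorem fiberProj_surjective : Function.Surjective (fiberProj I g) := by
  intro b
  obtain ⟨t, ht⟩ := Ideal.Quotient.mk_surjective (g b)
  exact ⟨⟨(t, b), (mem_fiberAlg I g _).2 ht⟩, rfl⟩

theorem fiberProj_sqZero (hI : I ^ 2 = ⊥) :
    ∀ x y, fiberProj I g x = 0 → fiberProj I g y = 0 → x * y = 0 := by
  rintro ⟨⟨t, b⟩, hx⟩ ⟨⟨t', b'⟩, hy⟩ h1 h2
  change b = 0 at h1
  change b' = 0 at h2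
  subst h1 h2
  rw [mem_fiberAlg] at hx hy
  simp only [map_zero] at hx hy
  rw [Ideal.Quotient.eq_zero_iff_mem] at hx hy
  have : t * t' = 0 := by
    have : t * t' ∈ I ^ 2 := by rw [pow_two]; exact Ideal.mul_mem_mul hx hy
    rw [hI] at this; exact this
  apply Subtype.ext
  apply Prod.ext
  · exact this
  · exact mul_zero _

theorem exists_lift_of_section (s : B →ₐ[A] fiberAlg I g) (hs : ∀ b, fiberProj I g (s b) = b) :
    ∃ v : B →ₐ[A] T, (Ideal.Quotient.mkₐ A I).comp v = g := by
  refine ⟨((AlgHom.fst A T B).comp (fiberAlg I g).val).comp s, ?_⟩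
  ext b
  have h1 := (mem_fiberAlg I g _).1 (s b).2
  have h2 : (s b).1.2 = b := hs b
  rw [h2] at h1
  exact h1

/-- The fibre product extension. -/
noncomputable def fiberExt (hI : I ^ 2 = ⊥) :
    @Exal.Ext A B (RingHom.ker (fiberProj I g)) _ _ _ _
      (kerModule (fiberProj I g) (fiberProj_surjective I g) (fiberProj_sqZero I g hI)) :=
  ofSqZero (fiberProj I g) (fiberProj_surjective I g) (fiberProj_sqZero I g hI)

theorem exists_lift_of_isTrivial (hI : I ^ 2 = ⊥)
    (h : letI := kerModule (fiberProj I g) (fiberProj_surjective I g) (fiberProj_sqZero I g hI)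
      (fiberExt I g hI).IsTrivial) :
    ∃ v : B →ₐ[A] T, (Ideal.Quotient.mkₐ A I).comp v = g := by
  obtain ⟨s, hs⟩ := h
  exact exists_lift_of_section I g s hs

theorem isTrivialOver_fiberExt (Λ : Type w) [CommRing Λ] [Algebra Λ A] [Algebra Λ B]
    [IsScalarTower Λ A B] [Algebra Λ T] [IsScalarTower Λ A T] (hI : I ^ 2 = ⊥)
    (u : B →ₐ[Λ] T) (hu : ∀ b, Ideal.Quotient.mk I (u b) = g b) :
    letI := kerModule (fiberProj I g) (fiberProj_surjective I g) (fiberProj_sqZero I g hI)
    (fiberExt I g hI).IsTrivialOver Λ := by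
  let f : B → fiberAlg I g := fun b => ⟨(u b, b), (mem_fiberAlg I g _).2 (hu b)⟩
  refine ⟨{ toFun := f
            map_one' := Subtype.ext (Prod.ext (map_one u) rfl)
            map_mul' := fun x y => Subtype.ext (Prod.ext (map_mul u x y) rfl)
            map_zero' := Subtype.ext (Prod.ext (map_zero u) rfl)
            map_add' := fun x y => Subtype.ext (Prod.ext (map_add u x y) rfl)
            commutes' := fun a => Subtype.ext (Prod.ext ?_ ?_) }, fun b => rfl⟩
  · show u (algebraMap Λ B a) = algebraMap A T (algebraMap Λ A a)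
    rw [u.commutes, IsScalarTower.algebraMap_apply Λ A T]
  · show algebraMap Λ B a = algebraMap A B (algebraMap Λ A a)
    exact IsScalarTower.algebraMap_apply Λ A B a

end Fiber

section OfDer

attribute [local instance] Exal.opModule Exal.isCentralScalar_opModule

variable {A : Type u} {B L C : Type v} [CommRing A] [CommRing B] [Algebra A B] [AddCommGroup L]
  [Module B L] [CommRing C] [Algebra A C] [Algebra B C] [IsScalarTower A B C] [Module C L]
  [IsScalarTower B C L] [Module A L] [IsScalarTower A B L] (D : Derivation A B L)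

def dfst (w : (Exal.Ext.ofDerivation (C := C) D).E) : C :=
  TrivSqZeroExt.fst (show TrivSqZeroExt C L from w)

def dsnd (w : (Exal.Ext.ofDerivation (C := C) D).E) : L :=
  TrivSqZeroExt.snd (show TrivSqZeroExt C L from w)

def dmk (c : C) (z : L) : (Exal.Ext.ofDerivation (C := C) D).E :=
  (TrivSqZeroExt.inl c + TrivSqZeroExt.inr z : TrivSqZeroExt C L)

theorem d_ext {w w' : (Exal.Ext.ofDerivation (C := C) D).E} (h1 : dfst D w = dfst D w')
    (h2 : dsnd D w = dsnd D w') : w = w' := TrivSqZeroExt.ext h1 h2

@[simp] theorem dfst_dmk (c : C) (z : L) : dfst D (dmk D c z) = c := by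
  show TrivSqZeroExt.fst (TrivSqZeroExt.inl c + TrivSqZeroExt.inr z : TrivSqZeroExt C L) = c
  simp

@[simp] theorem dsnd_dmk (c : C) (z : L) : dsnd D (dmk D c z) = z := by
  show TrivSqZeroExt.snd (TrivSqZeroExt.inl c + TrivSqZeroExt.inr z : TrivSqZeroExt C L) = z
  simp

theorem dmk_eta (w : (Exal.Ext.ofDerivation (C := C) D).E) : dmk D (dfst D w) (dsnd D w) = w :=
  d_ext D (dfst_dmk D _ _) (dsnd_dmk D _ _)

theorem dfst_one : dfst D (1 : (Exal.Ext.ofDerivation (C := C) D).E) = 1 := rfl
theorem dsnd_one : dsnd D (1 : (Exal.Ext.ofDerivation (C := C) D).E) = 0 := rfl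
theorem dfst_zero : dfst D (0 : (Exal.Ext.ofDerivation (C := C) D).E) = 0 := rfl
theorem dsnd_zero : dsnd D (0 : (Exal.Ext.ofDerivation (C := C) D).E) = 0 := rfl
theorem dfst_add (w w' : (Exal.Ext.ofDerivation (C := C) D).E) :
    dfst D (w + w') = dfst D w + dfst D w' := rfl
theorem dsnd_add (w w' : (Exal.Ext.ofDerivation (C := C) D).E) :
    dsnd D (w + w') = dsnd D w + dsnd D w' := rfl
theorem dfst_mul (w w' : (Exal.Ext.ofDerivation (C := C) D).E) :
    dfst D (w * w') = dfst D w * dfst D w' := rfl
theorem dsnd_mul (w w' : (Exal.Ext.ofDerivation (C := C) D).E) :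
    dsnd D (w * w') = dfst D w • dsnd D w' + dfst D w' • dsnd D w := rfl

theorem dfst_algebraMap (b : B) :
    dfst D (algebraMap B (Exal.Ext.ofDerivation (C := C) D).E b) = algebraMap B C b := by
  show TrivSqZeroExt.fst (TrivSqZeroExt.inl (algebraMap B C b) + TrivSqZeroExt.inr (D b) :
    TrivSqZeroExt C L) = _
  simp

theorem dsnd_algebraMap (b : B) :
    dsnd D (algebraMap B (Exal.Ext.ofDerivation (C := C) D).E b) = D b := by
  show TrivSqZeroExt.snd (TrivSqZeroExt.inl (algebraMap B C b) + TrivSqZeroExt.inr (D b) :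
    TrivSqZeroExt C L) = _
  simp

theorem proj_eq (w : (Exal.Ext.ofDerivation (C := C) D).E) :
    (Exal.Ext.ofDerivation (C := C) D).proj w = dfst D w := rfl

theorem dfst_incl (z : L) : dfst D ((Exal.Ext.ofDerivation (C := C) D).incl z) = 0 := rfl
theorem dsnd_incl (z : L) : dsnd D ((Exal.Ext.ofDerivation (C := C) D).incl z) = z := rfl

/-- `c ↦ (c, 0)` as a ring hom into the middle ring. -/
def dinl : C →+* (Exal.Ext.ofDerivation (C := C) D).E := TrivSqZeroExt.inlHom C L

theorem dfst_dinl (c : C) : dfst D (dinl D c) = c := rfl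
theorem dsnd_dinl (c : C) : dsnd D (dinl D c) = 0 := rfl

theorem dinl_algebraMap (a : A) : dinl D (algebraMap A C a) =
    algebraMap B (Exal.Ext.ofDerivation (C := C) D).E (algebraMap A B a) := by
  apply d_ext D
  · rw [dfst_dinl, dfst_algebraMap, ← IsScalarTower.algebraMap_apply]
  · rw [dsnd_dinl, dsnd_algebraMap, D.map_algebraMap]

theorem isTrivialOver_ofDerivation : (Exal.Ext.ofDerivation (C := C) D).IsTrivialOver A := by
  refine ⟨{ toFun := fun c => dinl D c
            map_one' := map_one (dinl D)
            map_mul' := map_mul (dinl D)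
            map_zero' := map_zero (dinl D)
            map_add' := map_add (dinl D)
            commutes' := fun a => ?_ }, fun c => rfl⟩
  show dinl D (algebraMap A C a) =
    algebraMap B (Exal.Ext.ofDerivation (C := C) D).E (algebraMap A B a)
  apply d_ext D
  · rw [dfst_dinl, dfst_algebraMap, ← IsScalarTower.algebraMap_apply]
  · rw [dsnd_dinl, dsnd_algebraMap, D.map_algebraMap]

end OfDer

section Conormal

variable {B : Type u} [CommRing B] (J : Ideal B) {M : Type u} [AddCommGroup M]
  [Module (B ⧸ J) M] [Module B M] [IsScalarTower B (B ⧸ J) M]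

theorem idealToKer_spec (X : Ext B (B ⧸ J) M) (d : J) :
    X.incl (X.idealToKer J d) = algebraMap B X.E d :=
  X.incl_kerLift _ (X.proj_algebraMap_eq_zero J d)

theorem conormalMap_toCotangent (X : Ext B (B ⧸ J) M) (d : J) :
    X.conormalMap J (J.toCotangent d) = X.idealToKer J d := rfl

theorem idealToKer_eq {X Y : Ext B (B ⧸ J) M} (h : X.conormalMap J = Y.conormalMap J) (d : J) :
    X.idealToKer J d = Y.idealToKer J d := by
  rw [← conormalMap_toCotangent, h, conormalMap_toCotangent]

omit [Module B M] [IsScalarTower B (B ⧸ J) M] in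
theorem proj_algebraMap (X : Ext B (B ⧸ J) M) (b : B) :
    X.proj (algebraMap B X.E b) = Ideal.Quotient.mk J b := X.proj.commutes b

omit [Module B M] [IsScalarTower B (B ⧸ J) M] in
theorem exists_rep (X : Ext B (B ⧸ J) M) (x : X.E) :
    ∃ b z, x = algebraMap B X.E b + X.incl z := by
  obtain ⟨b, hb⟩ := Ideal.Quotient.mk_surjective (X.proj x)
  obtain ⟨z, hz⟩ := exists_incl_eq_sub X x (algebraMap B X.E b) (by rw [proj_algebraMap, hb])
  exact ⟨b, z, by rw [hz]; ring⟩

omit [Module B M] [IsScalarTower B (B ⧸ J) M] in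
theorem rep_mul (X : Ext B (B ⧸ J) M) (b b' : B) (z z' : M) :
    (algebraMap B X.E b + X.incl z) * (algebraMap B X.E b' + X.incl z') =
      algebraMap B X.E (b * b') +
        X.incl (Ideal.Quotient.mk J b • z' + Ideal.Quotient.mk J b' • z) := by
  have e1 : X.incl (Ideal.Quotient.mk J b • z') = algebraMap B X.E b * X.incl z' := by
    rw [X.isExtension.mul_incl, proj_algebraMap]
  have e2 : X.incl (Ideal.Quotient.mk J b' • z) = algebraMap B X.E b' * X.incl z := by
    rw [X.isExtension.mul_incl, proj_algebraMap]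
  have e3 := incl_mul_incl X z z'
  rw [map_mul, map_add, e1, e2]
  linear_combination e3

theorem equiv_of_conormalMap_eq (X Y : Ext B (B ⧸ J) M) (h : X.conormalMap J = Y.conormalMap J) :
    Nonempty (X.Equiv Y) := by
  have key : ∀ (b b' : B) (z z' : M),
      algebraMap B X.E b + X.incl z = algebraMap B X.E b' + X.incl z' →
      algebraMap B Y.E b + Y.incl z = algebraMap B Y.E b' + Y.incl z' := by
    intro b b' z z' hx
    have h1 : algebraMap B X.E (b - b') = X.incl (z' - z) := by
      rw [map_sub, map_sub]; linear_combination hx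
    have hd : b - b' ∈ J := by
      have := congrArg X.proj h1
      rw [proj_incl, proj_algebraMap] at this
      exact Ideal.Quotient.eq_zero_iff_mem.1 this
    have h2 : X.idealToKer J ⟨b - b', hd⟩ = z' - z :=
      X.isExtension.incl_injective (by rw [idealToKer_spec]; exact h1)
    have h3 : Y.idealToKer J ⟨b - b', hd⟩ = z' - z := by rw [← idealToKer_eq J h]; exact h2
    have h4 : algebraMap B Y.E (b - b') = Y.incl (z' - z) := by
      rw [← h3, idealToKer_spec]
    rw [map_sub, map_sub] at h4
    linear_combination h4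
  choose β ζ hβζ using exists_rep J X
  let f₀ : X.E → Y.E := fun x => algebraMap B Y.E (β x) + Y.incl (ζ x)
  have hf₀ : ∀ b z, f₀ (algebraMap B X.E b + X.incl z) = algebraMap B Y.E b + Y.incl z :=
    fun b z => key _ _ _ _ (hβζ (algebraMap B X.E b + X.incl z)).symm
  have hf₀' : ∀ x b z, x = algebraMap B X.E b + X.incl z →
      f₀ x = algebraMap B Y.E b + Y.incl z := by
    rintro x b z rfl; exact hf₀ b z
  have hrep := exists_rep J X
  let f : X.E →ₐ[B] Y.E :=
    { toFun := f₀
      map_one' := (hf₀' 1 1 0 (by rw [map_one, map_zero, add_zero])).trans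
        (by rw [map_one, map_zero, add_zero])
      map_mul' := fun x y => by
        obtain ⟨b, z, rfl⟩ := hrep x
        obtain ⟨b', z', rfl⟩ := hrep y
        rw [rep_mul J X, hf₀, hf₀, hf₀, rep_mul J Y]
      map_zero' := (hf₀' 0 0 0 (by rw [map_zero, map_zero, add_zero])).trans
        (by rw [map_zero, map_zero, add_zero])
      map_add' := fun x y => by
        obtain ⟨b, z, rfl⟩ := hrep x
        obtain ⟨b', z', rfl⟩ := hrep y
        have e1 : (algebraMap B X.E b + X.incl z) + (algebraMap B X.E b' + X.incl z') =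
            algebraMap B X.E (b + b') + X.incl (z + z') := by
          rw [map_add, map_add]; ring
        rw [e1, hf₀, hf₀, hf₀, map_add, map_add]; ring
      commutes' := fun b => (hf₀' _ b 0 (by rw [map_zero, add_zero])).trans
        (by rw [map_zero, add_zero]) }
  have hf : ∀ x, f x = f₀ x := fun _ => rfl
  refine ⟨equivOfHom f (fun x => ?_) (fun z => ?_)⟩
  · obtain ⟨b, z, rfl⟩ := hrep x
    rw [hf, hf₀, map_add, map_add, proj_incl, proj_incl, proj_algebraMap, proj_algebraMap]
  · rw [hf, hf₀' (X.incl z) 0 z (by rw [map_zero, zero_add]), map_zero, zero_add]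

end Conormal

section Triv

attribute [local instance] Exal.opModule Exal.isCentralScalar_opModule

variable {A : Type u} {B L : Type v} [CommRing A] [CommRing B] [Algebra A B] [AddCommGroup L]
  [Module B L]

def tfst (w : Exal.Ext.TrivCarrier A B L) : B := TrivSqZeroExt.fst (show TrivSqZeroExt B L from w)
def tsnd (w : Exal.Ext.TrivCarrier A B L) : L := TrivSqZeroExt.snd (show TrivSqZeroExt B L from w)
def tmk (b : B) (z : L) : Exal.Ext.TrivCarrier A B L :=
  (TrivSqZeroExt.inl b + TrivSqZeroExt.inr z : TrivSqZeroExt B L)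

theorem t_ext {w w' : Exal.Ext.TrivCarrier A B L} (h1 : tfst w = tfst w')
    (h2 : tsnd w = tsnd w') : w = w' := TrivSqZeroExt.ext h1 h2

@[simp] theorem tfst_tmk (b : B) (z : L) : tfst (tmk (A := A) b z) = b := by
  show TrivSqZeroExt.fst (TrivSqZeroExt.inl b + TrivSqZeroExt.inr z : TrivSqZeroExt B L) = b
  simp

@[simp] theorem tsnd_tmk (b : B) (z : L) : tsnd (tmk (A := A) b z) = z := by
  show TrivSqZeroExt.snd (TrivSqZeroExt.inl b + TrivSqZeroExt.inr z : TrivSqZeroExt B L) = z
  simp

theorem tfst_one : tfst (1 : Exal.Ext.TrivCarrier A B L) = 1 := rfl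
theorem tsnd_one : tsnd (1 : Exal.Ext.TrivCarrier A B L) = 0 := rfl
theorem tfst_zero : tfst (0 : Exal.Ext.TrivCarrier A B L) = 0 := rfl
theorem tsnd_zero : tsnd (0 : Exal.Ext.TrivCarrier A B L) = 0 := rfl
theorem tfst_add (w w' : Exal.Ext.TrivCarrier A B L) : tfst (w + w') = tfst w + tfst w' := rfl
theorem tsnd_add (w w' : Exal.Ext.TrivCarrier A B L) : tsnd (w + w') = tsnd w + tsnd w' := rfl
theorem tfst_sub (w w' : Exal.Ext.TrivCarrier A B L) : tfst (w - w') = tfst w - tfst w' := rfl
theorem tsnd_sub (w w' : Exal.Ext.TrivCarrier A B L) : tsnd (w - w') = tsnd w - tsnd w' := rfl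
theorem tfst_mul (w w' : Exal.Ext.TrivCarrier A B L) : tfst (w * w') = tfst w * tfst w' := rfl
theorem tsnd_mul (w w' : Exal.Ext.TrivCarrier A B L) :
    tsnd (w * w') = tfst w • tsnd w' + tfst w' • tsnd w := rfl
theorem tfst_algebraMap (a : A) :
    tfst (A := A) (algebraMap A (Exal.Ext.TrivCarrier A B L) a) = algebraMap A B a := rfl
theorem tsnd_algebraMap (a : A) :
    tsnd (A := A) (algebraMap A (Exal.Ext.TrivCarrier A B L) a) = 0 := rfl

variable (A) in
/-- inclusion of `L` into the trivial carrier. -/
noncomputable def tinr : L →+ Exal.Ext.TrivCarrier A B L := (Exal.Ext.trivial A B L).incl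

variable (A L) in
/-- projection of the trivial carrier. -/
noncomputable def tproj : Exal.Ext.TrivCarrier A B L →ₐ[A] B := (Exal.Ext.trivial A B L).proj

theorem tproj_apply (w : Exal.Ext.TrivCarrier A B L) : tproj A L w = tfst w := rfl
theorem tfst_tinr (z : L) : tfst (tinr A z : Exal.Ext.TrivCarrier A B L) = 0 := rfl
theorem tsnd_tinr (z : L) : tsnd (tinr A z : Exal.Ext.TrivCarrier A B L) = z := rfl
theorem mul_tinr (t : Exal.Ext.TrivCarrier A B L) (z : L) :
    t * tinr A z = tinr A (tfst t • z) := (Exal.Ext.trivial A B L).isExtension.mul_incl t z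

end Triv

section Push

attribute [local instance] Exal.opModule Exal.isCentralScalar_opModule

variable {B : Type u} [CommRing B] (J : Ideal B) {M : Type u} [AddCommGroup M]
  [Module (B ⧸ J) M] [Module B M] [IsScalarTower B (B ⧸ J) M] (w : J.Cotangent →ₗ[B] M)

theorem smul_eq_zero_of_mem {d : B} (hd : d ∈ J) (m : M) : d • m = 0 := by
  rw [← algebraMap_smul (B ⧸ J) d m, Ideal.Quotient.algebraMap_eq,
    Ideal.Quotient.eq_zero_iff_mem.2 hd, zero_smul]

def pushIdeal : Ideal (Exal.Ext.TrivCarrier B B M) where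
  carrier := {x | ∃ d : J, tfst x = d ∧ tsnd x = - w (J.toCotangent d)}
  zero_mem' := ⟨0, by rw [tfst_zero]; rfl, by rw [tsnd_zero, map_zero, map_zero, neg_zero]⟩
  add_mem' := by
    rintro x y ⟨d, h1, h2⟩ ⟨d', h1', h2'⟩
    exact ⟨d + d', by rw [tfst_add, h1, h1']; rfl,
      by rw [tsnd_add, h2, h2', map_add, map_add, neg_add]⟩
  smul_mem' := by
    rintro c x ⟨d, h1, h2⟩
    refine ⟨tfst c • d, ?_, ?_⟩
    · rw [smul_eq_mul, tfst_mul, h1]; rfl
    · rw [smul_eq_mul, tsnd_mul, h1, h2, smul_eq_zero_of_mem J d.2, add_zero, map_smul,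
        map_smul, smul_neg]

theorem mem_pushIdeal (x : Exal.Ext.TrivCarrier B B M) :
    x ∈ pushIdeal J w ↔ ∃ d : J, tfst x = d ∧ tsnd x = - w (J.toCotangent d) := Iff.rfl

noncomputable def pushProjAux : Exal.Ext.TrivCarrier B B M →ₐ[B] B ⧸ J :=
  (Ideal.Quotient.mkₐ B J).comp (tproj B M)

omit [Module (B ⧸ J) M] [IsScalarTower B (B ⧸ J) M] in
theorem pushProjAux_apply (x : Exal.Ext.TrivCarrier B B M) :
    pushProjAux J x = Ideal.Quotient.mk J (tfst x) := rfl

noncomputable def pushExt : Exal.Ext B (B ⧸ J) M where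
  E := Exal.Ext.TrivCarrier B B M ⧸ pushIdeal J w
  proj := Ideal.Quotient.liftₐ (pushIdeal J w) (pushProjAux J) (by
    rintro x ⟨d, h1, _⟩
    rw [pushProjAux_apply, h1]; exact Ideal.Quotient.eq_zero_iff_mem.2 d.2)
  incl := (Ideal.Quotient.mk (pushIdeal J w)).toAddMonoidHom.comp (tinr B)
  isExtension :=
    { proj_surjective := fun c => by
        obtain ⟨b, rfl⟩ := Ideal.Quotient.mk_surjective c
        refine ⟨Ideal.Quotient.mk _ (tmk b 0), ?_⟩
        show Ideal.Quotient.mk J (tfst (tmk (A := B) b (0 : M))) = _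
        rw [tfst_tmk]
      incl_injective := by
        intro z z' hzz
        have h1 : tinr B z - tinr B z' ∈ pushIdeal J w := Ideal.Quotient.eq.1 hzz
        obtain ⟨d, h2, h3⟩ := h1
        have hd : d = 0 := Subtype.ext (by
          rw [← h2, tfst_sub, tfst_tinr, tfst_tinr, sub_zero]; rfl)
        rw [hd, map_zero, map_zero, neg_zero, tsnd_sub, tsnd_tinr, tsnd_tinr] at h3
        exact sub_eq_zero.1 h3
      exact := fun x => by
        obtain ⟨t, rfl⟩ := Ideal.Quotient.mk_surjective x
        constructor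
        · intro ht
          have hd : tfst t ∈ J := Ideal.Quotient.eq_zero_iff_mem.1 ht
          refine ⟨tsnd t + w (J.toCotangent ⟨tfst t, hd⟩), ?_⟩
          symm
          apply Ideal.Quotient.eq.2
          refine ⟨⟨tfst t, hd⟩, ?_, ?_⟩
          · rw [tfst_sub, tfst_tinr, sub_zero]
          · rw [tsnd_sub, tsnd_tinr]; abel
        · rintro ⟨z, hz⟩
          rw [← hz]
          show Ideal.Quotient.mk J (tfst (tinr B z : Exal.Ext.TrivCarrier B B M)) = 0
          rw [tfst_tinr, map_zero]
      mul_incl := fun x z => by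
        obtain ⟨t, rfl⟩ := Ideal.Quotient.mk_surjective x
        show Ideal.Quotient.mk (pushIdeal J w) t * Ideal.Quotient.mk (pushIdeal J w) (tinr B z) =
          Ideal.Quotient.mk (pushIdeal J w) (tinr B (Ideal.Quotient.mk J (tfst t) • z))
        have e1 : Ideal.Quotient.mk J (tfst t) • z = tfst t • z := by
          rw [← Ideal.Quotient.algebraMap_eq J, algebraMap_smul]
        rw [← map_mul, mul_tinr, e1] }

theorem conormalMap_pushExt : (pushExt J w).conormalMap J = w := by
  apply LinearMap.ext
  intro c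
  obtain ⟨d, rfl⟩ := J.toCotangent_surjective c
  rw [conormalMap_toCotangent]
  apply (pushExt J w).isExtension.incl_injective
  rw [idealToKer_spec]
  show Ideal.Quotient.mk (pushIdeal J w) (algebraMap B (Exal.Ext.TrivCarrier B B M) (d : B)) =
    Ideal.Quotient.mk (pushIdeal J w) (tinr B (w (J.toCotangent d)))
  apply Ideal.Quotient.eq.2
  refine ⟨d, ?_, ?_⟩
  · rw [tfst_sub, tfst_tinr, tfst_algebraMap, sub_zero]; rfl
  · rw [tsnd_sub, tsnd_tinr, tsnd_algebraMap, zero_sub]

end Push

section DerExt

attribute [local instance] Exal.opModule Exal.isCentralScalar_opModule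

/-- A universe-general derivation datum `A → L` (with `L` a `C`-module). -/
structure DerData (A : Type u) (C L : Type v) [CommRing A] [CommRing C] [Algebra A C]
    [AddCommGroup L] [Module C L] where
  d : A → L
  map_add : ∀ x y, d (x + y) = d x + d y
  map_mul : ∀ x y, d (x * y) = algebraMap A C x • d y + algebraMap A C y • d x

variable {A : Type u} {C L : Type v} [CommRing A] [CommRing C] [Algebra A C] [AddCommGroup L]
  [Module C L] (dd : DerData A C L)

theorem DerData.map_zero : dd.d 0 = 0 := by
  have h := dd.map_add 0 0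
  rw [add_zero] at h
  exact left_eq_add.mp h

theorem DerData.map_one : dd.d 1 = 0 := by
  have h := dd.map_mul 1 1
  rw [mul_one, _root_.map_one, one_smul] at h
  exact left_eq_add.mp h

@[nolint unusedArguments]
def DerCarrier' (_dd : DerData A C L) : Type v := TrivSqZeroExt C L

instance : CommRing (DerCarrier' dd) := inferInstanceAs (CommRing (TrivSqZeroExt C L))

def efst (x : DerCarrier' dd) : C := TrivSqZeroExt.fst (show TrivSqZeroExt C L from x)
def esnd (x : DerCarrier' dd) : L := TrivSqZeroExt.snd (show TrivSqZeroExt C L from x)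
def emk (c : C) (z : L) : DerCarrier' dd :=
  (TrivSqZeroExt.inl c + TrivSqZeroExt.inr z : TrivSqZeroExt C L)

theorem e_ext {x y : DerCarrier' dd} (h1 : efst dd x = efst dd y) (h2 : esnd dd x = esnd dd y) :
    x = y := TrivSqZeroExt.ext h1 h2

@[simp] theorem efst_emk (c : C) (z : L) : efst dd (emk dd c z) = c := by
  show TrivSqZeroExt.fst (TrivSqZeroExt.inl c + TrivSqZeroExt.inr z : TrivSqZeroExt C L) = c
  simp

@[simp] theorem esnd_emk (c : C) (z : L) : esnd dd (emk dd c z) = z := by
  show TrivSqZeroExt.snd (TrivSqZeroExt.inl c + TrivSqZeroExt.inr z : TrivSqZeroExt C L) = z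
  simp

theorem efst_one : efst dd (1 : DerCarrier' dd) = 1 := rfl
theorem esnd_one : esnd dd (1 : DerCarrier' dd) = 0 := rfl
theorem efst_zero : efst dd (0 : DerCarrier' dd) = 0 := rfl
theorem esnd_zero : esnd dd (0 : DerCarrier' dd) = 0 := rfl
theorem efst_add (x y : DerCarrier' dd) : efst dd (x + y) = efst dd x + efst dd y := rfl
theorem esnd_add (x y : DerCarrier' dd) : esnd dd (x + y) = esnd dd x + esnd dd y := rfl
theorem efst_mul (x y : DerCarrier' dd) : efst dd (x * y) = efst dd x * efst dd y := rfl
theorem esnd_mul (x y : DerCarrier' dd) :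
    esnd dd (x * y) = efst dd x • esnd dd y + efst dd y • esnd dd x := rfl

noncomputable def derHom' : A →+* DerCarrier' dd where
  toFun a := emk dd (algebraMap A C a) (dd.d a)
  map_one' := e_ext dd (by rw [efst_emk, _root_.map_one, efst_one])
    (by rw [esnd_emk, dd.map_one, esnd_one])
  map_mul' x y := e_ext dd (by rw [efst_emk, efst_mul, efst_emk, efst_emk, _root_.map_mul])
    (by rw [esnd_emk, esnd_mul, efst_emk, efst_emk, esnd_emk, esnd_emk, dd.map_mul])
  map_zero' := e_ext dd (by rw [efst_emk, _root_.map_zero, efst_zero])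
    (by rw [esnd_emk, dd.map_zero, esnd_zero])
  map_add' x y := e_ext dd (by rw [efst_emk, efst_add, efst_emk, efst_emk, _root_.map_add])
    (by rw [esnd_emk, esnd_add, esnd_emk, esnd_emk, dd.map_add])

noncomputable instance : Algebra A (DerCarrier' dd) := (derHom' dd).toAlgebra

theorem efst_algebraMap (a : A) : efst dd (algebraMap A (DerCarrier' dd) a) = algebraMap A C a :=
  efst_emk dd _ _

theorem esnd_algebraMap (a : A) : esnd dd (algebraMap A (DerCarrier' dd) a) = dd.d a :=
  esnd_emk dd _ _

/-- The extension attached to a derivation datum. -/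
noncomputable def ofDerData : Ext A C L where
  E := DerCarrier' dd
  proj :=
    { toFun := efst dd
      map_one' := rfl
      map_mul' := fun _ _ => rfl
      map_zero' := rfl
      map_add' := fun _ _ => rfl
      commutes' := efst_algebraMap dd }
  incl :=
    { toFun := fun z => emk dd 0 z
      map_zero' := e_ext dd (by rw [efst_emk, efst_zero]) (by rw [esnd_emk, esnd_zero])
      map_add' := fun z z' => e_ext dd (by rw [efst_emk, efst_add, efst_emk, efst_emk, add_zero])
        (by rw [esnd_emk, esnd_add, esnd_emk, esnd_emk]) }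
  isExtension :=
    { proj_surjective := fun c => ⟨emk dd c 0, efst_emk dd c 0⟩
      incl_injective := fun z z' h => by
        have := congrArg (esnd dd) h
        simpa using this
      exact := fun x => by
        constructor
        · intro hx
          exact ⟨esnd dd x, e_ext dd ((efst_emk dd _ _).trans hx.symm) (esnd_emk dd _ _)⟩
        · rintro ⟨z, rfl⟩
          exact efst_emk dd 0 z
      mul_incl := fun x z => by
        apply e_ext dd
        · show efst dd (x * emk dd 0 z) = efst dd (emk dd 0 (efst dd x • z))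
          rw [efst_mul, efst_emk, efst_emk, mul_zero]
        · show esnd dd (x * emk dd 0 z) = esnd dd (emk dd 0 (efst dd x • z))
          rw [esnd_mul, efst_emk, esnd_emk, esnd_emk, zero_smul, add_zero] }

theorem ofDerData_proj (x : (ofDerData dd).E) : (ofDerData dd).proj x = efst dd x := rfl
theorem ofDerData_incl (z : L) : (ofDerData dd).incl z = emk dd 0 z := rfl

theorem isTrivialOver_ofDerData (Λ : Type w) [CommRing Λ] [Algebra Λ A] [Algebra Λ C]
    [IsScalarTower Λ A C] (h0 : ∀ l : Λ, dd.d (algebraMap Λ A l) = 0) :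
    (ofDerData dd).IsTrivialOver Λ := by
  let ι : C →+* DerCarrier' dd := TrivSqZeroExt.inlHom C L
  have hι1 : ∀ c, efst dd (ι c) = c := fun _ => rfl
  have hι2 : ∀ c, esnd dd (ι c) = 0 := fun _ => rfl
  refine ⟨{ toFun := fun c => ι c
            map_one' := _root_.map_one ι
            map_mul' := _root_.map_mul ι
            map_zero' := _root_.map_zero ι
            map_add' := _root_.map_add ι
            commutes' := fun l => ?_ }, fun c => rfl⟩
  show ι (algebraMap Λ C l) = algebraMap A (DerCarrier' dd) (algebraMap Λ A l)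
  apply e_ext dd
  · rw [hι1, efst_algebraMap, ← IsScalarTower.algebraMap_apply]
  · rw [hι2, esnd_algebraMap, h0]

theorem exists_section_ofDerData (Λ : Type w) [CommRing Λ] [Algebra Λ A] [Algebra Λ C]
    [IsScalarTower Λ A C] (h0 : ∀ l : Λ, dd.d (algebraMap Λ A l) = 0) :
    ∃ s : C →ₐ[Λ] ((ofDerData dd).restrictBase Λ).E, (∀ c, (ofDerData dd).proj (s c) = c) ∧
      ∀ c, efst dd (s c) = c ∧ esnd dd (s c) = 0 := by
  let ι : C →+* DerCarrier' dd := TrivSqZeroExt.inlHom C L
  have hι1 : ∀ c, efst dd (ι c) = c := fun _ => rfl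
  have hι2 : ∀ c, esnd dd (ι c) = 0 := fun _ => rfl
  refine ⟨{ toFun := fun c => ι c
            map_one' := _root_.map_one ι
            map_mul' := _root_.map_mul ι
            map_zero' := _root_.map_zero ι
            map_add' := _root_.map_add ι
            commutes' := fun l => ?_ }, fun c => rfl, fun c => ⟨rfl, rfl⟩⟩
  show ι (algebraMap Λ C l) = algebraMap A (DerCarrier' dd) (algebraMap Λ A l)
  apply e_ext dd
  · rw [hι1, efst_algebraMap, ← IsScalarTower.algebraMap_apply]
  · rw [hι2, esnd_algebraMap, h0]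

end DerExt

section Sections

variable {B C L : Type v} [CommRing B] [CommRing C] [Algebra B C] [AddCommGroup L] [Module C L]

theorem equiv_of_sections (X Y : Ext B C L) (gX : C →+* X.E) (hgX : ∀ c, X.proj (gX c) = c)
    (gY : C →+* Y.E) (hgY : ∀ c, Y.proj (gY c) = c) (δ : B → L)
    (hδX : ∀ b, X.incl (δ b) = algebraMap B X.E b - gX (algebraMap B C b))
    (hδY : ∀ b, Y.incl (δ b) = algebraMap B Y.E b - gY (algebraMap B C b)) :
    Nonempty (X.Equiv Y) := by
  have hker : ∀ x, X.proj (x - gX (X.proj x)) = 0 := fun x => by rw [map_sub, hgX, sub_self]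
  let κ : X.E → L := fun x => X.kerLift _ (hker x)
  have hκ : ∀ x, X.incl (κ x) = x - gX (X.proj x) := fun x => X.incl_kerLift _ (hker x)
  have hinj := X.isExtension.incl_injective
  have κ_add : ∀ x y, κ (x + y) = κ x + κ y := fun x y => hinj (by
    rw [map_add, hκ, hκ, hκ, map_add, map_add]; ring)
  have κ_mul : ∀ x y, κ (x * y) = X.proj x • κ y + X.proj y • κ x := fun x y => hinj (by
    rw [map_add, ← X.isExtension.mul_incl, ← X.isExtension.mul_incl, hκ, hκ, hκ, map_mul,
      map_mul]
    have h1 := incl_mul_incl X (κ x) (κ y)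
    rw [hκ, hκ] at h1
    linear_combination (-1 : X.E) * h1)
  have κ_incl : ∀ z, κ (X.incl z) = z := fun z => hinj (by
    rw [hκ, proj_incl, map_zero, sub_zero])
  have κ_alg : ∀ b, κ (algebraMap B X.E b) = δ b := fun b => hinj (by
    rw [hκ, hδX, AlgHom.commutes])
  have κ_one : κ 1 = 0 := hinj (by simp only [hκ, map_one, sub_self, map_zero])
  have κ_zero : κ 0 = 0 := hinj (by simp only [hκ, map_zero, sub_self])
  have hsmulY : ∀ (c : C) (z : L), Y.incl (c • z) = gY c * Y.incl z := fun c z => by
    rw [Y.isExtension.mul_incl, hgY]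
  let f : X.E →ₐ[B] Y.E :=
    { toFun := fun x => gY (X.proj x) + Y.incl (κ x)
      map_one' := by rw [κ_one, map_zero, add_zero, map_one, map_one]
      map_mul' := fun x y => by
        rw [κ_mul, map_add, hsmulY, hsmulY, map_mul, map_mul]
        have := incl_mul_incl Y (κ x) (κ y)
        linear_combination (-1 : Y.E) * this
      map_zero' := by simp only [κ_zero, map_zero, add_zero]
      map_add' := fun x y => by rw [κ_add, map_add, map_add, map_add]; ring
      commutes' := fun b => by
        rw [κ_alg, hδY, AlgHom.commutes]; ring }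
  have hf : ∀ x, f x = gY (X.proj x) + Y.incl (κ x) := fun _ => rfl
  refine ⟨equivOfHom f (fun x => ?_) (fun z => ?_)⟩
  · rw [hf, map_add, hgY, proj_incl, add_zero]
  · rw [hf, κ_incl, proj_incl, map_zero, zero_add]

theorem exists_section_sub (Y : Ext B C L) (gY : C →+* Y.E) (hgY : ∀ c, Y.proj (gY c) = c)
    (d : C → L) (d_add : ∀ x y, d (x + y) = d x + d y)
    (d_mul : ∀ x y, d (x * y) = x • d y + y • d x) :
    ∃ g' : C →+* Y.E, ∀ c, g' c = gY c - Y.incl (d c) := by
  have d_one : d 1 = 0 := by
    have h := d_mul 1 1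
    rw [mul_one, one_smul] at h
    exact left_eq_add.mp h
  have d_zero : d 0 = 0 := by
    have h := d_add 0 0
    rw [add_zero] at h
    exact left_eq_add.mp h
  have hsmulY : ∀ (c : C) (z : L), Y.incl (c • z) = gY c * Y.incl z := fun c z => by
    rw [Y.isExtension.mul_incl, hgY]
  refine ⟨{ toFun := fun c => gY c - Y.incl (d c)
            map_one' := by rw [d_one, map_zero, sub_zero, map_one]
            map_mul' := fun x y => by
              rw [d_mul, map_add, hsmulY, hsmulY, map_mul]
              have := incl_mul_incl Y (d x) (d y)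
              linear_combination (-1 : Y.E) * this
            map_zero' := by simp only [d_zero, map_zero, sub_zero]
            map_add' := fun x y => by rw [d_add, map_add, map_add]; ring }, fun c => rfl⟩

end Sections

end H3Exal
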