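import Mathlib
import Groth.Prelude.Def_Exal3
import Groth.Agent.Lib.helper3.Exal

set_option autoImplicit false

universe u v w

namespace H3Exal

open Exal TensorProduct KaehlerDifferential

section CharHom

variable (A : Type u) {B C L : Type v} [CommRing A] [CommRing B] [CommRing C] [Algebra A B]
  [Algebra B C] [Algebra A C] [IsScalarTower A B C] [AddCommGroup L] [Module C L]
  (X : Exal.Ext B C L)

local notation "𝒫" => Exal.Ext.CharCarrier A X
local notation "pr" => algebraMap (Exal.Ext.CharCarrier A X) C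
local notation "ι" => Exal.Ext.inclC A X

theorem algebraMap_charCarrier (x : 𝒫) : pr x = X.proj x := rfl

theorem pr_surjective : Function.Surjective pr := X.isExtension.proj_surjective

theorem ker_pr_sq : (RingHom.ker pr) ^ 2 = ⊥ := ker_sq X

theorem pr_ι (z : L) : pr (ι z) = 0 := proj_incl X z

theorem ι_injective : Function.Injective (ι) := X.isExtension.incl_injective

theorem mul_ι (x : 𝒫) (z : L) : x * ι z = ι (pr x • z) := X.isExtension.mul_incl x z

theorem exists_ι_eq (x : 𝒫) (hx : pr x = 0) : ∃ z, ι z = x := (X.isExtension.exact x).1 hx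

theorem ι_mul_ι (z z' : L) : ι z * ι z' = 0 := incl_mul_incl X z z'

/-- kernel lift, in terms of the carrier `𝒫`. -/
noncomputable def kerLiftC (x : 𝒫) (hx : pr x = 0) : L := (exists_ι_eq A X x hx).choose

theorem ι_kerLiftC (x : 𝒫) (hx : pr x = 0) : ι (kerLiftC A X x hx) = x :=
  (exists_ι_eq A X x hx).choose_spec

theorem ι_mem (z : L) : ι z ∈ RingHom.ker pr := by
  rw [RingHom.mem_ker]; exact pr_ι A X z

theorem deltaL_eq_kerToTensor (z : L) :
    X.deltaL A z = kerToTensor A 𝒫 C ⟨ι z, ι_mem A X z⟩ := rfl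

theorem deltaL_apply (z : L) :
    X.deltaL A z = (1 : C) ⊗ₜ[𝒫] D A 𝒫 (ι z) := rfl

variable {A X} in
theorem exists_section (hX : X.IsTrivialOver A) : ∃ g : C →ₐ[A] X.CharCarrier A,
    (IsScalarTower.toAlgHom A (X.CharCarrier A) C).comp g = AlgHom.id A C := by
  obtain ⟨s, hs⟩ := hX
  exact ⟨s, AlgHom.ext fun c => hs c⟩

theorem map_map (ω : Ω[B⁄A]) :
    KaehlerDifferential.map A A 𝒫 C (KaehlerDifferential.map A A B 𝒫 ω) =
      KaehlerDifferential.map A A B C ω := by
  have hω : ω ∈ Submodule.span B (Set.range (KaehlerDifferential.D A B)) := by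
    rw [KaehlerDifferential.span_range_derivation]; trivial
  induction hω using Submodule.span_induction with
  | mem x hx =>
    obtain ⟨b, rfl⟩ := hx
    rw [KaehlerDifferential.map_D, KaehlerDifferential.map_D, KaehlerDifferential.map_D,
      ← IsScalarTower.algebraMap_apply]
  | zero => rw [map_zero, map_zero, map_zero]
  | add x y _ _ hx hy => rw [map_add, map_add, map_add, hx, hy]
  | smul b x _ hx =>
    rw [map_smul (KaehlerDifferential.map A A B 𝒫),
      ← algebraMap_smul 𝒫 b (KaehlerDifferential.map A A B 𝒫 x), map_smul, hx,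
      algebraMap_smul, map_smul]

theorem baseChangeToMiddle_tmul (c : C) (ω : Ω[B⁄A]) :
    X.baseChangeToMiddle A (c ⊗ₜ ω) =
      c ⊗ₜ[𝒫] KaehlerDifferential.map A A B 𝒫 ω := rfl

theorem mapBaseChange_baseChangeToMiddle (z : C ⊗[B] Ω[B⁄A]) :
    KaehlerDifferential.mapBaseChange A 𝒫 C (X.baseChangeToMiddle A z) =
      KaehlerDifferential.mapBaseChange A B C z := by
  induction z using TensorProduct.induction_on with
  | zero => rw [map_zero, map_zero, map_zero]
  | tmul c ω =>
    rw [baseChangeToMiddle_tmul, KaehlerDifferential.mapBaseChange_tmul,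
      KaehlerDifferential.mapBaseChange_tmul, map_map]
  | add x y hx hy => rw [map_add, map_add, map_add, hx, hy]

theorem baseChangeToMiddle_smul (c : C) (z : C ⊗[B] Ω[B⁄A]) :
    X.baseChangeToMiddle A (c • z) = c • X.baseChangeToMiddle A z := by
  induction z using TensorProduct.induction_on with
  | zero => rw [smul_zero, map_zero, smul_zero]
  | tmul c' ω =>
    rw [TensorProduct.smul_tmul', baseChangeToMiddle_tmul, baseChangeToMiddle_tmul,
      TensorProduct.smul_tmul']
  | add x y hx hy => rw [smul_add, map_add, map_add, smul_add, hx, hy]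

theorem exists_deltaL_eq_of_mapBaseChange_eq_zero
    (y : C ⊗[𝒫] Ω[𝒫⁄A])
    (hy : KaehlerDifferential.mapBaseChange A 𝒫 C y = 0) :
    ∃ l, X.deltaL A l = y := by
  have hex := KaehlerDifferential.exact_kerCotangentToTensor_mapBaseChange A 𝒫 C
    (pr_surjective A X)
  obtain ⟨κ, rfl⟩ := (hex y).1 hy
  obtain ⟨⟨k, hk⟩, rfl⟩ := Ideal.toCotangent_surjective _ κ
  have hk' : pr k = 0 := (RingHom.mem_ker).1 hk
  obtain ⟨l, hl⟩ := exists_ι_eq A X k hk'
  refine ⟨l, ?_⟩
  rw [KaehlerDifferential.kerCotangentToTensor_toCotangent]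
  subst hl
  rfl

theorem exists_deltaL_eq (z : EGA41.imperfection A B C) :
    ∃ l, X.deltaL A l = X.baseChangeToMiddle A (z : C ⊗[B] Ω[B⁄A]) := by
  apply exists_deltaL_eq_of_mapBaseChange_eq_zero
  rw [mapBaseChange_baseChangeToMiddle]
  exact z.2

omit [Algebra A C] [IsScalarTower A B C] in
theorem ext_tmul_D {f f' : C ⊗[B] Ω[B⁄A] →ₗ[C] L}
    (h : ∀ b, f ((1 : C) ⊗ₜ D A B b) = f' ((1 : C) ⊗ₜ D A B b)) : f = f' := by
  have key : ∀ (ω : Ω[B⁄A]) (c : C), f (c ⊗ₜ ω) = f' (c ⊗ₜ ω) := by
    intro ω
    have hω : ω ∈ Submodule.span B (Set.range (D A B)) := by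
      rw [span_range_derivation]; trivial
    induction hω using Submodule.span_induction with
    | mem x hx =>
      obtain ⟨b, rfl⟩ := hx
      intro c
      have : c ⊗ₜ[B] D A B b = c • ((1 : C) ⊗ₜ[B] D A B b) := by
        rw [TensorProduct.smul_tmul', smul_eq_mul, mul_one]
      rw [this, map_smul, map_smul, h]
    | zero => intro c; rw [TensorProduct.tmul_zero, map_zero, map_zero]
    | add x y _ _ hx hy => intro c; rw [TensorProduct.tmul_add, map_add, map_add, hx, hy]
    | smul b x _ hx => intro c; rw [← TensorProduct.smul_tmul, hx]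
  apply LinearMap.ext
  intro z
  induction z using TensorProduct.induction_on with
  | zero => rw [map_zero, map_zero]
  | tmul c ω => exact key ω c
  | add x y hx hy => rw [map_add, map_add, hx, hy]

section WithSection

variable (g : C →ₐ[A] X.CharCarrier A)
  (hg : (IsScalarTower.toAlgHom A (X.CharCarrier A) C).comp g = AlgHom.id A C)

include hg in
theorem pr_section (c : C) : pr (g c) = c := AlgHom.congr_fun hg c

/-- The retraction attached to the section `g`. -/
noncomputable def retr : C ⊗[𝒫] Ω[𝒫⁄A] →ₗ[𝒫] RingHom.ker pr :=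
  retractionOfSectionOfKerSqZero g (ker_pr_sq A X) hg

theorem retr_deltaL (z : L) : ((retr A X g hg (X.deltaL A z) : RingHom.ker pr) : 𝒫) = ι z := by
  rw [deltaL_eq_kerToTensor]
  have := LinearMap.congr_fun (retractionOfSectionOfKerSqZero_comp_kerToTensor g
    (ker_pr_sq A X) hg) ⟨ι z, ι_mem A X z⟩
  exact congrArg Subtype.val this

include hg in
theorem deltaL_injective' : Function.Injective (X.deltaL A) := by
  intro z z' h
  apply ι_injective A X
  rw [← retr_deltaL A X g hg z, ← retr_deltaL A X g hg z', h]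

theorem retr_baseChangeToMiddle_tmul (c : C) (b : B) :
    ((retr A X g hg (X.baseChangeToMiddle A (c ⊗ₜ[B] D A B b)) : RingHom.ker pr) : 𝒫) =
      g c * (algebraMap B 𝒫 b - g (algebraMap B C b)) := by
  rw [baseChangeToMiddle_tmul, KaehlerDifferential.map_D, retr,
    retractionOfSectionOfKerSqZero_tmul_D, ← IsScalarTower.algebraMap_apply B 𝒫 C,
    mul_sub]

theorem pr_retr (y : C ⊗[𝒫] Ω[𝒫⁄A]) :
    pr ((retr A X g hg y : RingHom.ker pr) : 𝒫) = 0 :=
  (RingHom.mem_ker).1 (retr A X g hg y).2

/-- The `C`-linear map `C ⊗_B Ω_{B/A} → L` attached to a section; its restriction to the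
imperfection module is the characteristic homomorphism. -/
noncomputable def charMap : C ⊗[B] Ω[B⁄A] →ₗ[C] L where
  toFun z := kerLiftC A X _ (pr_retr A X g hg (X.baseChangeToMiddle A z))
  map_add' z z' := by
    apply ι_injective A X
    rw [ι_kerLiftC]
    rw [map_add (ι), ι_kerLiftC, ι_kerLiftC, map_add, map_add]
    rfl
  map_smul' c z := by
    apply ι_injective A X
    obtain ⟨e, rfl⟩ := pr_surjective A X c
    rw [RingHom.id_apply, ι_kerLiftC, ← mul_ι, ι_kerLiftC, baseChangeToMiddle_smul,
      algebraMap_smul, map_smul]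
    rfl

theorem ι_charMap (z : C ⊗[B] Ω[B⁄A]) :
    ι (charMap A X g hg z) =
      ((retr A X g hg (X.baseChangeToMiddle A z) : RingHom.ker pr) : 𝒫) :=
  ι_kerLiftC A X _ (pr_retr A X g hg (X.baseChangeToMiddle A z))

include hg in
theorem isCharHom_iff (χ : EGA41.imperfection A B C →ₗ[C] L) :
    X.IsCharHom A χ ↔ ∀ z : EGA41.imperfection A B C, χ z = charMap A X g hg z := by
  constructor
  · intro h z
    apply ι_injective A X
    rw [ι_charMap, ← h z, retr_deltaL]
  · intro h z
    obtain ⟨l, hl⟩ := exists_deltaL_eq A X z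
    have h1 : l = charMap A X g hg z := by
      apply ι_injective A X
      rw [ι_charMap, ← hl, retr_deltaL]
    rw [h z, ← h1, hl]

include hg in
theorem pr_sub_section (b : B) : pr (algebraMap B 𝒫 b - g (algebraMap B C b)) = 0 := by
  rw [map_sub, pr_section A X g hg, ← IsScalarTower.algebraMap_apply B 𝒫 C, sub_self]

/-- The derivation-like map `B → L` attached to a section. -/
noncomputable def secDer (b : B) : L :=
  kerLiftC A X (algebraMap B 𝒫 b - g (algebraMap B C b)) (pr_sub_section A X g hg b)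

theorem ι_secDer (b : B) :
    ι (secDer A X g hg b) = algebraMap B 𝒫 b - g (algebraMap B C b) :=
  ι_kerLiftC A X _ (pr_sub_section A X g hg b)

theorem charMap_tmul (c : C) (b : B) :
    charMap A X g hg (c ⊗ₜ[B] D A B b) = c • secDer A X g hg b := by
  apply ι_injective A X
  rw [ι_charMap, retr_baseChangeToMiddle_tmul]
  have h1 : ι (c • secDer A X g hg b) = g c * ι (secDer A X g hg b) := by
    rw [mul_ι, pr_section A X g hg]
  rw [h1, ι_secDer]

end WithSection

variable {A X} in
theorem deltaL_injective (hX : X.IsTrivialOver A) : Function.Injective (X.deltaL A) := by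
  obtain ⟨g, hg⟩ := exists_section hX
  exact deltaL_injective' A X g hg

variable {A X} in
theorem existsUnique_isCharHom (hX : X.IsTrivialOver A) :
    ∃! χ : EGA41.imperfection A B C →ₗ[C] L, X.IsCharHom A χ := by
  obtain ⟨g, hg⟩ := exists_section hX
  refine ⟨(charMap A X g hg).comp (EGA41.imperfection A B C).subtype, ?_, ?_⟩
  · show X.IsCharHom A ((charMap A X g hg).comp (EGA41.imperfection A B C).subtype)
    rw [isCharHom_iff A X g hg]
    intro z
    rfl
  · intro χ hχ
    rw [isCharHom_iff A X g hg] at hχ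
    exact LinearMap.ext fun z => hχ z

end CharHom

end H3Exal
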