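import Mathlib
import Groth.Prelude.Def_Exal2
import Groth.Prelude.Def_Exal3
import Groth.Agent.Lib.helper3.ExalChar

set_option autoImplicit false

universe u v w

namespace H3Exal

open Exal TensorProduct KaehlerDifferential

section KMap

variable (R : Type*) {S T U : Type*} [CommRing R] [CommRing S] [CommRing T] [CommRing U]
  [Algebra R S] [Algebra S T] [Algebra T U] [Algebra R T] [Algebra R U] [Algebra S U]
  [IsScalarTower R S T] [IsScalarTower R T U] [IsScalarTower R S U] [IsScalarTower S T U]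

theorem kmap_map (ω : Ω[S⁄R]) :
    KaehlerDifferential.map R R T U (KaehlerDifferential.map R R S T ω) =
      KaehlerDifferential.map R R S U ω := by
  have hω : ω ∈ Submodule.span S (Set.range (KaehlerDifferential.D R S)) := by
    rw [KaehlerDifferential.span_range_derivation]; trivial
  induction hω using Submodule.span_induction with
  | mem x hx =>
    obtain ⟨b, rfl⟩ := hx
    rw [KaehlerDifferential.map_D, KaehlerDifferential.map_D, KaehlerDifferential.map_D,
      ← IsScalarTower.algebraMap_apply]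
  | zero => rw [map_zero, map_zero, map_zero]
  | add x y _ _ hx hy => rw [map_add, map_add, map_add, hx, hy]
  | smul b x _ hx =>
    rw [map_smul (KaehlerDifferential.map R R S T),
      ← algebraMap_smul T b (KaehlerDifferential.map R R S T x), map_smul, hx,
      algebraMap_smul, map_smul]

end KMap

section Inf

variable (A : Type u) {B : Type v} [CommRing A] [CommRing B] [Algebra A B] (K : Ideal B)
  (g : (B ⧸ K) →ₐ[A] (Exal.Ext.infinitesimal K).CharCarrier A)
  (hg : (IsScalarTower.toAlgHom A ((Exal.Ext.infinitesimal K).CharCarrier A) (B ⧸ K)).comp g =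
    AlgHom.id A (B ⧸ K))

theorem inf_keyF (k : B) (hk : k ∈ K) :
    charMap A (Exal.Ext.infinitesimal K) g hg ((1 : B ⧸ K) ⊗ₜ[B] D A B k) =
      K.toCotangent ⟨k, hk⟩ := by
  rw [charMap_tmul, one_smul]
  apply ι_injective A (Exal.Ext.infinitesimal K)
  rw [ι_secDer]
  have h0 : algebraMap B (B ⧸ K) k = 0 := by
    rw [Ideal.Quotient.algebraMap_eq]; exact Ideal.Quotient.eq_zero_iff_mem.2 hk
  rw [h0, map_zero, sub_zero]
  rfl

theorem inf_mem (k : B) (hk : k ∈ K) :
    (1 : B ⧸ K) ⊗ₜ[B] D A B k ∈ EGA41.imperfection A B (B ⧸ K) := by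
  show mapBaseChange A B (B ⧸ K) _ = 0
  have h0 : algebraMap B (B ⧸ K) k = 0 := by
    rw [Ideal.Quotient.algebraMap_eq]; exact Ideal.Quotient.eq_zero_iff_mem.2 hk
  rw [KaehlerDifferential.mapBaseChange_tmul, KaehlerDifferential.map_D, h0, map_zero,
    smul_zero]

theorem inf_injective (z : (B ⧸ K) ⊗[B] Ω[B⁄A]) (hzmem : z ∈ EGA41.imperfection A B (B ⧸ K))
    (hz : charMap A (Exal.Ext.infinitesimal K) g hg z = 0) : z = 0 := by
  have hex := KaehlerDifferential.exact_kerCotangentToTensor_mapBaseChange A B (B ⧸ K)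
    Ideal.Quotient.mk_surjective
  obtain ⟨κ, hκ⟩ := (hex z).1 hzmem
  obtain ⟨⟨k, hk⟩, rfl⟩ := Ideal.toCotangent_surjective _ κ
  have hk' : k ∈ K := by
    have := (RingHom.mem_ker).1 hk
    rw [Ideal.Quotient.algebraMap_eq] at this
    exact Ideal.Quotient.eq_zero_iff_mem.1 this
  have hz1 : z = (1 : B ⧸ K) ⊗ₜ[B] D A B k := by
    rw [← hκ, KaehlerDifferential.kerCotangentToTensor_toCotangent]
  have h1 : K.toCotangent ⟨k, hk'⟩ = 0 := by
    rw [← inf_keyF A K g hg k hk', ← hz1, hz]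
  rw [Ideal.toCotangent_eq_zero] at h1
  have hkerK : RingHom.ker (algebraMap B (B ⧸ K)) = K := by
    rw [Ideal.Quotient.algebraMap_eq]; exact Ideal.mk_ker
  have h2 : (RingHom.ker (algebraMap B (B ⧸ K))).toCotangent ⟨k, hk⟩ = 0 := by
    rw [Ideal.toCotangent_eq_zero]
    show k ∈ _ ^ 2
    rw [hkerK]
    exact h1
  rw [← hκ, h2, map_zero]

end Inf

section TwoStep

variable (Λ : Type u) {A B : Type v} [CommRing Λ] [CommRing A] [CommRing B] [Algebra Λ A]
  [Algebra Λ B] [Algebra A B] [IsScalarTower Λ A B] (K : Ideal B)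

/-- the section of the `B`-extension with the same underlying function. -/
noncomputable def secB
    (gA : (B ⧸ K) →ₐ[Λ] ((Exal.Ext.infinitesimal K).restrictBase A).CharCarrier Λ) :
    (B ⧸ K) →ₐ[Λ] (Exal.Ext.infinitesimal K).CharCarrier Λ :=
  { toFun := fun c => gA c
    map_one' := map_one gA
    map_mul' := map_mul gA
    map_zero' := map_zero gA
    map_add' := map_add gA
    commutes' := fun l => by
      refine (gA.commutes l).trans ?_
      show algebraMap B (B ⧸ K ^ 2) (algebraMap A B (algebraMap Λ A l)) =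
        algebraMap B (B ⧸ K ^ 2) (algebraMap Λ B l)
      rw [← IsScalarTower.algebraMap_apply Λ A B] }

theorem secB_spec
    (gA : (B ⧸ K) →ₐ[Λ] ((Exal.Ext.infinitesimal K).restrictBase A).CharCarrier Λ)
    (hgA : (IsScalarTower.toAlgHom Λ (((Exal.Ext.infinitesimal K).restrictBase A).CharCarrier Λ)
      (B ⧸ K)).comp gA = AlgHom.id Λ (B ⧸ K)) :
    (IsScalarTower.toAlgHom Λ ((Exal.Ext.infinitesimal K).CharCarrier Λ) (B ⧸ K)).comp
      (secB Λ K gA) = AlgHom.id Λ (B ⧸ K) :=
  AlgHom.ext fun c => AlgHom.congr_fun hgA c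

/-- `C ⊗_A Ω_{A/Λ} → C ⊗_B Ω_{B/Λ}`. -/
noncomputable def theta : (B ⧸ K) ⊗[A] Ω[A⁄Λ] →ₗ[B ⧸ K] (B ⧸ K) ⊗[B] Ω[B⁄Λ] :=
  ((KaehlerDifferential.mapBaseChange Λ A B).baseChange (B ⧸ K)).comp
    (TensorProduct.AlgebraTensorModule.cancelBaseChange A B (B ⧸ K) (B ⧸ K)
      Ω[A⁄Λ]).symm.toLinearMap

theorem theta_apply (z : (B ⧸ K) ⊗[A] Ω[A⁄Λ]) :
    theta Λ K z = ((KaehlerDifferential.mapBaseChange Λ A B).baseChange (B ⧸ K))
      ((TensorProduct.AlgebraTensorModule.cancelBaseChange A B (B ⧸ K) (B ⧸ K) Ω[A⁄Λ]).symm z) :=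
  rfl

theorem theta_tmul (c : B ⧸ K) (ω : Ω[A⁄Λ]) :
    theta Λ K (c ⊗ₜ ω) = c ⊗ₜ[B] KaehlerDifferential.map Λ Λ A B ω := by
  rw [theta_apply, TensorProduct.AlgebraTensorModule.cancelBaseChange_symm_tmul,
    LinearMap.baseChange_tmul, KaehlerDifferential.mapBaseChange_tmul, one_smul]

theorem mapBaseChange_theta (z : (B ⧸ K) ⊗[A] Ω[A⁄Λ]) :
    mapBaseChange Λ B (B ⧸ K) (theta Λ K z) = mapBaseChange Λ A (B ⧸ K) z := by
  induction z using TensorProduct.induction_on with
  | zero => rw [map_zero, map_zero, map_zero]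
  | tmul c ω =>
    rw [theta_tmul, KaehlerDifferential.mapBaseChange_tmul,
      KaehlerDifferential.mapBaseChange_tmul, kmap_map]
  | add x y hx hy => rw [map_add, map_add, map_add, hx, hy]

theorem baseChange_map_theta (z : (B ⧸ K) ⊗[A] Ω[A⁄Λ]) :
    (KaehlerDifferential.map Λ A B B).baseChange (B ⧸ K) (theta Λ K z) = 0 := by
  rw [theta_apply, ← LinearMap.comp_apply, ← LinearMap.baseChange_comp,
    (KaehlerDifferential.exact_mapBaseChange_map Λ A B).linearMap_comp_eq_zero,
    LinearMap.baseChange_zero, LinearMap.zero_apply]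

variable (gA : (B ⧸ K) →ₐ[Λ] ((Exal.Ext.infinitesimal K).restrictBase A).CharCarrier Λ)
  (hgA : (IsScalarTower.toAlgHom Λ (((Exal.Ext.infinitesimal K).restrictBase A).CharCarrier Λ)
    (B ⧸ K)).comp gA = AlgHom.id Λ (B ⧸ K))

theorem charMap_restrict_eq :
    charMap Λ ((Exal.Ext.infinitesimal K).restrictBase A) gA hgA =
      (charMap Λ (Exal.Ext.infinitesimal K) (secB Λ K gA) (secB_spec Λ K gA hgA)).comp
        (theta Λ K) := by
  apply ext_tmul_D Λ
  intro a
  rw [LinearMap.comp_apply, theta_tmul, KaehlerDifferential.map_D, charMap_tmul, charMap_tmul]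
  congr 1

end TwoStep

end H3Exal
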