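import Mathlib

namespace H3FSL

universe u

variable {A B C : Type u} [CommRing A] [CommRing B] [CommRing C] [Algebra A B] [Algebra A C]

lemma glue (I₁ I₂ I₃ : Ideal C) (h₁ : I₁ ≤ I₃) (h₂ : I₂ ≤ I₃) (h₃ : I₃ ≤ I₁ ⊔ I₂)
    (f₁ : B →ₐ[A] C ⧸ I₁) (f₂ : B →ₐ[A] C ⧸ I₂)
    (hcomp : (Ideal.Quotient.factorₐ A h₁).comp f₁ = (Ideal.Quotient.factorₐ A h₂).comp f₂) :
    ∃ f : B →ₐ[A] C ⧸ (I₁ ⊓ I₂),
      (Ideal.Quotient.factorₐ A (inf_le_left : I₁ ⊓ I₂ ≤ I₁)).comp f = f₁ ∧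
      (Ideal.Quotient.factorₐ A (inf_le_right : I₁ ⊓ I₂ ≤ I₂)).comp f = f₂ ∧
      ∀ b, f₁ b = 0 → f₂ b = 0 → f b = 0 := by
  have hinj : ∀ x y : C ⧸ (I₁ ⊓ I₂),
      Ideal.Quotient.factorₐ A (inf_le_left : I₁ ⊓ I₂ ≤ I₁) x =
        Ideal.Quotient.factorₐ A (inf_le_left : I₁ ⊓ I₂ ≤ I₁) y →
      Ideal.Quotient.factorₐ A (inf_le_right : I₁ ⊓ I₂ ≤ I₂) x =
        Ideal.Quotient.factorₐ A (inf_le_right : I₁ ⊓ I₂ ≤ I₂) y → x = y := by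
    intro x y h1 h2
    obtain ⟨x, rfl⟩ := Ideal.Quotient.mk_surjective x
    obtain ⟨y, rfl⟩ := Ideal.Quotient.mk_surjective y
    simp only [Ideal.Quotient.factorₐ_apply_mk] at h1 h2
    rw [Ideal.Quotient.eq] at h1 h2 ⊢
    exact ⟨h1, h2⟩
  have hsurj : ∀ (z₁ : C ⧸ I₁) (z₂ : C ⧸ I₂),
      Ideal.Quotient.factorₐ A h₁ z₁ = Ideal.Quotient.factorₐ A h₂ z₂ →
      ∃ x : C ⧸ (I₁ ⊓ I₂), Ideal.Quotient.factorₐ A (inf_le_left : I₁ ⊓ I₂ ≤ I₁) x = z₁ ∧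
        Ideal.Quotient.factorₐ A (inf_le_right : I₁ ⊓ I₂ ≤ I₂) x = z₂ := by
    intro z₁ z₂ hz
    obtain ⟨c₁, rfl⟩ := Ideal.Quotient.mk_surjective z₁
    obtain ⟨c₂, rfl⟩ := Ideal.Quotient.mk_surjective z₂
    simp only [Ideal.Quotient.factorₐ_apply_mk] at hz
    rw [Ideal.Quotient.eq] at hz
    obtain ⟨a, ha, b, hb, hab⟩ := Submodule.mem_sup.mp (h₃ hz)
    refine ⟨Ideal.Quotient.mk _ (c₁ - a), ?_, ?_⟩
    · simp only [Ideal.Quotient.factorₐ_apply_mk]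
      rw [Ideal.Quotient.eq]
      have : c₁ - a - c₁ = -a := by ring
      rw [this]; exact I₁.neg_mem ha
    · simp only [Ideal.Quotient.factorₐ_apply_mk]
      rw [Ideal.Quotient.eq]
      have : c₁ - a - c₂ = b := by linear_combination (-1 : C) * hab
      rw [this]; exact hb
  have key : ∀ b : B, ∃ x : C ⧸ (I₁ ⊓ I₂),
      Ideal.Quotient.factorₐ A (inf_le_left : I₁ ⊓ I₂ ≤ I₁) x = f₁ b ∧
        Ideal.Quotient.factorₐ A (inf_le_right : I₁ ⊓ I₂ ≤ I₂) x = f₂ b :=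
    fun b => hsurj _ _ (AlgHom.congr_fun hcomp b)
  choose f hf1 hf2 using key
  refine ⟨{ toFun := f
            map_one' := hinj _ _ (by rw [hf1, map_one, map_one]) (by rw [hf2, map_one, map_one])
            map_mul' := fun x y => hinj _ _ (by rw [hf1, map_mul, map_mul, hf1, hf1])
              (by rw [hf2, map_mul, map_mul, hf2, hf2])
            map_zero' := hinj _ _ (by rw [hf1, map_zero, map_zero])
              (by rw [hf2, map_zero, map_zero])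
            map_add' := fun x y => hinj _ _ (by rw [hf1, map_add, map_add, hf1, hf1])
              (by rw [hf2, map_add, map_add, hf2, hf2])
            commutes' := fun a => hinj _ _ (by rw [hf1, AlgHom.commutes, AlgHom.commutes])
              (by rw [hf2, AlgHom.commutes, AlgHom.commutes]) }, ?_, ?_, ?_⟩
  · ext b; exact hf1 b
  · ext b; exact hf2 b
  · intro b h1 h2
    exact hinj _ 0 ((hf1 b).trans (h1.trans (map_zero _).symm))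
      ((hf2 b).trans (h2.trans (map_zero _).symm))

lemma lift (𝔞 : Ideal A) (𝔟 : Ideal B)
    (hB : ∀ (C' : Type u) [CommRing C'] [Algebra A C'] (J' : Ideal C'), IsNilpotent J' →
      (∃ k : ℕ, (𝔞 ^ k).map (algebraMap A C') = ⊥) →
      ∀ u : B →ₐ[A] C' ⧸ J', (∃ k : ℕ, ∀ x ∈ 𝔟 ^ k, u x = 0) →
        ∃ v : B →ₐ[A] C', (Ideal.Quotient.mkₐ A J').comp v = u)
    (K I' : Ideal C) (hKI : K ≤ I') (s : ℕ) (hs : I' ^ s ≤ K)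
    (hK : ∃ k : ℕ, (𝔞 ^ k).map (algebraMap A C) ≤ K)
    (w : B →ₐ[A] C ⧸ I') (hw : ∃ k : ℕ, ∀ x ∈ 𝔟 ^ k, w x = 0) :
    ∃ v : B →ₐ[A] C ⧸ K, (Ideal.Quotient.factorₐ A hKI).comp v = w ∧
      ∃ k : ℕ, ∀ x ∈ 𝔟 ^ k, v x = 0 := by
  have hbot : ∀ L : Ideal C, L ≤ K → L.map (Ideal.Quotient.mkₐ A K) = ⊥ := by
    intro L hL
    rw [eq_bot_iff, Ideal.map_le_iff_le_comap]
    intro x hx
    rw [Ideal.mem_comap, Ideal.mem_bot]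
    exact Ideal.Quotient.eq_zero_iff_mem.mpr (hL hx)
  have hnil : IsNilpotent (I'.map (Ideal.Quotient.mkₐ A K)) :=
    ⟨s, by rw [← Ideal.map_pow, Ideal.zero_eq_bot]; exact hbot _ hs⟩
  have hdisc : ∃ k : ℕ, (𝔞 ^ k).map (algebraMap A (C ⧸ K)) = ⊥ := by
    obtain ⟨k, hk⟩ := hK
    refine ⟨k, ?_⟩
    rw [eq_bot_iff, Ideal.map_le_iff_le_comap]
    intro a ha
    rw [Ideal.mem_comap, Ideal.mem_bot]
    have : algebraMap A C a ∈ K := hk (Ideal.mem_map_of_mem _ ha)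
    rw [IsScalarTower.algebraMap_apply A C (C ⧸ K)]
    exact Ideal.Quotient.eq_zero_iff_mem.mpr this
  obtain ⟨v, hv⟩ := hB (C ⧸ K) (I'.map (Ideal.Quotient.mkₐ A K)) hnil hdisc
    ((DoubleQuot.quotQuotEquivQuotOfLEₐ A hKI).symm.toAlgHom.comp w)
    (by
      obtain ⟨k, hk⟩ := hw
      exact ⟨k, fun x hx => by rw [AlgHom.comp_apply, hk x hx, map_zero]⟩)
  refine ⟨v, ?_, ?_⟩
  · ext b
    have h1 := AlgHom.congr_fun hv b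
    have h2 : (DoubleQuot.quotQuotEquivQuotOfLEₐ A hKI)
        (Ideal.Quotient.mkₐ A (I'.map (Ideal.Quotient.mkₐ A K)) (v b)) = w b := by
      rw [AlgHom.comp_apply] at h1
      rw [h1]
      simp
    rw [← h2, AlgHom.comp_apply]
    obtain ⟨c, hc⟩ := Ideal.Quotient.mk_surjective (v b)
    rw [← hc]
    rfl
  · obtain ⟨k, hk⟩ := hw
    refine ⟨k * s, ?_⟩
    have h1 : (𝔟 ^ k).map v ≤ I'.map (Ideal.Quotient.mkₐ A K) := by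
      rw [Ideal.map_le_iff_le_comap]
      intro x hx
      rw [Ideal.mem_comap]
      have := AlgHom.congr_fun hv x
      rw [AlgHom.comp_apply, AlgHom.comp_apply, hk x hx, map_zero] at this
      exact Ideal.Quotient.eq_zero_iff_mem.mp this
    intro x hx
    have h2 : v x ∈ ((𝔟 ^ k).map v) ^ s := by
      rw [← Ideal.map_pow, ← pow_mul]; exact Ideal.mem_map_of_mem _ hx
    have h3 := Ideal.pow_right_mono h1 s h2
    rw [← Ideal.map_pow, hbot _ hs] at h3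
    exact h3


lemma sup_pow_le (J K : Ideal C) (t : ℕ) : (J ⊔ K) ^ t ≤ J ^ t ⊔ K := by
  induction t with
  | zero => simp
  | succ t ih =>
    calc (J ⊔ K) ^ (t + 1) = (J ⊔ K) ^ t * (J ⊔ K) := pow_succ _ _
      _ ≤ (J ^ t ⊔ K) * (J ⊔ K) := Ideal.mul_mono_left ih
      _ = J ^ t * J ⊔ J ^ t * K ⊔ (K * J ⊔ K * K) := by rw [Ideal.sup_mul, Ideal.mul_sup, Ideal.mul_sup]
      _ ≤ J ^ (t + 1) ⊔ K := by
        rw [← pow_succ]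
        refine sup_le (sup_le le_sup_left (le_sup_of_le_right Ideal.mul_le_right)) ?_
        exact sup_le (le_sup_of_le_right Ideal.mul_le_left) (le_sup_of_le_right Ideal.mul_le_left)

structure Good (𝔟 : Ideal B) (𝔠 J : Ideal C) (u : B →ₐ[A] C ⧸ J) (n : ℕ) where
  v : B →ₐ[A] C ⧸ 𝔠 ^ (n + 1)
  compat : (Ideal.Quotient.factorₐ A (le_sup_right : 𝔠 ^ (n + 1) ≤ J ⊔ 𝔠 ^ (n + 1))).comp v =
    (Ideal.Quotient.factorₐ A (le_sup_left : J ≤ J ⊔ 𝔠 ^ (n + 1))).comp u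
  cont : ∃ k : ℕ, ∀ x ∈ 𝔟 ^ k, v x = 0

section main

variable (𝔞 : Ideal A) (𝔟 : Ideal B) (𝔠 : Ideal C)
    (hB : ∀ (C' : Type u) [CommRing C'] [Algebra A C'] (J' : Ideal C'), IsNilpotent J' →
      (∃ k : ℕ, (𝔞 ^ k).map (algebraMap A C') = ⊥) →
      ∀ u : B →ₐ[A] C' ⧸ J', (∃ k : ℕ, ∀ x ∈ 𝔟 ^ k, u x = 0) →
        ∃ v : B →ₐ[A] C', (Ideal.Quotient.mkₐ A J').comp v = u)
    (hAC : ∃ k : ℕ, (𝔞 ^ k).map (algebraMap A C) ≤ 𝔠)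
    (J : Ideal C) (hJ : ∃ t : ℕ, J ^ t ≤ 𝔠)
    (u : B →ₐ[A] C ⧸ J) (hu : ∃ k : ℕ, (𝔟 ^ k).map u.toRingHom ≤ 𝔠.map (Ideal.Quotient.mk J))

include hAC in
lemma hACn (n : ℕ) : ∃ k : ℕ, (𝔞 ^ k).map (algebraMap A C) ≤ 𝔠 ^ n := by
  obtain ⟨k, hk⟩ := hAC
  refine ⟨k * n, ?_⟩
  rw [pow_mul, Ideal.map_pow]
  exact Ideal.pow_right_mono hk n

include hu in
lemma hun (n : ℕ) : ∃ k : ℕ, ∀ x ∈ 𝔟 ^ k,
    Ideal.Quotient.factorₐ A (le_sup_left : J ≤ J ⊔ 𝔠 ^ n) (u x) = 0 := by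
  obtain ⟨k, hk⟩ := hu
  refine ⟨k * n, fun x hx => ?_⟩
  have h1 : u x ∈ (𝔠 ^ n).map (Ideal.Quotient.mk J) := by
    rw [Ideal.map_pow]
    have h2 : u.toRingHom x ∈ ((𝔟 ^ k).map u.toRingHom) ^ n := by
      rw [← Ideal.map_pow, ← pow_mul]; exact Ideal.mem_map_of_mem _ hx
    exact Ideal.pow_right_mono hk n h2
  obtain ⟨c, hc, hcx⟩ := (Ideal.mem_map_iff_of_surjective _ Ideal.Quotient.mk_surjective).mp h1
  rw [← hcx, Ideal.Quotient.factorₐ_apply_mk]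
  exact Ideal.Quotient.eq_zero_iff_mem.mpr (le_sup_right (a := J) hc)

include hB hAC hJ hu in
lemma base : Nonempty (Good 𝔟 𝔠 J u 0) := by
  obtain ⟨t, ht⟩ := hJ
  have hs : (J ⊔ 𝔠 ^ (0 + 1)) ^ t ≤ 𝔠 ^ (0 + 1) := by
    refine (sup_pow_le J _ t).trans (sup_le ?_ le_rfl)
    simpa using ht
  obtain ⟨v, hv, hc⟩ := lift 𝔞 𝔟 hB (𝔠 ^ (0 + 1)) (J ⊔ 𝔠 ^ (0 + 1)) le_sup_right t hs
    (hACn 𝔞 𝔠 hAC (0 + 1))
    ((Ideal.Quotient.factorₐ A (le_sup_left : J ≤ J ⊔ 𝔠 ^ (0 + 1))).comp u)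
    (hun 𝔟 𝔠 J u hu (0 + 1))
  exact ⟨⟨v, hv, hc⟩⟩

include hB hAC hu in
lemma step (n : ℕ) (g : Good 𝔟 𝔠 J u n) : ∃ g' : Good 𝔟 𝔠 J u (n + 1),
    (Ideal.Quotient.factorₐ A (Ideal.pow_le_pow_right (Nat.le_succ (n + 1)) :
      𝔠 ^ (n + 1 + 1) ≤ 𝔠 ^ (n + 1))).comp g'.v = g.v := by
  have hpow : 𝔠 ^ (n + 1 + 1) ≤ 𝔠 ^ (n + 1) := Ideal.pow_le_pow_right (Nat.le_succ (n + 1))
  have h₁ : 𝔠 ^ (n + 1) ≤ J ⊔ 𝔠 ^ (n + 1) := le_sup_right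
  have h₂ : J ⊔ 𝔠 ^ (n + 1 + 1) ≤ J ⊔ 𝔠 ^ (n + 1) := sup_le le_sup_left (le_sup_of_le_right hpow)
  have h₃ : J ⊔ 𝔠 ^ (n + 1) ≤ 𝔠 ^ (n + 1) ⊔ (J ⊔ 𝔠 ^ (n + 1 + 1)) :=
    sup_le (le_sup_of_le_right le_sup_left) le_sup_left
  have hcomp : (Ideal.Quotient.factorₐ A h₁).comp g.v = (Ideal.Quotient.factorₐ A h₂).comp
      ((Ideal.Quotient.factorₐ A (le_sup_left : J ≤ J ⊔ 𝔠 ^ (n + 1 + 1))).comp u) := by
    rw [← AlgHom.comp_assoc, Ideal.Quotient.factorₐ_comp]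
    exact g.compat
  obtain ⟨f, hf1, hf2, hf0⟩ := glue _ _ _ h₁ h₂ h₃ g.v _ hcomp
  obtain ⟨k₁, hk₁⟩ := g.cont
  obtain ⟨k₂, hk₂⟩ := hun 𝔟 𝔠 J u hu (n + 1 + 1)
  have hfc : ∃ k : ℕ, ∀ x ∈ 𝔟 ^ k, f x = 0 := by
    refine ⟨k₁ + k₂, fun x hx => hf0 x ?_ ?_⟩
    · exact hk₁ x (Ideal.pow_le_pow_right (Nat.le_add_right _ _) hx)
    · exact hk₂ x (Ideal.pow_le_pow_right (Nat.le_add_left _ _) hx)
  have hKI : 𝔠 ^ (n + 1 + 1) ≤ 𝔠 ^ (n + 1) ⊓ (J ⊔ 𝔠 ^ (n + 1 + 1)) := le_inf hpow le_sup_right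
  have hs : (𝔠 ^ (n + 1) ⊓ (J ⊔ 𝔠 ^ (n + 1 + 1))) ^ 2 ≤ 𝔠 ^ (n + 1 + 1) := by
    calc (𝔠 ^ (n + 1) ⊓ (J ⊔ 𝔠 ^ (n + 1 + 1))) ^ 2 ≤ (𝔠 ^ (n + 1)) ^ 2 :=
          Ideal.pow_right_mono inf_le_left 2
      _ = 𝔠 ^ ((n + 1) * 2) := (pow_mul _ _ _).symm
      _ ≤ 𝔠 ^ (n + 1 + 1) := Ideal.pow_le_pow_right (by omega)
  obtain ⟨v', hv', hc'⟩ := lift 𝔞 𝔟 hB _ _ hKI 2 hs (hACn 𝔞 𝔠 hAC (n + 1 + 1)) f hfc
  refine ⟨⟨v', ?_, hc'⟩, ?_⟩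
  · have : (Ideal.Quotient.factorₐ A (le_sup_right : 𝔠 ^ (n + 1 + 1) ≤ J ⊔ 𝔠 ^ (n + 1 + 1))) =
        (Ideal.Quotient.factorₐ A (inf_le_right :
          𝔠 ^ (n + 1) ⊓ (J ⊔ 𝔠 ^ (n + 1 + 1)) ≤ J ⊔ 𝔠 ^ (n + 1 + 1))).comp
          (Ideal.Quotient.factorₐ A hKI) := by
      rw [Ideal.Quotient.factorₐ_comp]
    rw [this, AlgHom.comp_assoc, hv', hf2]
  · have : (Ideal.Quotient.factorₐ A hpow) =
        (Ideal.Quotient.factorₐ A (inf_le_left :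
          𝔠 ^ (n + 1) ⊓ (J ⊔ 𝔠 ^ (n + 1 + 1)) ≤ 𝔠 ^ (n + 1))).comp
          (Ideal.Quotient.factorₐ A hKI) := by
      rw [Ideal.Quotient.factorₐ_comp]
    show (Ideal.Quotient.factorₐ A hpow).comp v' = g.v
    rw [this, AlgHom.comp_assoc, hv', hf1]


include hB hAC hJ hu in
theorem main [IsAdicComplete 𝔠 C] [IsHausdorff (𝔠.map (Ideal.Quotient.mk J)) (C ⧸ J)] :
    ∃ v : B →ₐ[A] C, (∃ k : ℕ, (𝔟 ^ k).map v.toRingHom ≤ 𝔠) ∧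
      (Ideal.Quotient.mkₐ A J).comp v = u := by
  obtain ⟨g₀⟩ := base 𝔞 𝔟 𝔠 hB hAC J hJ u hu
  choose nxt hnxt using step 𝔞 𝔟 𝔠 hB hAC J u hu
  obtain ⟨seq, hseq⟩ : ∃ seq : ∀ n, Good 𝔟 𝔠 J u n, ∀ n,
      (Ideal.Quotient.factorₐ A (Ideal.pow_le_pow_right (Nat.le_succ (n + 1)) :
        𝔠 ^ (n + 1 + 1) ≤ 𝔠 ^ (n + 1))).comp (seq (n + 1)).v = (seq n).v :=
    ⟨fun n => Nat.rec g₀ (fun n g => nxt n g) n, fun n => hnxt n _⟩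
  have ha : StrictMono (fun n : ℕ => n + 1) := fun a b h => Nat.succ_lt_succ h
  obtain ⟨V, hV⟩ : ∃ V : B →+* C, ∀ n x, Ideal.Quotient.mk (𝔠 ^ (n + 1)) (V x) = (seq n).v x := by
    refine ⟨IsAdicComplete.StrictMono.liftRingHom 𝔠 ha (fun n => (seq n).v.toRingHom) ?_, ?_⟩
    · intro m
      ext x
      exact AlgHom.congr_fun (hseq m) x
    · intro n x
      exact IsAdicComplete.StrictMono.mk_liftRingHom 𝔠 ha _ _ x
  have heq : ∀ x y : C, (∀ n, Ideal.Quotient.mk (𝔠 ^ (n + 1)) x =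
      Ideal.Quotient.mk (𝔠 ^ (n + 1)) y) → x = y := by
    intro x y h
    rw [← sub_eq_zero]
    apply IsHausdorff.haus' (I := 𝔠) (M := C)
    intro n
    rw [SModEq.zero, smul_eq_mul, Ideal.mul_top]
    have := h n
    rw [Ideal.Quotient.eq] at this
    exact Ideal.pow_le_pow_right (Nat.le_succ n) this
  obtain ⟨v, hv⟩ : ∃ v : B →ₐ[A] C, ∀ x, v x = V x :=
    ⟨{ V with commutes' := fun a => heq _ _ (fun n => by
        have := hV n (algebraMap A B a)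
        rw [AlgHom.commutes] at this
        exact this) }, fun x => rfl⟩
  refine ⟨v, ?_, ?_⟩
  · obtain ⟨k, hk⟩ := (seq 0).cont
    refine ⟨k, ?_⟩
    rw [Ideal.map_le_iff_le_comap]
    intro x hx
    rw [Ideal.mem_comap]
    have h1 := hV 0 x
    rw [hk x hx] at h1
    have h2 := Ideal.Quotient.eq_zero_iff_mem.mp h1
    rw [zero_add, pow_one] at h2
    show v x ∈ 𝔠
    rw [hv]; exact h2
  · ext b
    rw [AlgHom.comp_apply, ← sub_eq_zero]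
    have hmem : ∀ n, (Ideal.Quotient.mkₐ A J (v b) - u b) ∈
        (𝔠 ^ (n + 1)).map (Ideal.Quotient.mk J) := by
      intro n
      obtain ⟨c₀, hc₀⟩ := Ideal.Quotient.mk_surjective (u b)
      have h1 := AlgHom.congr_fun (seq n).compat b
      rw [AlgHom.comp_apply, AlgHom.comp_apply, ← hV n b, ← hc₀,
        Ideal.Quotient.factorₐ_apply_mk, Ideal.Quotient.factorₐ_apply_mk,
        Ideal.Quotient.eq] at h1
      obtain ⟨j, hj, c, hc, hjc⟩ := Submodule.mem_sup.mp h1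
      have h2 : Ideal.Quotient.mkₐ A J (v b) - u b = Ideal.Quotient.mk J c := by
        rw [← hc₀, hv, Ideal.Quotient.mkₐ_eq_mk, ← map_sub, ← hjc, map_add,
          Ideal.Quotient.eq_zero_iff_mem.mpr hj, zero_add]
      rw [h2]
      exact Ideal.mem_map_of_mem _ hc
    apply IsHausdorff.haus' (I := 𝔠.map (Ideal.Quotient.mk J)) (M := C ⧸ J)
    intro n
    rw [SModEq.zero, smul_eq_mul, Ideal.mul_top, ← Ideal.map_pow]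
    exact Ideal.map_mono (Ideal.pow_le_pow_right (Nat.le_succ n)) (hmem n)

end main

end H3FSL
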