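import Groth.Prelude.Def_FibCat2

set_option autoImplicit false
universe v₂ u₂ v u
open CategoryTheory CategoryTheory.Functor

namespace Groth.Agent.Helper3

variable {C : Type u} [Category.{v} C] {𝒳 : Type u₂} [Category.{v₂} 𝒳] (p : 𝒳 ⥤ C)

theorem isStronglyCartesian_of_isHomLift {R S : C} (f : R ⟶ S) {a b : 𝒳} (φ : a ⟶ b)
    [h : p.IsHomLift f φ] (hc : p.IsStronglyCartesian (p.map φ) φ) : p.IsStronglyCartesian f φ := by
  obtain ⟨⟩ := h
  exact hc

theorem isStronglyCartesian_map_of_isStronglyCartesian {R S : C} (f : R ⟶ S) {a b : 𝒳} (φ : a ⟶ b)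
    [h : p.IsStronglyCartesian f φ] : p.IsStronglyCartesian (p.map φ) φ := by
  obtain ⟨⟩ := (inferInstance : p.IsHomLift f φ)
  exact h

theorem isStronglyCartesian_of_eq {R S : C} {f g : R ⟶ S} (h : f = g) {a b : 𝒳} (φ : a ⟶ b)
    [hc : p.IsStronglyCartesian f φ] : p.IsStronglyCartesian g φ := by
  subst h; exact hc

namespace IsFibGrpd

variable [hp : FibCat.IsFibGrpd p]

include hp in
theorem isStronglyCartesian {R S : C} (f : R ⟶ S) {a b : 𝒳} (φ : a ⟶ b) [p.IsHomLift f φ] :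
    p.IsStronglyCartesian f φ :=
  isStronglyCartesian_of_isHomLift p f φ (hp.isStronglyCartesian φ)

include hp in
theorem isFibered : p.IsFibered := by
  apply Functor.IsFibered.of_exists_isStronglyCartesian
  intro a R f
  obtain ⟨b, φ, hφ⟩ := hp.exists_lift f
  exact ⟨b, φ, isStronglyCartesian p f φ⟩

include hp in
theorem isIso_of_isHomLift_isIso {R S : C} (f : R ⟶ S) [IsIso f] {a b : 𝒳} (φ : a ⟶ b) [p.IsHomLift f φ] :
    IsIso φ := by
  have := isStronglyCartesian p f φ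
  exact Functor.IsStronglyCartesian.isIso_of_base_isIso p f φ

include hp in
theorem isGroupoid_fiber (U : C) : IsGroupoid (p.Fiber U) := by
  refine ⟨fun {X Y} φ => ?_⟩
  have h1 : p.IsHomLift (𝟙 U) (Fiber.fiberInclusion.map φ) := inferInstance
  have h2 : IsIso (Fiber.fiberInclusion.map φ) := isIso_of_isHomLift_isIso p (𝟙 U) _
  let e := asIso (Fiber.fiberInclusion.map φ)
  have h3 : p.IsHomLift (𝟙 U) e.inv :=
    IsHomLift.lift_id_inv_isIso p U (Fiber.fiberInclusion.map φ)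
  refine ⟨⟨⟨e.inv, h3⟩, ?_, ?_⟩⟩
  · apply Fiber.hom_ext
    exact e.hom_inv_id
  · apply Fiber.hom_ext
    exact e.inv_hom_id

end IsFibGrpd

theorem isFibGrpd_of_isFibered_of_isGroupoid [p.IsFibered] (h : ∀ U : C, IsGroupoid (p.Fiber U)) :
    FibCat.IsFibGrpd p := by
  refine ⟨?_, ?_⟩
  · intro x V f
    obtain ⟨y, φ, hφ⟩ := Functor.IsPreFibered.exists_isCartesian' (p := p) (a := x) f
    exact ⟨y, φ, inferInstance⟩
  · intro y x φ
    obtain ⟨y', ψ, hψ⟩ := Functor.IsPreFibered.exists_isCartesian' (p := p) (a := x) (p.map φ)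
    have hψ' : p.IsStronglyCartesian (p.map φ) ψ := inferInstance
    let χ : y ⟶ y' := Functor.IsCartesian.map p (p.map φ) ψ φ
    have hχ : χ ≫ ψ = φ := Functor.IsCartesian.fac p (p.map φ) ψ φ
    have hχl : p.IsHomLift (𝟙 (p.obj y)) χ := inferInstance
    have := h (p.obj y)
    let χ' : Fiber.mk (p := p) (S := p.obj y) (a := y) rfl ⟶
        Fiber.mk (IsHomLift.codomain_eq p (𝟙 (p.obj y)) χ) := ⟨χ, hχl⟩
    have hiso : IsIso χ' := IsGroupoid.all_isIso χ'
    have hiso2 : IsIso χ := by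
      have := Functor.map_isIso Fiber.fiberInclusion χ'
      exact this
    have h3 : p.IsStronglyCartesian (𝟙 (p.obj y)) χ := inferInstance
    have h4 : p.IsStronglyCartesian (𝟙 (p.obj y) ≫ p.map φ) (χ ≫ ψ) := inferInstance
    rw [hχ] at h4
    exact isStronglyCartesian_of_eq p (Category.id_comp _) φ

end Groth.Agent.Helper3
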