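import Groth.Agent.Lib.helper3.FibComp
import Groth.Agent.Lib.helper3.FibGrpd
import Groth.Prelude.Def_W4stkcategoriessitesFib

set_option autoImplicit false
universe v₂ u₂ v u
open CategoryTheory CategoryTheory.Functor

namespace Groth.Agent.Helper3

variable {C : Type u} [Category.{v} C] {𝒮 : Type u₂} [Category.{v₂} 𝒮] (p : 𝒮 ⥤ C)

theorem cartSub_isHomLift {R S : C} (f : R ⟶ S) {a b : FibCat.cartSub p} (m : a ⟶ b)
    [h : p.IsHomLift f m.hom] : (FibCat.cartSubProj p).IsHomLift f m := by
  have : (wideSubcategoryInclusion (FibCat.cartMor p)).IsHomLift m.hom m :=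
    (inferInstance : (wideSubcategoryInclusion (FibCat.cartMor p)).IsHomLift
      ((wideSubcategoryInclusion (FibCat.cartMor p)).map m) m)
  exact isHomLift_comp_functor (wideSubcategoryInclusion (FibCat.cartMor p)) p m m.hom f

theorem cartSub_isHomLift_hom {R S : C} (f : R ⟶ S) {a b : FibCat.cartSub p} (m : a ⟶ b)
    [h : (FibCat.cartSubProj p).IsHomLift f m] : p.IsHomLift f m.hom := by
  obtain ⟨⟩ := h
  exact (inferInstance : p.IsHomLift (p.map m.hom) m.hom)

theorem cartSub_isFibGrpd [p.IsFibered] : FibCat.IsFibGrpd (FibCat.cartSubProj p) := by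
  refine ⟨?_, ?_⟩
  · intro x V f
    obtain ⟨y, φ, hφ⟩ := Functor.IsPreFibered.exists_isCartesian' (p := p) (a := x.obj) f
    have h1 : p.IsStronglyCartesian (R := V) (S := p.obj x.obj) f φ := inferInstance
    have h2 : p.IsStronglyCartesian (p.map φ) φ := isStronglyCartesian_map_of_isStronglyCartesian p f φ (h := h1)
    refine ⟨⟨y⟩, ⟨φ, h2⟩, ?_⟩
    exact cartSub_isHomLift p f (a := ⟨y⟩) (b := x) ⟨φ, h2⟩ (h := h1.toIsHomLift)
  · intro y x m
    have hm : p.IsStronglyCartesian (p.map m.hom) m.hom := m.property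
    refine { toIsHomLift := inferInstance, universal_property' := ?_ }
    intro z g m' hm'
    have h1 : p.IsHomLift (g ≫ p.map m.hom) m'.hom := cartSub_isHomLift_hom p _ m' (h := hm')
    obtain ⟨χ, ⟨hχa, hχb⟩, hχu⟩ :=
      Functor.IsStronglyCartesian.universal_property (p := p) (f := p.map m.hom) (φ := m.hom)
        (a' := z.obj) g (g ≫ p.map m.hom) rfl m'.hom
    have hm'' : p.IsStronglyCartesian (p.map m'.hom) m'.hom := m'.property
    have h3 : p.IsStronglyCartesian (g ≫ p.map m.hom) (χ ≫ m.hom) := by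
      rw [hχb]
      exact isStronglyCartesian_of_isHomLift p _ m'.hom hm''
    have h4 : p.IsStronglyCartesian g χ := @Functor.IsStronglyCartesian.of_comp _ _ _ _ p _ _ _ _ _ _ g (p.map m.hom) χ m.hom hm h3 hχa
    have h5 : p.IsStronglyCartesian (p.map χ) χ := isStronglyCartesian_map_of_isStronglyCartesian p g χ
    refine ⟨⟨χ, h5⟩, ⟨?_, ?_⟩, ?_⟩
    · exact cartSub_isHomLift p g (a := z) (b := y) ⟨χ, h5⟩
    · apply WideSubcategory.hom_ext
      exact hχb
    · rintro χ' ⟨hχ'a, hχ'b⟩
      apply WideSubcategory.hom_ext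
      apply hχu
      refine ⟨cartSub_isHomLift_hom p g χ', ?_⟩
      have := congrArg (fun k => k.hom) hχ'b
      exact this

end Groth.Agent.Helper3
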