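import Groth.Prelude.Def_W4stkcategoriessitesFib

set_option autoImplicit false
universe v₉ u₉ v₈ u₈ v₇ u₇ v₆ u₆ v₅ u₅ v₄ u₄
open CategoryTheory CategoryTheory.Functor CategoryTheory.Limits

namespace Groth.Agent.Helper3

variable {X : Type u₄} {Y : Type u₅} {Z : Type u₆} {A : Type u₇} {B : Type u₈} {C' : Type u₉}
  [Category.{v₄} X] [Category.{v₅} Y] [Category.{v₆} Z] [Category.{v₇} A] [Category.{v₈} B] [Category.{v₉} C']
  {H : X ⥤ Z} {I : Y ⥤ Z} {F : A ⥤ C'} {G : B ⥤ C'} (ψ : CatCospanTransform H I F G)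

@[simp] theorem cpm_obj_fst (x : CategoricalPullback H I) :
    ((FibCat.categoricalPullbackMap ψ).obj x).fst = ψ.left.obj x.fst := rfl

@[simp] theorem cpm_obj_snd (x : CategoricalPullback H I) :
    ((FibCat.categoricalPullbackMap ψ).obj x).snd = ψ.right.obj x.snd := rfl

theorem cpm_obj_iso_hom (x : CategoricalPullback H I) :
    ((FibCat.categoricalPullbackMap ψ).obj x).iso.hom =
      ψ.squareLeft.iso.inv.app x.fst ≫ ψ.base.map x.iso.hom ≫ ψ.squareRight.iso.hom.app x.snd := by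
  simp [FibCat.categoricalPullbackMap]
  rfl

@[simp] theorem cpm_map_fst {x y : CategoricalPullback H I} (f : x ⟶ y) :
    ((FibCat.categoricalPullbackMap ψ).map f).fst = ψ.left.map f.fst := rfl

@[simp] theorem cpm_map_snd {x y : CategoricalPullback H I} (f : x ⟶ y) :
    ((FibCat.categoricalPullbackMap ψ).map f).snd = ψ.right.map f.snd := rfl

theorem cpm_faithful [ψ.left.Faithful] [ψ.right.Faithful] : (FibCat.categoricalPullbackMap ψ).Faithful := by
  refine ⟨fun {x y} f g h => ?_⟩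
  have h1 := congrArg (fun k => k.fst) h
  have h2 := congrArg (fun k => k.snd) h
  simp only [cpm_map_fst, cpm_map_snd] at h1 h2
  apply CategoricalPullback.hom_ext
  · exact ψ.left.map_injective h1
  · exact ψ.right.map_injective h2

theorem cpm_full [ψ.left.Full] [ψ.right.Full] [ψ.base.Faithful] : (FibCat.categoricalPullbackMap ψ).Full := by
  refine ⟨fun {x y} m => ?_⟩
  have hw := m.w
  rw [cpm_obj_iso_hom, cpm_obj_iso_hom] at hw
  let a₀ : x.fst ⟶ y.fst := ψ.left.preimage (X := x.fst) (Y := y.fst) m.fst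
  let b₀ : x.snd ⟶ y.snd := ψ.right.preimage (X := x.snd) (Y := y.snd) m.snd
  have ha₀ : ψ.left.map a₀ = m.fst := ψ.left.map_preimage (X := x.fst) (Y := y.fst) m.fst
  have hb₀ : ψ.right.map b₀ = m.snd := ψ.right.map_preimage (X := x.snd) (Y := y.snd) m.snd
  have nL := ψ.squareLeft.iso.inv.naturality a₀
  have nR := ψ.squareRight.iso.hom.naturality b₀
  simp only [Functor.comp_map] at nL nR
  have key : H.map a₀ ≫ y.iso.hom = x.iso.hom ≫ I.map b₀ := by
    apply ψ.base.map_injective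
    rw [Functor.map_comp, Functor.map_comp]
    have e1 : ψ.squareLeft.iso.inv.app x.fst ≫ ψ.base.map (H.map a₀) ≫ ψ.base.map y.iso.hom ≫
        ψ.squareRight.iso.hom.app y.snd =
        ψ.squareLeft.iso.inv.app x.fst ≫ ψ.base.map x.iso.hom ≫ ψ.base.map (I.map b₀) ≫
        ψ.squareRight.iso.hom.app y.snd := by
      rw [nR, ← reassoc_of% nL, ha₀, hb₀]
      simpa using hw
    have e2 := congrArg (fun k => ψ.squareLeft.iso.hom.app x.fst ≫ k ≫ ψ.squareRight.iso.inv.app y.snd) e1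
    simpa using e2
  exact ⟨⟨a₀, b₀, key⟩, CategoricalPullback.hom_ext ha₀ hb₀⟩

end Groth.Agent.Helper3

namespace Groth.Agent.Helper3

variable {X : Type u₄} {Y : Type u₅} {Z : Type u₆} {A : Type u₇} {B : Type u₈} {C' : Type u₉}
  [Category.{v₄} X] [Category.{v₅} Y] [Category.{v₆} Z] [Category.{v₇} A] [Category.{v₈} B] [Category.{v₉} C']
  {H : X ⥤ Z} {I : Y ⥤ Z} {F : A ⥤ C'} {G : B ⥤ C'} (ψ : CatCospanTransform H I F G)

theorem cpm_essSurj [ψ.left.EssSurj] [ψ.right.EssSurj] [ψ.base.Full] [ψ.base.Faithful] :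
    (FibCat.categoricalPullbackMap ψ).EssSurj := by
  refine ⟨fun t => ?_⟩
  let x₀ := ψ.left.objPreimage t.fst
  let ea : ψ.left.obj x₀ ≅ t.fst := ψ.left.objObjPreimageIso t.fst
  let y₀ := ψ.right.objPreimage t.snd
  let eb : ψ.right.obj y₀ ≅ t.snd := ψ.right.objObjPreimageIso t.snd
  let θ : ψ.base.obj (H.obj x₀) ≅ ψ.base.obj (I.obj y₀) :=
    ψ.squareLeft.iso.app x₀ ≪≫ F.mapIso ea ≪≫ t.iso ≪≫ (G.mapIso eb).symm ≪≫ (ψ.squareRight.iso.app y₀).symm
  let j : H.obj x₀ ≅ I.obj y₀ := ψ.base.preimageIso θ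
  let s : CategoricalPullback H I := ⟨x₀, y₀, j⟩
  have hj : ψ.base.map j.hom = θ.hom := ψ.base.map_preimage _
  refine ⟨s, ⟨CategoricalPullback.mkIso (x := (FibCat.categoricalPullbackMap ψ).obj s) (y := t) ea eb ?_⟩⟩
  rw [cpm_obj_iso_hom]
  change F.map ea.hom ≫ t.iso.hom = (ψ.squareLeft.iso.inv.app x₀ ≫ ψ.base.map j.hom ≫
    ψ.squareRight.iso.hom.app y₀) ≫ G.map eb.hom
  rw [hj]
  simp [θ]

theorem cpm_isEquivalence [ψ.left.IsEquivalence] [ψ.right.IsEquivalence] [ψ.base.Full] [ψ.base.Faithful] :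
    (FibCat.categoricalPullbackMap ψ).IsEquivalence :=
  { faithful := cpm_faithful ψ
    full := cpm_full ψ
    essSurj := cpm_essSurj ψ }

end Groth.Agent.Helper3
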