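import Mathlib.CategoryTheory.FiberedCategory.Fibered

set_option autoImplicit false
universe v₁ u₁ v₂ u₂ v₃ u₃
open CategoryTheory

namespace Groth.Agent.Helper3

theorem isStronglyCartesian_comp_functor_map {𝒜 : Type u₁} [Category.{v₁} 𝒜] {ℬ : Type u₂} [Category.{v₂} ℬ]
    {𝒞 : Type u₃} [Category.{v₃} 𝒞] (F : 𝒜 ⥤ ℬ) (G : ℬ ⥤ 𝒞) {x y : 𝒜} (φ : x ⟶ y)
    [F.IsStronglyCartesian (F.map φ) φ] [G.IsStronglyCartesian (G.map (F.map φ)) (F.map φ)] :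
    (F ⋙ G).IsStronglyCartesian ((F ⋙ G).map φ) φ := by
  refine { toIsHomLift := inferInstance, universal_property' := ?_ }
  intro a' g φ' hφ'
  have e1 : g ≫ G.map (F.map φ) = G.map (F.map φ') :=
    IsHomLift.eq_of_isHomLift (F ⋙ G) (g ≫ (F ⋙ G).map φ) φ'
  have h1 : G.IsHomLift (g ≫ G.map (F.map φ)) (F.map φ') := by
    rw [e1]; infer_instance
  obtain ⟨χ₁, ⟨hχ₁a, hχ₁b⟩, hχ₁u⟩ :=
    Functor.IsStronglyCartesian.universal_property' (p := G) (f := G.map (F.map φ)) (φ := F.map φ)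
      (a' := F.obj a') g (F.map φ')
  have h2 : F.IsHomLift (χ₁ ≫ F.map φ) φ' := by
    rw [hχ₁b]; infer_instance
  obtain ⟨χ, ⟨hχa, hχb⟩, hχu⟩ :=
    Functor.IsStronglyCartesian.universal_property' (p := F) (f := F.map φ) (φ := φ)
      (a' := a') χ₁ φ'
  have eχ₁ : χ₁ = F.map χ := IsHomLift.eq_of_isHomLift F χ₁ χ
  have eg : g = G.map χ₁ := IsHomLift.eq_of_isHomLift G g χ₁
  refine ⟨χ, ⟨?_, hχb⟩, ?_⟩
  · have : g = (F ⋙ G).map χ := by rw [eg, eχ₁]; rfl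
    rw [this]; infer_instance
  · rintro χ' ⟨hχ'a, hχ'b⟩
    have eg' : g = G.map (F.map χ') := IsHomLift.eq_of_isHomLift (F ⋙ G) g χ'
    have : F.map χ' = χ₁ := by
      apply hχ₁u
      refine ⟨?_, ?_⟩
      · rw [eg']; infer_instance
      · rw [← F.map_comp, hχ'b]
    apply hχu
    refine ⟨?_, hχ'b⟩
    rw [← this]; infer_instance

theorem isStronglyCartesian_comp_functor {𝒜 : Type u₁} [Category.{v₁} 𝒜] {ℬ : Type u₂} [Category.{v₂} ℬ]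
    {𝒞 : Type u₃} [Category.{v₃} 𝒞] (F : 𝒜 ⥤ ℬ) (G : ℬ ⥤ 𝒞) {x y : 𝒜} (φ : x ⟶ y)
    {R S : ℬ} (ψ : R ⟶ S) {R' S' : 𝒞} (f : R' ⟶ S')
    [hF : F.IsStronglyCartesian ψ φ] [hG : G.IsStronglyCartesian f ψ] :
    (F ⋙ G).IsStronglyCartesian f φ := by
  obtain ⟨⟩ := (inferInstance : G.IsHomLift f ψ)
  obtain ⟨⟩ := (inferInstance : F.IsHomLift ψ φ)
  exact isStronglyCartesian_comp_functor_map F G φ

theorem isFibered_comp {𝒜 : Type u₁} [Category.{v₁} 𝒜] {ℬ : Type u₂} [Category.{v₂} ℬ]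
    {𝒞 : Type u₃} [Category.{v₃} 𝒞] (F : 𝒜 ⥤ ℬ) (G : ℬ ⥤ 𝒞) [F.IsFibered] [G.IsFibered] :
    (F ⋙ G).IsFibered := by
  apply Functor.IsFibered.of_exists_isStronglyCartesian
  intro a R f
  obtain ⟨b₁, ψ, hψ⟩ := Functor.IsPreFibered.exists_isCartesian' (p := G) (a := F.obj a) f
  obtain ⟨b, φ, hφ⟩ := Functor.IsPreFibered.exists_isCartesian' (p := F) (a := a) ψ
  have h1 : G.IsStronglyCartesian f ψ := inferInstance
  have h2 : F.IsStronglyCartesian ψ φ := inferInstance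
  exact ⟨b, φ, isStronglyCartesian_comp_functor F G φ ψ f⟩

end Groth.Agent.Helper3

namespace Groth.Agent.Helper3

theorem isHomLift_comp_functor {𝒜 : Type u₁} [Category.{v₁} 𝒜] {ℬ : Type u₂} [Category.{v₂} ℬ]
    {𝒞 : Type u₃} [Category.{v₃} 𝒞] (F : 𝒜 ⥤ ℬ) (G : ℬ ⥤ 𝒞) {x y : 𝒜} (φ : x ⟶ y)
    {R S : ℬ} (ψ : R ⟶ S) {R' S' : 𝒞} (f : R' ⟶ S')
    [hF : F.IsHomLift ψ φ] [hG : G.IsHomLift f ψ] :
    (F ⋙ G).IsHomLift f φ := by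
  obtain ⟨⟩ := hG
  obtain ⟨⟩ := hF
  exact (inferInstance : (F ⋙ G).IsHomLift ((F ⋙ G).map φ) φ)

end Groth.Agent.Helper3
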