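import Groth.Agent.Lib.helper3.FibFp2

set_option autoImplicit false
set_option backward.isDefEq.respectTransparency false
universe v₃ u₃ v₂ u₂ v u
open CategoryTheory CategoryTheory.Functor CategoryTheory.Limits

namespace Groth.Agent.Helper3

variable {C : Type u} [Category.{v} C] {𝒳 : BasedCategory.{v₂, u₂} C} {𝒴 : BasedCategory.{v₃, u₃} C}
  (G : 𝒳 ⥤ᵇ 𝒴)

@[simp] theorem diag_obj_fst (x : 𝒳.obj) : ((FibCat.diag G).toFunctor.obj x).obj.fst = x := rfl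
@[simp] theorem diag_obj_snd (x : 𝒳.obj) : ((FibCat.diag G).toFunctor.obj x).obj.snd = x := rfl
@[simp] theorem diag_obj_iso_hom (x : 𝒳.obj) :
    ((FibCat.diag G).toFunctor.obj x).obj.iso.hom = 𝟙 (G.toFunctor.obj x) := rfl
@[simp] theorem diag_map_fst {x y : 𝒳.obj} (f : x ⟶ y) : ((FibCat.diag G).toFunctor.map f).hom.fst = f := rfl
@[simp] theorem diag_map_snd {x y : 𝒳.obj} (f : x ⟶ y) : ((FibCat.diag G).toFunctor.map f).hom.snd = f := rfl

theorem diag_faithful : (FibCat.diag G).toFunctor.Faithful := by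
  refine ⟨fun {x y} f g h => ?_⟩
  have := congrArg (fun k => k.hom.fst) h
  exact this

theorem diag_full_of_faithful [G.toFunctor.Faithful] : (FibCat.diag G).toFunctor.Full := by
  refine ⟨fun {x y} m => ?_⟩
  have hw := m.hom.w
  have h1 : G.toFunctor.map m.hom.fst = G.toFunctor.map m.hom.snd := by
    simpa using hw
  have h2 : m.hom.fst = m.hom.snd := G.toFunctor.map_injective h1
  refine ⟨m.hom.fst, ?_⟩
  apply fp_hom_ext G G
  · rfl
  · exact h2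

theorem diag_essOver_of_fullyFaithful [G.toFunctor.Full] [G.toFunctor.Faithful] :
    EssOver (FibCat.diag G) := by
  intro η
  have hη : 𝒴.p.IsHomLift (𝟙 (𝒳.p.obj η.obj.fst)) η.obj.iso.hom := η.property
  let j : η.obj.fst ≅ η.obj.snd := G.toFunctor.preimageIso η.obj.iso
  let m : (FibCat.diag G).toFunctor.obj η.obj.fst ⟶ η :=
    ObjectProperty.homMk ⟨𝟙 _, j.hom, by simp [j]⟩
  let m' : η ⟶ (FibCat.diag G).toFunctor.obj η.obj.fst :=
    ObjectProperty.homMk ⟨𝟙 _, j.inv, by simp [j]⟩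
  refine ⟨η.obj.fst, ⟨m, m', ?_, ?_⟩, ?_⟩
  · apply fp_hom_ext G G
    · simp [m, m']
    · simp [m, m']
  · apply fp_hom_ext G G
    · simp [m, m']
    · simp [m, m']
  · have : 𝒳.p.IsHomLift (𝟙 (𝒳.p.obj η.obj.fst)) m.hom.fst :=
      (inferInstance : 𝒳.p.IsHomLift (𝟙 (𝒳.p.obj η.obj.fst)) (𝟙 η.obj.fst))
    exact fp_isHomLift_of_fst G G _ m (h := this)

theorem diag_isEquivOver_of_fullyFaithful [G.toFunctor.Full] [G.toFunctor.Faithful] :
    FibCat.IsEquivOver (FibCat.diag G) := by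
  have := diag_faithful G
  have := diag_full_of_faithful G
  exact isEquivOver_of_essOver (FibCat.diag G) (diag_essOver_of_fullyFaithful G)

theorem faithful_of_diag_full [(FibCat.diag G).toFunctor.Full] : G.toFunctor.Faithful := by
  refine ⟨fun {x y} a b h => ?_⟩
  let m : (FibCat.diag G).toFunctor.obj x ⟶ (FibCat.diag G).toFunctor.obj y :=
    ObjectProperty.homMk ⟨a, b, by simpa using h⟩
  obtain ⟨c, hc⟩ := (FibCat.diag G).toFunctor.map_surjective m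
  have h1 : c = a := congrArg (fun k => k.hom.fst) hc
  have h2 : c = b := congrArg (fun k => k.hom.snd) hc
  rw [← h1, ← h2]

theorem full_of_diag_essOver (h𝒳 : FibCat.IsFibGrpd 𝒳.p) (h𝒴 : FibCat.IsFibGrpd 𝒴.p)
    (hess : EssOver (FibCat.diag G)) : G.toFunctor.Full := by
  refine ⟨fun {x y} ψ => ?_⟩
  obtain ⟨x', φ₀, hφ₀⟩ := h𝒳.exists_lift (x := y) (𝒴.p.map ψ ≫ eqToHom (G.w_obj y))
  have hφ₀' : 𝒴.p.IsHomLift (𝒴.p.map ψ ≫ eqToHom (G.w_obj y)) (G.toFunctor.map φ₀) :=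
    BasedFunctor.preserves_isHomLift G _ _
  have hsc : 𝒴.p.IsStronglyCartesian (𝒴.p.map ψ ≫ eqToHom (G.w_obj y)) (G.toFunctor.map φ₀) :=
    @IsFibGrpd.isStronglyCartesian _ _ _ _ 𝒴.p h𝒴 _ _ _ _ _ (G.toFunctor.map φ₀) hφ₀'
  have hψ : 𝒴.p.IsHomLift (𝟙 (𝒴.p.obj (G.toFunctor.obj x)) ≫ 𝒴.p.map ψ ≫ eqToHom (G.w_obj y)) ψ := by
    rw [Category.id_comp]; infer_instance
  obtain ⟨χ, ⟨hχa, hχb⟩, -⟩ :=
    Functor.IsStronglyCartesian.universal_property (p := 𝒴.p)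
      (f := 𝒴.p.map ψ ≫ eqToHom (G.w_obj y)) (φ := G.toFunctor.map φ₀)
      (𝟙 (𝒴.p.obj (G.toFunctor.obj x))) _ rfl ψ
  have hχiso : IsIso χ :=
    @IsFibGrpd.isIso_of_isHomLift_isIso _ _ _ _ 𝒴.p h𝒴 _ _ (𝟙 _) _ _ _ χ hχa
  have hχl : 𝒴.p.IsHomLift (𝟙 (𝒳.p.obj x)) (asIso χ).hom := isHomLift_id_of_eq 𝒴.p (G.w_obj x) χ
  let η : (FibCat.fp G G).obj := ⟨⟨x, x', asIso χ⟩, hχl⟩
  obtain ⟨z, e, he⟩ := hess η
  have hw := e.hom.hom.w
  have h1 : G.toFunctor.map e.hom.hom.fst ≫ χ = G.toFunctor.map e.hom.hom.snd := by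
    simpa [η] using hw
  have hiso1 : IsIso e.hom.hom.fst := by
    have : IsIso e.hom.hom := inferInstance
    infer_instance
  refine ⟨inv e.hom.hom.fst ≫ e.hom.hom.snd ≫ φ₀, ?_⟩
  rw [Functor.map_comp, Functor.map_comp, ← h1, Functor.map_inv, Category.assoc, hχb,
    IsIso.inv_hom_id_assoc]

end Groth.Agent.Helper3
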