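import Groth.Agent.Lib.helper3.FibComp
import Groth.Agent.Lib.helper3.FibGrpd
import Mathlib.CategoryTheory.Comma.Over.Basic

set_option autoImplicit false
universe v₁ u₁ v₂ u₂
open CategoryTheory CategoryTheory.Functor

namespace Groth.Agent.Helper3

variable {𝒮 : Type u₁} [Category.{v₁} 𝒮] {C : Type u₂} [Category.{v₂} C] {U : C}

theorem over_obj_ext (X Y : Over U) (h : X.left = Y.left) (hh : X.hom = eqToHom h ≫ Y.hom) : X = Y := by
  obtain ⟨l, r, f⟩ := X
  obtain ⟨l', r', f'⟩ := Y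
  obtain rfl : l = l' := h
  obtain rfl : r = r' := Subsingleton.elim _ _
  simp at hh
  subst hh; rfl

theorem over_isHomLift_of_left (p' : 𝒮 ⥤ Over U) {R S : Over U} (f : R ⟶ S) {a b : 𝒮} (φ : a ⟶ b)
    [h : (p' ⋙ Over.forget U).IsHomLift f.left φ] (hb : p'.obj b = S) : p'.IsHomLift f φ := by
  subst hb
  have hd : (p'.obj a).left = R.left := IsHomLift.domain_eq (p' ⋙ Over.forget U) f.left φ
  have hfac := IsHomLift.fac' (p' ⋙ Over.forget U) f.left φ
  have ha : p'.obj a = R := by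
    apply over_obj_ext _ _ hd
    have h1 : (p'.map φ).left ≫ (p'.obj b).hom = (p'.obj a).hom := Over.w (p'.map φ)
    have h2 : f.left ≫ (p'.obj b).hom = R.hom := Over.w f
    rw [← h1, ← h2]
    have h3 : (p'.map φ).left = eqToHom hd ≫ f.left ≫ eqToHom rfl := hfac
    rw [h3]
    simp
  subst ha
  have h4 : f.left = (p' ⋙ Over.forget U).map φ :=
    @IsHomLift.eq_of_isHomLift _ _ _ _ (p' ⋙ Over.forget U) a b f.left φ h
  have h5 : f = p'.map φ := by
    apply Over.OverMorphism.ext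
    exact h4
  rw [h5]
  infer_instance

theorem over_isHomLift_left (p' : 𝒮 ⥤ Over U) {R S : Over U} (f : R ⟶ S) {a b : 𝒮} (φ : a ⟶ b)
    [h : p'.IsHomLift f φ] : (p' ⋙ Over.forget U).IsHomLift f.left φ := by
  have : (Over.forget U).IsHomLift f.left f :=
    (inferInstance : (Over.forget U).IsHomLift ((Over.forget U).map f) f)
  exact isHomLift_comp_functor p' (Over.forget U) φ f f.left

theorem over_isStronglyCartesian_of_left (p' : 𝒮 ⥤ Over U) {R S : Over U} (f : R ⟶ S) {a b : 𝒮} (φ : a ⟶ b)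
    [h : (p' ⋙ Over.forget U).IsStronglyCartesian f.left φ] [hl : p'.IsHomLift f φ] :
    p'.IsStronglyCartesian f φ := by
  refine { toIsHomLift := hl, universal_property' := ?_ }
  intro a' g φ' hφ'
  have h1 : (p' ⋙ Over.forget U).IsHomLift (g ≫ f).left φ' := over_isHomLift_left p' (g ≫ f) φ'
  obtain ⟨χ, ⟨hχa, hχb⟩, hχu⟩ :=
    Functor.IsStronglyCartesian.universal_property (p := p' ⋙ Over.forget U) (f := f.left) (φ := φ)
      (a' := a') g.left (g ≫ f).left rfl φ'
  have hR : p'.obj a = R := IsHomLift.domain_eq p' f φ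
  refine ⟨χ, ⟨over_isHomLift_of_left p' g χ hR, hχb⟩, ?_⟩
  rintro χ' ⟨hχ'a, hχ'b⟩
  apply hχu
  exact ⟨over_isHomLift_left p' g χ', hχ'b⟩

theorem over_isFibered_of_comp_forget (p' : 𝒮 ⥤ Over U) [(p' ⋙ Over.forget U).IsFibered] : p'.IsFibered := by
  apply Functor.IsFibered.of_exists_isStronglyCartesian
  intro a R f
  obtain ⟨b, φ, hφ⟩ := Functor.IsPreFibered.exists_isCartesian' (p := p' ⋙ Over.forget U) (a := a) f.left
  have h1 : (p' ⋙ Over.forget U).IsStronglyCartesian (R := R.left) (S := (p' ⋙ Over.forget U).obj a)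
    f.left φ := inferInstance
  have h2 : p'.IsHomLift f φ := over_isHomLift_of_left p' f φ rfl (h := h1.toIsHomLift)
  exact ⟨b, φ, over_isStronglyCartesian_of_left p' f φ (h := h1) (hl := h2)⟩

theorem over_isFibGrpd_of_comp_forget (p' : 𝒮 ⥤ Over U) (h : FibCat.IsFibGrpd (p' ⋙ Over.forget U)) :
    FibCat.IsFibGrpd p' := by
  refine ⟨?_, ?_⟩
  · intro x V f
    obtain ⟨y, φ, hφ⟩ := h.exists_lift (x := x) f.left
    exact ⟨y, φ, over_isHomLift_of_left p' f φ rfl (h := hφ)⟩
  · intro y x φ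
    have h1 : (p' ⋙ Over.forget U).IsStronglyCartesian (p'.map φ).left φ :=
      h.isStronglyCartesian φ
    exact over_isStronglyCartesian_of_left p' (p'.map φ) φ

end Groth.Agent.Helper3
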