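import Groth.Agent.Lib.helper3.FibFp
import Groth.Agent.Lib.helper3.FibOver

set_option autoImplicit false
set_option backward.isDefEq.respectTransparency false
universe v₄ u₄ v₃ u₃ v₂ u₂ v u
open CategoryTheory CategoryTheory.Functor CategoryTheory.Limits

namespace Groth.Agent.Helper3

section LemmaM

variable {C : Type u} [Category.{v} C] {𝒲 : Type u₂} [Category.{v₂} 𝒲] {𝒵 : Type u₃} [Category.{v₃} 𝒵]
  (q : 𝒲 ⥤ 𝒵) (p : 𝒵 ⥤ C)

theorem isHomLift_map_of_comp {R S : C} (f : R ⟶ S) {a b : 𝒲} (φ : a ⟶ b)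
    [h : (q ⋙ p).IsHomLift f φ] : p.IsHomLift f (q.map φ) := by
  obtain ⟨⟩ := h
  exact (inferInstance : p.IsHomLift (p.map (q.map φ)) (q.map φ))

/-- strongly cartesian part: needs no lifting of isomorphisms -/
theorem isStronglyCartesian_of_comp_isFibGrpd (hqp : FibCat.IsFibGrpd (q ⋙ p)) (hp : FibCat.IsFibGrpd p)
    {w' w : 𝒲} (φ : w' ⟶ w) : q.IsStronglyCartesian (q.map φ) φ := by
  refine { toIsHomLift := inferInstance, universal_property' := ?_ }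
  intro w'' g φ' hφ'
  have hφsc : (q ⋙ p).IsStronglyCartesian ((q ⋙ p).map φ) φ := hqp.isStronglyCartesian φ
  have h0 : p.IsHomLift (p.map (g ≫ q.map φ)) (g ≫ q.map φ) := inferInstance
  have h1 : (q ⋙ p).IsHomLift (p.map (g ≫ q.map φ)) φ' :=
    isHomLift_comp_functor q p φ' (g ≫ q.map φ) (p.map (g ≫ q.map φ))
  have h2 : p.map (g ≫ q.map φ) = p.map g ≫ (q ⋙ p).map φ := by simp
  obtain ⟨χ, ⟨hχa, hχb⟩, hχu⟩ :=
    Functor.IsStronglyCartesian.universal_property (p := q ⋙ p) (f := (q ⋙ p).map φ) (φ := φ)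
      (p.map g) (p.map (g ≫ q.map φ)) h2 φ'
  have hqφ : p.IsStronglyCartesian (p.map (q.map φ)) (q.map φ) := hp.isStronglyCartesian (q.map φ)
  have h3 : p.IsHomLift (p.map g) (q.map χ) := by
    have : p.map g = p.map (q.map χ) := IsHomLift.eq_of_isHomLift (q ⋙ p) (p.map g) χ
    rw [this]; infer_instance
  have h4 : p.IsHomLift (p.map g) g := inferInstance
  have hq : q.map φ' = g ≫ q.map φ := (IsHomLift.eq_of_isHomLift q (g ≫ q.map φ) φ').symm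
  have h5 : q.map χ = g := by
    apply Functor.IsStronglyCartesian.ext p (p.map (q.map φ)) (q.map φ) (p.map g)
    rw [← Functor.map_comp, hχb, hq]
  refine ⟨χ, ⟨?_, hχb⟩, ?_⟩
  · rw [← h5]; infer_instance
  · rintro χ' ⟨hχ'a, hχ'b⟩
    apply hχu
    refine ⟨?_, hχ'b⟩
    have : p.IsHomLift (p.map g) g := inferInstance
    exact isHomLift_comp_functor q p χ' g (p.map g)

theorem isFibGrpd_of_comp_of_isoLift (hqp : FibCat.IsFibGrpd (q ⋙ p)) (hp : FibCat.IsFibGrpd p)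
    (hlift : ∀ (w' : 𝒲) (z : 𝒵) (θ : z ⟶ q.obj w'), IsIso θ → p.IsHomLift (𝟙 (p.obj z)) θ →
      ∃ (w'' : 𝒲) (κ : w'' ⟶ w'), q.IsHomLift θ κ) : FibCat.IsFibGrpd q := by
  refine ⟨?_, fun φ => isStronglyCartesian_of_comp_isFibGrpd q p hqp hp φ⟩
  intro w z f
  obtain ⟨w', φ, hφ⟩ := hqp.exists_lift (x := w) (p.map f)
  have hqφl : p.IsHomLift (p.map f) (q.map φ) := isHomLift_map_of_comp q p (p.map f) φ
  have hqφ : p.IsStronglyCartesian (p.map f) (q.map φ) :=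
    @IsFibGrpd.isStronglyCartesian _ _ _ _ p hp _ _ (p.map f) _ _ (q.map φ) hqφl
  have hf : p.IsHomLift (𝟙 (p.obj z) ≫ p.map f) f := by
    rw [Category.id_comp]; infer_instance
  obtain ⟨θ, ⟨hθa, hθb⟩, -⟩ :=
    Functor.IsStronglyCartesian.universal_property (p := p) (f := p.map f) (φ := q.map φ)
      (𝟙 (p.obj z)) (𝟙 (p.obj z) ≫ p.map f) rfl f
  have hθiso : IsIso θ := @IsFibGrpd.isIso_of_isHomLift_isIso _ _ _ _ p hp _ _ (𝟙 (p.obj z)) _ _ _ θ hθa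
  obtain ⟨w'', κ, hκ⟩ := hlift w' z θ hθiso hθa
  refine ⟨w'', κ ≫ φ, ?_⟩
  have : q.IsHomLift (q.map φ) φ := inferInstance
  have h6 : q.IsHomLift (θ ≫ q.map φ) (κ ≫ φ) := inferInstance
  rw [hθb] at h6
  exact h6

end LemmaM

section OverForget

variable {C : Type u} [Category.{v} C] (U : C)

theorem over_forget_isFibGrpd : FibCat.IsFibGrpd (Over.forget U) := by
  refine ⟨?_, ?_⟩
  · intro x V f
    let m : Over.mk (f ≫ x.hom) ⟶ x := Over.homMk f (by simp)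
    refine ⟨Over.mk (f ≫ x.hom), m, ?_⟩
    exact (inferInstance : (Over.forget U).IsHomLift ((Over.forget U).map m) m)
  · intro y x φ
    refine { toIsHomLift := inferInstance, universal_property' := ?_ }
    intro z g φ' hφ'
    have h1 : φ'.left = g ≫ φ.left :=
      (@IsHomLift.eq_of_isHomLift _ _ _ _ (Over.forget U) _ _ (g ≫ φ.left) φ' hφ').symm
    have hw : g ≫ y.hom = z.hom := by
      have := Over.w φ
      have h2 := Over.w φ'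
      rw [← this, ← Category.assoc, ← h1, h2]
    let χ : z ⟶ y := Over.homMk g hw
    refine ⟨χ, ⟨?_, ?_⟩, ?_⟩
    · exact (inferInstance : (Over.forget U).IsHomLift ((Over.forget U).map χ) χ)
    · apply Over.OverMorphism.ext
      rw [Over.comp_left, h1]
      rfl
    · rintro χ' ⟨hχ'a, hχ'b⟩
      apply Over.OverMorphism.ext
      have : g = (Over.forget U).map χ' := IsHomLift.eq_of_isHomLift (Over.forget U) g χ'
      exact this.symm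

end OverForget

section Proj

variable {C : Type u} [Category.{v} C] {𝒳 : BasedCategory.{v₂, u₂} C} {𝒴 : BasedCategory.{v₃, u₃} C}
  {𝒮 : BasedCategory.{v₄, u₄} C} (F : 𝒳 ⥤ᵇ 𝒮) (G : 𝒴 ⥤ᵇ 𝒮)
  (h𝒳 : FibCat.IsFibGrpd 𝒳.p) (h𝒴 : FibCat.IsFibGrpd 𝒴.p) (h𝒮 : FibCat.IsFibGrpd 𝒮.p)

include h𝒳 h𝒴 h𝒮 in
theorem fpSnd_isFibGrpd : FibCat.IsFibGrpd (FibCat.fpSnd F G).toFunctor := by
  apply isFibGrpd_of_comp_of_isoLift (FibCat.fpSnd F G).toFunctor 𝒴.p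
  · rw [(FibCat.fpSnd F G).w]; exact fp_isFibGrpd F G h𝒳 h𝒴 h𝒮
  · exact h𝒴
  · intro x' z θ hθ hθl
    change z ⟶ x'.obj.snd at θ
    have hx' : 𝒮.p.IsHomLift (𝟙 (𝒳.p.obj x'.obj.fst)) x'.obj.iso.hom := x'.property
    have hz : 𝒴.p.obj z = 𝒳.p.obj x'.obj.fst :=
      ((IsHomLift.codomain_eq 𝒴.p (𝟙 (𝒴.p.obj z)) θ).symm.trans (fp_obj_snd_base F G x')).symm ▸ rfl
    have hθl' : 𝒴.p.IsHomLift (𝟙 (𝒳.p.obj x'.obj.fst)) θ := isHomLift_id_of_eq 𝒴.p hz θ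
    have hθl'' : 𝒴.p.IsHomLift (𝟙 (𝒳.p.obj x'.obj.fst)) (asIso θ).hom := hθl'
    have hθinv : 𝒴.p.IsHomLift (𝟙 (𝒳.p.obj x'.obj.fst)) (asIso θ).inv :=
      IsHomLift.lift_id_inv 𝒴.p _ (asIso θ)
    have hGθinv : 𝒮.p.IsHomLift (𝟙 (𝒳.p.obj x'.obj.fst)) (G.toFunctor.map (asIso θ).inv) :=
      BasedFunctor.preserves_isHomLift G _ _
    let i'' : F.toFunctor.obj x'.obj.fst ≅ G.toFunctor.obj z :=
      x'.obj.iso ≪≫ (G.toFunctor.mapIso (asIso θ)).symm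
    have hi'' : 𝒮.p.IsHomLift (𝟙 (𝒳.p.obj x'.obj.fst)) i''.hom := by
      change 𝒮.p.IsHomLift (𝟙 (𝒳.p.obj x'.obj.fst)) (x'.obj.iso.hom ≫ G.toFunctor.map (asIso θ).inv)
      infer_instance
    let x'' : (FibCat.fp F G).obj := ⟨⟨x'.obj.fst, z, i''⟩, hi''⟩
    let κ : x'' ⟶ x' := ObjectProperty.homMk ⟨𝟙 _, θ, by simp [x'', i'']⟩
    exact ⟨x'', κ, (inferInstance :
      (FibCat.fpSnd F G).toFunctor.IsHomLift ((FibCat.fpSnd F G).toFunctor.map κ) κ)⟩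

include h𝒳 h𝒴 h𝒮 in
theorem fpFst_isFibGrpd : FibCat.IsFibGrpd (FibCat.fpFst F G).toFunctor := by
  apply isFibGrpd_of_comp_of_isoLift (FibCat.fpFst F G).toFunctor 𝒳.p
  · exact fp_isFibGrpd F G h𝒳 h𝒴 h𝒮
  · exact h𝒳
  · intro x' z θ hθ hθl
    change z ⟶ x'.obj.fst at θ
    have hx' : 𝒮.p.IsHomLift (𝟙 (𝒳.p.obj x'.obj.fst)) x'.obj.iso.hom := x'.property
    have hz : 𝒳.p.obj x'.obj.fst = 𝒳.p.obj z := IsHomLift.codomain_eq 𝒳.p (𝟙 (𝒳.p.obj z)) θ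
    have hx'' : 𝒮.p.IsHomLift (𝟙 (𝒳.p.obj z)) x'.obj.iso.hom := isHomLift_id_of_eq 𝒮.p hz _
    have hFθ : 𝒮.p.IsHomLift (𝟙 (𝒳.p.obj z)) (F.toFunctor.map θ) :=
      BasedFunctor.preserves_isHomLift F _ _
    let i'' : F.toFunctor.obj z ≅ G.toFunctor.obj x'.obj.snd :=
      F.toFunctor.mapIso (asIso θ) ≪≫ x'.obj.iso
    have hi'' : 𝒮.p.IsHomLift (𝟙 (𝒳.p.obj z)) i''.hom := by
      change 𝒮.p.IsHomLift (𝟙 (𝒳.p.obj z)) (F.toFunctor.map θ ≫ x'.obj.iso.hom)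
      infer_instance
    let x'' : (FibCat.fp F G).obj := ⟨⟨z, x'.obj.snd, i''⟩, hi''⟩
    let κ : x'' ⟶ x' := ObjectProperty.homMk ⟨θ, 𝟙 _, by simp [x'', i'']⟩
    exact ⟨x'', κ, (inferInstance :
      (FibCat.fpFst F G).toFunctor.IsHomLift ((FibCat.fpFst F G).toFunctor.map κ) κ)⟩

end Proj

end Groth.Agent.Helper3
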