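import Groth.Agent.Lib.helper3.FibEquiv2
import Mathlib

set_option autoImplicit false
set_option backward.isDefEq.respectTransparency false
universe v₂ u₂ v u
open CategoryTheory CategoryTheory.Functor CategoryTheory.Limits

namespace Groth.Agent.Helper3

variable {C : Type u} [Category.{v} C] {𝒳 : BasedCategory.{v₂, u₂} C}

theorem exists_isTerminal_of_isRepresentable (h : FibCat.IsRepresentable 𝒳) :
    ∃ t : 𝒳.obj, Nonempty (IsTerminal t) := by
  obtain ⟨U, F, hF⟩ := h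
  have := isEquivalence_of_isEquivOver F hF
  exact ⟨F.toFunctor.inv.obj (Over.mk (𝟙 U)),
    ⟨IsTerminal.isTerminalObj F.toFunctor.inv _ Over.mkIdTerminal⟩⟩

section

variable {t : 𝒳.obj} (ht : IsTerminal t)

/-- the functor to the slice over the image of a terminal object -/
def toOverTerm : 𝒳 ⥤ᵇ FibCat.overCat (𝒳.p.obj t) where
  toFunctor :=
    { obj := fun x => Over.mk (𝒳.p.map (ht.from x))
      map := fun {x y} φ => Over.homMk (𝒳.p.map φ) (by
        change 𝒳.p.map φ ≫ 𝒳.p.map (ht.from y) = 𝒳.p.map (ht.from x)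
        rw [← Functor.map_comp]
        congr 1
        exact ht.hom_ext _ _)
      map_id := fun x => by apply Over.OverMorphism.ext; simp; rfl
      map_comp := fun f g => by apply Over.OverMorphism.ext; simp; rfl }
  w := rfl

theorem toOverTerm_faithful (h𝒳 : FibCat.IsFibGrpd 𝒳.p) : (toOverTerm ht).toFunctor.Faithful := by
  refine ⟨fun {x y} φ ψ h => ?_⟩
  have h1 : 𝒳.p.map φ = 𝒳.p.map ψ := congrArg (fun k => k.left) h
  have hsc : 𝒳.p.IsStronglyCartesian (𝒳.p.map (ht.from y)) (ht.from y) := h𝒳.isStronglyCartesian _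
  have h2 : 𝒳.p.IsHomLift (𝒳.p.map φ) ψ := by rw [h1]; infer_instance
  apply IsStronglyCartesian.ext 𝒳.p (𝒳.p.map (ht.from y)) (ht.from y) (𝒳.p.map φ)
  exact ht.hom_ext _ _

theorem toOverTerm_full (h𝒳 : FibCat.IsFibGrpd 𝒳.p) : (toOverTerm ht).toFunctor.Full := by
  refine ⟨fun {x y} m => ?_⟩
  have hsc : 𝒳.p.IsStronglyCartesian (𝒳.p.map (ht.from y)) (ht.from y) := h𝒳.isStronglyCartesian _
  have hw : m.left ≫ 𝒳.p.map (ht.from y) = 𝒳.p.map (ht.from x) := Over.w m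
  have hl : 𝒳.p.IsHomLift (m.left ≫ 𝒳.p.map (ht.from y)) (ht.from x) := by
    rw [hw]; infer_instance
  let χ : x ⟶ y := IsStronglyCartesian.map 𝒳.p (𝒳.p.map (ht.from y)) (ht.from y)
    (g := m.left) (f' := m.left ≫ 𝒳.p.map (ht.from y)) rfl (ht.from x)
  have hχ : 𝒳.p.IsHomLift m.left χ :=
    IsStronglyCartesian.map_isHomLift 𝒳.p (𝒳.p.map (ht.from y)) (ht.from y) rfl (ht.from x)
  refine ⟨χ, ?_⟩
  apply Over.OverMorphism.ext
  exact (IsHomLift.eq_of_isHomLift 𝒳.p m.left χ).symm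

theorem toOverTerm_essOver (h𝒳 : FibCat.IsFibGrpd 𝒳.p) : EssOver (toOverTerm ht) := by
  intro η
  obtain ⟨V, ⟨⟨⟩⟩, f⟩ := η
  change V ⟶ 𝒳.p.obj t at f
  obtain ⟨y, φ, hφ⟩ := h𝒳.exists_lift (x := t) f
  have hV : 𝒳.p.obj y = V := IsHomLift.domain_eq 𝒳.p f φ
  subst hV
  have hf : f = 𝒳.p.map φ := IsHomLift.eq_of_isHomLift 𝒳.p f φ
  subst hf
  have e : ht.from y = φ := ht.hom_ext _ _
  refine ⟨y, eqToIso ?_, ?_⟩
  · change Over.mk (𝒳.p.map (ht.from y)) = Over.mk (𝒳.p.map φ)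
    rw [e]
  · rw [eqToIso.hom]
    exact IsHomLift.eqToHom_codomain_lift_id _ rfl

include ht in
theorem isRepresentable_of_isTerminal (h𝒳 : FibCat.IsFibGrpd 𝒳.p) : FibCat.IsRepresentable 𝒳 := by
  have := toOverTerm_faithful ht h𝒳
  have := toOverTerm_full ht h𝒳
  exact ⟨𝒳.p.obj t, toOverTerm ht, isEquivOver_of_essOver _ (toOverTerm_essOver ht h𝒳)⟩

end

theorem isRepresentable_iff_exists_isTerminal (h𝒳 : FibCat.IsFibGrpd 𝒳.p) :
    FibCat.IsRepresentable 𝒳 ↔ ∃ t : 𝒳.obj, Nonempty (IsTerminal t) :=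
  ⟨exists_isTerminal_of_isRepresentable, fun ⟨_, ⟨ht⟩⟩ => isRepresentable_of_isTerminal ht h𝒳⟩

theorem representing_unique {C : Type u} [Category.{v} C] {𝒮 : BasedCategory.{v, max u v} C}
    {X X' : C} (j : 𝒮 ⥤ᵇ FibCat.overCat X) (j' : 𝒮 ⥤ᵇ FibCat.overCat X') (hj : FibCat.IsEquivOver j) (hj' : FibCat.IsEquivOver j') :
    ∃ e : X' ≅ X, Nonempty (BasedFunctor.comp j' (⟨Over.map e.hom, Over.mapForget_eq e.hom⟩ : FibCat.overCat X' ⥤ᵇ FibCat.overCat X) ≅ j) := by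
  classical
  have hE := isEquivalence_of_isEquivOver j hj
  have hE' := isEquivalence_of_isEquivOver j' hj'
  -- terminal object of 𝒮
  let t : 𝒮.obj := j.toFunctor.inv.obj (Over.mk (𝟙 X))
  have ht : Limits.IsTerminal t := Limits.IsTerminal.isTerminalObj j.toFunctor.inv _ Over.mkIdTerminal
  have htj : Limits.IsTerminal (j.toFunctor.obj t) := Limits.IsTerminal.isTerminalObj j.toFunctor _ ht
  have htj' : Limits.IsTerminal (j'.toFunctor.obj t) := Limits.IsTerminal.isTerminalObj j'.toFunctor _ ht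
  -- the structure maps are isos
  have hiso : ∀ {Y : C} (A : Over Y), Limits.IsTerminal A → IsIso A.hom := by
    intro Y A hA
    let i : A ≅ Over.mk (𝟙 Y) := hA.uniqueUpToIso Over.mkIdTerminal
    have h1 : A.hom = i.hom.left := by
      have := Over.w i.hom
      simpa using this.symm
    rw [h1]
    exact (inferInstance : IsIso ((Over.forget Y).map i.hom))
  have i1 : IsIso (j.toFunctor.obj t).hom := hiso _ htj
  have i2 : IsIso (j'.toFunctor.obj t).hom := hiso _ htj'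
  have hl : ∀ s : 𝒮.obj, (j.toFunctor.obj s).left = 𝒮.p.obj s := fun s => j.w_obj s
  have hl' : ∀ s : 𝒮.obj, (j'.toFunctor.obj s).left = 𝒮.p.obj s := fun s => j'.w_obj s
  have hm : ∀ {s s' : 𝒮.obj} (φ : s ⟶ s'), (j.toFunctor.map φ).left =
      eqToHom (hl s) ≫ 𝒮.p.map φ ≫ eqToHom (hl s').symm := fun φ => Functor.congr_hom j.w φ
  have hm' : ∀ {s s' : 𝒮.obj} (φ : s ⟶ s'), (j'.toFunctor.map φ).left =
      eqToHom (hl' s) ≫ 𝒮.p.map φ ≫ eqToHom (hl' s').symm := fun φ => Functor.congr_hom j'.w φ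
  let e : X' ≅ X := (asIso (j'.toFunctor.obj t).hom).symm ≪≫ eqToIso ((hl' t).trans (hl t).symm) ≪≫
    asIso (j.toFunctor.obj t).hom
  have hs : ∀ s : 𝒮.obj, (j.toFunctor.obj s).hom = (j.toFunctor.map (ht.from s)).left ≫ (j.toFunctor.obj t).hom :=
    fun s => (Over.w (j.toFunctor.map (ht.from s))).symm
  have hs' : ∀ s : 𝒮.obj, (j'.toFunctor.obj s).hom = (j'.toFunctor.map (ht.from s)).left ≫ (j'.toFunctor.obj t).hom :=
    fun s => (Over.w (j'.toFunctor.map (ht.from s))).symm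
  let J' : 𝒮 ⥤ᵇ FibCat.overCat X := BasedFunctor.comp j' (⟨Over.map e.hom, Over.mapForget_eq e.hom⟩ : FibCat.overCat X' ⥤ᵇ FibCat.overCat X)
  have hc : ∀ s : 𝒮.obj, eqToHom ((hl' s).trans (hl s).symm) ≫ (j.toFunctor.obj s).hom = (j'.toFunctor.obj s).hom ≫ e.hom := by
    intro s
    rw [hs s, hs' s, hm, hm']
    simp [e]
  let cmp : ∀ s : 𝒮.obj, J'.toFunctor.obj s ≅ j.toFunctor.obj s := fun s =>
    Over.isoMk (f := J'.toFunctor.obj s) (g := j.toFunctor.obj s) (eqToIso ((hl' s).trans (hl s).symm)) (hc s)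
  have hcl : ∀ s, (cmp s).hom.left = eqToHom ((hl' s).trans (hl s).symm) := fun s => rfl
  let α : J'.toFunctor ≅ j.toFunctor := NatIso.ofComponents cmp (by
    intro s s' φ
    apply Over.OverMorphism.ext
    change (j'.toFunctor.map φ).left ≫ (cmp s').hom.left = (cmp s).hom.left ≫ (j.toFunctor.map φ).left
    rw [hm, hm', hcl, hcl]
    simp)
  refine ⟨e, ⟨BasedNatIso.mkNatIso α ?_⟩⟩
  intro s
  change (Over.forget X).IsHomLift (𝟙 (𝒮.p.obj s)) (cmp s).hom
  apply IsHomLift.of_fac _ _ _ (hl' s) (hl s)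
  change _ = _ ≫ (cmp s).hom.left ≫ _
  rw [hcl]
  simp

end Groth.Agent.Helper3
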