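import Groth.Agent.Lib.helper3.FibFp4
import Groth.Agent.Lib.helper3.FibFp2
import Groth.Agent.Lib.helper3.FibRep
import Mathlib

set_option autoImplicit false
set_option backward.isDefEq.respectTransparency false
universe v₃ u₃ v₂ u₂ v u
open CategoryTheory CategoryTheory.Functor CategoryTheory.Limits

namespace Groth.Agent.Helper3

variable {C : Type u} [Category.{v} C]

theorem selfOver_isFibGrpd : FibCat.IsFibGrpd (FibCat.selfOver C).p := by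
  refine ⟨fun {x V} f => ⟨V, f, ?_⟩, fun {y x} φ => ?_⟩
  · exact (inferInstance : (𝟭 C).IsHomLift ((𝟭 C).map f) f)
  · have h : (FibCat.selfOver C).p.IsHomLift ((FibCat.selfOver C).p.map φ) φ := inferInstance
    exact id_isStronglyCartesian _ φ (h := h)

theorem basedFunctor_ext {𝒳 : BasedCategory.{v₂, u₂} C} {𝒴 : BasedCategory.{v₃, u₃} C} (F G : 𝒳 ⥤ᵇ 𝒴)
    (h : F.toFunctor = G.toFunctor) : F = G := by
  obtain ⟨f, wf⟩ := F
  obtain ⟨g, wg⟩ := G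
  dsimp only at h
  subst h
  rfl

/-- the functor `C/X ⥤ C/Y` over `C` -/
def ovMap {X Y : C} (f : X ⟶ Y) : FibCat.overCat X ⥤ᵇ FibCat.overCat Y :=
  ⟨Over.map f, Over.mapForget_eq f⟩

@[simp] theorem ovMap_obj_left {X Y : C} (f : X ⟶ Y) (A : Over X) : ((ovMap f).obj A).left = A.left := rfl
@[simp] theorem ovMap_obj_hom {X Y : C} (f : X ⟶ Y) (A : Over X) : ((ovMap f).obj A).hom = A.hom ≫ f :=
  Over.map_obj_hom
@[simp] theorem ovMap_map_left {X Y : C} (f : X ⟶ Y) {A B : Over X} (g : A ⟶ B) :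
    ((ovMap f).map g).left = g.left := rfl

theorem over_isHomLift_left' {U : C} {A B : Over U} (g : A ⟶ B) :
    (FibCat.overCat U).p.IsHomLift g.left g :=
  (inferInstance : (Over.forget U).IsHomLift ((Over.forget U).map g) g)

theorem over_isHomLift_of_left_eq {U : C} {A B : Over U} (g : A ⟶ B) {R S : C} (f : R ⟶ S)
    (hA : A.left = R) (hB : B.left = S) (h : g.left = eqToHom hA ≫ f ≫ eqToHom hB.symm) :
    (FibCat.overCat U).p.IsHomLift f g := by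
  subst hA hB
  have h' : g.left = f := by simpa using h
  subst h'
  exact over_isHomLift_left' g

theorem over_left_of_isHomLift {U : C} {A B : Over U} (g : A ⟶ B) {R : C} (f : R ⟶ B.left)
    [h : (FibCat.overCat U).p.IsHomLift f g] (hA : A.left = R) :
    g.left = eqToHom hA ≫ f := by
  have h1 : (Over.forget U).map g = eqToHom hA ≫ f ≫ eqToHom rfl :=
    IsHomLift.fac' (FibCat.overCat U).p f g
  simpa using h1

section Main

variable {𝒮 : BasedCategory.{v, max u v} C}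

theorem rep1_of_diag [HasBinaryProducts C] (h𝒮 : FibCat.IsFibGrpd 𝒮.p)
    (hL : FibCat.IsRepresentable1 (FibCat.diag (FibCat.toSelf 𝒮)))
    (U : C) (G : FibCat.overCat U ⥤ᵇ 𝒮) : FibCat.IsRepresentable1 G := by
  intro V H
  have h𝒫 : FibCat.IsFibGrpd (FibCat.fp (FibCat.toSelf 𝒮) (FibCat.toSelf 𝒮)).p :=
    fp_isFibGrpd _ _ h𝒮 h𝒮 selfOver_isFibGrpd
  have hHG : FibCat.IsFibGrpd (FibCat.fp H G).p :=
    fp_isFibGrpd H G (over_forget_isFibGrpd V) (over_forget_isFibGrpd U) h𝒮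
  let pV : FibCat.overCat (V ⨯ U) ⥤ᵇ FibCat.overCat V := ovMap prod.fst
  let pU : FibCat.overCat (V ⨯ U) ⥤ᵇ FibCat.overCat U := ovMap prod.snd
  let X : FibCat.overCat (V ⨯ U) ⥤ᵇ 𝒮 := BasedFunctor.comp pV H
  let Y : FibCat.overCat (V ⨯ U) ⥤ᵇ 𝒮 := BasedFunctor.comp pU G
  let e : BasedFunctor.comp X (FibCat.toSelf 𝒮) ≅ BasedFunctor.comp Y (FibCat.toSelf 𝒮) :=
    eqToIso (basedFunctor_ext _ _ (X.w.trans Y.w.symm))
  let K : FibCat.overCat (V ⨯ U) ⥤ᵇ FibCat.fp (FibCat.toSelf 𝒮) (FibCat.toSelf 𝒮) :=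
    FibCat.fpLift X Y e
  obtain ⟨t, ⟨ht⟩⟩ := exists_isTerminal_of_isRepresentable (hL (V ⨯ U) K)
  let c : Over (V ⨯ U) := t.obj.fst
  let s : 𝒮.obj := t.obj.snd
  let α : X.obj c ≅ s :=
    (FibCat.fpFst (FibCat.toSelf 𝒮) (FibCat.toSelf 𝒮)).toFunctor.mapIso t.obj.iso
  let β : Y.obj c ≅ s :=
    (FibCat.fpSnd (FibCat.toSelf 𝒮) (FibCat.toSelf 𝒮)).toFunctor.mapIso t.obj.iso
  have hα : 𝒮.p.IsHomLift (𝟙 c.left) α.hom :=
    fp_isHomLift_fst (FibCat.toSelf 𝒮) (FibCat.toSelf 𝒮) (𝟙 _) t.obj.iso.hom (h := t.property)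
  have hβ : 𝒮.p.IsHomLift (𝟙 c.left) β.hom :=
    fp_isHomLift_snd (FibCat.toSelf 𝒮) (FibCat.toSelf 𝒮) (𝟙 _) t.obj.iso.hom (h := t.property)
  have hβi : 𝒮.p.IsHomLift (𝟙 c.left) β.inv := inferInstance
  have hφ₀ : 𝒮.p.IsHomLift (𝟙 c.left) (α.hom ≫ β.inv) := inferInstance
  let t' : (FibCat.fp H G).obj := ⟨⟨pV.obj c, pU.obj c, α ≪≫ β.symm⟩, hφ₀⟩
  suffices hu : ∀ x : (FibCat.fp H G).obj, ∃ m₀ : x ⟶ t', ∀ m : x ⟶ t', m = m₀ by
    have hun : ∀ x : (FibCat.fp H G).obj, Nonempty (Unique (x ⟶ t')) := fun x => by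
      obtain ⟨m₀, hm₀⟩ := hu x
      exact ⟨⟨⟨m₀⟩, hm₀⟩⟩
    have htt : IsTerminal t' := @IsTerminal.ofUnique _ _ t' (fun x => (hun x).some)
    exact isRepresentable_of_isTerminal htt hHG
  intro x
  have hb : x.obj.snd.left = x.obj.fst.left := fp_obj_snd_base H G x
  let a : Over V := x.obj.fst
  let b : Over U := x.obj.snd
  let φ : H.obj a ≅ G.obj b := x.obj.iso
  have hφ : 𝒮.p.IsHomLift (𝟙 a.left) φ.hom := x.property
  let c' : Over (V ⨯ U) := Over.mk (prod.lift a.hom (eqToHom hb.symm ≫ b.hom))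
  let ia : a ≅ pV.obj c' := Over.isoMk (Iso.refl a.left) (by simp [pV, c'])
  let ib : b ≅ pU.obj c' := Over.isoMk (eqToIso hb) (by simp [pU, c'])
  have hia : (FibCat.overCat V).p.IsHomLift (𝟙 a.left) ia.inv :=
    over_isHomLift_of_left_eq ia.inv (𝟙 a.left) rfl rfl (by simp [ia]; rfl)
  have hib : (FibCat.overCat U).p.IsHomLift (𝟙 a.left) ib.inv :=
    over_isHomLift_of_left_eq ib.inv (𝟙 a.left) rfl hb (by simp [ib])
  have hHia : 𝒮.p.IsHomLift (𝟙 a.left) (H.map ia.inv) := BasedFunctor.preserves_isHomLift H _ _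
  have hGib : 𝒮.p.IsHomLift (𝟙 a.left) (G.map ib.inv) := BasedFunctor.preserves_isHomLift G _ _
  have h1 : 𝒮.p.IsHomLift (𝟙 a.left) (H.map ia.inv ≫ φ.hom) := inferInstance
  let m1 : K.obj c' ⟶ (FibCat.diag (FibCat.toSelf 𝒮)).obj (G.obj b) :=
    fpSelfHomMk (x := K.obj c') (y := (FibCat.diag (FibCat.toSelf 𝒮)).obj (G.obj b)) (𝟙 a.left)
      (H.map ia.inv ≫ φ.hom) (G.map ib.inv)
  have hm1 : (FibCat.fp (FibCat.toSelf 𝒮) (FibCat.toSelf 𝒮)).p.IsHomLift (𝟙 a.left) m1 :=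
    fp_isHomLift_of_fst _ _ (𝟙 a.left) m1 (h := h1)
  have im1 : IsIso m1 :=
    IsFibGrpd.isIso_of_isHomLift_isIso (FibCat.fp (FibCat.toSelf 𝒮) (FibCat.toSelf 𝒮)).p (𝟙 a.left) m1
  let x' : (FibCat.fp K (FibCat.diag (FibCat.toSelf 𝒮))).obj := ⟨⟨c', G.obj b, asIso m1⟩, hm1⟩
  let u : x' ⟶ t := ht.from x'
  let k : c' ⟶ c := u.hom.fst
  let σ : G.obj b ⟶ s := u.hom.snd
  have hw := u.hom.w
  have w1 : X.map k ≫ α.hom = (H.map ia.inv ≫ φ.hom) ≫ σ := congrArg (fun q => q.hom.fst) hw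
  have w2 : Y.map k ≫ β.hom = G.map ib.inv ≫ σ := congrArg (fun q => q.hom.snd) hw
  have w2' : Y.map k = (G.map ib.inv ≫ σ) ≫ β.inv := by
    rw [← w2, Category.assoc, Iso.hom_inv_id, Category.comp_id]
  have hHi : H.map ia.hom ≫ H.map ia.inv = 𝟙 _ := by
    rw [← CategoryTheory.Functor.map_comp, Iso.hom_inv_id, CategoryTheory.Functor.map_id]
  have hGi : G.map ib.hom ≫ G.map ib.inv = 𝟙 _ := by
    rw [← CategoryTheory.Functor.map_comp, Iso.hom_inv_id, CategoryTheory.Functor.map_id]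
  have w₀ : H.map (ia.hom ≫ pV.map k) ≫ (α.hom ≫ β.inv) = φ.hom ≫ G.map (ib.hom ≫ pU.map k) := by
    have e1 : H.map (pV.map k) = X.map k := rfl
    have e2 : G.map (pU.map k) = Y.map k := rfl
    rw [CategoryTheory.Functor.map_comp, CategoryTheory.Functor.map_comp, e1, e2, w2']
    calc (H.map ia.hom ≫ X.map k) ≫ α.hom ≫ β.inv
        = H.map ia.hom ≫ (X.map k ≫ α.hom) ≫ β.inv := by simp only [Category.assoc]
      _ = H.map ia.hom ≫ ((H.map ia.inv ≫ φ.hom) ≫ σ) ≫ β.inv := by rw [w1]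
      _ = (H.map ia.hom ≫ H.map ia.inv) ≫ φ.hom ≫ σ ≫ β.inv := by simp only [Category.assoc]
      _ = φ.hom ≫ σ ≫ β.inv := by rw [hHi, Category.id_comp]
      _ = φ.hom ≫ (G.map ib.hom ≫ G.map ib.inv) ≫ σ ≫ β.inv := by rw [hGi, Category.id_comp]
      _ = φ.hom ≫ G.map ib.hom ≫ (G.map ib.inv ≫ σ) ≫ β.inv := by simp only [Category.assoc]
  let m₀ : x ⟶ t' := ObjectProperty.homMk ⟨ia.hom ≫ pV.map k, ib.hom ≫ pU.map k, w₀⟩
  refine ⟨m₀, fun m => ?_⟩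
  let f : a ⟶ pV.obj c := m.hom.fst
  let g : b ⟶ pU.obj c := m.hom.snd
  have hmw : H.map f ≫ (α.hom ≫ β.inv) = φ.hom ≫ G.map g := m.hom.w
  have hsnd : (FibCat.overCat U).p.IsHomLift f.left g := FibCat.fp_isHomLift_snd H G m
  have hg : g.left = eqToHom hb ≫ f.left := over_left_of_isHomLift g f.left hb
  have hfa : f.left ≫ c.hom ≫ prod.fst = a.hom := by
    have := Over.w f
    simpa [pV] using this
  have hgb : g.left ≫ c.hom ≫ prod.snd = b.hom := by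
    have := Over.w g
    simpa [pU] using this
  have hk' : f.left ≫ c.hom = c'.hom := by
    change f.left ≫ c.hom = prod.lift a.hom (eqToHom hb.symm ≫ b.hom)
    apply Limits.prod.hom_ext
    · rw [Category.assoc, hfa, prod.lift_fst]
    · rw [Category.assoc, prod.lift_snd, ← hgb, hg]
      simp
  let k' : c' ⟶ c := Over.homMk f.left hk'
  have hpVk' : pV.map k' = ia.inv ≫ f := by
    apply Over.OverMorphism.ext
    simp [pV, ia, k']
    exact (Category.id_comp _).symm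
  have hpUk' : pU.map k' = ib.inv ≫ g := by
    apply Over.OverMorphism.ext
    simp [pU, ib, k', hg]
  have hfα : H.map f ≫ α.hom = φ.hom ≫ G.map g ≫ β.hom := by
    have := congrArg (fun q => q ≫ β.hom) hmw
    simpa only [Category.assoc, Iso.inv_hom_id, Category.comp_id] using this
  let u' : x' ⟶ t := ObjectProperty.homMk ⟨k', G.map g ≫ β.hom, by
    apply fp_hom_ext (FibCat.toSelf 𝒮) (FibCat.toSelf 𝒮)
    · change X.map k' ≫ α.hom = (H.map ia.inv ≫ φ.hom) ≫ (G.map g ≫ β.hom)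
      have e1 : X.map k' = H.map (pV.map k') := rfl
      rw [e1, hpVk', CategoryTheory.Functor.map_comp, Category.assoc, hfα, Category.assoc]
    · change Y.map k' ≫ β.hom = G.map ib.inv ≫ (G.map g ≫ β.hom)
      have e2 : Y.map k' = G.map (pU.map k') := rfl
      rw [e2, hpUk', CategoryTheory.Functor.map_comp, Category.assoc]⟩
  have huu : u' = u := ht.hom_ext _ _
  have hkk : k' = k := congrArg (fun q => q.hom.fst) huu
  apply fp_hom_ext H G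
  · change f = ia.hom ≫ pV.map k
    rw [← hkk, hpVk', Iso.hom_inv_id_assoc]
  · change g = ib.hom ≫ pU.map k
    rw [← hkk, hpUk', Iso.hom_inv_id_assoc]


theorem diag_of_rep1 [HasBinaryProducts C] [HasPullbacks C] (h𝒮 : FibCat.IsFibGrpd 𝒮.p)
    (hR : ∀ (U : C) (G : FibCat.overCat U ⥤ᵇ 𝒮), FibCat.IsRepresentable1 G) :
    FibCat.IsRepresentable1 (FibCat.diag (FibCat.toSelf 𝒮)) := by
  intro W K
  have := hasEqualizers_of_hasPullbacks_and_binary_products (C := C)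
  have h𝒫 : FibCat.IsFibGrpd (FibCat.fp (FibCat.toSelf 𝒮) (FibCat.toSelf 𝒮)).p :=
    fp_isFibGrpd _ _ h𝒮 h𝒮 selfOver_isFibGrpd
  have hKΔ : FibCat.IsFibGrpd (FibCat.fp K (FibCat.diag (FibCat.toSelf 𝒮))).p :=
    fp_isFibGrpd K (FibCat.diag (FibCat.toSelf 𝒮)) (over_forget_isFibGrpd W) h𝒮 h𝒫
  let X : FibCat.overCat W ⥤ᵇ 𝒮 :=
    BasedFunctor.comp K (FibCat.fpFst (FibCat.toSelf 𝒮) (FibCat.toSelf 𝒮))
  let Y : FibCat.overCat W ⥤ᵇ 𝒮 :=
    BasedFunctor.comp K (FibCat.fpSnd (FibCat.toSelf 𝒮) (FibCat.toSelf 𝒮))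
  obtain ⟨t, ⟨ht⟩⟩ := exists_isTerminal_of_isRepresentable (hR W Y W X)
  have hb : t.obj.snd.left = t.obj.fst.left := fp_obj_snd_base X Y t
  let a : Over W := t.obj.fst
  let b : Over W := t.obj.snd
  let φ : X.obj a ≅ Y.obj b := t.obj.iso
  have hφ : 𝒮.p.IsHomLift (𝟙 a.left) φ.hom := t.property
  let b' : a.left ⟶ W := eqToHom hb.symm ≫ b.hom
  let E : C := equalizer a.hom b'
  let e : E ⟶ a.left := equalizer.ι a.hom b'
  have he : e ≫ a.hom = e ≫ b' := equalizer.condition _ _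
  let c : Over W := Over.mk (e ≫ a.hom)
  let ea : c ⟶ a := Over.homMk e rfl
  let eb : c ⟶ b := Over.homMk (e ≫ eqToHom hb.symm) (by
    rw [Category.assoc]; exact he.symm)
  have hYeb : 𝒮.p.IsHomLift (e ≫ eqToHom hb.symm) (Y.map eb) := by
    have : (FibCat.overCat W).p.IsHomLift (e ≫ eqToHom hb.symm) eb := over_isHomLift_left' eb
    exact BasedFunctor.preserves_isHomLift Y _ _
  have hsc : 𝒮.p.IsStronglyCartesian (e ≫ eqToHom hb.symm) (Y.map eb) :=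
    IsFibGrpd.isStronglyCartesian 𝒮.p _ _
  have hXea : 𝒮.p.IsHomLift e (X.map ea) := by
    have : (FibCat.overCat W).p.IsHomLift e ea := over_isHomLift_left' ea
    exact BasedFunctor.preserves_isHomLift X _ _
  have hcomp0 : 𝒮.p.IsHomLift e (X.map ea ≫ φ.hom) := inferInstance
  have hcomp : 𝒮.p.IsHomLift (e ≫ eqToHom hb.symm) (X.map ea ≫ φ.hom) := inferInstance
  let ψ : X.obj c ⟶ Y.obj c :=
    IsStronglyCartesian.map 𝒮.p (e ≫ eqToHom hb.symm) (Y.map eb) (g := 𝟙 E)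
      (f' := e ≫ eqToHom hb.symm) (Category.id_comp _).symm (X.map ea ≫ φ.hom)
  have hψ : 𝒮.p.IsHomLift (𝟙 E) ψ :=
    IsStronglyCartesian.map_isHomLift 𝒮.p (e ≫ eqToHom hb.symm) (Y.map eb)
      (Category.id_comp _).symm (X.map ea ≫ φ.hom)
  have hψfac : ψ ≫ Y.map eb = X.map ea ≫ φ.hom :=
    IsStronglyCartesian.fac 𝒮.p (e ≫ eqToHom hb.symm) (Y.map eb)
      (Category.id_comp _).symm (X.map ea ≫ φ.hom)
  have hidY : 𝒮.p.IsHomLift (𝟙 E) (𝟙 (Y.obj c)) := IsHomLift.id (Y.w_obj c)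
  let m0 : K.obj c ⟶ (FibCat.diag (FibCat.toSelf 𝒮)).obj (Y.obj c) :=
    fpSelfHomMk (x := K.obj c) (y := (FibCat.diag (FibCat.toSelf 𝒮)).obj (Y.obj c)) (𝟙 E)
      ψ (𝟙 (Y.obj c))
  have hm0 : (FibCat.fp (FibCat.toSelf 𝒮) (FibCat.toSelf 𝒮)).p.IsHomLift (𝟙 E) m0 :=
    fp_isHomLift_of_fst _ _ (𝟙 E) m0 (h := hψ)
  have im0 : IsIso m0 :=
    IsFibGrpd.isIso_of_isHomLift_isIso (FibCat.fp (FibCat.toSelf 𝒮) (FibCat.toSelf 𝒮)).p (𝟙 E) m0
  let T₀ : (FibCat.fp K (FibCat.diag (FibCat.toSelf 𝒮))).obj := ⟨⟨c, Y.obj c, asIso m0⟩, hm0⟩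
  suffices hu : ∀ x : (FibCat.fp K (FibCat.diag (FibCat.toSelf 𝒮))).obj,
      ∃ m₀ : x ⟶ T₀, ∀ m : x ⟶ T₀, m = m₀ by
    have hun : ∀ x : (FibCat.fp K (FibCat.diag (FibCat.toSelf 𝒮))).obj,
        Nonempty (Unique (x ⟶ T₀)) := fun x => by
      obtain ⟨m₀, hm₀⟩ := hu x
      exact ⟨⟨⟨m₀⟩, hm₀⟩⟩
    have htt : IsTerminal T₀ := @IsTerminal.ofUnique _ _ T₀ (fun x => (hun x).some)
    exact isRepresentable_of_isTerminal htt hKΔ
  intro x
  let c' : Over W := x.obj.fst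
  let s' : 𝒮.obj := x.obj.snd
  let α' : X.obj c' ≅ s' :=
    (FibCat.fpFst (FibCat.toSelf 𝒮) (FibCat.toSelf 𝒮)).toFunctor.mapIso x.obj.iso
  let β' : Y.obj c' ≅ s' :=
    (FibCat.fpSnd (FibCat.toSelf 𝒮) (FibCat.toSelf 𝒮)).toFunctor.mapIso x.obj.iso
  have hα' : 𝒮.p.IsHomLift (𝟙 c'.left) α'.hom :=
    fp_isHomLift_fst (FibCat.toSelf 𝒮) (FibCat.toSelf 𝒮) (𝟙 _) x.obj.iso.hom (h := x.property)
  have hβ' : 𝒮.p.IsHomLift (𝟙 c'.left) β'.hom :=
    fp_isHomLift_snd (FibCat.toSelf 𝒮) (FibCat.toSelf 𝒮) (𝟙 _) x.obj.iso.hom (h := x.property)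
  have hβi' : 𝒮.p.IsHomLift (𝟙 c'.left) β'.inv := inferInstance
  have hφ' : 𝒮.p.IsHomLift (𝟙 c'.left) (α'.hom ≫ β'.inv) := inferInstance
  let x₁ : (FibCat.fp X Y).obj := ⟨⟨c', c', α' ≪≫ β'.symm⟩, hφ'⟩
  let u : x₁ ⟶ t := ht.from x₁
  let f : c' ⟶ a := u.hom.fst
  let g : c' ⟶ b := u.hom.snd
  have huw : X.map f ≫ φ.hom = (α'.hom ≫ β'.inv) ≫ Y.map g := u.hom.w
  have hsnd : (FibCat.overCat W).p.IsHomLift f.left g := FibCat.fp_isHomLift_snd X Y u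
  have hg : g.left = f.left ≫ eqToHom hb.symm := by
    have h1 : (Over.forget W).map g = eqToHom rfl ≫ f.left ≫ eqToHom hb.symm :=
      IsHomLift.fac' (FibCat.overCat W).p f.left g
    simpa using h1
  have hfa : f.left ≫ a.hom = c'.hom := Over.w f
  have hgb : g.left ≫ b.hom = c'.hom := Over.w g
  have heq : f.left ≫ a.hom = f.left ≫ b' := by
    rw [hfa, ← hgb, hg, Category.assoc]
  let k₀ : c'.left ⟶ E := equalizer.lift f.left heq
  have hk₀ : k₀ ≫ e = f.left := equalizer.lift_ι _ _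
  let k : c' ⟶ c := Over.homMk k₀ (by
    change k₀ ≫ e ≫ a.hom = c'.hom
    rw [← Category.assoc, hk₀, hfa])
  have hkea : k ≫ ea = f := by
    apply Over.OverMorphism.ext
    exact hk₀
  have hkeb : k ≫ eb = g := by
    apply Over.OverMorphism.ext
    change k₀ ≫ e ≫ eqToHom hb.symm = g.left
    rw [hg, ← Category.assoc, hk₀]
  let σ : s' ⟶ Y.obj c := β'.inv ≫ Y.map k
  have hXk : 𝒮.p.IsHomLift k₀ (X.map k) := by
    have : (FibCat.overCat W).p.IsHomLift k₀ k := over_isHomLift_left' k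
    exact BasedFunctor.preserves_isHomLift X _ _
  have hYk : 𝒮.p.IsHomLift k₀ (Y.map k) := by
    have : (FibCat.overCat W).p.IsHomLift k₀ k := over_isHomLift_left' k
    exact BasedFunctor.preserves_isHomLift Y _ _
  have key : X.map k ≫ ψ = α'.hom ≫ σ := by
    have hl1 : 𝒮.p.IsHomLift k₀ (X.map k ≫ ψ) := inferInstance
    have hl2a : 𝒮.p.IsHomLift k₀ (β'.inv ≫ Y.map k) := inferInstance
    have hl2 : 𝒮.p.IsHomLift k₀ (α'.hom ≫ σ) := inferInstance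
    apply IsStronglyCartesian.ext 𝒮.p (e ≫ eqToHom hb.symm) (Y.map eb) k₀
    rw [Category.assoc, hψfac, ← Category.assoc, ← CategoryTheory.Functor.map_comp, hkea, huw]
    change _ = (α'.hom ≫ β'.inv ≫ Y.map k) ≫ Y.map eb
    rw [Category.assoc, Category.assoc, Category.assoc, ← CategoryTheory.Functor.map_comp, hkeb]
  let m₀ : x ⟶ T₀ := ObjectProperty.homMk ⟨k, σ, by
    apply fp_hom_ext (FibCat.toSelf 𝒮) (FibCat.toSelf 𝒮)
    · exact key
    · change Y.map k ≫ 𝟙 _ = β'.hom ≫ β'.inv ≫ Y.map k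
      rw [Category.comp_id, Iso.hom_inv_id_assoc]⟩
  refine ⟨m₀, fun m => ?_⟩
  let k₁ : c' ⟶ c := m.hom.fst
  let σ₁ : s' ⟶ Y.obj c := m.hom.snd
  have hmw := m.hom.w
  have w1 : X.map k₁ ≫ ψ = α'.hom ≫ σ₁ := congrArg (fun q => q.hom.fst) hmw
  have w2 : Y.map k₁ ≫ 𝟙 _ = β'.hom ≫ σ₁ := congrArg (fun q => q.hom.snd) hmw
  have hσ₁ : σ₁ = β'.inv ≫ Y.map k₁ := by
    rw [← Category.comp_id (Y.map k₁), w2, Iso.inv_hom_id_assoc]
  let u₁ : x₁ ⟶ t := ObjectProperty.homMk ⟨k₁ ≫ ea, k₁ ≫ eb, by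
    change X.map (k₁ ≫ ea) ≫ φ.hom = (α'.hom ≫ β'.inv) ≫ Y.map (k₁ ≫ eb)
    rw [CategoryTheory.Functor.map_comp, CategoryTheory.Functor.map_comp, Category.assoc, ← hψfac,
      ← Category.assoc, w1, hσ₁]
    simp only [Category.assoc]⟩
  have huu : u₁ = u := ht.hom_ext _ _
  have hk1 : k₁ ≫ ea = f := congrArg (fun q => q.hom.fst) huu
  have hkl : k₁.left = k₀ := by
    apply equalizer.hom_ext
    rw [hk₀]
    exact congrArg (fun q => q.left) hk1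
  have hkk : k₁ = k := Over.OverMorphism.ext hkl
  apply fp_hom_ext K (FibCat.diag (FibCat.toSelf 𝒮))
  · exact hkk
  · change σ₁ = β'.inv ≫ Y.map k
    rw [hσ₁, hkk]


end Main

end Groth.Agent.Helper3
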