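import Groth.Agent.Lib.helper3.FibGrpd

set_option autoImplicit false
universe v₃ u₃ v₂ u₂ v u
open CategoryTheory CategoryTheory.Functor

namespace Groth.Agent.Helper3

variable {C : Type u} [Category.{v} C] {𝒳 : BasedCategory.{v₂, u₂} C} {𝒴 : BasedCategory.{v₃, u₃} C}

theorem isHomLift_id_of_eq {𝒵 : Type*} [Category 𝒵] (p : 𝒵 ⥤ C) {S S' : C} (h : S = S') {a b : 𝒵} (φ : a ⟶ b)
    [hl : p.IsHomLift (𝟙 S) φ] : p.IsHomLift (𝟙 S') φ := by
  subst h; exact hl

/-- The "fully faithful + essentially surjective over the base" characterisation. -/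
def EssOver (F : 𝒳 ⥤ᵇ 𝒴) : Prop :=
  ∀ η : 𝒴.obj, ∃ (ξ : 𝒳.obj) (e : F.toFunctor.obj ξ ≅ η), 𝒴.p.IsHomLift (𝟙 (𝒴.p.obj η)) e.hom

theorem isEquivalence_of_isEquivOver (F : 𝒳 ⥤ᵇ 𝒴) (h : FibCat.IsEquivOver F) :
    F.toFunctor.IsEquivalence := by
  obtain ⟨G, ⟨α⟩, ⟨β⟩⟩ := h
  let α' : F.toFunctor ⋙ G.toFunctor ≅ 𝟭 _ := (BasedNatTrans.forgetful _ _).mapIso α
  let β' : G.toFunctor ⋙ F.toFunctor ≅ 𝟭 _ := (BasedNatTrans.forgetful _ _).mapIso β
  exact (CategoryTheory.Equivalence.mk F.toFunctor G.toFunctor α'.symm β').isEquivalence_functor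

theorem essOver_of_isEquivOver (F : 𝒳 ⥤ᵇ 𝒴) (h : FibCat.IsEquivOver F) : EssOver F := by
  obtain ⟨G, ⟨α⟩, ⟨β⟩⟩ := h
  intro η
  let β' : G.toFunctor ⋙ F.toFunctor ≅ 𝟭 _ := (BasedNatTrans.forgetful _ _).mapIso β
  refine ⟨G.obj η, β'.app η, ?_⟩
  exact β.hom.isHomLift' η

section Inverse

variable (F : 𝒳 ⥤ᵇ 𝒴) [F.toFunctor.Full] [F.toFunctor.Faithful] (hess : EssOver F)

noncomputable def invObj (η : 𝒴.obj) : 𝒳.obj := (hess η).choose

noncomputable def invIso₀ (η : 𝒴.obj) : F.toFunctor.obj (invObj F hess η) ≅ η :=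
  (hess η).choose_spec.choose

theorem invIso₀_isHomLift (η : 𝒴.obj) : 𝒴.p.IsHomLift (𝟙 (𝒴.p.obj η)) (invIso₀ F hess η).hom :=
  (hess η).choose_spec.choose_spec

noncomputable def invFunctor : 𝒴.obj ⥤ 𝒳.obj where
  obj := invObj F hess
  map {η η'} f := F.toFunctor.preimage ((invIso₀ F hess η).hom ≫ f ≫ (invIso₀ F hess η').inv)
  map_id η := by
    apply F.toFunctor.map_injective
    simp
  map_comp f g := by
    apply F.toFunctor.map_injective
    simp

noncomputable def invIso (η : 𝒴.obj) : F.toFunctor.obj ((invFunctor F hess).obj η) ≅ η :=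
  invIso₀ F hess η

instance invIso_isHomLift (η : 𝒴.obj) : 𝒴.p.IsHomLift (𝟙 (𝒴.p.obj η)) (invIso F hess η).hom :=
  invIso₀_isHomLift F hess η

instance invIso_inv_isHomLift (η : 𝒴.obj) : 𝒴.p.IsHomLift (𝟙 (𝒴.p.obj η)) (invIso F hess η).inv :=
  IsHomLift.lift_id_inv _ _ _

theorem map_invFunctor_map {η η' : 𝒴.obj} (f : η ⟶ η') :
    F.toFunctor.map ((invFunctor F hess).map f) =
      (invIso F hess η).hom ≫ f ≫ (invIso F hess η').inv :=
  F.toFunctor.map_preimage _

instance invFunctor_map_isHomLift {η η' : 𝒴.obj} (f : η ⟶ η') :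
    𝒳.p.IsHomLift (𝒴.p.map f) ((invFunctor F hess).map f) := by
  rw [← BasedFunctor.isHomLift_iff F]
  change 𝒴.p.IsHomLift (𝒴.p.map f) (F.toFunctor.map ((invFunctor F hess).map f))
  rw [map_invFunctor_map]
  infer_instance

noncomputable def invBased : 𝒴 ⥤ᵇ 𝒳 where
  toFunctor := invFunctor F hess
  w := by
    refine Functor.ext (fun η => ?_) (fun η η' f => ?_)
    · exact IsHomLift.domain_eq 𝒳.p (𝒴.p.map (𝟙 η)) ((invFunctor F hess).map (𝟙 η))
    · exact IsHomLift.fac' 𝒳.p (𝒴.p.map f) ((invFunctor F hess).map f)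

noncomputable def invCounit : BasedFunctor.comp (invBased F hess) F ≅ BasedFunctor.id 𝒴 :=
  BasedNatIso.mkNatIso
    (NatIso.ofComponents (fun η => invIso F hess η) (fun {η η'} f => by
      change F.toFunctor.map ((invFunctor F hess).map f) ≫ _ = _ ≫ f
      rw [map_invFunctor_map]; simp))
    (fun η => by
      change 𝒴.p.IsHomLift (𝟙 (𝒴.p.obj η)) (invIso F hess η).hom
      infer_instance)

noncomputable def invUnit : BasedFunctor.comp F (invBased F hess) ≅ BasedFunctor.id 𝒳 :=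
  BasedNatIso.mkNatIso
    (NatIso.ofComponents (fun x => F.toFunctor.preimageIso (invIso F hess (F.toFunctor.obj x)))
      (fun {x x'} f => by
        apply F.toFunctor.map_injective
        change F.toFunctor.map ((invFunctor F hess).map (F.toFunctor.map f) ≫ _) = F.toFunctor.map (_ ≫ f)
        rw [Functor.map_comp, map_invFunctor_map]
        simp only [Functor.preimageIso_hom, Functor.map_comp, Category.assoc]
        erw [Functor.map_preimage, Functor.map_preimage]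
        simp))
    (fun x => by
      change 𝒳.p.IsHomLift (𝟙 (𝒳.p.obj x)) (F.toFunctor.preimage (invIso F hess (F.toFunctor.obj x)).hom)
      rw [← BasedFunctor.isHomLift_iff F]
      change 𝒴.p.IsHomLift _ (F.toFunctor.map (F.toFunctor.preimage (invIso F hess (F.toFunctor.obj x)).hom))
      rw [Functor.map_preimage]
      exact isHomLift_id_of_eq 𝒴.p (F.w_obj x) _)

include hess in
theorem isEquivOver_of_essOver : FibCat.IsEquivOver F :=
  ⟨invBased F hess, ⟨invUnit F hess⟩, ⟨invCounit F hess⟩⟩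

end Inverse

theorem isEquivOver_iff (F : 𝒳 ⥤ᵇ 𝒴) :
    FibCat.IsEquivOver F ↔ (F.toFunctor.Full ∧ F.toFunctor.Faithful) ∧ EssOver F := by
  constructor
  · intro h
    have := isEquivalence_of_isEquivOver F h
    exact ⟨⟨inferInstance, inferInstance⟩, essOver_of_isEquivOver F h⟩
  · rintro ⟨⟨h1, h2⟩, h3⟩
    exact isEquivOver_of_essOver F h3

end Groth.Agent.Helper3
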