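import Groth.Agent.Lib.helper3.FibEquiv

set_option autoImplicit false
universe v₃ u₃ v₂ u₂ v u
open CategoryTheory CategoryTheory.Functor

namespace Groth.Agent.Helper3

variable {C : Type u} [Category.{v} C] {𝒳 : BasedCategory.{v₂, u₂} C} {𝒴 : BasedCategory.{v₃, u₃} C}

section

variable (F : 𝒳 ⥤ᵇ 𝒴) [F.toFunctor.Full] [F.toFunctor.Faithful]

theorem isHomLift_preimage {R S : C} (f : R ⟶ S) {a b : 𝒳.obj} (ψ : F.toFunctor.obj a ⟶ F.toFunctor.obj b)
    [h : 𝒴.p.IsHomLift f ψ] : 𝒳.p.IsHomLift f (F.toFunctor.preimage ψ) := by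
  rw [← BasedFunctor.isHomLift_iff F]
  have : F.toFunctor.map (F.toFunctor.preimage ψ) = ψ := F.toFunctor.map_preimage ψ
  change 𝒴.p.IsHomLift f (F.toFunctor.map (F.toFunctor.preimage ψ))
  rw [this]; exact h

/-- A fully faithful functor over the base reflects strongly cartesian morphisms. -/
theorem isStronglyCartesian_of_map {R S : C} (f : R ⟶ S) {a b : 𝒳.obj} (φ : a ⟶ b)
    [h : 𝒴.p.IsStronglyCartesian f (F.toFunctor.map φ)] : 𝒳.p.IsStronglyCartesian f φ := by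
  have hl : 𝒳.p.IsHomLift f φ := (BasedFunctor.isHomLift_iff F f φ).1 h.toIsHomLift
  refine { toIsHomLift := hl, universal_property' := ?_ }
  intro a' g φ' hφ'
  have h1 : 𝒴.p.IsHomLift (g ≫ f) (F.toFunctor.map φ') := BasedFunctor.preserves_isHomLift F _ _
  obtain ⟨χ', ⟨hχ'a, hχ'b⟩, hχ'u⟩ :=
    Functor.IsStronglyCartesian.universal_property (p := 𝒴.p) (f := f) (φ := F.toFunctor.map φ)
      g (g ≫ f) rfl (F.toFunctor.map φ')
  refine ⟨F.toFunctor.preimage χ', ⟨isHomLift_preimage F g χ', ?_⟩, ?_⟩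
  · apply F.toFunctor.map_injective
    rw [Functor.map_comp, Functor.map_preimage]
    exact hχ'b
  · rintro χ₂ ⟨hχ₂a, hχ₂b⟩
    apply F.toFunctor.map_injective
    rw [Functor.map_preimage]
    apply hχ'u
    refine ⟨BasedFunctor.preserves_isHomLift F _ _, ?_⟩
    rw [← Functor.map_comp, hχ₂b]

/-- A fully faithful functor over the base reflects cartesian morphisms. -/
theorem isCartesian_of_map {R S : C} (f : R ⟶ S) {a b : 𝒳.obj} (φ : a ⟶ b)
    [h : 𝒴.p.IsCartesian f (F.toFunctor.map φ)] : 𝒳.p.IsCartesian f φ := by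
  have hl : 𝒳.p.IsHomLift f φ := (BasedFunctor.isHomLift_iff F f φ).1 h.toIsHomLift
  refine { toIsHomLift := hl, universal_property := ?_ }
  intro a' φ' hφ'
  have h1 : 𝒴.p.IsHomLift f (F.toFunctor.map φ') := BasedFunctor.preserves_isHomLift F _ _
  obtain ⟨χ', ⟨hχ'a, hχ'b⟩, hχ'u⟩ :=
    Functor.IsCartesian.universal_property (p := 𝒴.p) (f := f) (φ := F.toFunctor.map φ)
      (F.toFunctor.map φ')
  refine ⟨F.toFunctor.preimage χ', ⟨isHomLift_preimage F (𝟙 R) χ', ?_⟩, ?_⟩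
  · apply F.toFunctor.map_injective
    rw [Functor.map_comp, Functor.map_preimage]
    exact hχ'b
  · rintro χ₂ ⟨hχ₂a, hχ₂b⟩
    apply F.toFunctor.map_injective
    rw [Functor.map_preimage]
    apply hχ'u
    refine ⟨BasedFunctor.preserves_isHomLift F _ _, ?_⟩
    rw [← Functor.map_comp, hχ₂b]

variable (hess : EssOver F)

include hess in
/-- An equivalence over the base preserves strongly cartesian morphisms. -/
theorem isStronglyCartesian_map_of_essOver {R S : C} (f : R ⟶ S) {a b : 𝒳.obj} (φ : a ⟶ b)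
    [h : 𝒳.p.IsStronglyCartesian f φ] : 𝒴.p.IsStronglyCartesian f (F.toFunctor.map φ) := by
  have hl : 𝒴.p.IsHomLift f (F.toFunctor.map φ) := BasedFunctor.preserves_isHomLift F _ _
  refine { toIsHomLift := hl, universal_property' := ?_ }
  intro b' g ψ hψ
  obtain ⟨a', e, he⟩ := hess b'
  have he' : 𝒴.p.IsHomLift (𝟙 (𝒴.p.obj b')) e.inv := IsHomLift.lift_id_inv _ _ _
  have h1 : 𝒴.p.IsHomLift (g ≫ f) (e.hom ≫ ψ) := inferInstance
  have h2 : 𝒳.p.IsHomLift (g ≫ f) (F.toFunctor.preimage (e.hom ≫ ψ)) := isHomLift_preimage F _ _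
  obtain ⟨χ₀, ⟨hχ₀a, hχ₀b⟩, hχ₀u⟩ :=
    Functor.IsStronglyCartesian.universal_property (p := 𝒳.p) (f := f) (φ := φ)
      g (g ≫ f) rfl (F.toFunctor.preimage (e.hom ≫ ψ))
  have h3 : 𝒴.p.IsHomLift g (F.toFunctor.map χ₀) := BasedFunctor.preserves_isHomLift F _ _
  refine ⟨e.inv ≫ F.toFunctor.map χ₀, ⟨inferInstance, ?_⟩, ?_⟩
  · rw [Category.assoc, ← Functor.map_comp, hχ₀b, Functor.map_preimage, Iso.inv_hom_id_assoc]
  · rintro χ' ⟨hχ'a, hχ'b⟩
    have h4 : 𝒴.p.IsHomLift g (e.hom ≫ χ') := inferInstance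
    have h5 : 𝒳.p.IsHomLift g (F.toFunctor.preimage (e.hom ≫ χ')) := isHomLift_preimage F _ _
    have h6 : F.toFunctor.preimage (e.hom ≫ χ') = χ₀ := by
      apply hχ₀u
      refine ⟨h5, ?_⟩
      apply F.toFunctor.map_injective
      rw [Functor.map_comp, Functor.map_preimage, Functor.map_preimage, Category.assoc, hχ'b]
    rw [← h6, Functor.map_preimage, Iso.inv_hom_id_assoc]

include hess in
/-- An equivalence over the base preserves cartesian morphisms. -/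
theorem isCartesian_map_of_essOver {R S : C} (f : R ⟶ S) {a b : 𝒳.obj} (φ : a ⟶ b)
    [h : 𝒳.p.IsCartesian f φ] : 𝒴.p.IsCartesian f (F.toFunctor.map φ) := by
  have hl : 𝒴.p.IsHomLift f (F.toFunctor.map φ) := BasedFunctor.preserves_isHomLift F _ _
  refine { toIsHomLift := hl, universal_property := ?_ }
  intro b' ψ hψ
  obtain ⟨a', e, he⟩ := hess b'
  have hR : 𝒴.p.obj b' = R := IsHomLift.domain_eq 𝒴.p f ψ
  subst hR
  have he' : 𝒴.p.IsHomLift (𝟙 (𝒴.p.obj b')) e.inv := IsHomLift.lift_id_inv _ _ _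
  have h1 : 𝒴.p.IsHomLift f (e.hom ≫ ψ) := inferInstance
  have h2 : 𝒳.p.IsHomLift f (F.toFunctor.preimage (e.hom ≫ ψ)) := isHomLift_preimage F _ _
  obtain ⟨χ₀, ⟨hχ₀a, hχ₀b⟩, hχ₀u⟩ :=
    Functor.IsCartesian.universal_property (p := 𝒳.p) (f := f) (φ := φ)
      (F.toFunctor.preimage (e.hom ≫ ψ))
  have h3 : 𝒴.p.IsHomLift (𝟙 (𝒴.p.obj b')) (F.toFunctor.map χ₀) := BasedFunctor.preserves_isHomLift F _ _
  refine ⟨e.inv ≫ F.toFunctor.map χ₀, ⟨inferInstance, ?_⟩, ?_⟩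
  · rw [Category.assoc, ← Functor.map_comp, hχ₀b, Functor.map_preimage, Iso.inv_hom_id_assoc]
  · rintro χ' ⟨hχ'a, hχ'b⟩
    have h4 : 𝒴.p.IsHomLift (𝟙 (𝒴.p.obj b')) (e.hom ≫ χ') := inferInstance
    have h5 : 𝒳.p.IsHomLift (𝟙 (𝒴.p.obj b')) (F.toFunctor.preimage (e.hom ≫ χ')) := isHomLift_preimage F _ _
    have h6 : F.toFunctor.preimage (e.hom ≫ χ') = χ₀ := by
      apply hχ₀u
      refine ⟨h5, ?_⟩
      apply F.toFunctor.map_injective
      rw [Functor.map_comp, Functor.map_preimage, Functor.map_preimage, Category.assoc, hχ'b]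
    rw [← h6, Functor.map_preimage, Iso.inv_hom_id_assoc]

end

end Groth.Agent.Helper3

namespace Groth.Agent.Helper3

variable {C : Type u} [Category.{v} C] {𝒳 : BasedCategory.{v₂, u₂} C} {𝒴 : BasedCategory.{v₃, u₃} C}

theorem exists_isStronglyCartesian_of_isFibered {𝒵 : Type*} [Category 𝒵] (p : 𝒵 ⥤ C) [p.IsFibered]
    (a : 𝒵) {S : C} (hS : p.obj a = S) {R : C} (f : R ⟶ S) :
    ∃ (b : 𝒵) (φ : b ⟶ a), p.IsStronglyCartesian f φ := by
  subst hS
  obtain ⟨b, φ, hφ⟩ := Functor.IsPreFibered.exists_isCartesian' (p := p) (a := a) f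
  exact ⟨b, φ, inferInstance⟩

theorem isFibered_of_fullyFaithful_essOver (F : 𝒳 ⥤ᵇ 𝒴) [F.toFunctor.Full] [F.toFunctor.Faithful]
    (hess : EssOver F) [𝒴.p.IsFibered] : 𝒳.p.IsFibered := by
  apply Functor.IsFibered.of_exists_isStronglyCartesian
  intro a R f
  obtain ⟨b₀, ψ, hψ⟩ := exists_isStronglyCartesian_of_isFibered 𝒴.p (F.toFunctor.obj a) (F.w_obj a) f
  obtain ⟨a₀, e, he⟩ := hess b₀
  have hR : 𝒴.p.obj b₀ = R := IsHomLift.domain_eq 𝒴.p f ψ
  have he' : 𝒴.p.IsHomLift (𝟙 R) e.hom := isHomLift_id_of_eq 𝒴.p hR e.hom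
  have h1 : 𝒴.p.IsStronglyCartesian (𝟙 R) e.hom := inferInstance
  have h2 : 𝒴.p.IsStronglyCartesian (𝟙 R ≫ f) (e.hom ≫ ψ) := inferInstance
  have h3 : 𝒴.p.IsStronglyCartesian f (e.hom ≫ ψ) := isStronglyCartesian_of_eq 𝒴.p (Category.id_comp f) _
  have h4 : 𝒴.p.IsStronglyCartesian f (F.toFunctor.map (F.toFunctor.preimage (e.hom ≫ ψ))) := by
    rw [Functor.map_preimage]; exact h3
  exact ⟨a₀, F.toFunctor.preimage (e.hom ≫ ψ), isStronglyCartesian_of_map F f _⟩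

theorem isEquivOver_symm (F : 𝒳 ⥤ᵇ 𝒴) (h : FibCat.IsEquivOver F) :
    ∃ G : 𝒴 ⥤ᵇ 𝒳, FibCat.IsEquivOver G := by
  obtain ⟨G, α, β⟩ := h
  exact ⟨G, F, β, α⟩

theorem isFibered_iff_of_isEquivOver (F : 𝒳 ⥤ᵇ 𝒴) (h : FibCat.IsEquivOver F) :
    𝒳.p.IsFibered ↔ 𝒴.p.IsFibered := by
  constructor
  · intro hX
    obtain ⟨G, hG⟩ := isEquivOver_symm F h
    obtain ⟨⟨h1, h2⟩, h3⟩ := (isEquivOver_iff G).1 hG
    exact isFibered_of_fullyFaithful_essOver G h3
  · intro hY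
    obtain ⟨⟨h1, h2⟩, h3⟩ := (isEquivOver_iff F).1 h
    exact isFibered_of_fullyFaithful_essOver F h3

end Groth.Agent.Helper3
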