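import Groth.Agent.Lib.helper3.FibEquiv2
import Groth.Prelude.Def_W4stkcategoriessitesFib

set_option autoImplicit false
universe v₃ u₃ v₂ u₂ v u
open CategoryTheory CategoryTheory.Functor

namespace Groth.Agent.Helper3

variable {C : Type u} [Category.{v} C] {𝒳 : BasedCategory.{v₂, u₂} C} {𝒴 : BasedCategory.{v₃, u₃} C}

theorem isHomLift_of_eq {𝒵 : Type*} [Category 𝒵] (p : 𝒵 ⥤ C) {R S : C} {f g : R ⟶ S} (h : f = g)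
    {a b : 𝒵} (φ : a ⟶ b) [hl : p.IsHomLift f φ] : p.IsHomLift g φ := by
  subst h; exact hl

section

variable (G : 𝒳 ⥤ᵇ 𝒴)

theorem fiberFunctor_faithful_of_faithful [G.toFunctor.Faithful] (U : C) :
    (FibCat.fiberFunctor G U).Faithful := by
  refine ⟨fun {x y} φ ψ h => ?_⟩
  apply Fiber.hom_ext
  apply G.toFunctor.map_injective
  exact congrArg Subtype.val h

theorem fiberFunctor_full_of_full [G.toFunctor.Full] (U : C) :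
    (FibCat.fiberFunctor G U).Full := by
  refine ⟨fun {x y} ψ => ?_⟩
  have h1 : 𝒴.p.IsHomLift (𝟙 U) ψ.1 := ψ.2
  have h2 : 𝒴.p.IsHomLift (𝟙 U) (G.toFunctor.map (G.toFunctor.preimage ψ.1)) := by
    rw [Functor.map_preimage]; exact h1
  have h3 : 𝒳.p.IsHomLift (𝟙 U) (G.toFunctor.preimage ψ.1) :=
    (BasedFunctor.isHomLift_iff G _ _).1 h2
  refine ⟨⟨G.toFunctor.preimage ψ.1, h3⟩, ?_⟩
  apply Fiber.hom_ext
  exact G.toFunctor.map_preimage ψ.1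

variable (h𝒳 : FibCat.IsFibGrpd 𝒳.p) (h𝒴 : FibCat.IsFibGrpd 𝒴.p)

include h𝒳 h𝒴 in
theorem faithful_of_fiberwise (h : ∀ U : C, (FibCat.fiberFunctor G U).Faithful) :
    G.toFunctor.Faithful := by
  refine ⟨fun {x y} φ₁ φ₂ he => ?_⟩
  have hsc : 𝒳.p.IsStronglyCartesian (𝒳.p.map φ₂) φ₂ := h𝒳.isStronglyCartesian φ₂
  have hl1 : 𝒴.p.IsHomLift (𝒳.p.map φ₂) (G.toFunctor.map φ₁) := by
    rw [he]; exact BasedFunctor.preserves_isHomLift G _ _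
  have hl2 : 𝒳.p.IsHomLift (𝒳.p.map φ₂) φ₁ := (BasedFunctor.isHomLift_iff G _ _).1 hl1
  have hl3 : 𝒳.p.IsHomLift (𝟙 (𝒳.p.obj x) ≫ 𝒳.p.map φ₂) φ₁ := by
    rw [Category.id_comp]; exact hl2
  obtain ⟨χ, ⟨hχa, hχb⟩, -⟩ :=
    Functor.IsStronglyCartesian.universal_property (p := 𝒳.p) (f := 𝒳.p.map φ₂) (φ := φ₂)
      (𝟙 (𝒳.p.obj x)) (𝟙 (𝒳.p.obj x) ≫ 𝒳.p.map φ₂) rfl φ₁
  -- G χ = 𝟙 since G φ₂ is strongly cartesian
  have hsc' : 𝒴.p.IsStronglyCartesian (𝒳.p.map φ₂) (G.toFunctor.map φ₂) := by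
    have : 𝒴.p.IsHomLift (𝒳.p.map φ₂) (G.toFunctor.map φ₂) := BasedFunctor.preserves_isHomLift G _ _
    exact @IsFibGrpd.isStronglyCartesian _ _ _ _ 𝒴.p h𝒴 _ _ (𝒳.p.map φ₂) _ _ (G.toFunctor.map φ₂) this
  have hGχ : 𝒴.p.IsHomLift (𝟙 (𝒳.p.obj x)) (G.toFunctor.map χ) := BasedFunctor.preserves_isHomLift G _ _
  have hid : 𝒴.p.IsHomLift (𝟙 (𝒳.p.obj x)) (𝟙 (G.toFunctor.obj x)) := inferInstance
  have e1 : G.toFunctor.map χ = 𝟙 (G.toFunctor.obj x) := by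
    apply Functor.IsStronglyCartesian.ext 𝒴.p (𝒳.p.map φ₂) (G.toFunctor.map φ₂) (𝟙 (𝒳.p.obj x))
    rw [← Functor.map_comp, hχb, he, Category.id_comp]
  -- now use faithfulness on the fibre over `𝒳.p.obj x`
  have := h (𝒳.p.obj x)
  let χ' : Fiber.mk (p := 𝒳.p) (S := 𝒳.p.obj x) (a := x) rfl ⟶ Fiber.mk (p := 𝒳.p) (S := 𝒳.p.obj x) (a := x) rfl :=
    ⟨χ, hχa⟩
  have e2 : (FibCat.fiberFunctor G (𝒳.p.obj x)).map χ' = (FibCat.fiberFunctor G (𝒳.p.obj x)).map (𝟙 _) := by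
    apply Fiber.hom_ext
    change G.toFunctor.map χ = G.toFunctor.map (𝟙 x)
    rw [e1, Functor.map_id]
  have e3 : χ' = 𝟙 _ := (FibCat.fiberFunctor G (𝒳.p.obj x)).map_injective e2
  have e4 : χ = 𝟙 x := congrArg Subtype.val e3
  rw [← hχb, e4, Category.id_comp]

include h𝒳 h𝒴 in
theorem full_of_fiberwise (h : ∀ U : C, (FibCat.fiberFunctor G U).Full) :
    G.toFunctor.Full := by
  refine ⟨fun {x y} ψ => ?_⟩
  obtain ⟨x', φ₀, hφ₀⟩ := h𝒳.exists_lift (x := y) (𝒴.p.map ψ ≫ eqToHom (G.w_obj y))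
  have hφ₀' : 𝒴.p.IsHomLift (𝒴.p.map ψ ≫ eqToHom (G.w_obj y)) (G.toFunctor.map φ₀) :=
    BasedFunctor.preserves_isHomLift G _ _
  have hsc : 𝒴.p.IsStronglyCartesian (𝒴.p.map ψ ≫ eqToHom (G.w_obj y)) (G.toFunctor.map φ₀) :=
    @IsFibGrpd.isStronglyCartesian _ _ _ _ 𝒴.p h𝒴 _ _ _ _ _ (G.toFunctor.map φ₀) hφ₀'
  have hψ : 𝒴.p.IsHomLift (𝟙 (𝒴.p.obj (G.toFunctor.obj x)) ≫ 𝒴.p.map ψ ≫ eqToHom (G.w_obj y)) ψ := by
    rw [Category.id_comp]; infer_instance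
  obtain ⟨χ, ⟨hχa, hχb⟩, -⟩ :=
    Functor.IsStronglyCartesian.universal_property (p := 𝒴.p)
      (f := 𝒴.p.map ψ ≫ eqToHom (G.w_obj y)) (φ := G.toFunctor.map φ₀)
      (𝟙 (𝒴.p.obj (G.toFunctor.obj x))) _ rfl ψ
  have := h (𝒴.p.obj (G.toFunctor.obj x))
  let X : 𝒳.p.Fiber (𝒴.p.obj (G.toFunctor.obj x)) := ⟨x, (G.w_obj x).symm⟩
  let X' : 𝒳.p.Fiber (𝒴.p.obj (G.toFunctor.obj x)) := ⟨x', IsHomLift.domain_eq 𝒳.p (𝒴.p.map ψ ≫ eqToHom (G.w_obj y)) φ₀⟩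
  let χ' : (FibCat.fiberFunctor G _).obj X ⟶ (FibCat.fiberFunctor G _).obj X' := ⟨χ, hχa⟩
  obtain ⟨χ₀, hχ₀⟩ := (FibCat.fiberFunctor G (𝒴.p.obj (G.toFunctor.obj x))).map_surjective χ'
  have e1 : G.toFunctor.map χ₀.1 = χ := congrArg Subtype.val hχ₀
  refine ⟨χ₀.1 ≫ φ₀, ?_⟩
  rw [Functor.map_comp, e1, hχb]

include h𝒳 h𝒴 in
theorem essSurj_fiberFunctor_of_essSurj [G.toFunctor.EssSurj] (U : C) :
    (FibCat.fiberFunctor G U).EssSurj := by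
  refine ⟨fun η => ?_⟩
  let ξ₀ := G.toFunctor.objPreimage η.1
  let e₀ : G.toFunctor.obj ξ₀ ≅ η.1 := G.toFunctor.objObjPreimageIso η.1
  obtain ⟨ξ', φ, hφ⟩ := h𝒳.exists_lift (x := ξ₀)
    ((eqToHom η.2.symm ≫ 𝒴.p.map e₀.inv) ≫ eqToHom (G.w_obj ξ₀))
  have hφ1 : 𝒳.p.IsHomLift (eqToHom η.2.symm ≫ 𝒴.p.map e₀.inv) φ :=
    (IsHomLift.lift_comp_eqToHom_iff 𝒳.p _ φ _).1 hφ
  have hφ2 : 𝒴.p.IsHomLift (eqToHom η.2.symm ≫ 𝒴.p.map e₀.inv) (G.toFunctor.map φ) :=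
    BasedFunctor.preserves_isHomLift G _ _
  have h3 : 𝒴.p.IsHomLift ((eqToHom η.2.symm ≫ 𝒴.p.map e₀.inv) ≫ 𝒴.p.map e₀.hom)
      (G.toFunctor.map φ ≫ e₀.hom) := inferInstance
  have h4 : (eqToHom η.2.symm ≫ 𝒴.p.map e₀.inv) ≫ 𝒴.p.map e₀.hom = eqToHom η.2.symm ≫ 𝟙 _ := by
    rw [Category.assoc, ← Functor.map_comp, e₀.inv_hom_id, Functor.map_id]
  rw [h4] at h3
  have h5 : 𝒴.p.IsHomLift (𝟙 (𝒴.p.obj η.1)) (G.toFunctor.map φ ≫ e₀.hom) :=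
    (IsHomLift.lift_eqToHom_comp_iff 𝒴.p _ _ _).1 h3
  have h6 : 𝒴.p.IsHomLift (𝟙 U) (G.toFunctor.map φ ≫ e₀.hom) := isHomLift_id_of_eq 𝒴.p η.2 _
  let X' : 𝒳.p.Fiber U := ⟨ξ', IsHomLift.domain_eq 𝒳.p (eqToHom η.2.symm ≫ 𝒴.p.map e₀.inv) φ⟩
  let m : (FibCat.fiberFunctor G U).obj X' ⟶ η := ⟨G.toFunctor.map φ ≫ e₀.hom, h6⟩
  have := IsFibGrpd.isGroupoid_fiber (hp := h𝒴) 𝒴.p U
  have hm : IsIso m := IsGroupoid.all_isIso m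
  exact ⟨X', ⟨asIso m⟩⟩

include h𝒳 h𝒴 in
theorem isEquivalence_fiberFunctor [G.toFunctor.IsEquivalence] (U : C) :
    (FibCat.fiberFunctor G U).IsEquivalence :=
  { faithful := fiberFunctor_faithful_of_faithful G U
    full := fiberFunctor_full_of_full G U
    essSurj := essSurj_fiberFunctor_of_essSurj G h𝒳 h𝒴 U }

include h𝒳 h𝒴 in
theorem isEquivalence_of_fiberwise (h : ∀ U : C, (FibCat.fiberFunctor G U).IsEquivalence) :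
    G.toFunctor.IsEquivalence :=
  { faithful := faithful_of_fiberwise G h𝒳 h𝒴 (fun U => (h U).faithful)
    full := full_of_fiberwise G h𝒳 h𝒴 (fun U => (h U).full)
    essSurj := by
      refine ⟨fun η => ?_⟩
      have := (h (𝒴.p.obj η)).essSurj
      let η' : 𝒴.p.Fiber (𝒴.p.obj η) := ⟨η, rfl⟩
      let ξ' := (FibCat.fiberFunctor G (𝒴.p.obj η)).objPreimage η'
      let e' := (FibCat.fiberFunctor G (𝒴.p.obj η)).objObjPreimageIso η'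
      exact ⟨ξ'.1, ⟨Fiber.fiberInclusion.mapIso e'⟩⟩ }

end

end Groth.Agent.Helper3
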