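import Groth.Agent.Lib.helper3.FibFiber
import Groth.Agent.Lib.helper3.FibComp

set_option autoImplicit false
set_option backward.isDefEq.respectTransparency false
universe v₄ u₄ v₃ u₃ v₂ u₂ v u
open CategoryTheory CategoryTheory.Functor CategoryTheory.Limits

namespace Groth.Agent.Helper3

variable {C : Type u} [Category.{v} C] {𝒳 : BasedCategory.{v₂, u₂} C} {𝒴 : BasedCategory.{v₃, u₃} C}
  {𝒮 : BasedCategory.{v₄, u₄} C} (F : 𝒳 ⥤ᵇ 𝒮) (G : 𝒴 ⥤ᵇ 𝒮)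

theorem fp_hom_ext {x y : (FibCat.fp F G).obj} {m m' : x ⟶ y} (h1 : m.hom.fst = m'.hom.fst)
    (h2 : m.hom.snd = m'.hom.snd) : m = m' := by
  apply ObjectProperty.hom_ext
  exact CategoricalPullback.hom_ext h1 h2

theorem fp_isHomLift_of_fst {R S : C} (f : R ⟶ S) {x y : (FibCat.fp F G).obj} (m : x ⟶ y)
    [h : 𝒳.p.IsHomLift f m.hom.fst] : (FibCat.fp F G).p.IsHomLift f m := by
  have h1 : ((FibCat.fpProp F G).ι ⋙ CategoricalPullback.π₁ F.toFunctor G.toFunctor).IsHomLift m.hom.fst m :=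
    (inferInstance : ((FibCat.fpProp F G).ι ⋙ CategoricalPullback.π₁ F.toFunctor G.toFunctor).IsHomLift
      (((FibCat.fpProp F G).ι ⋙ CategoricalPullback.π₁ F.toFunctor G.toFunctor).map m) m)
  exact isHomLift_comp_functor ((FibCat.fpProp F G).ι ⋙ CategoricalPullback.π₁ F.toFunctor G.toFunctor)
    𝒳.p m m.hom.fst f

theorem fp_isHomLift_fst {R S : C} (f : R ⟶ S) {x y : (FibCat.fp F G).obj} (m : x ⟶ y)
    [h : (FibCat.fp F G).p.IsHomLift f m] : 𝒳.p.IsHomLift f m.hom.fst := by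
  obtain ⟨⟩ := h
  exact (inferInstance : 𝒳.p.IsHomLift (𝒳.p.map m.hom.fst) m.hom.fst)

theorem fp_isHomLift_snd {R S : C} (f : R ⟶ S) {x y : (FibCat.fp F G).obj} (m : x ⟶ y)
    [h : (FibCat.fp F G).p.IsHomLift f m] : 𝒴.p.IsHomLift f m.hom.snd := by
  obtain ⟨⟩ := h
  exact FibCat.fp_isHomLift_snd F G m

/-- base of the second component of an object -/
theorem fp_obj_snd_base (x : (FibCat.fp F G).obj) : 𝒴.p.obj x.obj.snd = 𝒳.p.obj x.obj.fst := by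
  have hx : 𝒮.p.IsHomLift (𝟙 (𝒳.p.obj x.obj.fst)) x.obj.iso.hom := x.property
  exact (G.w_obj x.obj.snd).symm.trans (IsHomLift.codomain_eq 𝒮.p (𝟙 (𝒳.p.obj x.obj.fst)) x.obj.iso.hom)

section Grpd

variable (h𝒳 : FibCat.IsFibGrpd 𝒳.p) (h𝒴 : FibCat.IsFibGrpd 𝒴.p) (h𝒮 : FibCat.IsFibGrpd 𝒮.p)

include h𝒳 h𝒴 h𝒮 in
theorem fp_exists_lift {x : (FibCat.fp F G).obj} {V : C} (f : V ⟶ (FibCat.fp F G).p.obj x) :
    ∃ (y : (FibCat.fp F G).obj) (m : y ⟶ x), (FibCat.fp F G).p.IsHomLift f m := by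
  have hx : 𝒮.p.IsHomLift (𝟙 (𝒳.p.obj x.obj.fst)) x.obj.iso.hom := x.property
  change V ⟶ 𝒳.p.obj x.obj.fst at f
  obtain ⟨a', φ, hφ⟩ := h𝒳.exists_lift (x := x.obj.fst) f
  obtain ⟨b', ψ, hψ⟩ := h𝒴.exists_lift (x := x.obj.snd) (f ≫ eqToHom (fp_obj_snd_base F G x).symm)
  have hψ' : 𝒴.p.IsHomLift f ψ := (IsHomLift.lift_comp_eqToHom_iff 𝒴.p _ ψ _).1 hψ
  have hGψ : 𝒮.p.IsHomLift f (G.toFunctor.map ψ) := BasedFunctor.preserves_isHomLift G _ _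
  have hFφ : 𝒮.p.IsHomLift f (F.toFunctor.map φ) := BasedFunctor.preserves_isHomLift F _ _
  have hsc : 𝒮.p.IsStronglyCartesian f (G.toFunctor.map ψ) :=
    @IsFibGrpd.isStronglyCartesian _ _ _ _ 𝒮.p h𝒮 _ _ f _ _ (G.toFunctor.map ψ) hGψ
  have h1 : 𝒮.p.IsHomLift (f ≫ 𝟙 _) (F.toFunctor.map φ ≫ x.obj.iso.hom) := inferInstance
  have h2 : 𝒮.p.IsHomLift (𝟙 V ≫ f) (F.toFunctor.map φ ≫ x.obj.iso.hom) := by
    rw [Category.id_comp]; rw [Category.comp_id] at h1; exact h1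
  obtain ⟨i, ⟨hia, hib⟩, -⟩ :=
    Functor.IsStronglyCartesian.universal_property (p := 𝒮.p) (f := f) (φ := G.toFunctor.map ψ)
      (𝟙 V) (𝟙 V ≫ f) rfl (F.toFunctor.map φ ≫ x.obj.iso.hom)
  have hiso : IsIso i := @IsFibGrpd.isIso_of_isHomLift_isIso _ _ _ _ 𝒮.p h𝒮 _ _ (𝟙 V) _ _ _ i hia
  have hV : V = 𝒳.p.obj a' := (IsHomLift.domain_eq 𝒳.p f φ).symm
  have hi' : 𝒮.p.IsHomLift (𝟙 (𝒳.p.obj a')) i := isHomLift_id_of_eq 𝒮.p hV i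
  let y : (FibCat.fp F G).obj := ⟨⟨a', b', asIso i⟩, hi'⟩
  let m : y ⟶ x := ObjectProperty.homMk ⟨φ, ψ, hib.symm⟩
  exact ⟨y, m, fp_isHomLift_of_fst F G f m (h := hφ)⟩

include h𝒳 h𝒴 h𝒮 in
theorem fp_isStronglyCartesian {y x : (FibCat.fp F G).obj} (m : y ⟶ x) :
    (FibCat.fp F G).p.IsStronglyCartesian ((FibCat.fp F G).p.map m) m := by
  refine { toIsHomLift := inferInstance, universal_property' := ?_ }
  intro z g m' hm'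
  change 𝒳.p.obj z.obj.fst ⟶ 𝒳.p.obj y.obj.fst at g
  have hφ : 𝒳.p.IsStronglyCartesian (𝒳.p.map m.hom.fst) m.hom.fst := h𝒳.isStronglyCartesian m.hom.fst
  have hψl : 𝒴.p.IsHomLift (𝒳.p.map m.hom.fst) m.hom.snd := FibCat.fp_isHomLift_snd F G m
  have hψ : 𝒴.p.IsStronglyCartesian (𝒳.p.map m.hom.fst) m.hom.snd :=
    @IsFibGrpd.isStronglyCartesian _ _ _ _ 𝒴.p h𝒴 _ _ _ _ _ m.hom.snd hψl
  have hm'1 : 𝒳.p.IsHomLift (g ≫ 𝒳.p.map m.hom.fst) m'.hom.fst := fp_isHomLift_fst F G _ m' (h := hm')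
  have hm'2 : 𝒴.p.IsHomLift (g ≫ 𝒳.p.map m.hom.fst) m'.hom.snd := fp_isHomLift_snd F G _ m' (h := hm')
  obtain ⟨χ₁, ⟨hχ₁a, hχ₁b⟩, hχ₁u⟩ :=
    Functor.IsStronglyCartesian.universal_property (p := 𝒳.p) (f := 𝒳.p.map m.hom.fst) (φ := m.hom.fst)
      g (g ≫ 𝒳.p.map m.hom.fst) rfl m'.hom.fst
  obtain ⟨χ₂, ⟨hχ₂a, hχ₂b⟩, hχ₂u⟩ :=
    Functor.IsStronglyCartesian.universal_property (p := 𝒴.p) (f := 𝒳.p.map m.hom.fst) (φ := m.hom.snd)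
      g (g ≫ 𝒳.p.map m.hom.fst) rfl m'.hom.snd
  -- compatibility
  have hGψl : 𝒮.p.IsHomLift (𝒳.p.map m.hom.fst) (G.toFunctor.map m.hom.snd) :=
    BasedFunctor.preserves_isHomLift G _ _
  have hGψ : 𝒮.p.IsStronglyCartesian (𝒳.p.map m.hom.fst) (G.toFunctor.map m.hom.snd) :=
    @IsFibGrpd.isStronglyCartesian _ _ _ _ 𝒮.p h𝒮 _ _ _ _ _ (G.toFunctor.map m.hom.snd) hGψl
  have hy : 𝒮.p.IsHomLift (𝟙 (𝒳.p.obj y.obj.fst)) y.obj.iso.hom := y.property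
  have hz : 𝒮.p.IsHomLift (𝟙 (𝒳.p.obj z.obj.fst)) z.obj.iso.hom := z.property
  have hFχ₁ : 𝒮.p.IsHomLift g (F.toFunctor.map χ₁) := BasedFunctor.preserves_isHomLift F _ _
  have hGχ₂ : 𝒮.p.IsHomLift g (G.toFunctor.map χ₂) := BasedFunctor.preserves_isHomLift G _ _
  have hl1 : 𝒮.p.IsHomLift g (F.toFunctor.map χ₁ ≫ y.obj.iso.hom) := inferInstance
  have hl2 : 𝒮.p.IsHomLift g (z.obj.iso.hom ≫ G.toFunctor.map χ₂) := inferInstance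
  have hw : F.toFunctor.map χ₁ ≫ y.obj.iso.hom = z.obj.iso.hom ≫ G.toFunctor.map χ₂ := by
    apply Functor.IsStronglyCartesian.ext 𝒮.p (𝒳.p.map m.hom.fst) (G.toFunctor.map m.hom.snd) g
    have e1 : F.toFunctor.map m.hom.fst ≫ x.obj.iso.hom = y.obj.iso.hom ≫ G.toFunctor.map m.hom.snd :=
      m.hom.w
    have e2 : F.toFunctor.map m'.hom.fst ≫ x.obj.iso.hom = z.obj.iso.hom ≫ G.toFunctor.map m'.hom.snd :=
      m'.hom.w
    rw [Category.assoc, ← e1, ← Category.assoc, ← Functor.map_comp, hχ₁b, e2, Category.assoc,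
      ← Functor.map_comp, hχ₂b]
  let χ : z ⟶ y := ObjectProperty.homMk ⟨χ₁, χ₂, hw⟩
  refine ⟨χ, ⟨fp_isHomLift_of_fst F G g χ (h := hχ₁a), ?_⟩, ?_⟩
  · exact fp_hom_ext F G hχ₁b hχ₂b
  · rintro χ' ⟨hχ'a, hχ'b⟩
    apply fp_hom_ext F G
    · apply hχ₁u
      refine ⟨fp_isHomLift_fst F G g χ', ?_⟩
      exact congrArg (fun k => k.hom.fst) hχ'b
    · apply hχ₂u
      refine ⟨fp_isHomLift_snd F G g χ', ?_⟩
      exact congrArg (fun k => k.hom.snd) hχ'b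

include h𝒳 h𝒴 h𝒮 in
theorem fp_isFibGrpd : FibCat.IsFibGrpd (FibCat.fp F G).p :=
  ⟨fun f => fp_exists_lift F G h𝒳 h𝒴 h𝒮 f, fun m => fp_isStronglyCartesian F G h𝒳 h𝒴 h𝒮 m⟩

end Grpd

end Groth.Agent.Helper3
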