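import Groth.Agent.Lib.helper3.FibFp2

set_option autoImplicit false
set_option backward.isDefEq.respectTransparency false
universe v₃ u₃ v₂ u₂ v u
open CategoryTheory CategoryTheory.Functor

namespace Groth.Agent.Helper3

variable {C : Type u} [Category.{v} C] {𝒳 : BasedCategory.{v₂, u₂} C} {𝒴 : BasedCategory.{v₃, u₃} C}
  (F : 𝒳 ⥤ᵇ 𝒴)

instance inertia_aut_isHomLift (x : FibCat.InertiaObj F) :
    𝒳.p.IsHomLift (𝟙 (𝒳.p.obj x.pt)) x.aut.hom := by
  rw [← BasedFunctor.isHomLift_iff F]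
  change 𝒴.p.IsHomLift (𝟙 (𝒳.p.obj x.pt)) (F.toFunctor.map x.aut.hom)
  have := x.map_aut
  change F.toFunctor.map x.aut.hom = 𝟙 (F.toFunctor.obj x.pt) at this
  rw [this]
  infer_instance

instance inertia_aut_inv_isHomLift (x : FibCat.InertiaObj F) :
    𝒳.p.IsHomLift (𝟙 (𝒳.p.obj x.pt)) x.aut.inv :=
  IsHomLift.lift_id_inv _ _ _

theorem inertia_isHomLift_of_hom {R S : C} (f : R ⟶ S) {x y : (FibCat.inertia F).obj} (m : x ⟶ y)
    [h : 𝒳.p.IsHomLift f m.hom] : (FibCat.inertia F).p.IsHomLift f m := by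
  have h1 : (FibCat.InertiaObj.forget (F := F)).IsHomLift m.hom m :=
    (inferInstance : (FibCat.InertiaObj.forget (F := F)).IsHomLift
      ((FibCat.InertiaObj.forget (F := F)).map m) m)
  exact isHomLift_comp_functor (FibCat.InertiaObj.forget (F := F)) 𝒳.p m m.hom f

theorem inertia_isHomLift_hom {R S : C} (f : R ⟶ S) {x y : (FibCat.inertia F).obj} (m : x ⟶ y)
    [h : (FibCat.inertia F).p.IsHomLift f m] : 𝒳.p.IsHomLift f m.hom := by
  obtain ⟨⟩ := h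
  exact (inferInstance : 𝒳.p.IsHomLift (𝒳.p.map m.hom) m.hom)

theorem inertia_isStronglyCartesian_of_hom {R S : C} (f : R ⟶ S) {y x : (FibCat.inertia F).obj} (m : y ⟶ x)
    [h : 𝒳.p.IsStronglyCartesian f m.hom] : (FibCat.inertia F).p.IsStronglyCartesian f m := by
  have hl : (FibCat.inertia F).p.IsHomLift f m := inertia_isHomLift_of_hom F f m
  refine { toIsHomLift := hl, universal_property' := ?_ }
  intro z g m' hm'
  change 𝒳.p.obj z.pt ⟶ R at g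
  have hm'1 : 𝒳.p.IsHomLift (g ≫ f) m'.hom := inertia_isHomLift_hom F _ m' (h := hm')
  obtain ⟨χ, ⟨hχa, hχb⟩, hχu⟩ :=
    Functor.IsStronglyCartesian.universal_property (p := 𝒳.p) (f := f) (φ := m.hom)
      g (g ≫ f) rfl m'.hom
  have hR : 𝒳.p.obj y.pt = R := IsHomLift.domain_eq 𝒳.p f m.hom
  have hβ : 𝒳.p.IsHomLift (𝟙 R) y.aut.hom := isHomLift_id_of_eq 𝒳.p hR _
  have hl1 : 𝒳.p.IsHomLift g (z.aut.hom ≫ χ) := inferInstance
  have hl2 : 𝒳.p.IsHomLift g (χ ≫ y.aut.hom) := inferInstance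
  have hcomm : z.aut.hom ≫ χ = χ ≫ y.aut.hom := by
    apply Functor.IsStronglyCartesian.ext 𝒳.p f m.hom g
    rw [Category.assoc, hχb, Category.assoc, m.comm, ← Category.assoc, hχb, m'.comm]
  let χ' : z ⟶ y := ⟨χ, hcomm⟩
  refine ⟨χ', ⟨inertia_isHomLift_of_hom F g χ' (h := hχa), ?_⟩, ?_⟩
  · apply FibCat.InertiaObj.hom_ext
    exact hχb
  · rintro χ'' ⟨hχ''a, hχ''b⟩
    apply FibCat.InertiaObj.hom_ext
    apply hχu
    refine ⟨inertia_isHomLift_hom F g χ'', ?_⟩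
    exact congrArg (fun k => k.hom) hχ''b

/-- lifting an object of the inertia along a strongly cartesian morphism preserved by `F` -/
theorem inertia_exists_lift (x : FibCat.InertiaObj F) {V : C} (f : V ⟶ 𝒳.p.obj x.pt) {y : 𝒳.obj}
    (φ : y ⟶ x.pt) [hφ : 𝒳.p.IsStronglyCartesian f φ] (hFφ : 𝒴.p.IsStronglyCartesian f (F.toFunctor.map φ)) :
    ∃ (y' : (FibCat.inertia F).obj) (m : y' ⟶ x), (FibCat.inertia F).p.IsStronglyCartesian f m := by
  have h1 : 𝒳.p.IsHomLift (𝟙 V ≫ f) (φ ≫ x.aut.hom) := by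
    rw [Category.id_comp]; infer_instance
  have h2 : 𝒳.p.IsHomLift (𝟙 V ≫ f) (φ ≫ x.aut.inv) := by
    rw [Category.id_comp]; infer_instance
  obtain ⟨β, ⟨hβa, hβb⟩, -⟩ :=
    Functor.IsStronglyCartesian.universal_property (p := 𝒳.p) (f := f) (φ := φ)
      (𝟙 V) (𝟙 V ≫ f) rfl (φ ≫ x.aut.hom)
  obtain ⟨β', ⟨hβ'a, hβ'b⟩, -⟩ :=
    Functor.IsStronglyCartesian.universal_property (p := 𝒳.p) (f := f) (φ := φ)
      (𝟙 V) (𝟙 V ≫ f) rfl (φ ≫ x.aut.inv)
  have hid : 𝒳.p.IsHomLift (𝟙 V) (𝟙 y) := IsHomLift.id (IsHomLift.domain_eq 𝒳.p f φ)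
  have hc1 : 𝒳.p.IsHomLift (𝟙 V) (β ≫ β') := inferInstance
  have hc2 : 𝒳.p.IsHomLift (𝟙 V) (β' ≫ β) := inferInstance
  have e1 : β ≫ β' = 𝟙 y := by
    apply Functor.IsStronglyCartesian.ext 𝒳.p f φ (𝟙 V)
    rw [Category.assoc, hβ'b, ← Category.assoc, hβb, Category.assoc, Iso.hom_inv_id, Category.comp_id,
      Category.id_comp]
  have e2 : β' ≫ β = 𝟙 y := by
    apply Functor.IsStronglyCartesian.ext 𝒳.p f φ (𝟙 V)
    rw [Category.assoc, hβb, ← Category.assoc, hβ'b, Category.assoc, Iso.inv_hom_id, Category.comp_id,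
      Category.id_comp]
  have hFβ : 𝒴.p.IsHomLift (𝟙 V) (F.toFunctor.map β) := BasedFunctor.preserves_isHomLift F _ _
  have hFid : 𝒴.p.IsHomLift (𝟙 V) (𝟙 (F.toFunctor.obj y)) :=
    IsHomLift.id ((F.w_obj y).trans (IsHomLift.domain_eq 𝒳.p f φ))
  have e3 : F.toFunctor.map β = 𝟙 (F.toFunctor.obj y) := by
    apply Functor.IsStronglyCartesian.ext 𝒴.p f (F.toFunctor.map φ) (𝟙 V)
    have := x.map_aut
    change F.toFunctor.map x.aut.hom = 𝟙 (F.toFunctor.obj x.pt) at this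
    rw [← Functor.map_comp, hβb, Functor.map_comp, this, Category.comp_id, Category.id_comp]
  let y' : FibCat.InertiaObj F := ⟨y, ⟨β, β', e1, e2⟩, e3⟩
  let m : y' ⟶ x := ⟨φ, hβb⟩
  exact ⟨y', m, inertia_isStronglyCartesian_of_hom F f m (h := hφ)⟩

theorem inertia_isFibered [𝒳.p.IsFibered] [𝒴.p.IsFibered] (hF : FibCat.PreservesStronglyCartesian F) :
    (FibCat.inertia F).p.IsFibered := by
  apply Functor.IsFibered.of_exists_isStronglyCartesian
  intro x V f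
  change V ⟶ 𝒳.p.obj x.pt at f
  obtain ⟨y, φ, hφ⟩ := Functor.IsPreFibered.exists_isCartesian' (p := 𝒳.p) (a := x.pt) f
  have hφ' : 𝒳.p.IsStronglyCartesian (R := V) (S := 𝒳.p.obj x.pt) f φ := inferInstance
  exact inertia_exists_lift F x f φ (hφ := hφ') (hF f φ hφ')

end Groth.Agent.Helper3

namespace Groth.Agent.Helper3

variable {C : Type u} [Category.{v} C] {𝒳 : BasedCategory.{v₂, u₂} C}

theorem id_isStronglyCartesian {R S : C} (f : R ⟶ S) {a b : C} (φ : a ⟶ b) [h : (𝟭 C).IsHomLift f φ] :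
    (𝟭 C).IsStronglyCartesian f φ := by
  refine { toIsHomLift := h, universal_property' := ?_ }
  intro a' g φ' hφ'
  obtain ⟨⟩ := h
  have e : g ≫ φ = φ' := @IsHomLift.eq_of_isHomLift _ _ _ _ (𝟭 C) _ _ (g ≫ φ) φ' hφ'
  refine ⟨g, ⟨(inferInstance : (𝟭 C).IsHomLift ((𝟭 C).map g) g), e⟩, ?_⟩
  rintro χ ⟨hχa, hχb⟩
  exact (IsHomLift.eq_of_isHomLift (𝟭 C) g χ).symm

theorem inertia_toSelf_isFibGrpd (h𝒳 : FibCat.IsFibGrpd 𝒳.p) :
    FibCat.IsFibGrpd (FibCat.inertia (FibCat.toSelf 𝒳)).p := by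
  refine ⟨?_, ?_⟩
  · intro x V f
    change V ⟶ 𝒳.p.obj x.pt at f
    obtain ⟨y, φ, hφ⟩ := h𝒳.exists_lift (x := x.pt) f
    have hφ' : 𝒳.p.IsStronglyCartesian f φ := IsFibGrpd.isStronglyCartesian 𝒳.p f φ
    have hl : (𝟭 C).IsHomLift f ((FibCat.toSelf 𝒳).toFunctor.map φ) :=
      BasedFunctor.preserves_isHomLift (FibCat.toSelf 𝒳) f φ
    have hsc : (FibCat.selfOver C).p.IsStronglyCartesian f ((FibCat.toSelf 𝒳).toFunctor.map φ) :=
      id_isStronglyCartesian f _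
    obtain ⟨y', m, hm⟩ := inertia_exists_lift (FibCat.toSelf 𝒳) x f φ hsc
    exact ⟨y', m, hm.toIsHomLift⟩
  · intro y x m
    have := h𝒳.isStronglyCartesian m.hom
    exact inertia_isStronglyCartesian_of_hom (FibCat.toSelf 𝒳) (𝒳.p.map m.hom) m

end Groth.Agent.Helper3
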