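import Groth.Agent.Lib.helper3.FibFp2
import Groth.Agent.Lib.helper3.FibInertia

set_option autoImplicit false
set_option backward.isDefEq.respectTransparency false
universe v₄ u₄ v₃ u₃ v₂ u₂ v u
open CategoryTheory CategoryTheory.Functor CategoryTheory.Limits

namespace Groth.Agent.Helper3

variable {C : Type u} [Category.{v} C] {𝒳 : BasedCategory.{v₂, u₂} C} {𝒴 : BasedCategory.{v₃, u₃} C}
  {𝒮 : BasedCategory.{v₄, u₄} C} (F : 𝒳 ⥤ᵇ 𝒮) (G : 𝒴 ⥤ᵇ 𝒮)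

theorem fp_isStronglyCartesian_of {R S : C} (f : R ⟶ S) {y x : (FibCat.fp F G).obj} (m : y ⟶ x)
    [hφ : 𝒳.p.IsStronglyCartesian f m.hom.fst] [hψ : 𝒴.p.IsStronglyCartesian f m.hom.snd]
    [hGψ : 𝒮.p.IsStronglyCartesian f (G.toFunctor.map m.hom.snd)] :
    (FibCat.fp F G).p.IsStronglyCartesian f m := by
  have hl : (FibCat.fp F G).p.IsHomLift f m := fp_isHomLift_of_fst F G f m
  refine { toIsHomLift := hl, universal_property' := ?_ }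
  intro z g m' hm'
  change 𝒳.p.obj z.obj.fst ⟶ R at g
  have hm'1 : 𝒳.p.IsHomLift (g ≫ f) m'.hom.fst := fp_isHomLift_fst F G _ m' (h := hm')
  have hm'2 : 𝒴.p.IsHomLift (g ≫ f) m'.hom.snd := fp_isHomLift_snd F G _ m' (h := hm')
  obtain ⟨χ₁, ⟨hχ₁a, hχ₁b⟩, hχ₁u⟩ :=
    Functor.IsStronglyCartesian.universal_property (p := 𝒳.p) (f := f) (φ := m.hom.fst)
      g (g ≫ f) rfl m'.hom.fst
  obtain ⟨χ₂, ⟨hχ₂a, hχ₂b⟩, hχ₂u⟩ :=
    Functor.IsStronglyCartesian.universal_property (p := 𝒴.p) (f := f) (φ := m.hom.snd)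
      g (g ≫ f) rfl m'.hom.snd
  have hR : 𝒳.p.obj y.obj.fst = R := IsHomLift.domain_eq 𝒳.p f m.hom.fst
  have hy0 : 𝒮.p.IsHomLift (𝟙 (𝒳.p.obj y.obj.fst)) y.obj.iso.hom := y.property
  have hy : 𝒮.p.IsHomLift (𝟙 R) y.obj.iso.hom := isHomLift_id_of_eq 𝒮.p hR _
  have hz : 𝒮.p.IsHomLift (𝟙 (𝒳.p.obj z.obj.fst)) z.obj.iso.hom := z.property
  have hFχ₁ : 𝒮.p.IsHomLift g (F.toFunctor.map χ₁) := BasedFunctor.preserves_isHomLift F _ _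
  have hGχ₂ : 𝒮.p.IsHomLift g (G.toFunctor.map χ₂) := BasedFunctor.preserves_isHomLift G _ _
  have hl1 : 𝒮.p.IsHomLift g (F.toFunctor.map χ₁ ≫ y.obj.iso.hom) := inferInstance
  have hl2 : 𝒮.p.IsHomLift g (z.obj.iso.hom ≫ G.toFunctor.map χ₂) := inferInstance
  have hw : F.toFunctor.map χ₁ ≫ y.obj.iso.hom = z.obj.iso.hom ≫ G.toFunctor.map χ₂ := by
    apply Functor.IsStronglyCartesian.ext 𝒮.p f (G.toFunctor.map m.hom.snd) g
    have e1 : F.toFunctor.map m.hom.fst ≫ x.obj.iso.hom = y.obj.iso.hom ≫ G.toFunctor.map m.hom.snd :=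
      m.hom.w
    have e2 : F.toFunctor.map m'.hom.fst ≫ x.obj.iso.hom = z.obj.iso.hom ≫ G.toFunctor.map m'.hom.snd :=
      m'.hom.w
    rw [Category.assoc, ← e1, ← Category.assoc, ← Functor.map_comp, hχ₁b, e2, Category.assoc,
      ← Functor.map_comp, hχ₂b]
  let χ : z ⟶ y := ObjectProperty.homMk ⟨χ₁, χ₂, hw⟩
  refine ⟨χ, ⟨fp_isHomLift_of_fst F G g χ (h := hχ₁a), ?_⟩, ?_⟩
  · exact fp_hom_ext F G hχ₁b hχ₂b
  · rintro χ' ⟨hχ'a, hχ'b⟩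
    apply fp_hom_ext F G
    · apply hχ₁u
      refine ⟨fp_isHomLift_fst F G g χ', ?_⟩
      exact congrArg (fun k => k.hom.fst) hχ'b
    · apply hχ₂u
      refine ⟨fp_isHomLift_snd F G g χ', ?_⟩
      exact congrArg (fun k => k.hom.snd) hχ'b

theorem fp_isFibered [𝒳.p.IsFibered] [𝒴.p.IsFibered] [𝒮.p.IsFibered]
    (hF : ∀ {R S : C} (f : R ⟶ S) {a b : 𝒳.obj} (φ : a ⟶ b), 𝒳.p.IsStronglyCartesian f φ →
      𝒮.p.IsStronglyCartesian f (F.toFunctor.map φ))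
    (hG : ∀ {R S : C} (f : R ⟶ S) {a b : 𝒴.obj} (φ : a ⟶ b), 𝒴.p.IsStronglyCartesian f φ →
      𝒮.p.IsStronglyCartesian f (G.toFunctor.map φ)) :
    (FibCat.fp F G).p.IsFibered := by
  apply Functor.IsFibered.of_exists_isStronglyCartesian
  intro x V f
  have hx : 𝒮.p.IsHomLift (𝟙 (𝒳.p.obj x.obj.fst)) x.obj.iso.hom := x.property
  have hxinv : 𝒮.p.IsHomLift (𝟙 (𝒳.p.obj x.obj.fst)) x.obj.iso.inv := IsHomLift.lift_id_inv _ _ _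
  change V ⟶ 𝒳.p.obj x.obj.fst at f
  obtain ⟨a', φ, hφ⟩ := exists_isStronglyCartesian_of_isFibered 𝒳.p x.obj.fst rfl f
  obtain ⟨b', ψ, hψ⟩ := exists_isStronglyCartesian_of_isFibered 𝒴.p x.obj.snd (fp_obj_snd_base F G x) f
  have hFφ : 𝒮.p.IsStronglyCartesian f (F.toFunctor.map φ) := hF f φ hφ
  have hGψ : 𝒮.p.IsStronglyCartesian f (G.toFunctor.map ψ) := hG f ψ hψ
  have h1 : 𝒮.p.IsHomLift (𝟙 V ≫ f) (F.toFunctor.map φ ≫ x.obj.iso.hom) := by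
    rw [Category.id_comp]; infer_instance
  have h2 : 𝒮.p.IsHomLift (𝟙 V ≫ f) (G.toFunctor.map ψ ≫ x.obj.iso.inv) := by
    rw [Category.id_comp]; infer_instance
  obtain ⟨i, ⟨hia, hib⟩, -⟩ :=
    Functor.IsStronglyCartesian.universal_property (p := 𝒮.p) (f := f) (φ := G.toFunctor.map ψ)
      (𝟙 V) (𝟙 V ≫ f) rfl (F.toFunctor.map φ ≫ x.obj.iso.hom)
  obtain ⟨j, ⟨hja, hjb⟩, -⟩ :=
    Functor.IsStronglyCartesian.universal_property (p := 𝒮.p) (f := f) (φ := F.toFunctor.map φ)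
      (𝟙 V) (𝟙 V ≫ f) rfl (G.toFunctor.map ψ ≫ x.obj.iso.inv)
  have hVa : 𝒮.p.obj (F.toFunctor.obj a') = V := IsHomLift.domain_eq 𝒮.p f (F.toFunctor.map φ)
  have hVb : 𝒮.p.obj (G.toFunctor.obj b') = V := IsHomLift.domain_eq 𝒮.p f (G.toFunctor.map ψ)
  have hida : 𝒮.p.IsHomLift (𝟙 V) (𝟙 (F.toFunctor.obj a')) := IsHomLift.id hVa
  have hidb : 𝒮.p.IsHomLift (𝟙 V) (𝟙 (G.toFunctor.obj b')) := IsHomLift.id hVb
  have hc1 : 𝒮.p.IsHomLift (𝟙 V) (i ≫ j) := inferInstance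
  have hc2 : 𝒮.p.IsHomLift (𝟙 V) (j ≫ i) := inferInstance
  have e1 : i ≫ j = 𝟙 _ := by
    apply Functor.IsStronglyCartesian.ext 𝒮.p f (F.toFunctor.map φ) (𝟙 V)
    rw [Category.assoc, hjb, ← Category.assoc, hib, Category.assoc, Iso.hom_inv_id, Category.comp_id,
      Category.id_comp]
  have e2 : j ≫ i = 𝟙 _ := by
    apply Functor.IsStronglyCartesian.ext 𝒮.p f (G.toFunctor.map ψ) (𝟙 V)
    rw [Category.assoc, hib, ← Category.assoc, hjb, Category.assoc, Iso.inv_hom_id, Category.comp_id,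
      Category.id_comp]
  have hV : V = 𝒳.p.obj a' := (IsHomLift.domain_eq 𝒳.p f φ).symm
  have hi' : 𝒮.p.IsHomLift (𝟙 (𝒳.p.obj a')) i := isHomLift_id_of_eq 𝒮.p hV i
  let y : (FibCat.fp F G).obj := ⟨⟨a', b', ⟨i, j, e1, e2⟩⟩, hi'⟩
  let m : y ⟶ x := ObjectProperty.homMk ⟨φ, ψ, hib.symm⟩
  exact ⟨y, m, fp_isStronglyCartesian_of F G f m (hφ := hφ) (hψ := hψ) (hGψ := hGψ)⟩

end Groth.Agent.Helper3
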