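import Groth.Agent.Lib.helper3.FibFp3

set_option autoImplicit false
set_option backward.isDefEq.respectTransparency false
universe v₄ u₄ v₃ u₃ v₂ u₂ v u
open CategoryTheory CategoryTheory.Functor CategoryTheory.Limits

namespace Groth.Agent.Helper3

variable {C : Type u} [Category.{v} C] {𝒳 : BasedCategory.{v₂, u₂} C} {𝒴 : BasedCategory.{v₃, u₃} C}
  {𝒮 : BasedCategory.{v₄, u₄} C} (F : 𝒳 ⥤ᵇ 𝒮) (G : 𝒴 ⥤ᵇ 𝒮)

theorem fp_isCartesian_of {R S : C} (f : R ⟶ S) {y x : (FibCat.fp F G).obj} (m : y ⟶ x)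
    [hφ : 𝒳.p.IsCartesian f m.hom.fst] [hψ : 𝒴.p.IsCartesian f m.hom.snd]
    [hGψ : 𝒮.p.IsCartesian f (G.toFunctor.map m.hom.snd)] :
    (FibCat.fp F G).p.IsCartesian f m := by
  have hl : (FibCat.fp F G).p.IsHomLift f m := fp_isHomLift_of_fst F G f m
  refine { toIsHomLift := hl, universal_property := ?_ }
  intro z m' hm'
  have hm'1 : 𝒳.p.IsHomLift f m'.hom.fst := fp_isHomLift_fst F G _ m' (h := hm')
  have hm'2 : 𝒴.p.IsHomLift f m'.hom.snd := fp_isHomLift_snd F G _ m' (h := hm')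
  obtain ⟨χ₁, ⟨hχ₁a, hχ₁b⟩, hχ₁u⟩ :=
    Functor.IsCartesian.universal_property (p := 𝒳.p) (f := f) (φ := m.hom.fst) m'.hom.fst
  obtain ⟨χ₂, ⟨hχ₂a, hχ₂b⟩, hχ₂u⟩ :=
    Functor.IsCartesian.universal_property (p := 𝒴.p) (f := f) (φ := m.hom.snd) m'.hom.snd
  have hR : 𝒳.p.obj y.obj.fst = R := IsHomLift.domain_eq 𝒳.p f m.hom.fst
  have hRz : 𝒳.p.obj z.obj.fst = R := IsHomLift.domain_eq 𝒳.p f m'.hom.fst
  have hy0 : 𝒮.p.IsHomLift (𝟙 (𝒳.p.obj y.obj.fst)) y.obj.iso.hom := y.property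
  have hy : 𝒮.p.IsHomLift (𝟙 R) y.obj.iso.hom := isHomLift_id_of_eq 𝒮.p hR _
  have hz0 : 𝒮.p.IsHomLift (𝟙 (𝒳.p.obj z.obj.fst)) z.obj.iso.hom := z.property
  have hz : 𝒮.p.IsHomLift (𝟙 R) z.obj.iso.hom := isHomLift_id_of_eq 𝒮.p hRz _
  have hFχ₁ : 𝒮.p.IsHomLift (𝟙 R) (F.toFunctor.map χ₁) := BasedFunctor.preserves_isHomLift F _ _
  have hGχ₂ : 𝒮.p.IsHomLift (𝟙 R) (G.toFunctor.map χ₂) := BasedFunctor.preserves_isHomLift G _ _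
  have hl1 : 𝒮.p.IsHomLift (𝟙 R) (F.toFunctor.map χ₁ ≫ y.obj.iso.hom) := inferInstance
  have hl2 : 𝒮.p.IsHomLift (𝟙 R) (z.obj.iso.hom ≫ G.toFunctor.map χ₂) := inferInstance
  have hw : F.toFunctor.map χ₁ ≫ y.obj.iso.hom = z.obj.iso.hom ≫ G.toFunctor.map χ₂ := by
    apply Functor.IsCartesian.ext 𝒮.p f (G.toFunctor.map m.hom.snd)
    have e1 : F.toFunctor.map m.hom.fst ≫ x.obj.iso.hom = y.obj.iso.hom ≫ G.toFunctor.map m.hom.snd :=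
      m.hom.w
    have e2 : F.toFunctor.map m'.hom.fst ≫ x.obj.iso.hom = z.obj.iso.hom ≫ G.toFunctor.map m'.hom.snd :=
      m'.hom.w
    rw [Category.assoc, ← e1, ← Category.assoc, ← Functor.map_comp, hχ₁b, e2, Category.assoc,
      ← Functor.map_comp, hχ₂b]
  let χ : z ⟶ y := ObjectProperty.homMk ⟨χ₁, χ₂, hw⟩
  refine ⟨χ, ⟨fp_isHomLift_of_fst F G (𝟙 R) χ (h := hχ₁a), ?_⟩, ?_⟩
  · exact fp_hom_ext F G hχ₁b hχ₂b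
  · rintro χ' ⟨hχ'a, hχ'b⟩
    apply fp_hom_ext F G
    · apply hχ₁u
      refine ⟨fp_isHomLift_fst F G (𝟙 R) χ', ?_⟩
      exact congrArg (fun k => k.hom.fst) hχ'b
    · apply hχ₂u
      refine ⟨fp_isHomLift_snd F G (𝟙 R) χ', ?_⟩
      exact congrArg (fun k => k.hom.snd) hχ'b

end Groth.Agent.Helper3

namespace Groth.Agent.Helper3

variable {C : Type u} [Category.{v} C] {𝒳 : BasedCategory.{v₂, u₂} C} {𝒴 : BasedCategory.{v₃, u₃} C}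

theorem isCartesian_of_isHomLift {𝒵 : Type*} [Category 𝒵] (p : 𝒵 ⥤ C) {R S : C} (f : R ⟶ S) {a b : 𝒵}
    (φ : a ⟶ b) [h : p.IsHomLift f φ] (hc : p.IsCartesian (p.map φ) φ) : p.IsCartesian f φ := by
  obtain ⟨⟩ := h
  exact hc

theorem isCartesian_map_of_isCartesian {𝒵 : Type*} [Category 𝒵] (p : 𝒵 ⥤ C) {R S : C} (f : R ⟶ S) {a b : 𝒵}
    (φ : a ⟶ b) [h : p.IsCartesian f φ] : p.IsCartesian (p.map φ) φ := by
  obtain ⟨⟩ := (inferInstance : p.IsHomLift f φ)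
  exact h

theorem self_hom_eq {R S : C} (f : R ⟶ S) {a b : C} (φ : a ⟶ b) [h : (𝟭 C).IsHomLift f φ] :
    φ = eqToHom (IsHomLift.domain_eq (𝟭 C) f φ) ≫ f ≫ eqToHom (IsHomLift.codomain_eq (𝟭 C) f φ).symm :=
  IsHomLift.fac' (𝟭 C) f φ

theorem self_hom_eq_id {R : C} {a b : C} (φ : a ⟶ b) [h : (𝟭 C).IsHomLift (𝟙 R) φ] :
    φ = eqToHom ((IsHomLift.domain_eq (𝟭 C) (𝟙 R) φ).trans (IsHomLift.codomain_eq (𝟭 C) (𝟙 R) φ).symm) := by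
  have := self_hom_eq (𝟙 R) φ
  simpa using this

theorem base_map_eq {𝒵 : Type*} [Category 𝒵] (p : 𝒵 ⥤ C) {R S : C} (f : R ⟶ S) {a b : 𝒵}
    (φ : a ⟶ b) [h : p.IsHomLift f φ] :
    p.map φ = eqToHom (IsHomLift.domain_eq p f φ) ≫ f ≫ eqToHom (IsHomLift.codomain_eq p f φ).symm :=
  IsHomLift.fac' p f φ

end Groth.Agent.Helper3

namespace Groth.Agent.Helper3

variable {C : Type u} [Category.{v} C] {𝒳 : BasedCategory.{v₂, u₂} C} {𝒴 : BasedCategory.{v₃, u₃} C}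

theorem fpSelf_obj_iso_hom (x : (FibCat.fp (FibCat.toSelf 𝒳) (FibCat.toSelf 𝒴)).obj) :
    x.obj.iso.hom = eqToHom (fp_obj_snd_base (FibCat.toSelf 𝒳) (FibCat.toSelf 𝒴) x).symm := by
  have hx : (𝟭 C).IsHomLift (𝟙 (𝒳.p.obj x.obj.fst)) x.obj.iso.hom := x.property
  exact self_hom_eq_id (R := 𝒳.p.obj x.obj.fst) x.obj.iso.hom (h := hx)

theorem fpSelf_w_of_isHomLift {R S : C} (f : R ⟶ S) {a a' : 𝒳.obj} {b b' : 𝒴.obj} (φ : a ⟶ a') (ψ : b ⟶ b')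
    [hφ : 𝒳.p.IsHomLift f φ] [hψ : 𝒴.p.IsHomLift f ψ]
    (h : 𝒳.p.obj a = 𝒴.p.obj b) (h' : 𝒳.p.obj a' = 𝒴.p.obj b') :
    𝒳.p.map φ ≫ eqToHom h' = eqToHom h ≫ 𝒴.p.map ψ := by
  obtain ⟨⟩ := hφ
  have e2 := base_map_eq 𝒴.p (𝒳.p.map φ) ψ
  rw [e2]; simp

/-- build an object of the strict fibre product -/
def fpSelfMk (a : 𝒳.obj) (b : 𝒴.obj) (h : 𝒳.p.obj a = 𝒴.p.obj b) :
    (FibCat.fp (FibCat.toSelf 𝒳) (FibCat.toSelf 𝒴)).obj :=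
  ⟨⟨a, b, eqToIso h⟩, IsHomLift.eqToHom_domain_lift_id (p := 𝟭 C) h rfl⟩

/-- build a morphism of the strict fibre product -/
def fpSelfHomMk {x y : (FibCat.fp (FibCat.toSelf 𝒳) (FibCat.toSelf 𝒴)).obj} {R S : C} (f : R ⟶ S)
    (φ : x.obj.fst ⟶ y.obj.fst) (ψ : x.obj.snd ⟶ y.obj.snd)
    [hφ : 𝒳.p.IsHomLift f φ] [hψ : 𝒴.p.IsHomLift f ψ] : x ⟶ y :=
  ObjectProperty.homMk ⟨φ, ψ, by
    rw [fpSelf_obj_iso_hom x, fpSelf_obj_iso_hom y]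
    exact fpSelf_w_of_isHomLift f φ ψ _ _⟩

theorem fpSelf_isCartesian_fst {x y : (FibCat.fp (FibCat.toSelf 𝒳) (FibCat.toSelf 𝒴)).obj} (m : x ⟶ y)
    [hm : (FibCat.fp (FibCat.toSelf 𝒳) (FibCat.toSelf 𝒴)).p.IsCartesian (𝒳.p.map m.hom.fst) m] :
    𝒳.p.IsCartesian (𝒳.p.map m.hom.fst) m.hom.fst := by
  refine { toIsHomLift := inferInstance, universal_property := ?_ }
  intro a' φ₁' hφ₁'
  have hR : 𝒳.p.obj a' = 𝒳.p.obj x.obj.fst := IsHomLift.domain_eq 𝒳.p (𝒳.p.map m.hom.fst) φ₁'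
  have hsnd : 𝒴.p.IsHomLift (𝒳.p.map m.hom.fst) m.hom.snd := FibCat.fp_isHomLift_snd _ _ m
  let z := fpSelfMk (𝒳 := 𝒳) (𝒴 := 𝒴) a' x.obj.snd
    (hR.trans (fp_obj_snd_base (FibCat.toSelf 𝒳) (FibCat.toSelf 𝒴) x).symm)
  let m' : z ⟶ y := fpSelfHomMk (x := z) (y := y) (𝒳.p.map m.hom.fst) φ₁' m.hom.snd
  have hm' : (FibCat.fp (FibCat.toSelf 𝒳) (FibCat.toSelf 𝒴)).p.IsHomLift (𝒳.p.map m.hom.fst) m' :=
    fp_isHomLift_of_fst _ _ _ m' (h := hφ₁')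
  obtain ⟨χ, ⟨hχa, hχb⟩, hχu⟩ :=
    Functor.IsCartesian.universal_property (p := (FibCat.fp (FibCat.toSelf 𝒳) (FibCat.toSelf 𝒴)).p)
      (f := 𝒳.p.map m.hom.fst) (φ := m) m'
  refine ⟨χ.hom.fst, ⟨fp_isHomLift_fst _ _ _ χ, congrArg (fun k => k.hom.fst) hχb⟩, ?_⟩
  rintro χ₁' ⟨hχ₁'a, hχ₁'b⟩
  have hid : 𝒴.p.IsHomLift (𝟙 (𝒳.p.obj x.obj.fst)) (𝟙 x.obj.snd) :=
    IsHomLift.id (fp_obj_snd_base (FibCat.toSelf 𝒳) (FibCat.toSelf 𝒴) x)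
  let χ' : z ⟶ x := fpSelfHomMk (x := z) (y := x) (𝟙 (𝒳.p.obj x.obj.fst)) χ₁' (𝟙 x.obj.snd)
  have h1 : χ' = χ := by
    apply hχu
    refine ⟨fp_isHomLift_of_fst _ _ _ χ' (h := hχ₁'a), ?_⟩
    apply fp_hom_ext
    · exact hχ₁'b
    · exact Category.id_comp _
  exact congrArg (fun k => k.hom.fst) h1

theorem fpSelf_isCartesian_snd {x y : (FibCat.fp (FibCat.toSelf 𝒳) (FibCat.toSelf 𝒴)).obj} (m : x ⟶ y)
    [hm : (FibCat.fp (FibCat.toSelf 𝒳) (FibCat.toSelf 𝒴)).p.IsCartesian (𝒳.p.map m.hom.fst) m] :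
    𝒴.p.IsCartesian (𝒳.p.map m.hom.fst) m.hom.snd := by
  have hsnd : 𝒴.p.IsHomLift (𝒳.p.map m.hom.fst) m.hom.snd := FibCat.fp_isHomLift_snd _ _ m
  refine { toIsHomLift := hsnd, universal_property := ?_ }
  intro b' φ₂' hφ₂'
  have hR : 𝒴.p.obj b' = 𝒳.p.obj x.obj.fst := IsHomLift.domain_eq 𝒴.p (𝒳.p.map m.hom.fst) φ₂'
  let z := fpSelfMk (𝒳 := 𝒳) (𝒴 := 𝒴) x.obj.fst b' hR.symm
  let m' : z ⟶ y := fpSelfHomMk (x := z) (y := y) (𝒳.p.map m.hom.fst) m.hom.fst φ₂'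
  have hm' : (FibCat.fp (FibCat.toSelf 𝒳) (FibCat.toSelf 𝒴)).p.IsHomLift (𝒳.p.map m.hom.fst) m' :=
    fp_isHomLift_of_fst _ _ _ m' (h := (inferInstance : 𝒳.p.IsHomLift (𝒳.p.map m.hom.fst) m.hom.fst))
  obtain ⟨χ, ⟨hχa, hχb⟩, hχu⟩ :=
    Functor.IsCartesian.universal_property (p := (FibCat.fp (FibCat.toSelf 𝒳) (FibCat.toSelf 𝒴)).p)
      (f := 𝒳.p.map m.hom.fst) (φ := m) m'
  refine ⟨χ.hom.snd, ⟨fp_isHomLift_snd _ _ _ χ, congrArg (fun k => k.hom.snd) hχb⟩, ?_⟩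
  rintro χ₂' ⟨hχ₂'a, hχ₂'b⟩
  have hid : 𝒳.p.IsHomLift (𝟙 (𝒳.p.obj x.obj.fst)) (𝟙 x.obj.fst) := inferInstance
  let χ' : z ⟶ x := fpSelfHomMk (x := z) (y := x) (𝟙 (𝒳.p.obj x.obj.fst)) (𝟙 x.obj.fst) χ₂'
  have h1 : χ' = χ := by
    apply hχu
    refine ⟨fp_isHomLift_of_fst _ _ _ χ' (h := hid), ?_⟩
    apply fp_hom_ext
    · exact Category.id_comp _
    · exact hχ₂'b
  exact congrArg (fun k => k.hom.snd) h1

end Groth.Agent.Helper3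

namespace Groth.Agent.Helper3

variable {C : Type u} [Category.{v} C] {𝒳 : BasedCategory.{v₂, u₂} C} {𝒴 : BasedCategory.{v₃, u₃} C}

instance id_isFibered : (𝟭 C).IsFibered := by
  apply Functor.IsFibered.of_exists_isStronglyCartesian
  intro a R f
  have : (𝟭 C).IsHomLift f f := (inferInstance : (𝟭 C).IsHomLift ((𝟭 C).map f) f)
  exact ⟨R, f, id_isStronglyCartesian f f⟩

instance selfOver_isFibered : (FibCat.selfOver C).p.IsFibered := id_isFibered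

@[simp] theorem fpSelfMk_fst (a : 𝒳.obj) (b : 𝒴.obj) (h : 𝒳.p.obj a = 𝒴.p.obj b) :
    (fpSelfMk (𝒳 := 𝒳) (𝒴 := 𝒴) a b h).obj.fst = a := rfl

@[simp] theorem fpSelfMk_snd (a : 𝒳.obj) (b : 𝒴.obj) (h : 𝒳.p.obj a = 𝒴.p.obj b) :
    (fpSelfMk (𝒳 := 𝒳) (𝒴 := 𝒴) a b h).obj.snd = b := rfl

theorem toSelf_map_isStronglyCartesian {𝒵 : BasedCategory.{v₂, u₂} C} {R S : C} (f : R ⟶ S)
    {a b : 𝒵.obj} (φ : a ⟶ b) [h : 𝒵.p.IsHomLift f φ] :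
    (FibCat.selfOver C).p.IsStronglyCartesian f ((FibCat.toSelf 𝒵).toFunctor.map φ) := by
  have hl : (𝟭 C).IsHomLift f ((FibCat.toSelf 𝒵).toFunctor.map φ) :=
    BasedFunctor.preserves_isHomLift (FibCat.toSelf 𝒵) _ _
  exact id_isStronglyCartesian _ _

theorem fpSelf_isFibered [𝒳.p.IsFibered] [𝒴.p.IsFibered] :
    (FibCat.fp (FibCat.toSelf 𝒳) (FibCat.toSelf 𝒴)).p.IsFibered :=
  fp_isFibered (FibCat.toSelf 𝒳) (FibCat.toSelf 𝒴)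
    (fun f _ _ φ h => toSelf_map_isStronglyCartesian f φ (h := h.toIsHomLift))
    (fun f _ _ φ h => toSelf_map_isStronglyCartesian f φ (h := h.toIsHomLift))

theorem exists_isCartesian_of_isPreFibered {𝒵 : Type*} [Category 𝒵] (p : 𝒵 ⥤ C) [p.IsPreFibered]
    (a : 𝒵) {S : C} (hS : p.obj a = S) {R : C} (f : R ⟶ S) :
    ∃ (b : 𝒵) (φ : b ⟶ a), p.IsCartesian f φ := by
  subst hS
  exact Functor.IsPreFibered.exists_isCartesian' (p := p) (a := a) f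

theorem fpSelf_isPreFibered [𝒳.p.IsPreFibered] [𝒴.p.IsPreFibered] :
    (FibCat.fp (FibCat.toSelf 𝒳) (FibCat.toSelf 𝒴)).p.IsPreFibered := by
  refine ⟨fun {x R} f => ?_⟩
  change R ⟶ 𝒳.p.obj x.obj.fst at f
  obtain ⟨a₁, φ₁, hφ₁⟩ := exists_isCartesian_of_isPreFibered 𝒳.p x.obj.fst rfl f
  obtain ⟨a₂, φ₂, hφ₂⟩ := exists_isCartesian_of_isPreFibered 𝒴.p x.obj.snd
    (fp_obj_snd_base (FibCat.toSelf 𝒳) (FibCat.toSelf 𝒴) x) f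
  have hR₁ : 𝒳.p.obj a₁ = R := IsHomLift.domain_eq 𝒳.p f φ₁
  have hR₂ : 𝒴.p.obj a₂ = R := IsHomLift.domain_eq 𝒴.p f φ₂
  let z := fpSelfMk (𝒳 := 𝒳) (𝒴 := 𝒴) a₁ a₂ (hR₁.trans hR₂.symm)
  let m : z ⟶ x := fpSelfHomMk (x := z) (y := x) f φ₁ φ₂ (hφ := hφ₁.toIsHomLift) (hψ := hφ₂.toIsHomLift)
  have hc1 : 𝒳.p.IsCartesian f m.hom.fst := hφ₁
  have hc2 : 𝒴.p.IsCartesian f m.hom.snd := hφ₂
  have hsc := toSelf_map_isStronglyCartesian f φ₂ (h := hφ₂.toIsHomLift)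
  have hc3 : (FibCat.selfOver C).p.IsCartesian f ((FibCat.toSelf 𝒴).toFunctor.map m.hom.snd) :=
    (inferInstance : (FibCat.selfOver C).p.IsCartesian f ((FibCat.toSelf 𝒴).toFunctor.map φ₂))
  exact ⟨z, m, fp_isCartesian_of (FibCat.toSelf 𝒳) (FibCat.toSelf 𝒴) f m⟩

end Groth.Agent.Helper3
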