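import Groth.Agent.Lib.helper3.FibInertia
import Groth.Agent.Lib.helper3.FibDiag

set_option autoImplicit false
set_option backward.isDefEq.respectTransparency false
universe v₃ u₃ v₂ u₂ v u
open CategoryTheory CategoryTheory.Functor CategoryTheory.Limits

namespace Groth.Agent.Helper3

variable {C : Type u} [Category.{v} C] {𝒳 : BasedCategory.{v₂, u₂} C} {𝒴 : BasedCategory.{v₃, u₃} C}
  (F : 𝒳 ⥤ᵇ 𝒴)

theorem inertia_map_aut_hom (x : FibCat.InertiaObj F) :
    F.toFunctor.map x.aut.hom = 𝟙 (F.toFunctor.obj x.pt) := x.map_aut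

theorem inertia_map_aut_inv (x : FibCat.InertiaObj F) :
    F.toFunctor.map x.aut.inv = 𝟙 (F.toFunctor.obj x.pt) := by
  rw [← cancel_epi (F.toFunctor.map x.aut.hom), ← Functor.map_comp, Iso.hom_inv_id,
    inertia_map_aut_hom]
  simp

/-- the isomorphism `(α, 𝟙)` of `Δ x` -/
def inertiaDiagIso (x : FibCat.InertiaObj F) :
    (FibCat.diag F).toFunctor.obj x.pt ≅ (FibCat.diag F).toFunctor.obj x.pt where
  hom := ObjectProperty.homMk ⟨x.aut.hom, 𝟙 _, by simp [inertia_map_aut_hom]⟩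
  inv := ObjectProperty.homMk ⟨x.aut.inv, 𝟙 _, by simp [inertia_map_aut_inv]⟩
  hom_inv_id := by apply fp_hom_ext F F <;> simp
  inv_hom_id := by apply fp_hom_ext F F <;> simp

@[simp] theorem inertiaDiagIso_hom_fst (x : FibCat.InertiaObj F) :
    (inertiaDiagIso F x).hom.hom.fst = x.aut.hom := rfl
@[simp] theorem inertiaDiagIso_hom_snd (x : FibCat.InertiaObj F) :
    (inertiaDiagIso F x).hom.hom.snd = 𝟙 x.pt := rfl

theorem inertiaDiagIso_prop (x : FibCat.InertiaObj F) :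
    (FibCat.fp F F).p.IsHomLift (𝟙 (𝒳.p.obj x.pt)) (inertiaDiagIso F x).hom := by
  have : 𝒳.p.IsHomLift (𝟙 (𝒳.p.obj x.pt)) (inertiaDiagIso F x).hom.hom.fst :=
    inertia_aut_isHomLift F x
  exact fp_isHomLift_of_fst F F _ _

def inertiaToFpDiagObj (x : FibCat.InertiaObj F) : (FibCat.fp (FibCat.diag F) (FibCat.diag F)).obj :=
  ⟨⟨x.pt, x.pt, inertiaDiagIso F x⟩, inertiaDiagIso_prop F x⟩

def inertiaToFpDiagMap {x y : FibCat.InertiaObj F} (φ : x ⟶ y) :
    inertiaToFpDiagObj F x ⟶ inertiaToFpDiagObj F y :=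
  ObjectProperty.homMk ⟨φ.hom, φ.hom, by
    apply fp_hom_ext F F
    · exact φ.comm.symm
    · simp [inertiaToFpDiagObj]⟩

@[simp] theorem inertiaToFpDiagMap_fst {x y : FibCat.InertiaObj F} (φ : x ⟶ y) :
    (inertiaToFpDiagMap F φ).hom.fst = φ.hom := rfl
@[simp] theorem inertiaToFpDiagMap_snd {x y : FibCat.InertiaObj F} (φ : x ⟶ y) :
    (inertiaToFpDiagMap F φ).hom.snd = φ.hom := rfl

def inertiaToFpDiag : FibCat.inertia F ⥤ᵇ FibCat.fp (FibCat.diag F) (FibCat.diag F) where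
  toFunctor :=
    { obj := inertiaToFpDiagObj F
      map := fun φ => inertiaToFpDiagMap F φ
      map_id := fun x => by apply fp_hom_ext (FibCat.diag F) (FibCat.diag F) <;> rfl
      map_comp := fun f g => by apply fp_hom_ext (FibCat.diag F) (FibCat.diag F) <;> rfl }
  w := rfl

theorem inertiaToFpDiag_fst :
    BasedFunctor.comp (inertiaToFpDiag F) (FibCat.fpFst _ _) = FibCat.inertiaToBase F := rfl

theorem inertiaToFpDiag_snd :
    BasedFunctor.comp (inertiaToFpDiag F) (FibCat.fpSnd _ _) = FibCat.inertiaToBase F := rfl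

theorem inertiaToFpDiag_faithful : (inertiaToFpDiag F).toFunctor.Faithful := by
  refine ⟨fun {x y} f g h => ?_⟩
  apply FibCat.InertiaObj.hom_ext
  exact congrArg (fun k => k.hom.fst) h

theorem inertiaToFpDiag_full : (inertiaToFpDiag F).toFunctor.Full := by
  refine ⟨fun {x y} m => ?_⟩
  have hw := m.hom.w
  have h1 : m.hom.fst ≫ y.aut.hom = x.aut.hom ≫ m.hom.snd := congrArg (fun k => k.hom.fst) hw
  have h2 : m.hom.fst ≫ 𝟙 _ = 𝟙 _ ≫ m.hom.snd := congrArg (fun k => k.hom.snd) hw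
  have h3 : m.hom.fst = m.hom.snd := by simpa using h2
  refine ⟨⟨m.hom.fst, by rw [h1, h3]⟩, ?_⟩
  apply fp_hom_ext (FibCat.diag F) (FibCat.diag F)
  · rfl
  · exact h3

theorem inertiaToFpDiag_essOver : EssOver (inertiaToFpDiag F) := by
  intro η
  let a : η.obj.fst ⟶ η.obj.snd := η.obj.iso.hom.hom.fst
  let b : η.obj.fst ⟶ η.obj.snd := η.obj.iso.hom.hom.snd
  let a' : η.obj.snd ⟶ η.obj.fst := η.obj.iso.inv.hom.fst
  let b' : η.obj.snd ⟶ η.obj.fst := η.obj.iso.inv.hom.snd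
  have haa' : a ≫ a' = 𝟙 η.obj.fst := congrArg (fun k => k.hom.fst) η.obj.iso.hom_inv_id
  have hbb' : b ≫ b' = 𝟙 η.obj.fst := congrArg (fun k => k.hom.snd) η.obj.iso.hom_inv_id
  have ha'a : a' ≫ a = 𝟙 η.obj.snd := congrArg (fun k => k.hom.fst) η.obj.iso.inv_hom_id
  have hb'b : b' ≫ b = 𝟙 η.obj.snd := congrArg (fun k => k.hom.snd) η.obj.iso.inv_hom_id
  have hFab : F.toFunctor.map a = F.toFunctor.map b := by
    have := η.obj.iso.hom.hom.w
    simpa using this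
  let α : η.obj.fst ≅ η.obj.fst :=
    ⟨a ≫ b', b ≫ a', by rw [Category.assoc, ← Category.assoc b', hb'b, Category.id_comp, haa'],
      by rw [Category.assoc, ← Category.assoc a', ha'a, Category.id_comp, hbb']⟩
  have hα : F.toFunctor.map α.hom = 𝟙 (F.toFunctor.obj η.obj.fst) := by
    change F.toFunctor.map (a ≫ b') = 𝟙 (F.toFunctor.obj η.obj.fst)
    rw [Functor.map_comp, hFab, ← Functor.map_comp, hbb', Functor.map_id]
  let ξ : FibCat.InertiaObj F := ⟨η.obj.fst, α, hα⟩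
  let m : (inertiaToFpDiag F).toFunctor.obj ξ ⟶ η :=
    ObjectProperty.homMk ⟨𝟙 _, b, by
      apply fp_hom_ext F F
      · change (𝟙 η.obj.fst ≫ a) = (a ≫ b') ≫ b
        rw [Category.assoc, hb'b, Category.comp_id, Category.id_comp]
      · change (𝟙 η.obj.fst ≫ b) = 𝟙 η.obj.fst ≫ b
        rfl⟩
  let m' : η ⟶ (inertiaToFpDiag F).toFunctor.obj ξ :=
    ObjectProperty.homMk ⟨𝟙 _, b', by
      apply fp_hom_ext F F
      · change (𝟙 η.obj.fst ≫ (a ≫ b')) = a ≫ b'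
        rw [Category.id_comp]
      · change (𝟙 η.obj.fst ≫ 𝟙 η.obj.fst) = b ≫ b'
        rw [hbb', Category.id_comp]⟩
  refine ⟨ξ, ⟨m, m', ?_, ?_⟩, ?_⟩
  · apply fp_hom_ext (FibCat.diag F) (FibCat.diag F)
    · change 𝟙 η.obj.fst ≫ 𝟙 η.obj.fst = 𝟙 η.obj.fst
      simp
    · change b ≫ b' = 𝟙 η.obj.fst
      exact hbb'
  · apply fp_hom_ext (FibCat.diag F) (FibCat.diag F)
    · change 𝟙 η.obj.fst ≫ 𝟙 η.obj.fst = 𝟙 η.obj.fst
      simp
    · change b' ≫ b = 𝟙 η.obj.snd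
      exact hb'b
  · have : 𝒳.p.IsHomLift (𝟙 (𝒳.p.obj η.obj.fst)) m.hom.fst :=
      (inferInstance : 𝒳.p.IsHomLift (𝟙 (𝒳.p.obj η.obj.fst)) (𝟙 η.obj.fst))
    exact fp_isHomLift_of_fst (FibCat.diag F) (FibCat.diag F) _ m (h := this)

theorem inertiaToFpDiag_isEquivOver : FibCat.IsEquivOver (inertiaToFpDiag F) := by
  have := inertiaToFpDiag_faithful F
  have := inertiaToFpDiag_full F
  exact isEquivOver_of_essOver (inertiaToFpDiag F) (inertiaToFpDiag_essOver F)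

end Groth.Agent.Helper3
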