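import Mathlib.CategoryTheory.FiberedCategory.Fibered
import Mathlib.CategoryTheory.Opposites

set_option autoImplicit false
universe v₁ u₁ v₂ u₂
open CategoryTheory CategoryTheory.Functor Opposite

namespace Groth.Agent.Helper3

variable {C : Type u₁} [Category.{v₁} C] {𝒳 : Type u₂} [Category.{v₂} 𝒳] (p : 𝒳 ⥤ C)

theorem isHomLift_op' {R S : C} {a b : 𝒳} (f : R ⟶ S) (φ : a ⟶ b) [h : p.IsHomLift f φ] :
    p.op.IsHomLift f.op φ.op := by
  obtain ⟨⟩ := h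
  exact (inferInstance : p.op.IsHomLift (p.op.map φ.op) φ.op)

theorem isHomLift_unop' {R S : Cᵒᵖ} {a b : 𝒳ᵒᵖ} (f : R ⟶ S) (φ : a ⟶ b) [h : p.op.IsHomLift f φ] :
    p.IsHomLift f.unop φ.unop := by
  obtain ⟨⟩ := h
  exact (inferInstance : p.IsHomLift (p.map φ.unop) φ.unop)

theorem exists_isStronglyCartesian_of_isFibered' [p.IsFibered] (a : 𝒳) {R : C} (f : R ⟶ p.obj a) :
    ∃ (b : 𝒳) (φ : b ⟶ a), p.IsStronglyCartesian f φ := by
  obtain ⟨b, φ, hφ⟩ := Functor.IsPreFibered.exists_isCartesian' (p := p) (a := a) f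
  exact ⟨b, φ, inferInstance⟩

theorem op_isFibered_of_isFibered [p.IsFibered] [p.op.IsPreFibered] : p.op.IsFibered := by
  apply IsFibered.of_exists_isStronglyCartesian
  intro a R f
  obtain ⟨b, φ, hφ⟩ := IsPreFibered.exists_isCartesian' (p := p.op) (a := a) f
  refine ⟨b, φ, { toIsHomLift := hφ.toIsHomLift, universal_property' := ?_ }⟩
  intro a' g φ' hφ'
  have h1 : p.IsHomLift (f.unop ≫ g.unop) φ'.unop := isHomLift_unop' p (g ≫ f) φ'
  obtain ⟨c, ψ, hψ⟩ := exists_isStronglyCartesian_of_isFibered' p a'.unop g.unop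
  let φ'' : a.unop ⟶ c := IsStronglyCartesian.map p g.unop ψ (g := f.unop) (f' := f.unop ≫ g.unop) rfl φ'.unop
  have hφ''1 : φ'' ≫ ψ = φ'.unop := IsStronglyCartesian.fac p g.unop ψ rfl φ'.unop
  have hφ''2 : p.IsHomLift f.unop φ'' := IsStronglyCartesian.map_isHomLift p g.unop ψ rfl φ'.unop
  have hφ''3 : p.op.IsHomLift f φ''.op := isHomLift_op' p f.unop φ''
  let χ₀ : op c ⟶ b := IsCartesian.map p.op f φ φ''.op
  have hχ₀1 : χ₀ ≫ φ = φ''.op := IsCartesian.fac p.op f φ φ''.op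
  have hχ₀2 : p.op.IsHomLift (𝟙 R) χ₀ := IsCartesian.map_isHomLift p.op f φ φ''.op
  have hψop : p.op.IsHomLift g ψ.op := isHomLift_op' p g.unop ψ
  refine ⟨ψ.op ≫ χ₀, ⟨inferInstance, ?_⟩, ?_⟩
  · rw [Category.assoc, hχ₀1, ← op_comp, hφ''1]
    rfl
  · rintro χ' ⟨hχ'l, hχ'⟩
    have h2 : p.IsHomLift g.unop χ'.unop := isHomLift_unop' p g χ'
    have h3 : p.IsHomLift (𝟙 R.unop ≫ g.unop) χ'.unop := by rw [Category.id_comp]; exact h2
    let χ₀' : b.unop ⟶ c := IsStronglyCartesian.map p g.unop ψ (g := 𝟙 R.unop) (f' := 𝟙 R.unop ≫ g.unop) rfl χ'.unop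
    have hχ₀'1 : χ₀' ≫ ψ = χ'.unop := IsStronglyCartesian.fac p g.unop ψ rfl χ'.unop
    have hχ₀'2 : p.IsHomLift (𝟙 R.unop) χ₀' := IsStronglyCartesian.map_isHomLift p g.unop ψ rfl χ'.unop
    have hφu : p.IsHomLift f.unop φ.unop := isHomLift_unop' p f φ
    have h4 : φ.unop ≫ χ₀' = φ'' := by
      apply IsStronglyCartesian.ext p g.unop ψ f.unop
      rw [Category.assoc, hχ₀'1, hφ''1, ← unop_comp, hχ']
    have h5 : p.op.IsHomLift (𝟙 R) χ₀'.op := isHomLift_op' p (𝟙 R.unop) χ₀'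
    have h6 : χ₀'.op ≫ φ = φ''.op := by
      rw [← h4]; rfl
    have h7 : χ₀'.op = χ₀ := IsCartesian.map_uniq p.op f φ φ''.op χ₀'.op h6
    rw [← h7]
    change χ' = (χ₀' ≫ ψ).op
    rw [hχ₀'1]
    rfl

theorem isFibered_of_op_isFibered [p.op.IsFibered] [p.IsPreFibered] : p.IsFibered := by
  apply IsFibered.of_exists_isStronglyCartesian
  intro a R f
  obtain ⟨b, φ, hφ⟩ := IsPreFibered.exists_isCartesian' (p := p) (a := a) f
  refine ⟨b, φ, { toIsHomLift := hφ.toIsHomLift, universal_property' := ?_ }⟩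
  intro a' g φ' hφ'
  have h1 : p.op.IsHomLift (f.op ≫ g.op) φ'.op := isHomLift_op' p (g ≫ f) φ'
  obtain ⟨c, ψ, hψ⟩ := exists_isStronglyCartesian_of_isFibered' p.op (op a') g.op
  let φ'' : op a ⟶ c := IsStronglyCartesian.map p.op g.op ψ (g := f.op) (f' := f.op ≫ g.op) rfl φ'.op
  have hφ''1 : φ'' ≫ ψ = φ'.op := IsStronglyCartesian.fac p.op g.op ψ rfl φ'.op
  have hφ''2 : p.op.IsHomLift f.op φ'' := IsStronglyCartesian.map_isHomLift p.op g.op ψ rfl φ'.op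
  have hφ''3 : p.IsHomLift f φ''.unop := isHomLift_unop' p f.op φ''
  let χ₀ : c.unop ⟶ b := IsCartesian.map p f φ φ''.unop
  have hχ₀1 : χ₀ ≫ φ = φ''.unop := IsCartesian.fac p f φ φ''.unop
  have hχ₀2 : p.IsHomLift (𝟙 R) χ₀ := IsCartesian.map_isHomLift p f φ φ''.unop
  have hψop : p.IsHomLift g ψ.unop := isHomLift_unop' p g.op ψ
  refine ⟨ψ.unop ≫ χ₀, ⟨inferInstance, ?_⟩, ?_⟩
  · rw [Category.assoc, hχ₀1, ← unop_comp, hφ''1]
    rfl
  · rintro χ' ⟨hχ'l, hχ'⟩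
    have h2 : p.op.IsHomLift g.op χ'.op := isHomLift_op' p g χ'
    have h3 : p.op.IsHomLift (𝟙 (op R) ≫ g.op) χ'.op := by rw [Category.id_comp]; exact h2
    let χ₀' : op b ⟶ c := IsStronglyCartesian.map p.op g.op ψ (g := 𝟙 (op R)) (f' := 𝟙 (op R) ≫ g.op) rfl χ'.op
    have hχ₀'1 : χ₀' ≫ ψ = χ'.op := IsStronglyCartesian.fac p.op g.op ψ rfl χ'.op
    have hχ₀'2 : p.op.IsHomLift (𝟙 (op R)) χ₀' := IsStronglyCartesian.map_isHomLift p.op g.op ψ rfl χ'.op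
    have hφu : p.op.IsHomLift f.op φ.op := isHomLift_op' p f φ
    have h4 : φ.op ≫ χ₀' = φ'' := by
      apply IsStronglyCartesian.ext p.op g.op ψ f.op
      rw [Category.assoc, hχ₀'1, hφ''1, ← op_comp, hχ']
    have h5 : p.IsHomLift (𝟙 R) χ₀'.unop := isHomLift_unop' p (𝟙 (op R)) χ₀'
    have h6 : χ₀'.unop ≫ φ = φ''.unop := by
      rw [← h4]; rfl
    have h7 : χ₀'.unop = χ₀ := IsCartesian.map_uniq p f φ φ''.unop χ₀'.unop h6
    rw [← h7]
    change χ' = (χ₀' ≫ ψ).unop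
    rw [hχ₀'1]
    rfl

end Groth.Agent.Helper3
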