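import Groth.Agent.Lib.helper3.FibSetoid
import Groth.Agent.Lib.helper3.FibEquiv2
import Groth.Agent.Lib.helper3.FibFp2

set_option autoImplicit false
set_option backward.isDefEq.respectTransparency false
universe v₃ u₃ v₂ u₂ v₁ u₁ v u
open CategoryTheory CategoryTheory.Functor

namespace Groth.Agent.Helper3

theorem isStronglyCartesian_of_fullyFaithful {𝒜 : Type u₁} [Category.{v₁} 𝒜] {ℬ : Type u₂} [Category.{v₂} ℬ]
    (F : 𝒜 ⥤ ℬ) [F.Full] [F.Faithful] {x y : 𝒜} (φ : x ⟶ y) : F.IsStronglyCartesian (F.map φ) φ := by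
  refine { toIsHomLift := inferInstance, universal_property' := ?_ }
  intro a' g φ' hφ'
  have e1 : g ≫ F.map φ = F.map φ' := IsHomLift.eq_of_isHomLift F (g ≫ F.map φ) φ'
  refine ⟨F.preimage g, ⟨?_, ?_⟩, ?_⟩
  · have : F.IsHomLift (F.map (F.preimage g)) (F.preimage g) := inferInstance
    rwa [F.map_preimage] at this
  · apply F.map_injective
    rw [F.map_comp, F.map_preimage, e1]
  · rintro χ ⟨hχ, -⟩
    apply F.map_injective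
    rw [F.map_preimage]
    exact (IsHomLift.eq_of_isHomLift F g χ).symm

variable {C : Type u} [Category.{v} C] (𝒳 : BasedCategory.{v₂, u₂} C)

/-- isomorphic over an identity of the base -/
def fibIsoSetoid : Setoid 𝒳.obj where
  r x y := ∃ e : x ≅ y, 𝒳.p.IsHomLift (𝟙 (𝒳.p.obj x)) e.hom
  iseqv := by
    refine ⟨fun x => ⟨Iso.refl x, ?_⟩, ?_, ?_⟩
    · show 𝒳.p.IsHomLift (𝟙 (𝒳.p.obj x)) (𝟙 x)
      infer_instance
    · rintro x y ⟨e, he⟩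
      have hxy : 𝒳.p.obj y = 𝒳.p.obj x := IsHomLift.codomain_eq 𝒳.p (𝟙 (𝒳.p.obj x)) e.hom
      have : 𝒳.p.IsHomLift (𝟙 (𝒳.p.obj x)) e.inv := IsHomLift.lift_id_inv _ _ _
      exact ⟨e.symm, isHomLift_id_of_eq 𝒳.p hxy.symm e.inv⟩
    · rintro x y z ⟨e, he⟩ ⟨e', he'⟩
      have hxy : 𝒳.p.obj y = 𝒳.p.obj x := IsHomLift.codomain_eq 𝒳.p (𝟙 (𝒳.p.obj x)) e.hom
      have : 𝒳.p.IsHomLift (𝟙 (𝒳.p.obj x)) e'.hom := isHomLift_id_of_eq 𝒳.p hxy e'.hom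
      refine ⟨e ≪≫ e', ?_⟩
      show 𝒳.p.IsHomLift (𝟙 (𝒳.p.obj x)) (e.hom ≫ e'.hom)
      infer_instance

noncomputable def fibRep (x : 𝒳.obj) : 𝒳.obj := (Quotient.mk (fibIsoSetoid 𝒳) x).out

theorem fibRep_rel (x : 𝒳.obj) : (fibIsoSetoid 𝒳).r (fibRep 𝒳 x) x :=
  Quotient.mk_out (s := fibIsoSetoid 𝒳) x

theorem fibRep_eq_of_rel {x y : 𝒳.obj} (h : (fibIsoSetoid 𝒳).r x y) : fibRep 𝒳 x = fibRep 𝒳 y := by
  unfold fibRep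
  rw [Quotient.sound (s := fibIsoSetoid 𝒳) h]

theorem fibRep_fibRep (x : 𝒳.obj) : fibRep 𝒳 (fibRep 𝒳 x) = fibRep 𝒳 x :=
  fibRep_eq_of_rel 𝒳 (fibRep_rel 𝒳 x)

def fibRepProp : ObjectProperty 𝒳.obj := fun x => fibRep 𝒳 x = x

abbrev fibSetCat : BasedCategory.{v₂, u₂} C where
  obj := (fibRepProp 𝒳).FullSubcategory
  p := (fibRepProp 𝒳).ι ⋙ 𝒳.p

def fibSetIncl : fibSetCat 𝒳 ⥤ᵇ 𝒳 where
  toFunctor := (fibRepProp 𝒳).ι
  w := rfl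

instance : (fibSetIncl 𝒳).toFunctor.Full := inferInstanceAs ((fibRepProp 𝒳).ι).Full
instance : (fibSetIncl 𝒳).toFunctor.Faithful := inferInstanceAs ((fibRepProp 𝒳).ι).Faithful

theorem fibSetIncl_essOver : EssOver (fibSetIncl 𝒳) := by
  intro η
  obtain ⟨e, he⟩ := fibRep_rel 𝒳 η
  have hy : 𝒳.p.obj η = 𝒳.p.obj (fibRep 𝒳 η) := IsHomLift.codomain_eq 𝒳.p (𝟙 _) e.hom
  exact ⟨⟨fibRep 𝒳 η, fibRep_fibRep 𝒳 η⟩, e, isHomLift_id_of_eq 𝒳.p hy.symm e.hom⟩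

theorem fibSetIncl_isEquivOver : FibCat.IsEquivOver (fibSetIncl 𝒳) :=
  isEquivOver_of_essOver (fibSetIncl 𝒳) (fibSetIncl_essOver 𝒳)

theorem fibSetCat_isFibGrpd (h : FibCat.IsFibGrpd 𝒳.p) : FibCat.IsFibGrpd (fibSetCat 𝒳).p := by
  refine ⟨?_, ?_⟩
  · intro x V f
    change V ⟶ 𝒳.p.obj x.obj at f
    obtain ⟨y, φ, hφ⟩ := h.exists_lift (x := x.obj) f
    obtain ⟨e, he⟩ := fibRep_rel 𝒳 y
    have hV : 𝒳.p.obj y = V := IsHomLift.domain_eq 𝒳.p f φ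
    have hy : 𝒳.p.obj y = 𝒳.p.obj (fibRep 𝒳 y) := IsHomLift.codomain_eq 𝒳.p (𝟙 _) e.hom
    have he' : 𝒳.p.IsHomLift (𝟙 V) e.hom := isHomLift_id_of_eq 𝒳.p (hy.symm.trans hV) e.hom
    let y' : (fibSetCat 𝒳).obj := ⟨fibRep 𝒳 y, fibRep_fibRep 𝒳 y⟩
    let m : y' ⟶ x := ObjectProperty.homMk (e.hom ≫ φ)
    have hm : 𝒳.p.IsHomLift f ((fibRepProp 𝒳).ι.map m) :=
      (inferInstance : 𝒳.p.IsHomLift f (e.hom ≫ φ))
    exact ⟨y', m, isHomLift_comp_functor (fibRepProp 𝒳).ι 𝒳.p m ((fibRepProp 𝒳).ι.map m) f⟩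
  · intro y x m
    have h1 : (fibRepProp 𝒳).ι.IsStronglyCartesian ((fibRepProp 𝒳).ι.map m) m :=
      isStronglyCartesian_of_fullyFaithful _ m
    have h2 : 𝒳.p.IsStronglyCartesian (𝒳.p.map ((fibRepProp 𝒳).ι.map m)) ((fibRepProp 𝒳).ι.map m) :=
      h.isStronglyCartesian _
    exact isStronglyCartesian_comp_functor_map (fibRepProp 𝒳).ι 𝒳.p m

theorem fibSetCat_isDiscrete (h : FibCat.IsFibSetoid 𝒳.p) (U : C) :
    IsDiscrete ((fibSetCat 𝒳).p.Fiber U) := by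
  have hg := h.1
  refine { subsingleton := ?_, eq_of_hom := ?_ }
  · intro X Y
    refine ⟨fun m₁ m₂ => ?_⟩
    apply Fiber.hom_ext
    apply ObjectProperty.hom_ext
    have h1 : 𝒳.p.IsHomLift (𝟙 U) ((fibRepProp 𝒳).ι.map (Fiber.fiberInclusion.map m₁)) :=
      isHomLift_map_of_comp _ 𝒳.p (𝟙 U) _
    have h2 : 𝒳.p.IsHomLift (𝟙 U) ((fibRepProp 𝒳).ι.map (Fiber.fiberInclusion.map m₂)) :=
      isHomLift_map_of_comp _ 𝒳.p (𝟙 U) _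
    exact IsFibSetoid.hom_eq h (𝟙 U) _ _ (h₁ := h1) (h₂ := h2)
  · intro X Y m
    have h1 : 𝒳.p.IsHomLift (𝟙 U) ((fibRepProp 𝒳).ι.map (Fiber.fiberInclusion.map m)) :=
      isHomLift_map_of_comp _ 𝒳.p (𝟙 U) _
    have hiso : IsIso ((fibRepProp 𝒳).ι.map (Fiber.fiberInclusion.map m)) :=
      IsFibGrpd.isIso_of_isHomLift_isIso 𝒳.p (𝟙 U) _
    have hX : 𝒳.p.obj X.1.obj = U := X.2
    have hrel : (fibIsoSetoid 𝒳).r X.1.obj Y.1.obj :=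
      ⟨asIso ((fibRepProp 𝒳).ι.map (Fiber.fiberInclusion.map m)), isHomLift_id_of_eq 𝒳.p hX.symm _ (hl := h1)⟩
    have e := fibRep_eq_of_rel 𝒳 hrel
    have hXY : X.1.obj = Y.1.obj := by
      rw [← X.1.property, ← Y.1.property]; exact e
    apply Fiber.fiberInclusion_obj_inj
    exact ObjectProperty.FullSubcategory.ext hXY

theorem exists_isFibSet_equivOver_of_isFibSetoid (h : FibCat.IsFibSetoid 𝒳.p) :
    ∃ (𝒴 : BasedCategory.{v₂, u₂} C) (F : 𝒳 ⥤ᵇ 𝒴), FibCat.IsFibSet 𝒴.p ∧ FibCat.IsEquivOver F := by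
  obtain ⟨F, hF⟩ := isEquivOver_symm (fibSetIncl 𝒳) (fibSetIncl_isEquivOver 𝒳)
  exact ⟨fibSetCat 𝒳, F, ⟨fibSetCat_isFibGrpd 𝒳 h.1, fibSetCat_isDiscrete 𝒳 h⟩, hF⟩

end Groth.Agent.Helper3
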