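import Groth.Agent.Lib.helper3.FibFiber

set_option autoImplicit false
universe v₃ u₃ v₂ u₂ v u
open CategoryTheory CategoryTheory.Functor

namespace Groth.Agent.Helper3

variable {C : Type u} [Category.{v} C]

/-- In a category fibred in setoids, two morphisms with the same source and target lying over the same
morphism of the base are equal. -/
theorem IsFibSetoid.hom_eq {𝒵 : Type u₂} [Category.{v₂} 𝒵] {p : 𝒵 ⥤ C} (hp : FibCat.IsFibSetoid p)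
    {R S : C} (f : R ⟶ S) {a b : 𝒵} (m₁ m₂ : a ⟶ b) [h₁ : p.IsHomLift f m₁] [h₂ : p.IsHomLift f m₂] :
    m₁ = m₂ := by
  obtain ⟨hg, hthin⟩ := hp
  have hsc : p.IsStronglyCartesian f m₂ := IsFibGrpd.isStronglyCartesian p f m₂
  have h1 : p.IsHomLift (𝟙 R ≫ f) m₁ := by rw [Category.id_comp]; exact h₁
  obtain ⟨χ, ⟨hχa, hχb⟩, -⟩ :=
    Functor.IsStronglyCartesian.universal_property (p := p) (f := f) (φ := m₂) (𝟙 R) (𝟙 R ≫ f) rfl m₁
  have ha : p.obj a = R := IsHomLift.domain_eq p f m₁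
  let A : p.Fiber R := ⟨a, ha⟩
  let χ' : A ⟶ A := ⟨χ, hχa⟩
  have := hthin R
  have e : χ' = 𝟙 A := Subsingleton.elim _ _
  have e' : χ = 𝟙 a := congrArg Subtype.val e
  rw [← hχb, e', Category.id_comp]

theorem IsFibSetoid.exists_unique_iso {𝒳 : BasedCategory.{v₂, u₂} C} {𝒴 : BasedCategory.{v₃, u₃} C}
    (h𝒴 : FibCat.IsFibSetoid 𝒴.p) (f g : 𝒳 ⥤ᵇ 𝒴)
    (hfg : ∀ (U : C) (x : 𝒳.p.Fiber U),
      Nonempty ((FibCat.fiberFunctor f U).obj x ≅ (FibCat.fiberFunctor g U).obj x)) :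
    Nonempty (Unique (f ≅ g)) := by
  let e : ∀ x : 𝒳.obj, (FibCat.fiberFunctor f (𝒳.p.obj x)).obj ⟨x, rfl⟩ ≅
      (FibCat.fiberFunctor g (𝒳.p.obj x)).obj ⟨x, rfl⟩ := fun x => (hfg (𝒳.p.obj x) ⟨x, rfl⟩).some
  let e' : ∀ x : 𝒳.obj, f.toFunctor.obj x ≅ g.toFunctor.obj x :=
    fun x => Fiber.fiberInclusion.mapIso (e x)
  have he' : ∀ x : 𝒳.obj, 𝒴.p.IsHomLift (𝟙 (𝒳.p.obj x)) (e' x).hom := fun x =>
    (inferInstance : 𝒴.p.IsHomLift (𝟙 (𝒳.p.obj x)) (Fiber.fiberInclusion.map (e x).hom))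
  let α₀ : f.toFunctor ≅ g.toFunctor := NatIso.ofComponents e' (by
    intro x y φ
    have := he' x
    have := he' y
    have h1 : 𝒴.p.IsHomLift (𝒳.p.map φ) (f.toFunctor.map φ) := BasedFunctor.preserves_isHomLift f _ _
    have h2 : 𝒴.p.IsHomLift (𝒳.p.map φ) (g.toFunctor.map φ) := BasedFunctor.preserves_isHomLift g _ _
    have h3 : 𝒴.p.IsHomLift (𝒳.p.map φ) (f.toFunctor.map φ ≫ (e' y).hom) := inferInstance
    have h4 : 𝒴.p.IsHomLift (𝒳.p.map φ) ((e' x).hom ≫ g.toFunctor.map φ) := inferInstance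
    exact IsFibSetoid.hom_eq h𝒴 (𝒳.p.map φ) _ _)
  let α : f ≅ g := BasedNatIso.mkNatIso α₀ (fun x => he' x)
  refine ⟨⟨⟨α⟩, fun β => ?_⟩⟩
  apply Iso.ext
  apply BasedNatTrans.ext
  ext x
  have h1 : 𝒴.p.IsHomLift (𝟙 (𝒳.p.obj x)) (β.hom.toNatTrans.app x) := inferInstance
  have h2 : 𝒴.p.IsHomLift (𝟙 (𝒳.p.obj x)) (α.hom.toNatTrans.app x) := inferInstance
  exact IsFibSetoid.hom_eq h𝒴 (𝟙 (𝒳.p.obj x)) _ _

end Groth.Agent.Helper3
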