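import Groth.Agent.Lib.helper3.FibEquiv2
import Mathlib

set_option autoImplicit false
set_option backward.isDefEq.respectTransparency false
universe v u
open CategoryTheory CategoryTheory.Functor Opposite

namespace Groth.Agent.Helper3

variable {C : Type u} [Category.{v} C] (𝒳 : BasedCategory.{v, max u v} C)

/-- formal pullbacks: an object of `𝒳` together with a morphism of the base into its image -/
structure SplitObj (U : C) : Type (max u v) where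
  pt : 𝒳.obj
  str : U ⟶ 𝒳.p.obj pt

namespace SplitObj

variable {𝒳} [𝒳.p.IsFibered] {U V W : C}

noncomputable def pb (o : SplitObj 𝒳 U) : 𝒳.obj :=
  IsPreFibered.pullbackObj (rfl : 𝒳.p.obj o.pt = _) o.str

noncomputable def lift (o : SplitObj 𝒳 U) : o.pb ⟶ o.pt :=
  IsPreFibered.pullbackMap (rfl : 𝒳.p.obj o.pt = _) o.str

instance lift_isStronglyCartesian (o : SplitObj 𝒳 U) : 𝒳.p.IsStronglyCartesian o.str o.lift := by
  unfold lift
  infer_instance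

theorem pb_proj (o : SplitObj 𝒳 U) : 𝒳.p.obj o.pb = U :=
  IsPreFibered.pullbackObj_proj (rfl : 𝒳.p.obj o.pt = _) o.str

theorem lift_ext (o : SplitObj 𝒳 U) (g : V ⟶ U) {a : 𝒳.obj} (ψ ψ' : a ⟶ o.pb)
    [𝒳.p.IsHomLift g ψ] [𝒳.p.IsHomLift g ψ'] (h : ψ ≫ o.lift = ψ' ≫ o.lift) : ψ = ψ' :=
  IsStronglyCartesian.ext 𝒳.p o.str o.lift g h

@[ext]
structure Hom (o o' : SplitObj 𝒳 U) where
  hom : o.pb ⟶ o'.pb
  isHomLift : 𝒳.p.IsHomLift (𝟙 U) hom

noncomputable instance : Category (SplitObj 𝒳 U) where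
  Hom := Hom
  id o := ⟨𝟙 _, IsHomLift.id o.pb_proj⟩
  comp f g := ⟨f.hom ≫ g.hom, by have := f.isHomLift; have := g.isHomLift; infer_instance⟩
  id_comp f := Hom.ext (Category.id_comp _)
  comp_id f := Hom.ext (Category.comp_id _)
  assoc f g h := Hom.ext (Category.assoc _ _ _)

@[ext] theorem hom_ext {o o' : SplitObj 𝒳 U} {f g : o ⟶ o'} (h : f.hom = g.hom) : f = g := Hom.ext h

@[simp] theorem id_hom (o : SplitObj 𝒳 U) : (𝟙 o : o ⟶ o).hom = 𝟙 o.pb := rfl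

@[simp] theorem comp_hom {o o' o'' : SplitObj 𝒳 U} (f : o ⟶ o') (g : o' ⟶ o'') :
    (f ≫ g).hom = f.hom ≫ g.hom := rfl

instance hom_isHomLift {o o' : SplitObj 𝒳 U} (f : o ⟶ o') : 𝒳.p.IsHomLift (𝟙 U) f.hom := f.isHomLift

theorem eqToHom_hom_lift {o₁ o₂ : SplitObj 𝒳 U} (e : o₁ = o₂) :
    (eqToHom e).hom ≫ o₂.lift = o₁.lift ≫ eqToHom (congrArg pt e) := by
  subst e
  simp

theorem eqToHom_hom_lift' {x : 𝒳.obj} {f₁ f₂ : U ⟶ 𝒳.p.obj x}
    (e : (⟨x, f₁⟩ : SplitObj 𝒳 U) = ⟨x, f₂⟩) :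
    (eqToHom e).hom ≫ lift ⟨x, f₂⟩ = lift ⟨x, f₁⟩ := by
  rw [eqToHom_hom_lift]
  simp

/-- reindexing on objects -/
abbrev reidxObj (h : V ⟶ U) (o : SplitObj 𝒳 U) : SplitObj 𝒳 V := ⟨o.pt, h ≫ o.str⟩

instance reidx_lift_isStronglyCartesian (h : V ⟶ U) (o : SplitObj 𝒳 U) :
    𝒳.p.IsStronglyCartesian (h ≫ o.str) (reidxObj h o).lift :=
  lift_isStronglyCartesian (reidxObj h o)

noncomputable def cmap (h : V ⟶ U) (o : SplitObj 𝒳 U) : (reidxObj h o).pb ⟶ o.pb :=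
  IsStronglyCartesian.map 𝒳.p o.str o.lift (g := h) (f' := h ≫ o.str) rfl (reidxObj h o).lift

@[reassoc (attr := simp)]
theorem cmap_fac (h : V ⟶ U) (o : SplitObj 𝒳 U) : cmap h o ≫ o.lift = (reidxObj h o).lift :=
  IsStronglyCartesian.fac 𝒳.p o.str o.lift rfl (reidxObj h o).lift

instance cmap_isHomLift (h : V ⟶ U) (o : SplitObj 𝒳 U) : 𝒳.p.IsHomLift h (cmap h o) :=
  IsStronglyCartesian.map_isHomLift 𝒳.p o.str o.lift rfl (reidxObj h o).lift

noncomputable def reidxMapHom (h : V ⟶ U) {o o' : SplitObj 𝒳 U} (γ : o ⟶ o') :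
    (reidxObj h o).pb ⟶ (reidxObj h o').pb :=
  IsStronglyCartesian.map 𝒳.p (h ≫ o'.str) (reidxObj h o').lift (g := 𝟙 V) (f' := h ≫ o'.str)
    (Category.id_comp _).symm (cmap h o ≫ γ.hom ≫ o'.lift)

instance reidxMapHom_isHomLift (h : V ⟶ U) {o o' : SplitObj 𝒳 U} (γ : o ⟶ o') :
    𝒳.p.IsHomLift (𝟙 V) (reidxMapHom h γ) :=
  IsStronglyCartesian.map_isHomLift 𝒳.p (h ≫ o'.str) (reidxObj h o').lift
    (Category.id_comp _).symm (cmap h o ≫ γ.hom ≫ o'.lift)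

@[reassoc (attr := simp)]
theorem reidxMapHom_fac (h : V ⟶ U) {o o' : SplitObj 𝒳 U} (γ : o ⟶ o') :
    reidxMapHom h γ ≫ (reidxObj h o').lift = cmap h o ≫ γ.hom ≫ o'.lift :=
  IsStronglyCartesian.fac 𝒳.p (h ≫ o'.str) (reidxObj h o').lift
    (Category.id_comp _).symm (cmap h o ≫ γ.hom ≫ o'.lift)

@[reassoc]
theorem reidxMapHom_cmap (h : V ⟶ U) {o o' : SplitObj 𝒳 U} (γ : o ⟶ o') :
    reidxMapHom h γ ≫ cmap h o' = cmap h o ≫ γ.hom := by
  apply lift_ext o' h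
  simp

noncomputable def reidxMap (h : V ⟶ U) {o o' : SplitObj 𝒳 U} (γ : o ⟶ o') :
    reidxObj h o ⟶ reidxObj h o' := ⟨reidxMapHom h γ, inferInstance⟩

@[simp] theorem reidxMap_hom (h : V ⟶ U) {o o' : SplitObj 𝒳 U} (γ : o ⟶ o') :
    (reidxMap h γ).hom = reidxMapHom h γ := rfl

noncomputable def reidx (h : V ⟶ U) : SplitObj 𝒳 U ⥤ SplitObj 𝒳 V where
  obj o := reidxObj h o
  map γ := reidxMap h γ
  map_id o := by
    apply hom_ext
    apply lift_ext (reidxObj h o) (𝟙 V)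
    simp
  map_comp {o o' o''} γ γ' := by
    apply hom_ext
    apply lift_ext (reidxObj h o'') (𝟙 V)
    simp [reidxMapHom_cmap_assoc]

theorem cmap_id (o : SplitObj 𝒳 U) (e : reidxObj (𝟙 U) o = o) : cmap (𝟙 U) o = (eqToHom e).hom := by
  apply lift_ext o (𝟙 U)
  rw [cmap_fac]
  exact (eqToHom_hom_lift' (x := o.pt) (f₁ := 𝟙 U ≫ o.str) (f₂ := o.str) e).symm

theorem cmap_comp (k : W ⟶ V) (h : V ⟶ U) (o : SplitObj 𝒳 U)
    (e : reidxObj (k ≫ h) o = reidxObj k (reidxObj h o)) :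
    cmap (k ≫ h) o = (eqToHom e).hom ≫ cmap k (reidxObj h o) ≫ cmap h o := by
  apply lift_ext o (k ≫ h)
  rw [cmap_fac, Category.assoc, Category.assoc, cmap_fac, cmap_fac]
  exact (eqToHom_hom_lift' (x := o.pt) (f₁ := (k ≫ h) ≫ o.str) (f₂ := k ≫ h ≫ o.str) e).symm

theorem reidx_id (U : C) : reidx (𝒳 := 𝒳) (𝟙 U) = 𝟭 (SplitObj 𝒳 U) := by
  have hobj : ∀ o : SplitObj 𝒳 U, reidxObj (𝟙 U) o = o := fun o => by
    cases o; simp
  refine CategoryTheory.Functor.ext hobj ?_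
  intro o o' γ
  apply hom_ext
  apply lift_ext (reidxObj (𝟙 U) o') (𝟙 U)
  have e2 := eqToHom_hom_lift' (x := o'.pt) (f₁ := o'.str) (f₂ := 𝟙 U ≫ o'.str) (hobj o').symm
  change reidxMapHom (𝟙 U) γ ≫ (reidxObj (𝟙 U) o').lift =
    ((eqToHom (hobj o)).hom ≫ γ.hom ≫ (eqToHom (hobj o').symm).hom) ≫ (reidxObj (𝟙 U) o').lift
  rw [reidxMapHom_fac, Category.assoc, Category.assoc, e2, cmap_id o (hobj o)]

theorem reidx_comp (k : W ⟶ V) (h : V ⟶ U) :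
    reidx (𝒳 := 𝒳) (k ≫ h) = reidx h ⋙ reidx k := by
  have hobj : ∀ o : SplitObj 𝒳 U, reidxObj (k ≫ h) o = reidxObj k (reidxObj h o) := fun o => by
    simp
  refine CategoryTheory.Functor.ext hobj ?_
  intro o o' γ
  apply hom_ext
  apply lift_ext (reidxObj (k ≫ h) o') (𝟙 W)
  have e2 := eqToHom_hom_lift' (x := o'.pt) (f₁ := k ≫ h ≫ o'.str) (f₂ := (k ≫ h) ≫ o'.str) (hobj o').symm
  change reidxMapHom (k ≫ h) γ ≫ (reidxObj (k ≫ h) o').lift =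
    ((eqToHom (hobj o)).hom ≫ reidxMapHom k (reidxMap h γ) ≫ (eqToHom (hobj o').symm).hom) ≫
      (reidxObj (k ≫ h) o').lift
  rw [reidxMapHom_fac, Category.assoc, Category.assoc, e2, cmap_comp k h o (hobj o)]
  have e3 := reidxMapHom_fac k (reidxMap h γ)
  rw [Category.assoc, Category.assoc]
  congr 1
  rw [e3, reidxMap_hom, reidxMapHom_fac]

end SplitObj

/-- the split fibration: a strict functor to `Cat` -/
noncomputable def splitFunctor [𝒳.p.IsFibered] : Cᵒᵖ ⥤ Cat.{v, max u v} where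
  obj U := Cat.of (SplitObj 𝒳 U.unop)
  map f := (SplitObj.reidx f.unop).toCatHom
  map_id U := Cat.ext (SplitObj.reidx_id U.unop)
  map_comp f g := Cat.ext (SplitObj.reidx_comp g.unop f.unop)

end Groth.Agent.Helper3
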