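import Groth.Agent.Lib.helper3.FibSplit

set_option autoImplicit false
set_option backward.isDefEq.respectTransparency false
set_option linter.unusedSectionVars false
universe v u
open CategoryTheory CategoryTheory.Functor Opposite Pseudofunctor Pseudofunctor.CoGrothendieck

namespace Groth.Agent.Helper3

variable {C : Type u} [Category.{v} C] (𝒳 : BasedCategory.{v, max u v} C) [𝒳.p.IsFibered]

noncomputable abbrev splitPs := (splitFunctor 𝒳).toPseudofunctor'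

variable {𝒳}

namespace SplitObj

variable {U V W : C}

theorem reidxObj_id (o : SplitObj 𝒳 U) : reidxObj (𝟙 U) o = o := by
  cases o; simp

theorem reidxObj_comp (k : W ⟶ V) (h : V ⟶ U) (o : SplitObj 𝒳 U) :
    reidxObj (k ≫ h) o = reidxObj k (reidxObj h o) := by
  simp

theorem eqToHom_comp_eqToHom_hom {o₁ o₂ : SplitObj 𝒳 U} (e : o₁ = o₂) (e' : o₂ = o₁) :
    (eqToHom e).hom ≫ (eqToHom e').hom = 𝟙 o₁.pb := by
  subst e
  simp

theorem eqToHom_cmap_id (o : SplitObj 𝒳 U) (e : o = reidxObj (𝟙 U) o) :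
    (eqToHom e).hom ≫ cmap (𝟙 U) o = 𝟙 o.pb := by
  rw [cmap_id o e.symm, eqToHom_comp_eqToHom_hom]

theorem eqToHom_cmap_comp (k : W ⟶ V) (h : V ⟶ U) (o : SplitObj 𝒳 U)
    (e : reidxObj k (reidxObj h o) = reidxObj (k ≫ h) o) :
    (eqToHom e).hom ≫ cmap (k ≫ h) o = cmap k (reidxObj h o) ≫ cmap h o := by
  rw [cmap_comp k h o e.symm, ← Category.assoc, eqToHom_comp_eqToHom_hom, Category.id_comp]

instance cmap_isStronglyCartesian (h : V ⟶ U) (o : SplitObj 𝒳 U) :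
    𝒳.p.IsStronglyCartesian h (cmap h o) := by
  have h1 : 𝒳.p.IsStronglyCartesian (h ≫ o.str) (cmap h o ≫ o.lift) := by
    rw [cmap_fac]; infer_instance
  exact IsStronglyCartesian.of_comp 𝒳.p (f := h) (g := o.str) (φ := cmap h o) (ψ := o.lift)

end SplitObj

def fibObj (X : ∫ᶜ (splitPs 𝒳)) : SplitObj 𝒳 X.base := X.fiber

def fibHom {X Y : ∫ᶜ (splitPs 𝒳)} (m : X ⟶ Y) : fibObj X ⟶ SplitObj.reidxObj m.base (fibObj Y) := m.fiber

theorem fibHom_id (X : ∫ᶜ (splitPs 𝒳)) :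
    fibHom (𝟙 X) = eqToHom (SplitObj.reidxObj_id (fibObj X)).symm := by
  unfold fibHom
  simp

theorem fibHom_comp {X Y Z : ∫ᶜ (splitPs 𝒳)} (m : X ⟶ Y) (n : Y ⟶ Z) :
    fibHom (m ≫ n) = fibHom m ≫ SplitObj.reidxMap m.base (fibHom n) ≫
      eqToHom (SplitObj.reidxObj_comp m.base n.base (fibObj Z)).symm := by
  unfold fibHom
  simp
  rfl

noncomputable def splitMap {X Y : ∫ᶜ (splitPs 𝒳)} (m : X ⟶ Y) : (fibObj X).pb ⟶ (fibObj Y).pb :=
  (fibHom m).hom ≫ SplitObj.cmap m.base (fibObj Y)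

instance splitMap_isHomLift {X Y : ∫ᶜ (splitPs 𝒳)} (m : X ⟶ Y) : 𝒳.p.IsHomLift m.base (splitMap m) := by
  unfold splitMap
  infer_instance

noncomputable def splitToFunctor : ∫ᶜ (splitPs 𝒳) ⥤ 𝒳.obj where
  obj X := (fibObj X).pb
  map m := splitMap m
  map_id X := by
    unfold splitMap
    rw [fibHom_id]
    exact SplitObj.eqToHom_cmap_id (fibObj X) _
  map_comp {X Y Z} m n := by
    unfold splitMap
    rw [fibHom_comp]
    have E := (SplitObj.reidxObj_comp m.base n.base (fibObj Z)).symm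
    calc (fibHom m ≫ SplitObj.reidxMap m.base (fibHom n) ≫ eqToHom E).hom ≫
          SplitObj.cmap (m ≫ n).base (fibObj Z)
        = (fibHom m).hom ≫ SplitObj.reidxMapHom m.base (fibHom n) ≫
            ((eqToHom E).hom ≫ SplitObj.cmap (m.base ≫ n.base) (fibObj Z)) := by
          simp only [SplitObj.comp_hom, SplitObj.reidxMap_hom, Category.assoc]; rfl
      _ = (fibHom m).hom ≫ SplitObj.cmap m.base (fibObj Y) ≫ (fibHom n).hom ≫
            SplitObj.cmap n.base (fibObj Z) := by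
          rw [SplitObj.eqToHom_cmap_comp, SplitObj.reidxMapHom_cmap_assoc]
      _ = _ := by simp only [Category.assoc]

noncomputable def splitToBased :
    BasedCategory.ofFunctor (Pseudofunctor.CoGrothendieck.forget (splitPs 𝒳)) ⥤ᵇ 𝒳 where
  toFunctor := splitToFunctor
  w := by
    refine CategoryTheory.Functor.ext (fun X => (fibObj X).pb_proj) ?_
    intro X Y m
    exact IsHomLift.fac' 𝒳.p m.base (splitMap m)


theorem splitToBased_faithful : (splitToBased (𝒳 := 𝒳)).toFunctor.Faithful := by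
  refine ⟨fun {X Y} m n h => ?_⟩
  change splitMap m = splitMap n at h
  have hb : m.base = n.base := by
    have h1 := IsHomLift.fac 𝒳.p m.base (splitMap m)
    have h2 := IsHomLift.fac 𝒳.p n.base (splitMap n)
    rw [h1, h2]
    simp only [h]
  obtain ⟨mb, mf⟩ := m
  obtain ⟨nb, nf⟩ := n
  change mb = nb at hb
  subst hb
  have hf : (fibHom ⟨mb, mf⟩ : fibObj X ⟶ _).hom = (fibHom ⟨mb, nf⟩ : fibObj X ⟶ _).hom := by
    apply IsStronglyCartesian.ext 𝒳.p mb (SplitObj.cmap mb (fibObj Y)) (𝟙 X.base)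
    exact h
  have hf' : (fibHom ⟨mb, mf⟩ : fibObj X ⟶ _) = fibHom ⟨mb, nf⟩ := SplitObj.hom_ext hf
  have : mf = nf := hf'
  rw [this]

theorem splitToBased_full : (splitToBased (𝒳 := 𝒳)).toFunctor.Full := by
  refine ⟨fun {X Y} φ => ?_⟩
  change (fibObj X).pb ⟶ (fibObj Y).pb at φ
  let h : X.base ⟶ Y.base :=
    eqToHom (fibObj X).pb_proj.symm ≫ 𝒳.p.map φ ≫ eqToHom (fibObj Y).pb_proj
  have hl : 𝒳.p.IsHomLift h φ := by
    have : 𝒳.p.IsHomLift (𝒳.p.map φ) φ := inferInstance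
    infer_instance
  have hl' : 𝒳.p.IsHomLift (𝟙 X.base ≫ h) φ := by rw [Category.id_comp]; exact hl
  let γ : (fibObj X).pb ⟶ (SplitObj.reidxObj h (fibObj Y)).pb :=
    IsStronglyCartesian.map 𝒳.p h (SplitObj.cmap h (fibObj Y)) (g := 𝟙 X.base) (f' := 𝟙 X.base ≫ h) rfl φ
  have hγ : γ ≫ SplitObj.cmap h (fibObj Y) = φ :=
    IsStronglyCartesian.fac 𝒳.p h (SplitObj.cmap h (fibObj Y)) rfl φ
  have hγl : 𝒳.p.IsHomLift (𝟙 X.base) γ :=
    IsStronglyCartesian.map_isHomLift 𝒳.p h (SplitObj.cmap h (fibObj Y)) rfl φ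
  let γ' : fibObj X ⟶ SplitObj.reidxObj h (fibObj Y) := ⟨γ, hγl⟩
  exact ⟨⟨h, γ'⟩, hγ⟩

theorem splitToBased_essOver : EssOver (splitToBased (𝒳 := 𝒳)) := by
  intro x
  let o : SplitObj 𝒳 (𝒳.p.obj x) := ⟨x, 𝟙 _⟩
  let ξ : ∫ᶜ (splitPs 𝒳) := ⟨𝒳.p.obj x, o⟩
  have hc : 𝒳.p.IsStronglyCartesian (𝟙 (𝒳.p.obj x)) o.lift := SplitObj.lift_isStronglyCartesian o
  have hiso : IsIso o.lift := IsStronglyCartesian.isIso_of_base_isIso 𝒳.p (𝟙 (𝒳.p.obj x)) o.lift
  exact ⟨ξ, asIso o.lift, hc.toIsHomLift⟩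

theorem splitToBased_isEquivOver : FibCat.IsEquivOver (splitToBased (𝒳 := 𝒳)) := by
  have := splitToBased_faithful (𝒳 := 𝒳)
  have := splitToBased_full (𝒳 := 𝒳)
  exact isEquivOver_of_essOver _ splitToBased_essOver

theorem exists_equivOver_coGrothendieck (𝒳 : BasedCategory.{v, max u v} C) [𝒳.p.IsFibered] :
    ∃ (F : Cᵒᵖ ⥤ Cat.{v, max u v})
      (E : 𝒳 ⥤ᵇ BasedCategory.ofFunctor (Pseudofunctor.CoGrothendieck.forget F.toPseudofunctor')),
      FibCat.IsEquivOver E := by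
  obtain ⟨E, hE⟩ := isEquivOver_symm _ (splitToBased_isEquivOver (𝒳 := 𝒳))
  exact ⟨splitFunctor 𝒳, E, hE⟩

theorem splitObj_isGroupoid (h𝒳 : FibCat.IsFibGrpd 𝒳.p) (U : C) : IsGroupoid (SplitObj 𝒳 U) := by
  refine ⟨fun {o o'} f => ?_⟩
  have hiso : IsIso f.hom := IsFibGrpd.isIso_of_isHomLift_isIso 𝒳.p (𝟙 U) f.hom
  have hl : 𝒳.p.IsHomLift (𝟙 U) (inv f.hom) := inferInstance
  refine ⟨⟨⟨inv f.hom, hl⟩, ?_, ?_⟩⟩
  · apply SplitObj.hom_ext
    simp
  · apply SplitObj.hom_ext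
    simp

end Groth.Agent.Helper3
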