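import Groth.Agent.Lib.helper3.FibFp2
import Groth.Prelude.Def_W4stkcategoriessitesFib
import Mathlib

set_option autoImplicit false
set_option backward.isDefEq.respectTransparency false
universe v₂ u₂ v u
open CategoryTheory CategoryTheory.Functor CategoryTheory.Limits

namespace Groth.Agent.Helper3

variable {C : Type u} [Category.{v} C] {𝒳 : BasedCategory.{v₂, u₂} C} {U : C}

/-- the canonical morphism to the terminal object of `Over U` -/
def ovToId (Z : Over U) : Z ⟶ Over.mk (𝟙 U) := Over.homMk Z.hom (by simp)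

theorem ovToId_comp {W Z : Over U} (g : W ⟶ Z) : g ≫ ovToId Z = ovToId W := by
  ext; simp [ovToId]

theorem ovToId_id : ovToId (Over.mk (𝟙 U)) = 𝟙 _ := by
  ext; simp [ovToId]

instance ovToId_isHomLift (Z : Over U) : (FibCat.overCat U).p.IsHomLift Z.hom (ovToId Z) :=
  (inferInstance : (Over.forget U).IsHomLift ((Over.forget U).map (ovToId Z)) (ovToId Z))

instance ov_isHomLift {W Z : Over U} (g : W ⟶ Z) : (FibCat.overCat U).p.IsHomLift g.left g :=
  (inferInstance : (Over.forget U).IsHomLift ((Over.forget U).map g) g)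

/-- the images of the canonical morphisms to the terminal object are strongly cartesian -/
def YonCart (H : FibCat.overCat U ⥤ᵇ 𝒳) : Prop :=
  ∀ Z : Over U, 𝒳.p.IsStronglyCartesian Z.hom (H.map (ovToId Z))

theorem yon_hom_ext {G H : FibCat.overCat U ⥤ᵇ 𝒳} (hH : YonCart H) (α β : G ⟶ H)
    (h : α.toNatTrans.app (Over.mk (𝟙 U)) = β.toNatTrans.app (Over.mk (𝟙 U))) : α = β := by
  apply BasedNatTrans.homCategory.ext
  ext Z
  have := hH Z
  have h1 : 𝒳.p.IsHomLift (𝟙 Z.left) (α.toNatTrans.app Z) := α.isHomLift' Z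
  have h2 : 𝒳.p.IsHomLift (𝟙 Z.left) (β.toNatTrans.app Z) := β.isHomLift' Z
  apply IsStronglyCartesian.ext 𝒳.p Z.hom (H.map (ovToId Z)) (𝟙 Z.left)
  rw [← α.toNatTrans.naturality, ← β.toNatTrans.naturality, h]

theorem yon_hom_exists {G H : FibCat.overCat U ⥤ᵇ 𝒳} (hH : YonCart H)
    (γ : G.obj (Over.mk (𝟙 U)) ⟶ H.obj (Over.mk (𝟙 U))) [hγ : 𝒳.p.IsHomLift (𝟙 U) γ] :
    ∃ α : G ⟶ H, α.toNatTrans.app (Over.mk (𝟙 U)) = γ := by
  have hl : ∀ Z : Over U, 𝒳.p.IsHomLift Z.hom (G.map (ovToId Z) ≫ γ) := fun Z => inferInstance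
  let a : ∀ Z : Over U, G.obj Z ⟶ H.obj Z := fun Z =>
    haveI := hH Z
    haveI := hl Z
    IsStronglyCartesian.map 𝒳.p Z.hom (H.map (ovToId Z)) (g := 𝟙 Z.left) (f' := Z.hom)
      (Category.id_comp _).symm (G.map (ovToId Z) ≫ γ)
  have ha : ∀ Z, a Z ≫ H.map (ovToId Z) = G.map (ovToId Z) ≫ γ := by
    intro Z
    haveI := hH Z
    haveI := hl Z
    exact IsStronglyCartesian.fac 𝒳.p Z.hom (H.map (ovToId Z)) _ _
  have hal : ∀ Z : Over U, 𝒳.p.IsHomLift (𝟙 Z.left) (a Z) := by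
    intro Z
    haveI := hH Z
    haveI := hl Z
    exact IsStronglyCartesian.map_isHomLift 𝒳.p Z.hom (H.map (ovToId Z)) _ _
  refine ⟨{ toNatTrans := { app := a, naturality := ?_ }, isHomLift' := hal }, ?_⟩
  · intro W Z g
    haveI := hH Z
    haveI := hal Z
    haveI := hal W
    have e1 : 𝒳.p.IsHomLift g.left (G.map g ≫ a Z) := inferInstance
    have e2 : 𝒳.p.IsHomLift g.left (a W ≫ H.map g) := inferInstance
    apply IsStronglyCartesian.ext 𝒳.p Z.hom (H.map (ovToId Z)) g.left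
    rw [Category.assoc, Category.assoc, ha Z, ← Functor.map_comp, ← Functor.map_comp_assoc,
      ovToId_comp, ha W]
  · have := ha (Over.mk (𝟙 U))
    rw [ovToId_id] at this
    simpa using this

theorem yonCart_of_isFibGrpd (h𝒳 : FibCat.IsFibGrpd 𝒳.p) (H : FibCat.overCat U ⥤ᵇ 𝒳) : YonCart H := by
  intro Z
  exact IsFibGrpd.isStronglyCartesian 𝒳.p Z.hom (H.map (ovToId Z))

theorem yonCart_of_preserves (H : FibCat.overCat U ⥤ᵇ 𝒳) (hH : FibCat.PreservesStronglyCartesian H) :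
    YonCart H := by
  intro Z
  apply hH
  have := over_forget_isFibGrpd U
  have : (Over.forget U).IsHomLift Z.hom (ovToId Z) := ovToId_isHomLift Z
  exact IsFibGrpd.isStronglyCartesian (Over.forget U) Z.hom (ovToId Z)

theorem preserves_of_yonCart (H : FibCat.overCat U ⥤ᵇ 𝒳) (hH : YonCart H) :
    FibCat.PreservesStronglyCartesian H := by
  intro R S f W Z φ hφ
  have hl : (Over.forget U).IsHomLift f φ := hφ.toIsHomLift
  obtain ⟨⟩ := hl
  have h1 := hH Z
  have h2 : 𝒳.p.IsStronglyCartesian (φ.left ≫ Z.hom) (H.map φ ≫ H.map (ovToId Z)) := by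
    rw [← Functor.map_comp, ovToId_comp]
    have := hH W
    exact isStronglyCartesian_of_eq 𝒳.p (Over.w φ).symm _
  have h3 : 𝒳.p.IsHomLift φ.left (H.map φ) := inferInstance
  exact IsStronglyCartesian.of_comp 𝒳.p (f := φ.left) (g := Z.hom) (φ := H.map φ) (ψ := H.map (ovToId Z))

section Construct

variable [𝒳.p.IsFibered] (x : 𝒳.p.Fiber U)

noncomputable def yonMap {W Z : Over U} (g : W ⟶ Z) :
    IsPreFibered.pullbackObj x.2 W.hom ⟶ IsPreFibered.pullbackObj x.2 Z.hom :=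
  IsStronglyCartesian.map 𝒳.p Z.hom (IsPreFibered.pullbackMap x.2 Z.hom) (g := g.left) (f' := W.hom)
    (Over.w g).symm (IsPreFibered.pullbackMap x.2 W.hom)

theorem yonMap_fac {W Z : Over U} (g : W ⟶ Z) :
    yonMap x g ≫ IsPreFibered.pullbackMap x.2 Z.hom = IsPreFibered.pullbackMap x.2 W.hom :=
  IsStronglyCartesian.fac 𝒳.p Z.hom (IsPreFibered.pullbackMap x.2 Z.hom) (Over.w g).symm
    (IsPreFibered.pullbackMap x.2 W.hom)

instance yonMap_isHomLift {W Z : Over U} (g : W ⟶ Z) : 𝒳.p.IsHomLift g.left (yonMap x g) :=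
  IsStronglyCartesian.map_isHomLift 𝒳.p Z.hom (IsPreFibered.pullbackMap x.2 Z.hom) (Over.w g).symm
    (IsPreFibered.pullbackMap x.2 W.hom)

theorem yonMap_uniq {W Z : Over U} (g : W ⟶ Z)
    (ψ : IsPreFibered.pullbackObj x.2 W.hom ⟶ IsPreFibered.pullbackObj x.2 Z.hom)
    [𝒳.p.IsHomLift g.left ψ]
    (hψ : ψ ≫ IsPreFibered.pullbackMap x.2 Z.hom = IsPreFibered.pullbackMap x.2 W.hom) :
    ψ = yonMap x g :=
  IsStronglyCartesian.map_uniq 𝒳.p Z.hom (IsPreFibered.pullbackMap x.2 Z.hom) (Over.w g).symm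
    (IsPreFibered.pullbackMap x.2 W.hom) ψ hψ

noncomputable def yonFunctor : Over U ⥤ 𝒳.obj where
  obj Z := IsPreFibered.pullbackObj x.2 Z.hom
  map {W Z} g := yonMap x g
  map_id Z := by
    have : 𝒳.p.IsHomLift (𝟙 Z : Z ⟶ Z).left (𝟙 (IsPreFibered.pullbackObj x.2 Z.hom)) :=
      IsHomLift.id (IsPreFibered.pullbackObj_proj x.2 Z.hom)
    symm
    apply yonMap_uniq
    simp
  map_comp {W Z Y} g h := by
    have : 𝒳.p.IsHomLift (g ≫ h).left (yonMap x g ≫ yonMap x h) :=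
      (inferInstance : 𝒳.p.IsHomLift (g.left ≫ h.left) (yonMap x g ≫ yonMap x h))
    symm
    apply yonMap_uniq
    rw [Category.assoc, yonMap_fac, yonMap_fac]

theorem yonFunctor_map_fac {W Z : Over U} (g : W ⟶ Z) :
    (yonFunctor x).map g ≫ IsPreFibered.pullbackMap x.2 Z.hom = IsPreFibered.pullbackMap x.2 W.hom :=
  yonMap_fac x g

instance yonFunctor_map_isHomLift {W Z : Over U} (g : W ⟶ Z) :
    𝒳.p.IsHomLift g.left ((yonFunctor x).map g) :=
  yonMap_isHomLift x g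

noncomputable def yonBased : FibCat.overCat U ⥤ᵇ 𝒳 where
  toFunctor := yonFunctor x
  w := by
    refine CategoryTheory.Functor.ext (fun Z => IsPreFibered.pullbackObj_proj x.2 Z.hom) ?_
    intro W Z g
    exact IsHomLift.fac' 𝒳.p g.left ((yonFunctor x).map g)

theorem yonBased_yonCart : YonCart (yonBased x) := by
  intro Z
  have h1 : 𝒳.p.IsStronglyCartesian (Z.hom ≫ 𝟙 U)
      ((yonFunctor x).map (ovToId Z) ≫ IsPreFibered.pullbackMap x.2 (𝟙 U)) := by
    have e : (yonFunctor x).map (ovToId Z) ≫ IsPreFibered.pullbackMap x.2 (𝟙 U) =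
        IsPreFibered.pullbackMap x.2 Z.hom := yonFunctor_map_fac x (ovToId Z)
    rw [e]
    exact isStronglyCartesian_of_eq 𝒳.p (Category.comp_id _).symm _
  have h2 : 𝒳.p.IsHomLift Z.hom ((yonFunctor x).map (ovToId Z)) :=
    yonFunctor_map_isHomLift x (ovToId Z)
  exact IsStronglyCartesian.of_comp 𝒳.p (f := Z.hom) (g := 𝟙 U) (φ := (yonFunctor x).map (ovToId Z))
    (ψ := IsPreFibered.pullbackMap x.2 (𝟙 U))

theorem yonBased_eval_iso : Nonempty ((FibCat.evalAtId 𝒳 U).obj (yonBased x) ≅ x) := by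
  have hc : 𝒳.p.IsStronglyCartesian (𝟙 U) (IsPreFibered.pullbackMap x.2 (𝟙 U)) := inferInstance
  have hiso : IsIso (IsPreFibered.pullbackMap x.2 (𝟙 U)) :=
    IsStronglyCartesian.isIso_of_base_isIso 𝒳.p (𝟙 U) _
  have hl : 𝒳.p.IsHomLift (𝟙 U) (inv (IsPreFibered.pullbackMap x.2 (𝟙 U))) := inferInstance
  refine ⟨{ hom := ⟨IsPreFibered.pullbackMap x.2 (𝟙 U), inferInstance⟩
            inv := ⟨inv (IsPreFibered.pullbackMap x.2 (𝟙 U)), hl⟩
            hom_inv_id := ?_
            inv_hom_id := ?_ }⟩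
  · apply Fiber.hom_ext
    exact IsIso.hom_inv_id _
  · apply Fiber.hom_ext
    exact IsIso.inv_hom_id _

end Construct

theorem evalAtId_isEquivalence_of_isFibGrpd (h𝒳 : FibCat.IsFibGrpd 𝒳.p) (U : C) :
    (FibCat.evalAtId 𝒳 U).IsEquivalence := by
  have := IsFibGrpd.isFibered 𝒳.p
  have hf : (FibCat.evalAtId 𝒳 U).Faithful := by
    constructor
    intro G H α β h
    apply yon_hom_ext (yonCart_of_isFibGrpd h𝒳 H)
    exact congrArg Subtype.val h
  have hfull : (FibCat.evalAtId 𝒳 U).Full := by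
    constructor
    intro G H γ
    have hγ : 𝒳.p.IsHomLift (𝟙 U) γ.1 := γ.2
    obtain ⟨α, hα⟩ := yon_hom_exists (yonCart_of_isFibGrpd h𝒳 H) γ.1
    exact ⟨α, Subtype.ext hα⟩
  have hes : (FibCat.evalAtId 𝒳 U).EssSurj := by
    constructor
    intro x
    exact ⟨yonBased x, yonBased_eval_iso x⟩
  exact { }

theorem evalAtId_isEquivalence_of_isFibered [𝒳.p.IsFibered] (U : C) :
    ((ObjectProperty.ι (FibCat.PreservesStronglyCartesian (𝒳 := FibCat.overCat U) (𝒴 := 𝒳))) ⋙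
      FibCat.evalAtId 𝒳 U).IsEquivalence := by
  have hf : ((ObjectProperty.ι (FibCat.PreservesStronglyCartesian (𝒳 := FibCat.overCat U) (𝒴 := 𝒳))) ⋙
      FibCat.evalAtId 𝒳 U).Faithful := by
    constructor
    intro G H α β h
    apply ObjectProperty.hom_ext
    apply yon_hom_ext (yonCart_of_preserves H.obj H.property)
    exact congrArg Subtype.val h
  have hfull : ((ObjectProperty.ι (FibCat.PreservesStronglyCartesian (𝒳 := FibCat.overCat U) (𝒴 := 𝒳))) ⋙
      FibCat.evalAtId 𝒳 U).Full := by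
    constructor
    intro G H γ
    have hγ : 𝒳.p.IsHomLift (𝟙 U) γ.1 := γ.2
    obtain ⟨α, hα⟩ := yon_hom_exists (G := G.obj) (yonCart_of_preserves H.obj H.property) γ.1
    exact ⟨ObjectProperty.homMk α, Subtype.ext hα⟩
  have hes : ((ObjectProperty.ι (FibCat.PreservesStronglyCartesian (𝒳 := FibCat.overCat U) (𝒴 := 𝒳))) ⋙
      FibCat.evalAtId 𝒳 U).EssSurj := by
    constructor
    intro x
    exact ⟨⟨yonBased x, preserves_of_yonCart _ (yonBased_yonCart x)⟩, yonBased_eval_iso x⟩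
  exact { }

end Groth.Agent.Helper3
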