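import Mathlib

set_option autoImplicit false
universe v u
open CategoryTheory CategoryTheory.Limits

namespace Groth.Agent.Helper3.Bip

variable {O K : Type}

/-- objects of the bipartite finite category -/
inductive Bip (src tgt : K → O) : Type
  | inl (x : O) : Bip src tgt
  | inr (k : K) : Bip src tgt

variable (src tgt : K → O)

inductive BHom : Bip src tgt → Bip src tgt → Type
  | id (a : Bip src tgt) : BHom a a
  | s (x : O) (k : K) (h : x = src k) : BHom (Bip.inl x) (Bip.inr k)
  | t (x : O) (k : K) (h : x = tgt k) : BHom (Bip.inl x) (Bip.inr k)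

def BHom.comp : {a b c : Bip src tgt} → BHom src tgt a b → BHom src tgt b c → BHom src tgt a c
  | _, _, _, .id _, g => g
  | _, _, _, .s x k h, .id _ => .s x k h
  | _, _, _, .t x k h, .id _ => .t x k h

instance : Category (Bip src tgt) where
  Hom a b := BHom src tgt a b
  id a := .id a
  comp f g := BHom.comp src tgt f g
  id_comp f := by cases f <;> rfl
  comp_id f := by cases f <;> rfl
  assoc f g h := by cases f <;> cases g <;> cases h <;> rfl

def code : {a b : Bip src tgt} → BHom src tgt a b → Option (Bool × K)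
  | _, _, .id _ => none
  | _, _, .s _ k _ => some (true, k)
  | _, _, .t _ k _ => some (false, k)

theorem code_injective (a b : Bip src tgt) : Function.Injective (code src tgt (a := a) (b := b)) := by
  intro f g h
  cases f <;> cases g <;> simp [code] at h <;> rfl

instance [Finite O] [Finite K] : Finite (Bip src tgt) :=
  Finite.of_injective (fun a : Bip src tgt => match a with
    | .inl x => (Sum.inl x : O ⊕ K)
    | .inr k => Sum.inr k) (by
      intro a b h
      cases a <;> cases b <;> simp at h <;> simp [h])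

instance [Finite K] (a b : Bip src tgt) : Finite (a ⟶ b) :=
  Finite.of_injective _ (code_injective src tgt a b)

noncomputable instance [Finite O] [Finite K] : FinCategory (Bip src tgt) where
  fintypeObj := Fintype.ofFinite _
  fintypeHom a b := Fintype.ofFinite _

def sArr (k : K) : (Bip.inl (src k) : Bip src tgt) ⟶ Bip.inr k := BHom.s (src k) k rfl
def tArr (k : K) : (Bip.inl (tgt k) : Bip src tgt) ⟶ Bip.inr k := BHom.t (tgt k) k rfl

variable {I : Type u} [Category.{v} I] (obj : O → I) (arr : ∀ k, obj (src k) ⟶ obj (tgt k))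

def Fobj : Bip src tgt → I
  | .inl x => obj x
  | .inr k => obj (tgt k)

def Fmap : {a b : Bip src tgt} → BHom src tgt a b → (Fobj src tgt obj a ⟶ Fobj src tgt obj b)
  | _, _, .id _ => 𝟙 _
  | _, _, .s _ k h => eqToHom (congrArg obj h) ≫ arr k
  | _, _, .t _ _ h => eqToHom (congrArg obj h)

def F : Bip src tgt ⥤ I where
  obj := Fobj src tgt obj
  map f := Fmap src tgt obj arr f
  map_id _ := rfl
  map_comp := fun {a b c} (f : BHom src tgt a b) (g : BHom src tgt b c) => by
    cases f <;> cases g <;>
      first | exact (Category.id_comp _).symm | exact (Category.comp_id _).symm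

@[simp] theorem F_obj_inl (x : O) : (F src tgt obj arr).obj (Bip.inl x) = obj x := rfl
@[simp] theorem F_obj_inr (k : K) : (F src tgt obj arr).obj (Bip.inr k) = obj (tgt k) := rfl
@[simp] theorem F_map_sArr (k : K) : (F src tgt obj arr).map (sArr src tgt k) = arr k :=
  Category.id_comp _
@[simp] theorem F_map_tArr (k : K) : (F src tgt obj arr).map (tArr src tgt k) = 𝟙 _ := rfl

section Final

variable (hsurj : Function.Surjective obj) (hinj : Function.Injective obj)

/-- the property used for finality -/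
def PFin : MorphismProperty I := fun i y u => ∀ (x₁ x₂ : O) (h₁ : obj x₁ = i) (h₂ : obj x₂ = y)
    (u' : obj x₁ ⟶ obj x₂), u' = eqToHom h₁ ≫ u ≫ eqToHom h₂.symm →
  Zigzag (StructuredArrow.mk (S := obj x₁) (T := F src tgt obj arr) (Y := Bip.inl x₂) u')
    (StructuredArrow.mk (S := obj x₁) (T := F src tgt obj arr) (Y := Bip.inl x₁) (𝟙 (obj x₁)))

include hsurj hinj in
theorem PFin_mult : (PFin src tgt obj arr).IsMultiplicative where
  id_mem X := by
    intro x₁ x₂ h₁ h₂ u' hu'
    have e : x₁ = x₂ := hinj (h₁.trans h₂.symm)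
    subst e
    subst h₁
    have e' : u' = 𝟙 _ := by simpa using hu'
    subst e'
    exact Zigzag.refl _
  comp_mem := fun {X Y Z} u w hu hw => by
    intro x₁ x₃ h₁ h₃ u' hu'
    subst h₁ h₃
    obtain ⟨x₂, rfl⟩ := hsurj Y
    have e' : u' = u ≫ w := by simpa using hu'
    subst e'
    have h1 := hu x₁ x₂ rfl rfl u (by simp)
    have h2 := hw x₂ x₃ rfl rfl w (by simp)
    have h3 := zigzag_obj_of_zigzag (StructuredArrow.map u) h2
    have h3' : Zigzag (StructuredArrow.mk (T := F src tgt obj arr) (Y := Bip.inl x₃) (u ≫ w))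
        (StructuredArrow.mk (T := F src tgt obj arr) (Y := Bip.inl x₂) (u ≫ 𝟙 (obj x₂))) := h3
    have e2 : StructuredArrow.mk (T := F src tgt obj arr) (Y := Bip.inl x₂) (u ≫ 𝟙 (obj x₂)) =
        StructuredArrow.mk (T := F src tgt obj arr) (Y := Bip.inl x₂) u :=
      congrArg (fun v : obj x₁ ⟶ obj x₂ => StructuredArrow.mk (T := F src tgt obj arr) (Y := Bip.inl x₂) v)
        (Category.comp_id u)
    have h3'' : Zigzag (StructuredArrow.mk (T := F src tgt obj arr) (Y := Bip.inl x₃) (u ≫ w))
        (StructuredArrow.mk (T := F src tgt obj arr) (Y := Bip.inl x₂) u) := by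
      rw [← e2]; exact h3'
    exact h3''.trans h1

include hinj in
theorem PFin_arr (k : K) : PFin src tgt obj arr (arr k) := by
  intro x₁ x₂ h₁ h₂ u' hu'
  have e1 : x₁ = src k := hinj h₁
  have e2 : x₂ = tgt k := hinj h₂
  subst e1 e2
  have e' : u' = arr k := by simpa using hu'
  subst e'
  let mid : StructuredArrow (obj (src k)) (F src tgt obj arr) :=
    StructuredArrow.mk (Y := Bip.inr k) (arr k)
  have m1 : StructuredArrow.mk (T := F src tgt obj arr) (Y := Bip.inl (src k)) (𝟙 (obj (src k))) ⟶ mid :=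
    StructuredArrow.homMk (sArr src tgt k) (by simp [mid])
  have m2 : StructuredArrow.mk (T := F src tgt obj arr) (Y := Bip.inl (tgt k)) (arr k) ⟶ mid :=
    StructuredArrow.homMk (tArr src tgt k) (by simp [mid])
  exact Zigzag.of_hom_inv m2 m1

include hsurj hinj in
theorem F_final (hgen : ∀ P : MorphismProperty I, P.IsMultiplicative → (∀ k, P (arr k)) → P = ⊤) :
    (F src tgt obj arr).Final := by
  have hP : PFin src tgt obj arr = ⊤ :=
    hgen _ (PFin_mult src tgt obj arr hsurj hinj) (PFin_arr src tgt obj arr hinj)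
  refine ⟨fun d => ?_⟩
  obtain ⟨x, rfl⟩ := hsurj d
  have hne : Nonempty (StructuredArrow (obj x) (F src tgt obj arr)) :=
    ⟨StructuredArrow.mk (Y := Bip.inl x) (𝟙 (obj x))⟩
  have hbase : ∀ a : StructuredArrow (obj x) (F src tgt obj arr),
      Zigzag a (StructuredArrow.mk (Y := Bip.inl x) (𝟙 (obj x))) := by
    intro a
    obtain ⟨⟨⟨⟩⟩, j, u⟩ := a
    cases j with
    | inl x' =>
      have hu : PFin src tgt obj arr (u : obj x ⟶ obj x') := by rw [hP]; trivial
      exact hu x x' rfl rfl u (by simp)
    | inr k =>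
      have hu : PFin src tgt obj arr (u : obj x ⟶ obj (tgt k)) := by rw [hP]; trivial
      have h := hu x (tgt k) rfl rfl u (by simp)
      have m : StructuredArrow.mk (T := F src tgt obj arr) (Y := Bip.inl (tgt k)) (u : obj x ⟶ obj (tgt k)) ⟶
          (⟨⟨⟨⟩⟩, Bip.inr k, u⟩ : StructuredArrow (obj x) (F src tgt obj arr)) :=
        StructuredArrow.homMk (tArr src tgt k) (Category.comp_id _)
      exact (Zigzag.of_inv m).trans h
  exact zigzag_isConnected (fun a b => (hbase a).trans (hbase b).symm)

/-- the property used for initiality -/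
def PIni : MorphismProperty I := fun i y u => ∀ (x₁ x₂ : O) (h₁ : obj x₁ = i) (h₂ : obj x₂ = y)
    (u' : obj x₁ ⟶ obj x₂), u' = eqToHom h₁ ≫ u ≫ eqToHom h₂.symm →
  Zigzag (CostructuredArrow.mk (S := F src tgt obj arr) (T := obj x₂) (Y := Bip.inl x₁) u')
    (CostructuredArrow.mk (S := F src tgt obj arr) (T := obj x₂) (Y := Bip.inl x₂) (𝟙 (obj x₂)))

include hsurj hinj in
theorem PIni_mult : (PIni src tgt obj arr).IsMultiplicative where
  id_mem X := by
    intro x₁ x₂ h₁ h₂ u' hu'
    have e : x₁ = x₂ := hinj (h₁.trans h₂.symm)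
    subst e
    subst h₁
    have e' : u' = 𝟙 _ := by simpa using hu'
    subst e'
    exact Zigzag.refl _
  comp_mem := fun {X Y Z} u w hu hw => by
    intro x₁ x₃ h₁ h₃ u' hu'
    subst h₁ h₃
    obtain ⟨x₂, rfl⟩ := hsurj Y
    have e' : u' = u ≫ w := by simpa using hu'
    subst e'
    have h1 := hu x₁ x₂ rfl rfl u (by simp)
    have h2 := hw x₂ x₃ rfl rfl w (by simp)
    have h3 := zigzag_obj_of_zigzag (CostructuredArrow.map w) h1
    have h3' : Zigzag (CostructuredArrow.mk (S := F src tgt obj arr) (Y := Bip.inl x₁) (u ≫ w))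
        (CostructuredArrow.mk (S := F src tgt obj arr) (Y := Bip.inl x₂) (𝟙 (obj x₂) ≫ w)) := h3
    have e2 : CostructuredArrow.mk (S := F src tgt obj arr) (Y := Bip.inl x₂) (𝟙 (obj x₂) ≫ w) =
        CostructuredArrow.mk (S := F src tgt obj arr) (Y := Bip.inl x₂) w :=
      congrArg (fun v : obj x₂ ⟶ obj x₃ => CostructuredArrow.mk (S := F src tgt obj arr) (Y := Bip.inl x₂) v)
        (Category.id_comp w)
    have h3'' : Zigzag (CostructuredArrow.mk (S := F src tgt obj arr) (Y := Bip.inl x₁) (u ≫ w))
        (CostructuredArrow.mk (S := F src tgt obj arr) (Y := Bip.inl x₂) w) := by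
      rw [← e2]; exact h3'
    exact h3''.trans h2

include hinj in
theorem PIni_arr (k : K) : PIni src tgt obj arr (arr k) := by
  intro x₁ x₂ h₁ h₂ u' hu'
  have e1 : x₁ = src k := hinj h₁
  have e2 : x₂ = tgt k := hinj h₂
  subst e1 e2
  have e' : u' = arr k := by simpa using hu'
  subst e'
  let mid : CostructuredArrow (F src tgt obj arr) (obj (tgt k)) :=
    CostructuredArrow.mk (Y := Bip.inr k) (𝟙 (obj (tgt k)))
  have m1 : CostructuredArrow.mk (S := F src tgt obj arr) (Y := Bip.inl (src k)) (arr k) ⟶ mid :=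
    CostructuredArrow.homMk (sArr src tgt k) (by simp [mid])
  have m2 : CostructuredArrow.mk (S := F src tgt obj arr) (Y := Bip.inl (tgt k)) (𝟙 (obj (tgt k))) ⟶ mid :=
    CostructuredArrow.homMk (tArr src tgt k) (by simp [mid])
  exact Zigzag.of_hom_inv m1 m2

include hsurj hinj in
theorem F_initial (hgen : ∀ P : MorphismProperty I, P.IsMultiplicative → (∀ k, P (arr k)) → P = ⊤) :
    (F src tgt obj arr).Initial := by
  have hP : PIni src tgt obj arr = ⊤ :=
    hgen _ (PIni_mult src tgt obj arr hsurj hinj) (PIni_arr src tgt obj arr hinj)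
  refine ⟨fun d => ?_⟩
  obtain ⟨x, rfl⟩ := hsurj d
  have hne : Nonempty (CostructuredArrow (F src tgt obj arr) (obj x)) :=
    ⟨CostructuredArrow.mk (Y := Bip.inl x) (𝟙 (obj x))⟩
  have hbase : ∀ a : CostructuredArrow (F src tgt obj arr) (obj x),
      Zigzag a (CostructuredArrow.mk (Y := Bip.inl x) (𝟙 (obj x))) := by
    intro a
    obtain ⟨j, ⟨⟨⟩⟩, u⟩ := a
    cases j with
    | inl x' =>
      have hu : PIni src tgt obj arr (u : obj x' ⟶ obj x) := by rw [hP]; trivial
      exact hu x' x rfl rfl u (by simp)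
    | inr k =>
      have hu : PIni src tgt obj arr (u : obj (tgt k) ⟶ obj x) := by rw [hP]; trivial
      have h := hu (tgt k) x rfl rfl u (by simp)
      have m : CostructuredArrow.mk (S := F src tgt obj arr) (Y := Bip.inl (tgt k)) (u : obj (tgt k) ⟶ obj x) ⟶
          (⟨Bip.inr k, ⟨⟨⟩⟩, u⟩ : CostructuredArrow (F src tgt obj arr) (obj x)) :=
        CostructuredArrow.homMk (tArr src tgt k) (Category.id_comp _)
      exact (Zigzag.of_inv m).trans h
  exact zigzag_isConnected (fun a b => (hbase a).trans (hbase b).symm)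

end Final

end Groth.Agent.Helper3.Bip
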