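import Mathlib

set_option autoImplicit false
universe u

namespace H3FinSpec

/-- In a Noetherian domain, if the set of nonzero primes strictly below a prime `q` is finite,
it is empty. -/
theorem noMiddle {B : Type u} [CommRing B] [IsDomain B] [IsNoetherianRing B] (q : Ideal B)
    [q.IsPrime] (hfin : {p : Ideal B | p.IsPrime ∧ p ≠ ⊥ ∧ p < q}.Finite) :
    {p : Ideal B | p.IsPrime ∧ p ≠ ⊥ ∧ p < q} = ∅ := by
  classical
  by_contra hne
  obtain ⟨p₁, hp₁⟩ := Set.nonempty_iff_ne_empty.mpr hne
  have hnot : ¬ ((q : Set B) ⊆ ⋃ p ∈ (hfin.toFinset : Set (Ideal B)), (p : Set B)) := by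
    intro hsub
    have hprimes : ∀ p ∈ hfin.toFinset, p ≠ (⊥ : Ideal B) → p ≠ (⊥ : Ideal B) →
        Ideal.IsPrime ((fun p : Ideal B => p) p) := by
      intro p hp _ _
      exact (hfin.mem_toFinset.mp hp).1
    obtain ⟨p, hp, hqp⟩ := (Ideal.subset_union_prime (f := fun p : Ideal B => p) ⊥ ⊥ hprimes).mp hsub
    exact absurd hqp (not_le_of_gt (hfin.mem_toFinset.mp hp).2.2)
  obtain ⟨x, hxq, hxn⟩ := Set.not_subset.mp hnot
  have hx : ∀ p : Ideal B, p.IsPrime → p ≠ ⊥ → p < q → x ∉ p := by
    intro p h1 h2 h3 hxp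
    apply hxn
    exact Set.mem_biUnion (Finset.mem_coe.mpr (hfin.mem_toFinset.mpr ⟨h1, h2, h3⟩)) hxp
  have hx0 : x ≠ 0 := by
    rintro rfl
    exact hx p₁ hp₁.1 hp₁.2.1 hp₁.2.2 (zero_mem _)
  obtain ⟨p, hpmin, hpq⟩ := Ideal.exists_minimalPrimes_le (I := Ideal.span {x}) (J := q)
    ((Ideal.span_singleton_le_iff_mem _).mpr hxq)
  have hpprime : p.IsPrime := hpmin.1.1
  have hxp : x ∈ p := hpmin.1.2 (Ideal.mem_span_singleton_self x)
  have hp0 : p ≠ ⊥ := fun h => hx0 (by rw [h] at hxp; exact hxp)
  have hht : p.height ≤ 1 := Ideal.height_le_one_of_isPrincipal_of_mem_minimalPrimes _ p hpmin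
  rcases hpq.lt_or_eq with hlt | heq
  · exact hx p hpprime hp0 hlt hxp
  · have hht' : q.height ≤ 1 := heq ▸ hht
    haveI := hp₁.1
    have h1 : (1 : ℕ∞) ≤ p₁.height := by
      rw [ENat.one_le_iff_ne_zero]
      intro h0
      exact hp₁.2.1 (Ideal.height_eq_zero_iff_eq_bot.mp h0)
    have h2 : p₁.height + 1 ≤ q.height := Ideal.height_add_one_le_of_lt_of_isPrime hp₁.2.2
    have h3' : (1 : ℕ∞) + 1 ≤ p₁.height + 1 := by gcongr
    have h3 : (1 : ℕ∞) + 1 ≤ 1 := h3'.trans (h2.trans hht')
    exact lt_irrefl _ ((ENat.add_one_le_iff ENat.one_ne_top).mp h3)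

theorem mem_of_isField_away {B : Type u} [CommRing B] [IsDomain B] (f : B) (hf : f ≠ 0)
    (hF : IsField (Localization.Away f)) (p : Ideal B) [hpp : p.IsPrime] (hp : p ≠ ⊥) : f ∈ p := by
  by_contra hfp
  have hdisj : Disjoint (Submonoid.powers f : Set B) (p : Set B) := by
    rw [Set.disjoint_left]
    rintro _ ⟨n, rfl⟩ hmem
    exact hfp (hpp.mem_of_pow_mem n hmem)
  have hcm := IsLocalization.under_map_of_isPrime_disjoint (Submonoid.powers f)
    (Localization.Away f) hpp hdisj
  haveI : Nontrivial (Localization.Away f) := hF.nontrivial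
  have hI : ∀ I : Ideal (Localization.Away f), I = ⊥ ∨ I = ⊤ := by
    intro I
    by_contra hcon
    push Not at hcon
    exact Ring.not_isField_iff_exists_ideal_bot_lt_and_lt_top.mpr
      ⟨I, bot_lt_iff_ne_bot.mpr hcon.1, lt_top_iff_ne_top.mpr hcon.2⟩ hF
  rcases hI (Ideal.map (algebraMap B (Localization.Away f)) p) with h | h
  · rw [h] at hcm
    have hinj : Function.Injective (algebraMap B (Localization.Away f)) :=
      IsLocalization.injective (Localization.Away f) (M := Submonoid.powers f)
        (powers_le_nonZeroDivisors_of_noZeroDivisors hf)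
    apply hp
    rw [← hcm]
    exact (RingHom.injective_iff_ker_eq_bot _).mp hinj
  · rw [h] at hcm
    exact hpp.ne_top (by rw [← hcm]; rfl)


theorem isField_away_of_forall_mem {B : Type u} [CommRing B] [IsDomain B] (f : B) (hf0 : f ≠ 0)
    (hfmem : ∀ p : Ideal B, p.IsPrime → p ≠ ⊥ → f ∈ p) : IsField (Localization.Away f) := by
  haveI : IsDomain (Localization.Away f) :=
    IsLocalization.isDomain_localization (powers_le_nonZeroDivisors_of_noZeroDivisors hf0)
  by_contra hnf
  obtain ⟨P, hP0, hPprime⟩ := Ring.not_isField_iff_exists_prime.mp hnf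
  haveI := hPprime
  have hmc : Ideal.map (algebraMap B (Localization.Away f))
      (Ideal.comap (algebraMap B (Localization.Away f)) P) = P :=
    IsLocalization.map_under (Submonoid.powers f) _ P
  have hc0 : Ideal.comap (algebraMap B (Localization.Away f)) P ≠ ⊥ := by
    intro h0
    rw [h0, Ideal.map_bot] at hmc
    exact hP0 hmc.symm
  have hfP := hfmem _ (Ideal.comap_isPrime _ P) hc0
  have hunit : IsUnit (algebraMap B (Localization.Away f) f) :=
    IsLocalization.Away.algebraMap_isUnit _
  exact hPprime.ne_top (Ideal.eq_top_of_isUnit_mem _ hfP hunit)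

theorem exists_away_isField_of_finiteType_field {B K : Type u} [CommRing B] [IsDomain B] [Field K]
    [Algebra B K] (hinj : Function.Injective (algebraMap B K)) [Algebra.FiniteType B K] :
    ∃ f : B, f ≠ 0 ∧ IsField (Localization.Away f) := by
  classical
  letI : Algebra (FractionRing B) K := (IsFractionRing.lift hinj).toAlgebra
  haveI : IsScalarTower B (FractionRing B) K :=
    IsScalarTower.of_algebraMap_eq (fun x => (IsFractionRing.lift_algebraMap hinj x).symm)
  haveI : Algebra.FiniteType (FractionRing B) K :=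
    Algebra.FiniteType.of_restrictScalars_finiteType (R := B) (S := FractionRing B) (A := K)
  haveI : Module.Finite (FractionRing B) K :=
    finite_of_finite_type_of_isJacobsonRing (FractionRing B) K
  haveI : Algebra.IsIntegral (FractionRing B) K := Algebra.IsIntegral.of_finite (FractionRing B) K
  obtain ⟨s, hs⟩ := (Algebra.FiniteType.out : (⊤ : Subalgebra B K).FG)
  have hmult : ∀ x : K, ∃ b : B, b ≠ 0 ∧ IsIntegral B (b • x) := by
    intro x
    obtain ⟨m, hm⟩ := IsIntegral.exists_multiple_integral_of_isLocalization (nonZeroDivisors B)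
      (Rₘ := FractionRing B) x (Algebra.IsIntegral.isIntegral x)
    exact ⟨m.1, nonZeroDivisors.ne_zero m.2, hm⟩
  choose b hb0 hbint using hmult
  have hf0 : (∏ x ∈ s, b x) ≠ 0 := Finset.prod_ne_zero_iff.mpr (fun x _ => hb0 x)
  have hfint : ∀ x ∈ s, IsIntegral B ((∏ x ∈ s, b x) • x) := by
    intro x hx
    have h1 : (∏ y ∈ s, b y) = (∏ y ∈ s.erase x, b y) * b x :=
      (Finset.prod_erase_mul s b hx).symm
    rw [h1, mul_smul]
    exact (hbint x).smul _
  refine ⟨∏ x ∈ s, b x, hf0, ?_⟩
  set f := ∏ x ∈ s, b x with hfdef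
  have hunit : IsUnit (algebraMap B K f) := by
    rw [isUnit_iff_ne_zero]
    exact fun h => hf0 (hinj (by rw [h, map_zero]))
  letI : Algebra (Localization.Away f) K := (IsLocalization.Away.lift f hunit).toAlgebra
  haveI : IsScalarTower B (Localization.Away f) K :=
    IsScalarTower.of_algebraMap_eq (fun x => (IsLocalization.Away.lift_eq f hunit x).symm)
  have hφinj : Function.Injective (algebraMap (Localization.Away f) K) := by
    show Function.Injective (IsLocalization.Away.lift (S := Localization.Away f) f hunit)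
    refine (IsLocalization.lift_injective_iff (M := Submonoid.powers f) _).mpr ?_
    intro x y
    rw [hinj.eq_iff, (IsLocalization.injective (Localization.Away f)
      (powers_le_nonZeroDivisors_of_noZeroDivisors hf0)).eq_iff]
  have hxint : ∀ x ∈ s, IsIntegral (Localization.Away f) x := by
    intro x hx
    have h1 : IsIntegral (Localization.Away f) (f • x) := (hfint x hx).tower_top
    have h2 : IsIntegral (Localization.Away f)
        (algebraMap (Localization.Away f) K (IsLocalization.Away.invSelf f)) := isIntegral_algebraMap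
    have h3 : x = algebraMap (Localization.Away f) K (IsLocalization.Away.invSelf f) * (f • x) := by
      rw [Algebra.smul_def, IsScalarTower.algebraMap_apply B (Localization.Away f) K, ← mul_assoc,
        ← map_mul, mul_comm (IsLocalization.Away.invSelf f), IsLocalization.Away.mul_invSelf,
        map_one, one_mul]
    rw [h3]
    exact h2.mul h1
  haveI hall : Algebra.IsIntegral (Localization.Away f) K := by
    refine ⟨fun z => ?_⟩
    have hle : Algebra.adjoin B (s : Set K) ≤
        (integralClosure (Localization.Away f) K).restrictScalars B :=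
      Algebra.adjoin_le (fun x hx => hxint x hx)
    rw [hs] at hle
    exact hle (Algebra.mem_top : z ∈ (⊤ : Subalgebra B K))
  exact isField_of_isIntegral_of_isField hφinj (Field.toIsField K)

theorem finiteType_fractionRing_of_isField_away {B : Type u} [CommRing B] [IsDomain B] (f : B)
    (hf0 : f ≠ 0) (hF : IsField (Localization.Away f)) :
    Algebra.FiniteType B (FractionRing B) := by
  have hu : ∀ y : Submonoid.powers f,
      IsUnit ((Algebra.ofId B (FractionRing B)) (y : B)) := by
    rintro ⟨_, n, rfl⟩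
    refine IsUnit.mk0 _ ?_
    show algebraMap B (FractionRing B) (f ^ n) ≠ 0
    rw [Ne, map_eq_zero_iff _ (IsFractionRing.injective B (FractionRing B))]
    exact pow_ne_zero n hf0
  let ψ : Localization.Away f →ₐ[B] FractionRing B := IsLocalization.liftAlgHom hu
  have hψ : ∀ a : B, ψ (algebraMap B (Localization.Away f) a) = algebraMap B (FractionRing B) a :=
    fun a => ψ.commutes a
  have hinjf : Function.Injective (algebraMap B (Localization.Away f)) :=
    IsLocalization.injective (Localization.Away f)
      (powers_le_nonZeroDivisors_of_noZeroDivisors hf0)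
  refine Algebra.FiniteType.of_surjective ψ ?_
  intro z
  obtain ⟨a, d, rfl⟩ := IsLocalization.exists_mk'_eq (nonZeroDivisors B) z
  have hd0 : algebraMap B (Localization.Away f) (d : B) ≠ 0 := by
    rw [Ne, map_eq_zero_iff _ hinjf]
    exact nonZeroDivisors.ne_zero d.2
  obtain ⟨c, hc⟩ := hF.mul_inv_cancel hd0
  refine ⟨algebraMap B (Localization.Away f) a * c, ?_⟩
  rw [IsLocalization.eq_mk'_iff_mul_eq, ← hψ (d : B), ← map_mul, mul_assoc, mul_comm c, hc,
    mul_one, hψ]

end H3FinSpec
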