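import Mathlib

/-! Flatness descends: `A → B → C` with `C` flat over `A` and faithfully flat over `B`. -/

set_option autoImplicit false
open TensorProduct
universe u

namespace Groth.Agent.Lib.helper3.FlatCancel

theorem flat_of_flat_comp_faithfullyFlat (A B C : Type u) [CommRing A] [CommRing B] [CommRing C]
    [Algebra A B] [Algebra B C] [Algebra A C] [IsScalarTower A B C]
    [Module.Flat A C] [Module.FaithfullyFlat B C] : Module.Flat A B := by
  rw [Module.Flat.iff_lTensor_preserves_injective_linearMap]
  intro N N' _ _ _ _ f hf
  have h1 : Function.Injective (f.lTensor C) :=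
    Module.Flat.lTensor_preserves_injective_linearMap f hf
  have key : ∀ z : C ⊗[B] (B ⊗[A] N),
      AlgebraTensorModule.cancelBaseChange A B C C N' ((f.baseChange B).lTensor C z) =
        (f.lTensor C) (AlgebraTensorModule.cancelBaseChange A B C C N z) := by
    intro z
    induction z using TensorProduct.induction_on with
    | zero => simp
    | add x y hx hy => simp only [map_add, hx, hy]
    | tmul c y =>
      induction y using TensorProduct.induction_on with
      | zero => simp
      | add x y hx hy => simp only [tmul_add, map_add, hx, hy]
      | tmul b n => simp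
  have h2 : Function.Injective ((f.baseChange B).lTensor C) := by
    rw [injective_iff_map_eq_zero]
    intro z hz
    have := key z
    rw [hz, map_zero] at this
    have h3 := (injective_iff_map_eq_zero _).mp h1 _ this.symm
    exact (AlgebraTensorModule.cancelBaseChange A B C C N).injective (by rw [h3, map_zero])
  have h4 := (Module.FaithfullyFlat.lTensor_injective_iff_injective B C (f.baseChange B)).mp h2
  intro x y hxy
  exact h4 hxy

theorem ringHom_flat_cancel {A B C : Type u} [CommRing A] [CommRing B] [CommRing C]
    [IsLocalRing B] [IsLocalRing C]
    (φ : A →+* B) (ψ : B →+* C) [IsLocalHom ψ] (hψ : ψ.Flat) :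
    (ψ.comp φ).Flat ↔ φ.Flat := by
  constructor
  · intro h
    algebraize [φ, ψ, ψ.comp φ]
    haveI : Module.FaithfullyFlat B C := Module.FaithfullyFlat.of_flat_of_isLocalHom
    exact flat_of_flat_comp_faithfullyFlat A B C
  · intro h
    exact h.comp hψ

end Groth.Agent.Lib.helper3.FlatCancel
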