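import Groth.Agent.Lib.helper1.LocalCrit

/-! Flatness modulo `φ⁻¹(φ(I²)R')` (helper3). -/

open TensorProduct

namespace H3FlatSq

universe u
variable {R : Type u} [CommRing R]

/-- injectivity of `𝔞 ⊗_R M → S ⊗_R M` gives injectivity of `𝔞 ⊗_S (S ⊗_R M) → S ⊗_S (S ⊗_R M)` -/
theorem rTensor_subtype_baseChange_injective (S : Type u) [CommRing S] [Algebra R S]
    (M : Type u) [AddCommGroup M] [Module R M] (𝔞 : Ideal S)
    (h : Function.Injective ((𝔞.restrictScalars R).subtype.rTensor M)) :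
    Function.Injective (𝔞.subtype.rTensor (S ⊗[R] M)) := by
  let ι : ↥𝔞 ≃ₗ[R] ↥(𝔞.restrictScalars R) :=
    ((Submodule.restrictScalarsEquiv R S S 𝔞).restrictScalars R).symm
  let Φ := (TensorProduct.AlgebraTensorModule.cancelBaseChange R S S ↥𝔞 M)
  let Ψ := (TensorProduct.AlgebraTensorModule.cancelBaseChange R S S S M)
  have key : ∀ x : ↥𝔞 ⊗[S] (S ⊗[R] M),
      Ψ ((𝔞.subtype.rTensor (S ⊗[R] M)) x) =
        ((𝔞.restrictScalars R).subtype.rTensor M)
          ((TensorProduct.congr ι (LinearEquiv.refl R M)) (Φ x)) := by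
    intro x
    induction x using TensorProduct.induction_on with
    | zero => simp
    | tmul a y =>
      induction y using TensorProduct.induction_on with
      | zero => simp
      | tmul b m => rfl
      | add y₁ y₂ h₁ h₂ => simp only [TensorProduct.tmul_add, map_add, h₁, h₂]
    | add x₁ x₂ h₁ h₂ => simp only [map_add, h₁, h₂]
  have hinj : Function.Injective
      (fun x => Ψ ((𝔞.subtype.rTensor (S ⊗[R] M)) x)) := by
    have : (fun x => Ψ ((𝔞.subtype.rTensor (S ⊗[R] M)) x)) =
        fun x => ((𝔞.restrictScalars R).subtype.rTensor M)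
          ((TensorProduct.congr ι (LinearEquiv.refl R M)) (Φ x)) := funext key
    rw [this]
    exact h.comp ((TensorProduct.congr ι (LinearEquiv.refl R M)).injective.comp Φ.injective)
  exact Function.Injective.of_comp (f := Ψ) hinj

theorem rTensor_injective_of_flat_baseChange (k : Type u) [CommRing k] [Algebra R k]
    (M : Type u) [AddCommGroup M] [Module R M] [Module.Flat k (k ⊗[R] M)]
    {X Y : Type u} [AddCommGroup X] [AddCommGroup Y] [Module k X] [Module k Y] [Module R X]
    [Module R Y] [IsScalarTower R k X] [IsScalarTower R k Y] (f : X →ₗ[k] Y)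
    (hf : Function.Injective f) :
    Function.Injective ((f.restrictScalars R).rTensor M) := by
  have h1 : Function.Injective (f.rTensor (k ⊗[R] M)) :=
    Module.Flat.rTensor_preserves_injective_linearMap f hf
  have key : ∀ z : X ⊗[k] (k ⊗[R] M),
      (TensorProduct.AlgebraTensorModule.cancelBaseChange R k k Y M) (f.rTensor (k ⊗[R] M) z) =
        ((f.restrictScalars R).rTensor M)
          ((TensorProduct.AlgebraTensorModule.cancelBaseChange R k k X M) z) := by
    intro z
    induction z using TensorProduct.induction_on with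
    | zero => simp
    | tmul a y =>
      induction y using TensorProduct.induction_on with
      | zero => simp
      | tmul b m =>
        show (b • f a) ⊗ₜ[R] m = f (b • a) ⊗ₜ[R] m
        rw [map_smul]
      | add y₁ y₂ h₁ h₂ => simp only [TensorProduct.tmul_add, map_add, h₁, h₂]
    | add x₁ x₂ h₁ h₂ => simp only [map_add, h₁, h₂]
  intro z₁ z₂ hz
  obtain ⟨w₁, rfl⟩ := (TensorProduct.AlgebraTensorModule.cancelBaseChange R k k X M).surjective z₁
  obtain ⟨w₂, rfl⟩ := (TensorProduct.AlgebraTensorModule.cancelBaseChange R k k X M).surjective z₂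
  rw [← key, ← key] at hz
  rw [h1 ((TensorProduct.AlgebraTensorModule.cancelBaseChange R k k Y M).injective hz)]

theorem rTensor_injective_of_torsion (I : Ideal R) (M : Type u) [AddCommGroup M] [Module R M]
    [Module.Flat (R ⧸ I) ((R ⧸ I) ⊗[R] M)]
    {X Y : Type u} [AddCommGroup X] [AddCommGroup Y] [Module R X] [Module R Y]
    (hX : ∀ a ∈ I, ∀ x : X, a • x = 0) (hY : ∀ a ∈ I, ∀ y : Y, a • y = 0)
    (f : X →ₗ[R] Y) (hf : Function.Injective f) : Function.Injective (f.rTensor M) := by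
  have tX : Module.IsTorsionBySet R X (I : Set R) := fun x a => hX a a.2 x
  have tY : Module.IsTorsionBySet R Y (I : Set R) := fun x a => hY a a.2 x
  letI : Module (R ⧸ I) X := tX.module
  letI : Module (R ⧸ I) Y := tY.module
  haveI : IsScalarTower R (R ⧸ I) X := tX.isScalarTower
  haveI : IsScalarTower R (R ⧸ I) Y := tY.isScalarTower
  have hsurj : Function.Surjective (algebraMap R (R ⧸ I)) := Ideal.Quotient.mk_surjective
  exact rTensor_injective_of_flat_baseChange (R ⧸ I) M (f.extendScalarsOfSurjective hsurj) hf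

end H3FlatSq

namespace H3FlatSq

universe u
variable {R : Type u} [CommRing R] {R' : Type u} [CommRing R'] [Algebra R R']

theorem core (I I₂ : Ideal R) (J' : Ideal R') (hI₂ : I₂ = J'.comap (algebraMap R R'))
    (hsq : I ^ 2 ≤ I₂) (hJ' : (I.map (algebraMap R R')) ^ 2 ≤ J')
    (M : Type u) [AddCommGroup M] [Module R M]
    [Module.Flat (R ⧸ I) ((R ⧸ I) ⊗[R] M)] [Module.Flat R' (R' ⊗[R] M)] :
    Module.Flat (R ⧸ I₂) ((R ⧸ I₂) ⊗[R] M) := by
  -- F1
  have F1 : (I.map (Ideal.Quotient.mk I₂)) ^ 2 = ⊥ := by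
    rw [← Ideal.map_pow, Ideal.map_eq_bot_iff_le_ker, Ideal.mk_ker]
    exact hsq
  have F1' : ∀ x ∈ I.map (Ideal.Quotient.mk I₂), ∀ y ∈ I.map (Ideal.Quotient.mk I₂), x * y = 0 := by
    intro x hx y hy
    have : x * y ∈ (I.map (Ideal.Quotient.mk I₂)) ^ 2 := by
      rw [pow_two]; exact Ideal.mul_mem_mul hx hy
    rw [F1] at this
    exact Ideal.mem_bot.1 this
  have F2 : ((I.map (algebraMap R R')).map (Ideal.Quotient.mk J')) ^ 2 = ⊥ := by
    rw [← Ideal.map_pow, Ideal.map_eq_bot_iff_le_ker, Ideal.mk_ker]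
    exact hJ'
  have F2' : ∀ x ∈ (I.map (algebraMap R R')).map (Ideal.Quotient.mk J'),
      ∀ y ∈ (I.map (algebraMap R R')).map (Ideal.Quotient.mk J'), x * y = 0 := by
    intro x hx y hy
    have : x * y ∈ ((I.map (algebraMap R R')).map (Ideal.Quotient.mk J')) ^ 2 := by
      rw [pow_two]; exact Ideal.mul_mem_mul hx hy
    rw [F2] at this
    exact Ideal.mem_bot.1 this
  -- θ
  have hθle : I₂ ≤ J'.comap (Algebra.ofId R R') := by
    rw [hI₂]; exact fun r hr => hr
  obtain ⟨θ, hθmk, hθinj⟩ : ∃ θ : (R ⧸ I₂) →ₐ[R] (R' ⧸ J'),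
      (∀ r : R, θ (Ideal.Quotient.mk I₂ r) = Ideal.Quotient.mk J' (algebraMap R R' r)) ∧
      Function.Injective θ := by
    refine ⟨Ideal.quotientMapₐ J' (Algebra.ofId R R') hθle, fun r => rfl, ?_⟩
    rw [injective_iff_map_eq_zero]
    intro x hx
    obtain ⟨r, rfl⟩ := Ideal.Quotient.mk_surjective x
    have h1 : Ideal.Quotient.mk J' (algebraMap R R' r) = 0 := hx
    rw [Ideal.Quotient.eq_zero_iff_mem] at h1
    rw [Ideal.Quotient.eq_zero_iff_mem, hI₂]
    exact h1
  have hθT : ∀ x ∈ I.map (Ideal.Quotient.mk I₂),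
      θ x ∈ (I.map (algebraMap R R')).map (Ideal.Quotient.mk J') := by
    intro x hx
    obtain ⟨a, ha, rfl⟩ := (Ideal.mem_map_iff_of_surjective _ Ideal.Quotient.mk_surjective).1 hx
    rw [hθmk]
    exact Ideal.mem_map_of_mem _ (Ideal.mem_map_of_mem _ ha)
  -- g
  let g : ↥((I.map (Ideal.Quotient.mk I₂)).restrictScalars R) →ₗ[R]
      ↥(((I.map (algebraMap R R')).map (Ideal.Quotient.mk J')).restrictScalars R') :=
    { toFun := fun x => ⟨θ x.1, hθT x.1 x.2⟩
      map_add' := fun x y => Subtype.ext (map_add θ x.1 y.1)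
      map_smul' := fun r x => Subtype.ext (map_smul θ r x.1) }
  have hginj : Function.Injective g := by
    intro x y hxy
    exact Subtype.ext (hθinj (congrArg Subtype.val hxy))
  have hX : ∀ a ∈ I, ∀ x : ↥((I.map (Ideal.Quotient.mk I₂)).restrictScalars R), a • x = 0 := by
    intro a ha x
    apply Subtype.ext
    show a • x.1 = 0
    rw [Algebra.smul_def]
    exact F1' _ (Ideal.mem_map_of_mem _ ha) _ x.2
  have hY : ∀ a ∈ I, ∀ y : ↥(((I.map (algebraMap R R')).map
      (Ideal.Quotient.mk J')).restrictScalars R'), a • y = 0 := by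
    intro a ha y
    apply Subtype.ext
    show a • y.1 = 0
    rw [Algebra.smul_def]
    exact F2' _ (Ideal.mem_map_of_mem _ (Ideal.mem_map_of_mem _ ha)) _ y.2
  have hi : Function.Injective (g.rTensor M) :=
    rTensor_injective_of_torsion I M hX hY g hginj
  have hii : Function.Injective
      (((((I.map (algebraMap R R')).map (Ideal.Quotient.mk J')).restrictScalars R').subtype.restrictScalars
        R).rTensor M) :=
    rTensor_injective_of_flat_baseChange R' M _ (Submodule.injective_subtype _)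
  have hcompeq : ((((I.map (algebraMap R R')).map (Ideal.Quotient.mk J')).restrictScalars
      R').subtype.restrictScalars R) ∘ₗ g =
      θ.toLinearMap ∘ₗ ((I.map (Ideal.Quotient.mk I₂)).restrictScalars R).subtype :=
    LinearMap.ext fun x => rfl
  have hb' : Function.Injective
      (((I.map (Ideal.Quotient.mk I₂)).restrictScalars R).subtype.rTensor M) := by
    have hcomp : Function.Injective ((θ.toLinearMap ∘ₗ
        ((I.map (Ideal.Quotient.mk I₂)).restrictScalars R).subtype).rTensor M) := by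
      rw [← hcompeq, LinearMap.rTensor_comp]
      exact hii.comp hi
    rw [LinearMap.rTensor_comp] at hcomp
    exact Function.Injective.of_comp hcomp
  have hb : Function.Injective ((I.map (Ideal.Quotient.mk I₂)).subtype.rTensor ((R ⧸ I₂) ⊗[R] M)) :=
    rTensor_subtype_baseChange_injective (R ⧸ I₂) M _ hb'
  -- (a)
  have hkill : ∀ a ∈ I, algebraMap R ((R ⧸ I₂) ⧸ I.map (Ideal.Quotient.mk I₂)) a = 0 := by
    intro a ha
    show Ideal.Quotient.mk (I.map (Ideal.Quotient.mk I₂)) (Ideal.Quotient.mk I₂ a) = 0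
    rw [Ideal.Quotient.eq_zero_iff_mem]
    exact Ideal.mem_map_of_mem _ ha
  letI : Algebra (R ⧸ I) ((R ⧸ I₂) ⧸ I.map (Ideal.Quotient.mk I₂)) :=
    (Ideal.Quotient.lift I (algebraMap R ((R ⧸ I₂) ⧸ I.map (Ideal.Quotient.mk I₂))) hkill).toAlgebra
  haveI : IsScalarTower R (R ⧸ I) ((R ⧸ I₂) ⧸ I.map (Ideal.Quotient.mk I₂)) :=
    IsScalarTower.of_algebraMap_eq (fun r => rfl)
  haveI ha : Module.Flat ((R ⧸ I₂) ⧸ I.map (Ideal.Quotient.mk I₂))
      (((R ⧸ I₂) ⧸ I.map (Ideal.Quotient.mk I₂)) ⊗[R ⧸ I₂] ((R ⧸ I₂) ⊗[R] M)) :=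
    Module.Flat.of_linearEquiv
      ((TensorProduct.AlgebraTensorModule.cancelBaseChange R (R ⧸ I₂)
          ((R ⧸ I₂) ⧸ I.map (Ideal.Quotient.mk I₂)) ((R ⧸ I₂) ⧸ I.map (Ideal.Quotient.mk I₂)) M) ≪≫ₗ
        (TensorProduct.AlgebraTensorModule.cancelBaseChange R (R ⧸ I)
          ((R ⧸ I₂) ⧸ I.map (Ideal.Quotient.mk I₂)) ((R ⧸ I₂) ⧸ I.map (Ideal.Quotient.mk I₂)) M).symm)
  exact Helper1.flat_of_nilpotent_localCriterion (I.map (Ideal.Quotient.mk I₂)) 2 F1 hb

end H3FlatSq
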