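import Mathlib

/-! Every small subalgebra of a flat algebra lies in a small flat subalgebra
(Löwenheim–Skolem via the equational criterion of flatness). -/

set_option autoImplicit false
universe u
open Cardinal

namespace H3FS

variable {A B : Type u} [CommRing A] [CommRing B] [Algebra A B]

/-- index type of candidate relations with entries in `E` -/
abbrev Rel (E : Subalgebra A B) : Type u := Σ l : ℕ, (Fin l → A × E)

theorem card_rel (E : Subalgebra A B) (hE : #E ≤ max #A ℵ₀) : #(Rel E) ≤ max #A ℵ₀ := by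
  have hinj : Function.Injective (fun r : Rel E => List.ofFn r.2) := by
    rintro ⟨l, g⟩ ⟨l', g'⟩ h
    exact List.ofFn_inj'.mp h
  have hκ : ℵ₀ ≤ max #A ℵ₀ := le_max_right _ _
  calc #(Rel E) ≤ #(List (A × E)) := mk_le_of_injective hinj
    _ ≤ max ℵ₀ #(A × E) := mk_list_le_max _
    _ ≤ max #A ℵ₀ := by
      apply max_le hκ
      rw [mk_prod, lift_id, lift_id]
      calc #A * #E ≤ max #A ℵ₀ * max #A ℵ₀ := mul_le_mul' (le_max_left _ _) hE
        _ = max #A ℵ₀ := mul_eq_self hκ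

theorem step [Module.Flat A B] (E : Subalgebra A B) (hE : #E ≤ max #A ℵ₀) :
    ∃ E' : Subalgebra A B, E ≤ E' ∧ #E' ≤ max #A ℵ₀ ∧
      ∀ (l : ℕ) (f : Fin l → A) (x : Fin l → B), (∀ i, x i ∈ E) → ∑ i, f i • x i = 0 →
        ∃ (k : ℕ) (a : Fin l → Fin k → A) (y : Fin k → B), (∀ j, y j ∈ E') ∧
          (∀ i, x i = ∑ j, a i j • y j) ∧ ∀ j, ∑ i, f i * a i j = 0 := by
  classical
  have hκ : ℵ₀ ≤ max #A ℵ₀ := le_max_right _ _
  have H : ∀ r : Rel E, ∃ (k : ℕ) (y : Fin k → B),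
      (∑ i, (r.2 i).1 • ((r.2 i).2 : B)) = 0 →
        ∃ a : Fin r.1 → Fin k → A, (∀ i, ((r.2 i).2 : B) = ∑ j, a i j • y j) ∧
          ∀ j, ∑ i, (r.2 i).1 * a i j = 0 := by
    intro r
    by_cases h : (∑ i, (r.2 i).1 • ((r.2 i).2 : B)) = 0
    · obtain ⟨k, a, y, h1, h2⟩ := Module.Flat.isTrivialRelation_of_sum_smul_eq_zero
        (f := fun i => (r.2 i).1) (x := fun i => ((r.2 i).2 : B)) h
      exact ⟨k, y, fun _ => ⟨a, h1, h2⟩⟩
    · exact ⟨0, Fin.elim0, fun h' => absurd h' h⟩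
  choose k y hy using H
  have hW : #(⋃ r : Rel E, Set.range (y r)) ≤ max #A ℵ₀ := by
    have h1 := mk_iUnion_le (fun r : Rel E => Set.range (y r))
    refine h1.trans ?_
    have h2 : (⨆ r : Rel E, #(Set.range (y r))) ≤ ℵ₀ := by
      apply ciSup_le'
      intro r
      exact (Set.countable_range (y r)).le_aleph0
    calc #(Rel E) * (⨆ r : Rel E, #(Set.range (y r))) ≤ max #A ℵ₀ * ℵ₀ :=
          mul_le_mul' (card_rel E hE) h2
      _ ≤ max #A ℵ₀ * max #A ℵ₀ := mul_le_mul' le_rfl hκ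
      _ = max #A ℵ₀ := mul_eq_self hκ
  refine ⟨Algebra.adjoin A ((E : Set B) ∪ ⋃ r : Rel E, Set.range (y r)), ?_, ?_, ?_⟩
  · intro b hb; exact Algebra.subset_adjoin (Or.inl hb)
  · refine (Algebra.cardinalMk_adjoin_le A _).trans ?_
    apply max_le (max_le (le_max_left _ _) ?_) hκ
    refine (mk_union_le _ _).trans ?_
    calc #(E : Set B) + #(⋃ r : Rel E, Set.range (y r)) ≤ max #A ℵ₀ + max #A ℵ₀ :=
          add_le_add hE hW
      _ = max #A ℵ₀ := add_eq_self hκ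
  · intro l f x hx hsum
    obtain ⟨a, h1, h2⟩ := hy ⟨l, fun i => (f i, ⟨x i, hx i⟩)⟩ hsum
    exact ⟨k ⟨l, fun i => (f i, ⟨x i, hx i⟩)⟩, a, y ⟨l, fun i => (f i, ⟨x i, hx i⟩)⟩,
      fun j => Algebra.subset_adjoin (Or.inr (Set.mem_iUnion.2 ⟨_, j, rfl⟩)), h1, h2⟩

theorem main [Module.Flat A B] (E : Subalgebra A B) (hE : #E ≤ max #A ℵ₀) :
    ∃ B' : Subalgebra A B, E ≤ B' ∧ Module.Flat A B' ∧ #B' ≤ max #A ℵ₀ := by
  classical
  have hκ : ℵ₀ ≤ max #A ℵ₀ := le_max_right _ _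
  let nxt : {E : Subalgebra A B // #E ≤ max #A ℵ₀} → {E : Subalgebra A B // #E ≤ max #A ℵ₀} :=
    fun E => ⟨(step E.1 E.2).choose, (step E.1 E.2).choose_spec.2.1⟩
  let Es : ℕ → {E : Subalgebra A B // #E ≤ max #A ℵ₀} := fun n => nxt^[n] ⟨E, hE⟩
  have hEs_succ : ∀ n, Es (n + 1) = nxt (Es n) :=
    fun n => Function.iterate_succ_apply' nxt n _
  have hle : ∀ n, (Es n).1 ≤ (Es (n + 1)).1 := by
    intro n; rw [hEs_succ]; exact (step (Es n).1 (Es n).2).choose_spec.1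
  have hmono : Monotone (fun n => (Es n).1) := monotone_nat_of_le_succ hle
  have hwit : ∀ n (l : ℕ) (f : Fin l → A) (x : Fin l → B), (∀ i, x i ∈ (Es n).1) →
      ∑ i, f i • x i = 0 →
        ∃ (k : ℕ) (a : Fin l → Fin k → A) (y : Fin k → B), (∀ j, y j ∈ (Es (n + 1)).1) ∧
          (∀ i, x i = ∑ j, a i j • y j) ∧ ∀ j, ∑ i, f i * a i j = 0 := by
    intro n; rw [hEs_succ]; exact (step (Es n).1 (Es n).2).choose_spec.2.2
  have hdir : Directed (· ≤ ·) (fun n => (Es n).1) := hmono.directed_le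
  refine ⟨⨆ n, (Es n).1, ?_, ?_, ?_⟩
  · exact le_iSup (fun n => (Es n).1) 0
  · apply Module.Flat.of_forall_isTrivialRelation
    intro l f x hsum
    have hmem : ∀ i, ∃ n, (x i : B) ∈ (Es n).1 := by
      intro i
      have h0 : (x i : B) ∈ ((⨆ n, (Es n).1 : Subalgebra A B) : Set B) := (x i).2
      rw [Subalgebra.coe_iSup_of_directed hdir] at h0
      exact Set.mem_iUnion.1 h0
    choose n hn using hmem
    have hN : ∀ i, (x i : B) ∈ (Es (Finset.univ.sup n)).1 :=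
      fun i => hmono (Finset.le_sup (Finset.mem_univ i)) (hn i)
    have hsum' : ∑ i, f i • (x i : B) = 0 := by
      have h0 := congrArg Subtype.val hsum
      simpa using h0
    obtain ⟨k, a, y, hy, h1, h2⟩ := hwit _ l f (fun i => (x i : B)) hN hsum'
    refine ⟨k, a, fun j => ⟨y j, (le_iSup (fun n => (Es n).1) _) (hy j)⟩, ?_, h2⟩
    intro i
    apply Subtype.ext
    rw [h1 i]
    simp
  · have hcoe : ((⨆ n, (Es n).1 : Subalgebra A B) : Set B) = ⋃ n, ((Es n).1 : Set B) :=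
      Subalgebra.coe_iSup_of_directed hdir
    have h1 : #(⋃ n, ((Es n).1 : Set B)) ≤ max #A ℵ₀ := by
      have h2 := mk_iUnion_le_lift (fun n : ℕ => ((Es n).1 : Set B))
      simp only [Cardinal.lift_uzero, Cardinal.mk_nat, Cardinal.lift_aleph0] at h2
      refine h2.trans ?_
      calc ℵ₀ * ⨆ n, #((Es n).1 : Set B) ≤ ℵ₀ * max #A ℵ₀ :=
            mul_le_mul' le_rfl (ciSup_le' fun n => (Es n).2)
        _ ≤ max #A ℵ₀ * max #A ℵ₀ := mul_le_mul' hκ le_rfl
        _ = max #A ℵ₀ := mul_eq_self hκ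
    have h3 : #(↥(⨆ n, (Es n).1 : Subalgebra A B)) = #(⋃ n, ((Es n).1 : Set B)) := by
      rw [← hcoe]
      rfl
    rw [h3]; exact h1

end H3FS
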