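import Mathlib

/-!
# `T ⊗[S] M` is `R`-flat when `T` is `S`-flat and `M` is `R`-flat (helper3)
-/

universe u

open TensorProduct Function

namespace H3FlatTensor

theorem flat_tensor_of_flat {R S : Type u} [CommRing R] [CommRing S] [Algebra R S]
    (T M : Type u) [AddCommGroup T] [Module S T] [Module R T] [IsScalarTower R S T]
    [AddCommGroup M] [Module R M] [Module S M] [IsScalarTower R S M] [Module.Flat S T]
    [Module.Flat R M] : Module.Flat R (T ⊗[S] M) := by
  rw [Module.Flat.iff_lTensor_preserves_injective_linearMap]
  intro N₁ N₂ _ _ _ _ u hu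
  let v : M ⊗[R] N₁ →ₗ[S] M ⊗[R] N₂ := TensorProduct.AlgebraTensorModule.lTensor S M u
  have hv : Injective v := Module.Flat.lTensor_preserves_injective_linearMap u hu
  have hvT : Injective (v.lTensor T) := Module.Flat.lTensor_preserves_injective_linearMap v hv
  let e₁ := TensorProduct.AlgebraTensorModule.assoc R S S T M N₁
  let e₂ := TensorProduct.AlgebraTensorModule.assoc R S S T M N₂
  have hcomm : ∀ x, e₂ ((u.lTensor (T ⊗[S] M)) x) = (v.lTensor T) (e₁ x) := by
    intro x
    induction x using TensorProduct.induction_on with
    | zero => simp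
    | tmul y n =>
      induction y using TensorProduct.induction_on with
      | zero => simp
      | tmul t m => rfl
      | add y₁ y₂ h₁ h₂ =>
        rw [TensorProduct.add_tmul, map_add, map_add, map_add, map_add, h₁, h₂]
    | add x₁ x₂ h₁ h₂ => rw [map_add, map_add, map_add, map_add, h₁, h₂]
  intro a b hab
  apply e₁.injective
  apply hvT
  rw [← hcomm, ← hcomm, hab]

end H3FlatTensor
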