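import Mathlib

/-! Generic point of an irreducible scheme lies in the interior of the image of a finite type
morphism whose image contains it. -/

set_option autoImplicit false
universe u

open CategoryTheory AlgebraicGeometry

namespace H3GP

theorem int_lift {R S : Type u} [CommRing R] [IsDomain R] [CommRing S] [IsDomain S] [Algebra R S]
    (hinj : Function.Injective (algebraMap R S)) [Algebra.FiniteType R S]
    [Algebra.IsAlgebraic R S] :
    ∃ c : R, c ≠ 0 ∧ ∀ p : Ideal R, p.IsPrime → c ∉ p →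
      ∃ q : Ideal S, q.IsPrime ∧ q.comap (algebraMap R S) = p := by
  classical
  obtain ⟨G, hG⟩ := (Algebra.FiniteType.out : (⊤ : Subalgebra R S).FG)
  have hy : ∀ s : S, ∃ y : R, y ≠ 0 ∧ IsIntegral R (y • s) := fun s =>
    (Algebra.IsAlgebraic.isAlgebraic s).exists_integral_multiple
  choose y hy0 hyint using hy
  set c : R := ∏ s ∈ G, y s with hc
  have hc0 : c ≠ 0 := Finset.prod_ne_zero_iff.2 (fun s _ => hy0 s)
  have key1 : ∀ s : S, ∃ N : ℕ, IsIntegral R (c ^ N • s) := by
    intro s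
    have hs : s ∈ Algebra.adjoin R (G : Set S) := hG ▸ Algebra.mem_top
    induction hs using Algebra.adjoin_induction with
    | mem x hx =>
      refine ⟨1, ?_⟩
      have h1 : c = (∏ s ∈ G.erase x, y s) * y x :=
        (Finset.prod_erase_mul G y (Finset.mem_coe.1 hx)).symm
      rw [pow_one, h1, mul_smul]
      exact IsIntegral.smul _ (hyint x)
    | algebraMap r => exact ⟨0, by rw [pow_zero, one_smul]; exact isIntegral_algebraMap⟩
    | add a b _ _ ha hb =>
      obtain ⟨N, hN⟩ := ha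
      obtain ⟨M, hM⟩ := hb
      refine ⟨N + M, ?_⟩
      rw [smul_add]
      refine IsIntegral.add ?_ ?_
      · rw [pow_add, mul_comm, mul_smul]; exact IsIntegral.smul _ hN
      · rw [pow_add, mul_smul]; exact IsIntegral.smul _ hM
    | mul a b _ _ ha hb =>
      obtain ⟨N, hN⟩ := ha
      obtain ⟨M, hM⟩ := hb
      refine ⟨N + M, ?_⟩
      have h1 : c ^ (N + M) • (a * b) = (c ^ N • a) * (c ^ M • b) := by
        rw [pow_add, smul_mul_smul_comm]
      rw [h1]; exact hN.mul hM
  refine ⟨c, hc0, fun p hp hcp => ?_⟩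
  haveI := hp
  rw [← Ideal.comap_map_eq_self_iff_of_isPrime]
  refine le_antisymm ?_ Ideal.le_comap_map
  have hTinj : Function.Injective (algebraMap R (integralClosure R S)) := by
    intro a b hab
    apply hinj
    have := congrArg Subtype.val hab
    simpa using this
  obtain ⟨Q, -, hQp, hQ⟩ := Ideal.exists_ideal_over_prime_of_isIntegral p
    (⊥ : Ideal (integralClosure R S)) (by
      rw [Ideal.comap_bot_of_injective _ hTinj]; exact bot_le)
  have key2 : ∀ z ∈ p.map (algebraMap R S), ∃ (N : ℕ) (t : integralClosure R S),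
      t ∈ Q ∧ c ^ N • z = (t : S) := by
    intro z hz
    refine Submodule.span_induction (p := fun z _ => ∃ (N : ℕ) (t : integralClosure R S),
      t ∈ Q ∧ c ^ N • z = (t : S)) ?_ ?_ ?_ ?_ hz
    · rintro _ ⟨a, ha, rfl⟩
      refine ⟨0, algebraMap R _ a, ?_, by simp⟩
      have h1 : a ∈ Q.comap (algebraMap R (integralClosure R S)) := by rw [hQ]; exact ha
      exact h1
    · exact ⟨0, 0, Q.zero_mem, by simp⟩
    · rintro a b _ _ ⟨N, t, ht, e1⟩ ⟨M, t', ht', e2⟩
      refine ⟨N + M, algebraMap R _ (c ^ M) * t + algebraMap R _ (c ^ N) * t',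
        Q.add_mem (Q.mul_mem_left _ ht) (Q.mul_mem_left _ ht'), ?_⟩
      simp only [Subalgebra.coe_add, Subalgebra.coe_mul, Subalgebra.coe_algebraMap, ← e1, ← e2]
      simp only [Algebra.smul_def, map_pow, map_mul, pow_add]
      ring
    · rintro s z _ ⟨N, t, ht, e1⟩
      obtain ⟨K, hK⟩ := key1 s
      refine ⟨K + N, ⟨c ^ K • s, hK⟩ * t, Q.mul_mem_left _ ht, ?_⟩
      simp only [Subalgebra.coe_mul, ← e1, smul_eq_mul]
      simp only [Algebra.smul_def, map_pow, map_mul, pow_add]
      ring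
  intro r hr
  obtain ⟨N, t, ht, e⟩ := key2 _ hr
  have h1 : t = algebraMap R (integralClosure R S) (c ^ N * r) := by
    apply Subtype.ext
    rw [← e]
    simp [Algebra.smul_def]
  have h2 : c ^ N * r ∈ p := by
    rw [← hQ]
    show algebraMap R (integralClosure R S) (c ^ N * r) ∈ Q
    rw [← h1]; exact ht
  exact (hp.mem_or_mem h2).resolve_left (fun h => hcp (hp.mem_of_pow_mem N h))

theorem alg_lift_aux {A B : Type u} [CommRing A] [IsDomain A] [CommRing B] [IsDomain B]
    [Algebra A B] [Algebra.FiniteType A B] (hinj : Function.Injective (algebraMap A B))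
    (C : Subalgebra A B) [Algebra.IsAlgebraic C B] {ι : Type u}
    (e : MvPolynomial ι A ≃ₐ[A] C) :
    ∃ u : A, u ≠ 0 ∧ ∀ p : PrimeSpectrum A, u ∉ p.asIdeal →
      p ∈ Set.range (PrimeSpectrum.comap (algebraMap A B)) := by
  haveI : Algebra.FiniteType C B := Algebra.FiniteType.of_restrictScalars_finiteType A C B
  obtain ⟨c, hc0, hc⟩ := int_lift (R := C) (S := B) Subtype.val_injective
  have hopen : IsOpenMap (PrimeSpectrum.comap (algebraMap A C)) := by
    have h1 : algebraMap A C = (e : MvPolynomial ι A →+* C).comp MvPolynomial.C := by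
      apply RingHom.ext
      intro a
      exact (e.commutes a).symm
    rw [h1, PrimeSpectrum.comap_comp]
    exact MvPolynomial.isOpenMap_comap_C.comp
      (PrimeSpectrum.isHomeomorph_comap_of_bijective
        (f := (e : MvPolynomial ι A →+* C)) e.bijective).isOpenMap
  have hCinj : Function.Injective (algebraMap A C) := by
    intro a b hab
    apply hinj
    have := congrArg Subtype.val hab
    simpa using this
  have hO := hopen _ (PrimeSpectrum.basicOpen c).2
  have hbot : (⟨⊥, Ideal.isPrime_bot⟩ : PrimeSpectrum A) ∈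
      PrimeSpectrum.comap (algebraMap A C) ''
        (PrimeSpectrum.basicOpen c : Set (PrimeSpectrum C)) := by
    refine ⟨⟨⊥, Ideal.isPrime_bot⟩, ?_, ?_⟩
    · show c ∉ (⊥ : Ideal C)
      simpa using hc0
    · apply PrimeSpectrum.ext
      show Ideal.comap (algebraMap A C) ⊥ = ⊥
      exact Ideal.comap_bot_of_injective _ hCinj
  obtain ⟨_, ⟨u, rfl⟩, hu1, hu2⟩ :=
    PrimeSpectrum.isTopologicalBasis_basic_opens.exists_subset_of_mem_open hbot hO
  refine ⟨u, ?_, ?_⟩
  · rintro rfl
    have h0 : (0 : A) ∉ (⊥ : Ideal A) := hu1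
    exact h0 (Ideal.zero_mem _)
  · intro p hp
    obtain ⟨p', hp'c, rfl⟩ := hu2 (show p ∈ (PrimeSpectrum.basicOpen u : Set _) from hp)
    obtain ⟨q, hq, hqp⟩ := hc p'.asIdeal p'.2 hp'c
    refine ⟨⟨q, hq⟩, ?_⟩
    apply PrimeSpectrum.ext
    show Ideal.comap (algebraMap A B) q = Ideal.comap (algebraMap A C) p'.asIdeal
    rw [← hqp, Ideal.comap_comap, ← IsScalarTower.algebraMap_eq]

theorem alg_lift {A B : Type u} [CommRing A] [IsDomain A] [CommRing B] [IsDomain B] [Algebra A B]
    [Algebra.FiniteType A B] (hinj : Function.Injective (algebraMap A B)) :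
    ∃ u : A, u ≠ 0 ∧ ∀ p : PrimeSpectrum A, u ∉ p.asIdeal →
      p ∈ Set.range (PrimeSpectrum.comap (algebraMap A B)) := by
  classical
  obtain ⟨G, hG⟩ := (Algebra.FiniteType.out : (⊤ : Subalgebra A B).FG)
  haveI : FaithfulSMul A B := (faithfulSMul_iff_algebraMap_injective A B).2 hinj
  haveI : Algebra.IsAlgebraic (Algebra.adjoin A (G : Set B)) B :=
    ⟨fun b => by
      have h1 := isAlgebraic_algebraMap (R := Algebra.adjoin A (G : Set B)) (A := B)
        ⟨b, hG ▸ Algebra.mem_top⟩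
      exact h1⟩
  obtain ⟨t, -, ht⟩ := exists_isTranscendenceBasis_subset (R := A) (G : Set B)
  haveI : Algebra.IsAlgebraic (Algebra.adjoin A (Set.range ((↑) : t → B))) B := ht.isAlgebraic
  exact alg_lift_aux hinj (Algebra.adjoin A (Set.range ((↑) : t → B))) ht.1.aevalEquiv

theorem ringHom_lift {A B : Type u} [CommRing A] [IsDomain A] [CommRing B] [IsDomain B]
    (ψ : A →+* B) (hinj : Function.Injective ψ) (hft : ψ.FiniteType) :
    ∃ u : A, u ≠ 0 ∧ ∀ p : PrimeSpectrum A, u ∉ p.asIdeal →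
      p ∈ Set.range (PrimeSpectrum.comap ψ) := by
  letI := ψ.toAlgebra
  haveI : Algebra.FiniteType A B := hft
  exact alg_lift hinj

theorem genPt {X Y : Scheme.{u}} (f : X ⟶ Y) [LocallyOfFiniteType f] [IrreducibleSpace Y]
    (h : genericPoint Y ∈ Set.range f.base) : genericPoint Y ∈ interior (Set.range f.base) := by
  obtain ⟨x, hx⟩ := h
  obtain ⟨V, hV, hηV, -⟩ := TopologicalSpace.Opens.isBasis_iff_nbhd.1 Y.isBasis_affineOpens
    (show genericPoint Y ∈ (⊤ : Y.Opens) from trivial)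
  have hxV : x ∈ f ⁻¹ᵁ V := by
    show f.base x ∈ V
    rw [hx]; exact hηV
  obtain ⟨U, hU, hxU, hUV⟩ :=
    TopologicalSpace.Opens.isBasis_iff_nbhd.1 X.isBasis_affineOpens hxV
  have hφft : (f.appLE V U hUV).hom.FiniteType :=
    HasRingHomProperty.appLE @LocallyOfFiniteType f inferInstance ⟨V, hV⟩ ⟨U, hU⟩ hUV
  have hcompat : ∀ q : PrimeSpectrum Γ(X, U),
      f (hU.fromSpec q) = hV.fromSpec (PrimeSpectrum.comap (f.appLE V U hUV).hom q) := by
    intro q
    have h1 := IsAffineOpen.SpecMap_appLE_fromSpec f hV hU hUV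
    rw [← Scheme.Hom.comp_apply, ← h1, Scheme.Hom.comp_apply, Spec.map_apply]
  have hVinj : Function.Injective hV.fromSpec := hV.fromSpec.isOpenEmbedding.injective
  set φ := (f.appLE V U hUV).hom with hφdef
  set p₀ := hV.primeIdealOf ⟨genericPoint Y, hηV⟩ with hp₀
  set q₀ := hU.primeIdealOf ⟨x, hxU⟩ with hq₀
  have hp₀' : hV.fromSpec p₀ = genericPoint Y := hV.fromSpec_primeIdealOf ⟨_, hηV⟩
  have hq₀' : hU.fromSpec q₀ = x := hU.fromSpec_primeIdealOf ⟨x, hxU⟩
  have hpq : PrimeSpectrum.comap φ q₀ = p₀ := by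
    apply hVinj
    rw [← hcompat, hq₀', hp₀']; exact hx
  have hle : p₀.asIdeal ≤ Ideal.comap φ q₀.asIdeal := by rw [← hpq]; exact le_rfl
  have hge : Ideal.comap φ q₀.asIdeal ≤ p₀.asIdeal := by rw [← hpq]; exact le_rfl
  let ψ : (Γ(Y, V) ⧸ p₀.asIdeal) →+* (Γ(X, U) ⧸ q₀.asIdeal) :=
    Ideal.quotientMap q₀.asIdeal φ hle
  have hψinj : Function.Injective ψ := Ideal.quotientMap_injective' hge
  have hψcomp : ψ.comp (Ideal.Quotient.mk p₀.asIdeal) = (Ideal.Quotient.mk q₀.asIdeal).comp φ :=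
    Ideal.quotientMap_comp_mk hle
  have hψft : ψ.FiniteType := by
    apply RingHom.FiniteType.of_comp_finiteType (f := Ideal.Quotient.mk p₀.asIdeal)
    rw [hψcomp]
    exact (RingHom.FiniteType.of_surjective _ Ideal.Quotient.mk_surjective).comp hφft
  obtain ⟨u', hu'0, hu'⟩ := ringHom_lift ψ hψinj hψft
  obtain ⟨a, rfl⟩ := Ideal.Quotient.mk_surjective u'
  have hap₀ : a ∉ p₀.asIdeal := fun h => hu'0 (Ideal.Quotient.eq_zero_iff_mem.2 h)
  rw [mem_interior]
  refine ⟨(Y.basicOpen a : Set Y), ?_, (Y.basicOpen a).2, ?_⟩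
  · intro y hy
    have hyV : y ∈ V := Y.basicOpen_le a hy
    set p := hV.primeIdealOf ⟨y, hyV⟩ with hp
    have hp' : hV.fromSpec p = y := hV.fromSpec_primeIdealOf ⟨y, hyV⟩
    have hap : a ∉ p.asIdeal := by
      have h1 : p ∈ hV.fromSpec ⁻¹ᵁ Y.basicOpen a := by
        show hV.fromSpec p ∈ Y.basicOpen a
        rw [hp']; exact hy
      rw [hV.fromSpec_preimage_basicOpen] at h1
      exact h1
    have hp₀p : p₀ ≤ p := by
      have h1 : hV.fromSpec p₀ ⤳ hV.fromSpec p := by
        rw [hp₀', hp']; exact genericPoint_specializes y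
      have h2 := (hV.fromSpec.isOpenEmbedding.isInducing.specializes_iff).1 h1
      exact (PrimeSpectrum.le_iff_specializes p₀ p).2 h2
    have hprange : p ∈ Set.range (PrimeSpectrum.comap (Ideal.Quotient.mk p₀.asIdeal)) := by
      rw [range_comap_of_surjective _ _ Ideal.Quotient.mk_surjective, Ideal.mk_ker]
      exact (PrimeSpectrum.mem_zeroLocus _ _).2 hp₀p
    obtain ⟨p', hp'eq⟩ := hprange
    have hu'p' : Ideal.Quotient.mk p₀.asIdeal a ∉ p'.asIdeal := by
      intro hmem
      apply hap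
      rw [← hp'eq]
      exact hmem
    obtain ⟨q', hq'⟩ := hu' p' hu'p'
    refine ⟨hU.fromSpec (PrimeSpectrum.comap (Ideal.Quotient.mk q₀.asIdeal) q'), ?_⟩
    show f (hU.fromSpec _) = y
    rw [hcompat, ← PrimeSpectrum.comap_comp_apply, ← hψcomp, PrimeSpectrum.comap_comp_apply,
      hq', hp'eq, hp']
  · have h1 : p₀ ∈ hV.fromSpec ⁻¹ᵁ Y.basicOpen a := by
      rw [hV.fromSpec_preimage_basicOpen]; exact hap₀
    rw [← hp₀']; exact h1

end H3GP
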