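import Mathlib

/-! Descent of `geometrically P` along a surjective base change. -/

set_option autoImplicit false
open CategoryTheory AlgebraicGeometry
universe u

namespace Groth.Agent.Lib.helper3.GeomDesc

theorem isReduced_of_surjective_flat {T Z : Scheme.{u}} (q : T ⟶ Z) [Surjective q] [Flat q]
    [IsReduced T] : IsReduced Z := by
  haveI : ∀ z : Z, _root_.IsReduced (Z.presheaf.stalk z) := by
    intro z
    obtain ⟨t, rfl⟩ := q.surjective z
    have hinj : Function.Injective (q.stalkMap t).hom := by
      algebraize [(q.stalkMap t).hom]
      have : Module.FaithfullyFlat (Z.presheaf.stalk (q t)) (T.presheaf.stalk t) :=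
        @Module.FaithfullyFlat.of_flat_of_isLocalHom _ _ _ _ _ _ _
          (Flat.stalkMap q t) (q.toLRSHom.prop t)
      exact ‹RingHom.FaithfullyFlat _›.injective
    exact isReduced_of_injective (q.stalkMap t).hom hinj
  exact isReduced_of_isReduced_stalk Z

theorem surjective_of_field {K L : Type u} [Field K] [Field L]
    (a : Spec (.of L) ⟶ Spec (.of K)) : Surjective a :=
  ⟨fun _ => ⟨(⊥ : PrimeSpectrum L), Subsingleton.elim (α := PrimeSpectrum K) _ _⟩⟩

theorem geometrically_desc (P : ObjectProperty Scheme.{u})
    (hP : ∀ {T Z : Scheme.{u}} (q : T ⟶ Z), Surjective q → Flat q → P T → P Z)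
    {X Y Y' : Scheme.{u}} (f : X ⟶ Y) (g : Y' ⟶ Y) [Surjective g]
    (h : geometrically P (Limits.pullback.snd f g)) : geometrically P f := by
  intro K _ y Z fst snd hpb
  haveI : Surjective (Limits.pullback.fst y g) := inferInstance
  obtain ⟨w, -⟩ := (Limits.pullback.fst y g).surjective (⊥ : PrimeSpectrum K)
  let W := Limits.pullback y g
  let s : Spec (W.residueField w) ⟶ W := W.fromSpecResidueField w
  let a : Spec (.of (W.residueField w)) ⟶ Spec (.of K) := s ≫ Limits.pullback.fst y g
  let b : Spec (.of (W.residueField w)) ⟶ Y' := s ≫ Limits.pullback.snd y g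
  have hab : a ≫ y = b ≫ g := by simp only [a, b, Category.assoc, Limits.pullback.condition]
  have h1 : IsPullback (Limits.pullback.fst snd a ≫ fst) (Limits.pullback.snd snd a) f (a ≫ y) :=
    (IsPullback.of_hasPullback snd a).paste_horiz hpb
  let l : Limits.pullback snd a ⟶ Limits.pullback f g :=
    Limits.pullback.lift (Limits.pullback.fst snd a ≫ fst) (Limits.pullback.snd snd a ≫ b)
      (by have := h1.w; simp only [Category.assoc] at this ⊢; rw [← hab]; exact this)
  have h2 : IsPullback l (Limits.pullback.snd snd a) (Limits.pullback.snd f g) b := by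
    refine IsPullback.of_right ?_ (Limits.pullback.lift_snd _ _ _) (IsPullback.of_hasPullback f g)
    rw [Limits.pullback.lift_fst, ← hab]
    exact h1
  have h3 : P (Limits.pullback snd a) := h b l _ h2
  haveI : Surjective a := surjective_of_field a
  haveI : Surjective (Limits.pullback.fst snd a) := inferInstance
  haveI : Flat a := inferInstance
  haveI : Flat (Limits.pullback.fst snd a) := inferInstance
  exact hP (Limits.pullback.fst snd a) inferInstance inferInstance h3

theorem surjective_specMap_field {k K : Type u} [Field k] [Field K] [Algebra k K] :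
    Surjective (Spec.map (CommRingCat.ofHom (algebraMap k K))) :=
  surjective_of_field _

theorem geometricallyConnected_desc {X Y Y' : Scheme.{u}} (f : X ⟶ Y) (g : Y' ⟶ Y) [Surjective g]
    [GeometricallyConnected (Limits.pullback.snd f g)] : GeometricallyConnected f := by
  constructor
  refine geometrically_desc _ ?_ f g GeometricallyConnected.geometrically_connectedSpace
  intro T Z q hq _ hT
  haveI : ConnectedSpace T := hT
  exact Function.Surjective.connectedSpace q.surjective q.continuous

theorem geometricallyIrreducible_desc {X Y Y' : Scheme.{u}} (f : X ⟶ Y) (g : Y' ⟶ Y) [Surjective g]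
    [GeometricallyIrreducible (Limits.pullback.snd f g)] : GeometricallyIrreducible f := by
  constructor
  refine geometrically_desc _ ?_ f g GeometricallyIrreducible.geometrically_irreducibleSpace
  intro T Z q hq _ hT
  haveI : IrreducibleSpace T := hT
  exact Function.Surjective.irreducibleSpace q.continuous q.surjective

theorem geometricallyReduced_desc {X Y Y' : Scheme.{u}} (f : X ⟶ Y) (g : Y' ⟶ Y) [Surjective g]
    [GeometricallyReduced (Limits.pullback.snd f g)] : GeometricallyReduced f := by
  constructor
  refine geometrically_desc _ ?_ f g GeometricallyReduced.geometrically_isReduced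
  intro T Z q hq hq' hT
  haveI : IsReduced T := hT
  exact isReduced_of_surjective_flat q

end Groth.Agent.Lib.helper3.GeomDesc
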