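import Mathlib

/-! Geometrically reduced `X/k` times reduced `S/k` is reduced (no Noetherian hypotheses). -/

set_option autoImplicit false
universe u

open CategoryTheory CategoryTheory.Limits AlgebraicGeometry TensorProduct

namespace H3GR

/-- Algebra core: if `A ⊗ K` is reduced for all fields `K/k` and `B` is reduced then `A ⊗ B` is reduced. -/
theorem alg_reduced {k : Type u} [Field k] (A B : Type u) [CommRing A] [CommRing B]
    [Algebra k A] [Algebra k B]
    (hA : ∀ (K : Type u) [Field K] [Algebra k K], IsReduced (A ⊗[k] K)) [IsReduced B] :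
    IsReduced (A ⊗[k] B) := by
  classical
  have hA' : ∀ (K : Type u) [Field K] [Algebra k K], IsReduced (K ⊗[k] A) := fun K _ _ =>
    haveI := hA K
    isReduced_of_injective (Algebra.TensorProduct.comm k K A).toRingHom
      (Algebra.TensorProduct.comm k K A).injective
  suffices h : IsReduced (B ⊗[k] A) from
    isReduced_of_injective (Algebra.TensorProduct.comm k A B).toRingHom
      (Algebra.TensorProduct.comm k A B).injective
  let bas := Module.Basis.ofVectorSpace k A
  constructor
  intro z hz
  apply (bas.baseChange B).repr.injective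
  ext i
  rw [map_zero, Finsupp.zero_apply]
  apply IsNilpotent.eq_zero
  rw [nilpotent_iff_mem_prime]
  intro p hp
  let φ : B ⊗[k] A →ₐ[k] p.ResidueField ⊗[k] A :=
    Algebra.TensorProduct.map (IsScalarTower.toAlgHom k B p.ResidueField) (AlgHom.id k A)
  have hφz : φ z = 0 := by
    haveI := hA' p.ResidueField
    exact (hz.map φ).eq_zero
  have key : ∀ w : B ⊗[k] A, (bas.baseChange p.ResidueField).repr (φ w) i =
      algebraMap B p.ResidueField ((bas.baseChange B).repr w i) := by
    intro w
    induction w using TensorProduct.induction_on with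
    | zero => simp
    | tmul b a =>
      simp only [φ, Algebra.TensorProduct.map_tmul, Module.Basis.baseChange_repr_tmul,
        AlgHom.coe_id, id_eq, IsScalarTower.coe_toAlgHom']
      rw [Algebra.smul_def, Algebra.smul_def, map_mul, ← IsScalarTower.algebraMap_apply]
    | add x y hx hy => simp only [map_add, Finsupp.add_apply, hx, hy]
  have h0 := key z
  rw [hφz, map_zero, Finsupp.zero_apply] at h0
  exact Ideal.algebraMap_residueField_eq_zero.1 h0.symm

theorem geo_comp {X Y U : Scheme.{u}} (f : X ⟶ Y) (hf : geometrically IsReduced f)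
    (a : U ⟶ X) [IsOpenImmersion a] : geometrically IsReduced (a ≫ f) := by
  rw [geometrically_iff_of_isClosedUnderIsomorphisms]
  intro K _ y
  haveI : IsReduced (pullback f y) := pullback_of_geometrically hf K y
  exact isReduced_of_isOpenImmersion
    (pullback.map (a ≫ f) y f y a (𝟙 _) (𝟙 _) (by simp) (by simp))

theorem affine_case {k : Type u} [Field k] (A B : CommRingCat.{u})
    (F : Spec A ⟶ Spec (CommRingCat.of k)) (G : Spec B ⟶ Spec (CommRingCat.of k))
    (hF : geometrically IsReduced F) [hB : IsReduced (Spec B)] : IsReduced (pullback F G) := by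
  obtain ⟨φ, rfl⟩ := Spec.map_surjective F
  obtain ⟨ψ, rfl⟩ := Spec.map_surjective G
  algebraize [φ.hom, ψ.hom]
  haveI hBr : _root_.IsReduced B := (affine_isReduced_iff B).1 hB
  have hA : ∀ (K : Type u) [Field K] [Algebra k K], _root_.IsReduced ((A : Type u) ⊗[k] K) := by
    intro K _ _
    have h1 := (geometrically_iff_of_commRing_of_isClosedUnderIsomorphisms.1 hF) K
    have h2 : IsReduced (Spec (CommRingCat.of ((A : Type u) ⊗[k] K))) :=
      @isReduced_of_isOpenImmersion _ _ (pullbackSpecIso k A K).inv _ h1
    exact (affine_isReduced_iff _).1 h2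
  haveI : _root_.IsReduced (CommRingCat.of ((A : Type u) ⊗[k] (B : Type u))) :=
    alg_reduced (A : Type u) (B : Type u) hA
  exact isReduced_of_isOpenImmersion (pullbackSpecIso k A B).hom

theorem isReduced_pullback {k : Type u} [Field k] {X S : Scheme.{u}}
    (f : X ⟶ Spec (CommRingCat.of k)) (g : S ⟶ Spec (CommRingCat.of k)) [GeometricallyReduced f]
    [IsReduced S] : IsReduced (pullback f g) := by
  refine @IsReduced.of_openCover (pullback f g)
    (Scheme.Pullback.openCoverOfLeftRight X.affineOpenCover.openCover
      S.affineOpenCover.openCover f g) ?_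
  rintro ⟨i, j⟩
  haveI : IsReduced (Spec (S.affineOpenCover.X j)) :=
    isReduced_of_isOpenImmersion (S.affineOpenCover.f j)
  exact affine_case (X.affineOpenCover.X i) (S.affineOpenCover.X j)
    (X.affineOpenCover.f i ≫ f) (S.affineOpenCover.f j ≫ g)
    (geo_comp f GeometricallyReduced.geometrically_isReduced (X.affineOpenCover.f i))

theorem geomReduced_pullback {k : Type u} [Field k] {X Y : Scheme.{u}}
    (f : X ⟶ Spec (CommRingCat.of k)) (g : Y ⟶ Spec (CommRingCat.of k)) [GeometricallyReduced f]
    [GeometricallyReduced g] : GeometricallyReduced (pullback.fst f g ≫ f) := by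
  constructor
  rw [geometrically_iff_of_commRing_of_isClosedUnderIsomorphisms]
  intro K _ _
  generalize Spec.map (CommRingCat.ofHom (algebraMap k K)) = y
  have : IsReduced (pullback g y) :=
    pullback_of_geometrically (GeometricallyReduced.geometrically_isReduced) K y
  have h1 : IsReduced (pullback (pullback.snd f y) (pullback.snd g y)) :=
    isReduced_pullback (k := K) (pullback.snd f y) (pullback.snd g y)
  let e1 := pullbackLeftPullbackSndIso f y (pullback.snd g y)
  let e2 := pullback.congrHom (rfl : f = f) (pullback.condition (f := g) (g := y))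
  let e3 := pullbackLeftPullbackSndIso f g (pullback.fst g y)
  let e4 := pullbackRightPullbackFstIso g y (pullback.snd f g)
  let e5 := pullback.congrHom (pullback.condition (f := f) (g := g)) (rfl : y = y)
  exact isReduced_of_isOpenImmersion (e5 ≪≫ e4.symm ≪≫ e3 ≪≫ e2 ≪≫ e1.symm).hom

end H3GR
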