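import Mathlib.RingTheory.Smooth.Basic
import Mathlib.Algebra.Ring.MinimalAxioms
import Mathlib.Tactic.Module
import Mathlib.Tactic.LinearCombination

/-! Symmetric Hochschild 2-cocycles and commutative square-zero extensions (helper3). -/

set_option autoImplicit false
universe u v

namespace H3Hoch

/-- a symmetric Hochschild 2-cocycle -/
structure Cocycle (A : Type u) (B L : Type v) [CommRing A] [CommRing B] [Algebra A B]
    [AddCommGroup L] [Module B L] [Module A L] [IsScalarTower A B L] where
  f : B →ₗ[A] B →ₗ[A] L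
  symm : ∀ x y : B, f x y = f y x
  coc : ∀ x y z : B, f (x * y) z + z • f x y = x • f y z + f x (y * z)

variable {A : Type u} {B L : Type v} [CommRing A] [CommRing B] [Algebra A B]
    [AddCommGroup L] [Module B L] [Module A L] [IsScalarTower A B L] (c : Cocycle A B L)

/-- the extension ring attached to a cocycle -/
@[ext] structure E (c : Cocycle A B L) where
  fst : B
  snd : L

namespace E

theorem f_one (y : B) : c.f 1 y = y • c.f 1 1 := by
  have h := c.coc 1 1 y
  rw [one_mul, one_mul, one_smul] at h
  exact (add_left_cancel h).symm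

instance : Add (E c) := ⟨fun p q => ⟨p.fst + q.fst, p.snd + q.snd⟩⟩
instance : Zero (E c) := ⟨⟨0, 0⟩⟩
instance : Neg (E c) := ⟨fun p => ⟨-p.fst, -p.snd⟩⟩
instance : Mul (E c) :=
  ⟨fun p q => ⟨p.fst * q.fst, p.fst • q.snd + q.fst • p.snd + c.f p.fst q.fst⟩⟩
instance : One (E c) := ⟨⟨1, -c.f 1 1⟩⟩

@[simp] theorem add_fst (p q : E c) : (p + q).fst = p.fst + q.fst := rfl
@[simp] theorem add_snd (p q : E c) : (p + q).snd = p.snd + q.snd := rfl
@[simp] theorem zero_fst : (0 : E c).fst = 0 := rfl
@[simp] theorem zero_snd : (0 : E c).snd = 0 := rfl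
@[simp] theorem neg_fst (p : E c) : (-p).fst = -p.fst := rfl
@[simp] theorem neg_snd (p : E c) : (-p).snd = -p.snd := rfl
@[simp] theorem mul_fst (p q : E c) : (p * q).fst = p.fst * q.fst := rfl
@[simp] theorem mul_snd (p q : E c) :
    (p * q).snd = p.fst • q.snd + q.fst • p.snd + c.f p.fst q.fst := rfl
@[simp] theorem one_fst : (1 : E c).fst = 1 := rfl
@[simp] theorem one_snd : (1 : E c).snd = -c.f 1 1 := rfl

instance : CommRing (E c) := CommRing.ofMinimalAxioms
  (fun a b d => by ext <;> simp [add_assoc])
  (fun a => by ext <;> simp)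
  (fun a => by ext <;> simp)
  (fun a b d => by
    ext
    · simp [mul_assoc]
    · simp only [mul_fst, mul_snd]
      rw [eq_sub_of_add_eq (c.coc a.fst b.fst d.fst)]
      module)
  (fun a b => by
    ext
    · simp [mul_comm]
    · simp only [mul_snd]
      rw [c.symm a.fst b.fst]
      abel)
  (fun a => by
    ext
    · simp
    · simp only [mul_snd, one_fst, one_snd, f_one c a.fst]
      module)
  (fun a b d => by
    ext
    · simp [mul_add]
    · simp only [mul_snd, add_fst, add_snd, map_add]
      module)

/-- the structure map `A → E` -/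
def ι : A →+* E c where
  toFun a := ⟨a • 1, -(a • c.f 1 1)⟩
  map_one' := by ext <;> simp
  map_mul' a b := by
    ext
    · show (a * b) • (1 : B) = (a • 1) * (b • 1)
      rw [Algebra.smul_def, Algebra.smul_def, Algebra.smul_def, map_mul]; ring
    · simp only [mul_snd, map_smul, LinearMap.smul_apply, smul_neg, mul_smul]
      simp only [smul_assoc, one_smul]
      rw [smul_comm b a]
      abel
  map_zero' := by ext <;> simp
  map_add' a b := by
    ext
    · simp [add_smul]
    · simp only [add_snd, add_smul, neg_add]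

instance : Algebra A (E c) := (ι c).toAlgebra

theorem algebraMap_apply (a : A) : algebraMap A (E c) a = ⟨a • 1, -(a • c.f 1 1)⟩ := rfl

/-- projection to `B` -/
def π : E c →ₐ[A] B where
  toFun p := p.fst
  map_one' := rfl
  map_mul' _ _ := rfl
  map_zero' := rfl
  map_add' _ _ := rfl
  commutes' a := by
    show a • (1 : B) = algebraMap A B a
    rw [Algebra.smul_def, mul_one]

theorem π_surjective : Function.Surjective (π c) := fun b => ⟨⟨b, 0⟩, rfl⟩

theorem ker_sq : RingHom.ker (π c : E c →+* B) ^ 2 = ⊥ := by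
  rw [eq_bot_iff, pow_two, Ideal.mul_le]
  intro p hp q hq
  have hp' : p.fst = 0 := hp
  have hq' : q.fst = 0 := hq
  rw [Ideal.mem_bot]
  ext
  · simp [hp']
  · simp [hp', hq']

theorem smul_snd (a : A) (p : E c) : (a • p).snd = a • p.snd := by
  rw [Algebra.smul_def, algebraMap_apply, mul_snd]
  simp only [map_smul, LinearMap.smul_apply, smul_neg, smul_assoc, one_smul, f_one c p.fst]
  rw [smul_comm p.fst a]
  abel

end E

theorem exists_cobound [Algebra.FormallySmooth A B] :
    ∃ g : B →ₗ[A] L, ∀ x y : B, c.f x y = x • g y - g (x * y) + y • g x := by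
  have hnil : IsNilpotent (RingHom.ker (E.π c : E c →+* B)) :=
    ⟨2, by rw [Ideal.zero_eq_bot]; exact E.ker_sq c⟩
  let σ : B →ₐ[A] E c :=
    Algebra.FormallySmooth.liftOfSurjective (AlgHom.id A B) (E.π c) (E.π_surjective c) hnil
  have hσ : ∀ x, (σ x).fst = x := fun x =>
    Algebra.FormallySmooth.liftOfSurjective_apply (AlgHom.id A B) (E.π c) (E.π_surjective c) hnil x
  let g : B →ₗ[A] L :=
    { toFun := fun x => -(σ x).snd
      map_add' := fun x y => by
        show -(σ (x + y)).snd = -(σ x).snd + -(σ y).snd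
        rw [map_add, E.add_snd, neg_add]
      map_smul' := fun a x => by
        show -(σ (a • x)).snd = a • -(σ x).snd
        rw [map_smul, E.smul_snd, smul_neg] }
  refine ⟨g, fun x y => ?_⟩
  have h1 : (σ (x * y)).snd = x • (σ y).snd + y • (σ x).snd + c.f x y := by
    rw [map_mul, E.mul_snd, hσ, hσ]
  show c.f x y = x • -(σ y).snd - -(σ (x * y)).snd + y • -(σ x).snd
  rw [h1]
  module

end H3Hoch
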