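import Mathlib

namespace Groth.Agent.Lib.helper3.IntDesc
universe u
open Polynomial

section ideals
variable {B : Type u} [CommRing B] (I 𝔟 : Ideal B)

theorem T_le_pow (hI : I ≤ 𝔟) (e : ℕ) : I * 𝔟 ^ e ≤ 𝔟 ^ (e + 1) := by
  rw [pow_succ']
  exact Ideal.mul_mono_left hI

theorem w_pow_mem (hI : I ≤ 𝔟) (n' : ℕ) {w : B} (hw : w ∈ I * 𝔟 ^ n') (k : ℕ) :
    w ^ (k + 1) ∈ I * 𝔟 ^ ((n' + 1) * k + n') := by
  induction k with
  | zero => simpa using hw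
  | succ k ih =>
    have h1 : w ^ (k + 1) ∈ 𝔟 ^ ((n' + 1) * k + n' + 1) := T_le_pow I 𝔟 hI _ ih
    have h2 : w ^ (k + 1) * w ∈ 𝔟 ^ ((n' + 1) * k + n' + 1) * (I * 𝔟 ^ n') :=
      Ideal.mul_mem_mul h1 hw
    have h3 : 𝔟 ^ ((n' + 1) * k + n' + 1) * (I * 𝔟 ^ n')
        = I * 𝔟 ^ ((n' + 1) * (k + 1) + n') := by
      ring
    rw [pow_succ, ← h3]; exact h2

theorem pow_mem_of_sub_pow_eq_zero (hI : I ≤ 𝔟) (n' : ℕ) {y w : B} (hy : y ∈ 𝔟 ^ (n' + 1))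
    (hw : w ∈ I * 𝔟 ^ n') (N' : ℕ) (h0 : (y - w) ^ (N' + 1) = 0) :
    y ^ (N' + 1) ∈ I * 𝔟 ^ ((n' + 1) * N' + n') := by
  have hexp : (y + (-w)) ^ (N' + 1) = 0 := by rw [← sub_eq_add_neg]; exact h0
  rw [add_pow, Finset.sum_range_succ] at hexp
  have hlast : y ^ (N' + 1) * (-w) ^ (N' + 1 - (N' + 1)) * ((N' + 1).choose (N' + 1) : B)
      = y ^ (N' + 1) := by
    simp
  rw [hlast] at hexp
  have hy' : y ^ (N' + 1) = - ∑ m ∈ Finset.range (N' + 1),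
      y ^ m * (-w) ^ (N' + 1 - m) * ((N' + 1).choose m : B) := eq_neg_of_add_eq_zero_right hexp
  rw [hy']
  refine (Ideal.neg_mem_iff _).2 (Ideal.sum_mem _ fun m hm => ?_)
  rw [Finset.mem_range] at hm
  obtain ⟨k, hk⟩ : ∃ k, N' + 1 - m = k + 1 := ⟨N' - m, by omega⟩
  rw [hk]
  refine Ideal.mul_mem_right _ _ ?_
  have h1 : (-w) ^ (k + 1) ∈ I * 𝔟 ^ ((n' + 1) * k + n') := by
    rw [neg_pow]
    exact Ideal.mul_mem_left _ _ (w_pow_mem I 𝔟 hI n' hw k)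
  have h2 : y ^ m ∈ 𝔟 ^ ((n' + 1) * m) := by
    rw [pow_mul]; exact Ideal.pow_mem_pow hy m
  have h3 := Ideal.mul_mem_mul h2 h1
  have h4 : 𝔟 ^ ((n' + 1) * m) * (I * 𝔟 ^ ((n' + 1) * k + n'))
      = I * 𝔟 ^ ((n' + 1) * N' + n') := by
    have : N' = k + m := by omega
    rw [this]; ring
  rw [← h4]; exact h3

theorem pair_pow_succ_le (a s : B) (m : ℕ) :
    (Ideal.span {a} ⊔ Ideal.span {s}) ^ (m + 1) ≤
      Ideal.span {a ^ (m + 1)} ⊔ Ideal.span {s} * (Ideal.span {a} ⊔ Ideal.span {s}) ^ m := by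
  induction m with
  | zero => simp
  | succ m ih =>
    obtain ⟨𝔠, h𝔠⟩ : ∃ 𝔠 : Ideal B, 𝔠 = Ideal.span {a} ⊔ Ideal.span {s} := ⟨_, rfl⟩
    rw [← h𝔠] at ih ⊢
    have ha𝔠 : Ideal.span {a} ≤ 𝔠 := h𝔠 ▸ le_sup_left
    calc 𝔠 ^ (m + 1 + 1) = 𝔠 * 𝔠 ^ (m + 1) := pow_succ' _ _
      _ = Ideal.span {a} * 𝔠 ^ (m + 1) ⊔ Ideal.span {s} * 𝔠 ^ (m + 1) := by
          conv_lhs => rw [h𝔠]
          rw [Ideal.sup_mul, ← h𝔠]
      _ ≤ Ideal.span {a ^ (m + 1 + 1)} ⊔ Ideal.span {s} * 𝔠 ^ (m + 1) := by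
          refine sup_le ?_ le_sup_right
          calc Ideal.span {a} * 𝔠 ^ (m + 1)
              ≤ Ideal.span {a} * (Ideal.span {a ^ (m + 1)} ⊔ Ideal.span {s} * 𝔠 ^ m) :=
                Ideal.mul_mono_right ih
            _ = Ideal.span {a} * Ideal.span {a ^ (m + 1)}
                  ⊔ Ideal.span {a} * (Ideal.span {s} * 𝔠 ^ m) := Ideal.mul_sup _ _ _
            _ ≤ Ideal.span {a ^ (m + 1 + 1)} ⊔ Ideal.span {s} * 𝔠 ^ (m + 1) := by
                refine sup_le_sup ?_ ?_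
                · rw [Ideal.span_singleton_mul_span_singleton, ← pow_succ']
                · rw [mul_left_comm, pow_succ' 𝔠 m]
                  exact Ideal.mul_mono_right (Ideal.mul_mono_left ha𝔠)

end ideals

theorem isIntegral_of_pow_mem {A K : Type u} [CommRing A] [IsDomain A] [Field K] [Algebra A K]
    [IsFractionRing A K] (a s : A) (hs : s ≠ 0) (m : ℕ)
    (h : a ^ (m + 1) ∈ Ideal.span {s} * (Ideal.span {a} ⊔ Ideal.span {s}) ^ m) (x : K)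
    (hx : x * algebraMap A K s = algebraMap A K a) :
    IsIntegral A x := by
  obtain ⟨𝔟, h𝔟⟩ : ∃ 𝔟 : Ideal A, 𝔟 = Ideal.span {a} ⊔ Ideal.span {s} := ⟨_, rfl⟩
  rw [← h𝔟] at h
  have hle : 𝔟 ^ (m + 1) ≤ Ideal.span {s} * 𝔟 ^ m := by
    have := pair_pow_succ_le a s m
    rw [← h𝔟] at this
    refine this.trans (sup_le ?_ le_rfl)
    rw [Ideal.span_le, Set.singleton_subset_iff]; exact h
  let N : Submodule A K := Submodule.map (Algebra.linearMap A K) (𝔟 ^ m)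
  have hinj : Function.Injective (algebraMap A K) := IsFractionRing.injective A K
  have hN0 : N ≠ ⊥ := by
    intro h0
    have hsm : s ^ m ∈ 𝔟 ^ m :=
      Ideal.pow_mem_pow (h𝔟 ▸ Ideal.mem_sup_right (Ideal.mem_span_singleton_self s)) m
    have hmem : algebraMap A K (s ^ m) ∈ N := ⟨s ^ m, hsm, rfl⟩
    rw [h0, Submodule.mem_bot] at hmem
    exact pow_ne_zero m hs (hinj (hmem.trans (map_zero _).symm))
  have hNfg : N.FG := by
    refine Submodule.FG.map _ ?_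
    have h1 : 𝔟.FG := by
      rw [h𝔟]
      exact Submodule.FG.sup ⟨{a}, by simp⟩ ⟨{s}, by simp⟩
    exact Ideal.FG.pow h1
  refine isIntegral_of_smul_mem_submodule N hN0 hNfg x ?_
  rintro _ ⟨b, hb, rfl⟩
  have hab : a * b ∈ Ideal.span {s} * 𝔟 ^ m := by
    apply hle
    rw [pow_succ']
    exact Ideal.mul_mem_mul (h𝔟 ▸ Ideal.mem_sup_left (Ideal.mem_span_singleton_self a)) hb
  obtain ⟨b', hb', hsb'⟩ := Ideal.mem_span_singleton_mul.1 hab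
  refine ⟨b', hb', ?_⟩
  show algebraMap A K b' = x * algebraMap A K b
  have hs' : algebraMap A K s ≠ 0 := fun h0 => hs (hinj (h0.trans (map_zero _).symm))
  apply mul_left_cancel₀ hs'
  rw [← map_mul, hsb', map_mul, ← hx]; ring

end Groth.Agent.Lib.helper3.IntDesc
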