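import Mathlib

open TensorProduct

namespace H3LI

universe u v

variable {A : Type u} [CommRing A]

section ideal
variable {M N : Type*} [AddCommGroup M] [Module A M] [AddCommGroup N] [Module A N]

/-- The ideal of `a` such that `a • id_M` factors through `u` on the left. -/
def I (u : M →ₗ[A] N) : Ideal A where
  carrier := {a | ∃ w : N →ₗ[A] M, w ∘ₗ u = a • LinearMap.id}
  add_mem' := by
    rintro a b ⟨w₁, h₁⟩ ⟨w₂, h₂⟩
    exact ⟨w₁ + w₂, by rw [LinearMap.add_comp, h₁, h₂, add_smul]⟩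
  zero_mem' := ⟨0, by simp⟩
  smul_mem' := by
    rintro c a ⟨w, h⟩
    exact ⟨c • w, by rw [LinearMap.smul_comp, h, smul_eq_mul, mul_smul]⟩

lemma mem_I {u : M →ₗ[A] N} {a : A} :
    a ∈ I u ↔ ∃ w : N →ₗ[A] M, w ∘ₗ u = a • LinearMap.id := Iff.rfl

lemma one_mem_I {u : M →ₗ[A] N} : 1 ∈ I u ↔ ∃ w : N →ₗ[A] M, w ∘ₗ u = LinearMap.id := by
  rw [mem_I]; simp only [one_smul]

lemma I_comp_le {N₀ : Type*} [AddCommGroup N₀] [Module A N₀] (u : M →ₗ[A] N) (a : N →ₗ[A] N₀) :
    I (a ∘ₗ u) ≤ I u := by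
  rintro c ⟨w, hw⟩
  exact ⟨w ∘ₗ a, by rw [LinearMap.comp_assoc, hw]⟩

/-- The ideal of `a` such that `a • id_N` factors through `u` on the right. -/
def J (u : M →ₗ[A] N) : Ideal A where
  carrier := {a | ∃ w : N →ₗ[A] M, u ∘ₗ w = a • LinearMap.id}
  add_mem' := by
    rintro a b ⟨w₁, h₁⟩ ⟨w₂, h₂⟩
    exact ⟨w₁ + w₂, by rw [LinearMap.comp_add, h₁, h₂, add_smul]⟩
  zero_mem' := ⟨0, by simp⟩
  smul_mem' := by
    rintro c a ⟨w, h⟩
    exact ⟨c • w, by rw [LinearMap.comp_smul, h, smul_eq_mul, mul_smul]⟩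

variable {M' N' : Type*} [AddCommGroup M'] [Module A M'] [AddCommGroup N'] [Module A N']

lemma leftInv_of_mem (S : Submonoid A) (f : M →ₗ[A] M') (g : N →ₗ[A] N')
    [IsLocalizedModule S f] [IsLocalizedModule S g]
    (u : M →ₗ[A] N) (u' : M' →ₗ[A] N') (hu' : u' ∘ₗ f = g ∘ₗ u) {a : A} (haS : a ∈ S)
    (ha : a ∈ I u) : ∃ w' : N' →ₗ[A] M', w' ∘ₗ u' = LinearMap.id := by
  obtain ⟨w, hw⟩ := ha
  have hunit := IsLocalizedModule.map_units f ⟨a, haS⟩
  obtain ⟨w'', h1⟩ : ∃ w'' : N' →ₗ[A] M', w'' ∘ₗ g = f ∘ₗ w :=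
    ⟨IsLocalizedModule.map S g f w, IsLocalizedModule.map_comp S g f w⟩
  have h2 : w'' ∘ₗ u' = a • LinearMap.id := by
    apply IsLocalizedModule.linearMap_ext S f f
    rw [LinearMap.comp_assoc, hu', ← LinearMap.comp_assoc, h1, LinearMap.comp_assoc, hw]
    ext m; simp
  have h3 : (a • LinearMap.id : M' →ₗ[A] M') = hunit.unit.val := by
    rw [IsUnit.unit_spec]; ext x; simp
  refine ⟨(hunit.unit⁻¹ : (Module.End A M')ˣ).val ∘ₗ w'', ?_⟩
  rw [LinearMap.comp_assoc, h2, h3, ← Module.End.mul_eq_comp, Units.inv_mul]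
  rfl

lemma mem_of_leftInv_fp [Module.Finite A M] [Module.FinitePresentation A N]
    (S : Submonoid A) (f : M →ₗ[A] M') (g : N →ₗ[A] N')
    [IsLocalizedModule S f] [IsLocalizedModule S g]
    (u : M →ₗ[A] N) (u' : M' →ₗ[A] N') (hu' : u' ∘ₗ f = g ∘ₗ u)
    (w' : N' →ₗ[A] M') (hw' : w' ∘ₗ u' = LinearMap.id) : ∃ a ∈ S, a ∈ I u := by
  obtain ⟨wt, s, hwt⟩ := Module.FinitePresentation.exists_lift_of_isLocalizedModule S f (w' ∘ₗ g)
  have h1 : f ∘ₗ (wt ∘ₗ u) = f ∘ₗ ((s : A) • LinearMap.id) := by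
    rw [← LinearMap.comp_assoc, hwt, LinearMap.smul_comp, LinearMap.comp_assoc, ← hu',
      ← LinearMap.comp_assoc, hw', LinearMap.id_comp, LinearMap.comp_smul, LinearMap.comp_id]
    rfl
  obtain ⟨t, ht⟩ := Module.Finite.exists_smul_of_comp_eq_of_isLocalizedModule S f _ _ h1
  refine ⟨(t : A) * (s : A), S.mul_mem t.2 s.2, (t : A) • wt, ?_⟩
  rw [LinearMap.smul_comp, mul_smul]
  exact ht

end ideal

section factor
variable {M : Type v} {N : Type u} [AddCommGroup M] [Module A M] [AddCommGroup N] [Module A N]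

lemma exists_factor [Module.Finite A M] [Module.Projective A N] (u : M →ₗ[A] N) :
    ∃ (ι : Type u) (_ : Fintype ι) (a : N →ₗ[A] (ι → A)) (b : (ι → A) →ₗ[A] N),
      b ∘ₗ a ∘ₗ u = u := by
  classical
  obtain ⟨s, hs⟩ := Module.projective_def'.mp (inferInstance : Module.Projective A N)
  obtain ⟨G, hG⟩ := (Module.Finite.fg_top : (⊤ : Submodule A M).FG)
  let T : Finset N := G.biUnion (fun m => (s (u m)).support)
  have hT : ∀ x : M, (s (u x)).support ⊆ T := by
    have : (⊤ : Submodule A M) ≤ (Finsupp.supported A A (T : Set N)).comap (s ∘ₗ u) := by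
      rw [← hG, Submodule.span_le]
      intro x hx
      simp only [SetLike.mem_coe, Submodule.mem_comap, LinearMap.comp_apply, Finsupp.mem_supported]
      intro n hn
      exact Finset.mem_coe.mpr (Finset.mem_biUnion.mpr ⟨x, hx, hn⟩)
    intro x
    have := this (Submodule.mem_top : x ∈ ⊤)
    simpa [Finsupp.mem_supported] using this
  refine ⟨T, inferInstance, LinearMap.pi (fun t => (Finsupp.lapply (t : N)) ∘ₗ s),
    Fintype.linearCombination A (fun t : T => (t : N)), ?_⟩
  ext x
  simp only [LinearMap.comp_apply, Fintype.linearCombination_apply, LinearMap.pi_apply,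
    Finsupp.lapply_apply]
  have h1 : u x = Finsupp.linearCombination A id (s (u x)) := by
    have := LinearMap.congr_fun hs (u x); simpa using this.symm
  conv_rhs => rw [h1]
  rw [Finsupp.linearCombination_apply, Finsupp.sum,
    Finset.sum_coe_sort T (fun n => (s (u x)) n • n)]
  symm
  apply Finset.sum_subset (hT x)
  intro n _ hn
  rw [Finsupp.notMem_support_iff.mp hn, zero_smul]

end factor

section proj
variable {M N : Type u} [AddCommGroup M] [Module A M] [AddCommGroup N] [Module A N]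
variable {M' N' : Type*} [AddCommGroup M'] [Module A M'] [AddCommGroup N'] [Module A N']

lemma mem_of_leftInv [Module.Finite A M] [Module.Projective A N]
    (S : Submonoid A) (f : M →ₗ[A] M') (g : N →ₗ[A] N')
    [IsLocalizedModule S f] [IsLocalizedModule S g]
    (u : M →ₗ[A] N) (u' : M' →ₗ[A] N') (hu' : u' ∘ₗ f = g ∘ₗ u)
    (w' : N' →ₗ[A] M') (hw' : w' ∘ₗ u' = LinearMap.id) : ∃ a ∈ S, a ∈ I u := by
  obtain ⟨ι, _, a, b, hab⟩ := exists_factor u
  obtain ⟨g₀, hg₀⟩ : ∃ g₀ : (ι → A) →ₗ[A] LocalizedModule S (ι → A), IsLocalizedModule S g₀ :=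
    ⟨LocalizedModule.mkLinearMap S (ι → A), inferInstance⟩
  obtain ⟨a', ha'⟩ : ∃ a' : N' →ₗ[A] LocalizedModule S (ι → A), a' ∘ₗ g = g₀ ∘ₗ a :=
    ⟨IsLocalizedModule.map S g g₀ a, IsLocalizedModule.map_comp S g g₀ a⟩
  obtain ⟨b', hb'⟩ : ∃ b' : LocalizedModule S (ι → A) →ₗ[A] N', b' ∘ₗ g₀ = g ∘ₗ b :=
    ⟨IsLocalizedModule.map S g₀ g b, IsLocalizedModule.map_comp S g₀ g b⟩
  have h1 : (a' ∘ₗ u') ∘ₗ f = g₀ ∘ₗ (a ∘ₗ u) := by
    rw [LinearMap.comp_assoc, hu', ← LinearMap.comp_assoc, ha', LinearMap.comp_assoc]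
  have h2 : b' ∘ₗ (a' ∘ₗ u') = u' := by
    apply IsLocalizedModule.linearMap_ext S f g
    rw [LinearMap.comp_assoc, h1, ← LinearMap.comp_assoc, hb', LinearMap.comp_assoc, hab, hu']
  obtain ⟨c, hcS, hc⟩ := mem_of_leftInv_fp S f g₀ (a ∘ₗ u) (a' ∘ₗ u') h1 (w' ∘ₗ b')
    (by rw [LinearMap.comp_assoc, h2, hw'])
  exact ⟨c, hcS, I_comp_le u a hc⟩

/-- Local lemma: over a local `A`-algebra `R`, injectivity of `κ_R ⊗ u` gives a left inverse of
`R ⊗ u`. -/
lemma baseChange_leftInv_of_injective [Module.Finite A M] [Module.Finite A N] [Module.Free A N]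
    (R : Type u) [CommRing R] [IsLocalRing R] [Algebra A R] (u : M →ₗ[A] N)
    (h : Function.Injective (u.lTensor (IsLocalRing.ResidueField R))) :
    ∃ w : R ⊗[A] N →ₗ[R] R ⊗[A] M, w ∘ₗ u.baseChange R = LinearMap.id := by
  rw [IsLocalRing.split_injective_iff_lTensor_residueField_injective]
  have hcomm : ∀ x, u.lTensor (IsLocalRing.ResidueField R)
      (AlgebraTensorModule.cancelBaseChange A R R (IsLocalRing.ResidueField R) M x) =
      AlgebraTensorModule.cancelBaseChange A R R (IsLocalRing.ResidueField R) N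
        ((u.baseChange R).lTensor (IsLocalRing.ResidueField R) x) := by
    intro x
    induction x using TensorProduct.induction_on with
    | zero => simp
    | add x y hx hy => simp only [map_add, hx, hy]
    | tmul k y =>
      induction y using TensorProduct.induction_on with
      | zero => simp
      | add x y hx hy => simp only [tmul_add, map_add, hx, hy]
      | tmul r m => simp
  intro x y hxy
  apply (AlgebraTensorModule.cancelBaseChange A R R (IsLocalRing.ResidueField R) M).injective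
  apply h
  rw [hcomm, hcomm, hxy]

lemma mem_of_injective_free [Module.Finite A M] [Module.Finite A N] [Module.Free A N]
    (u : M →ₗ[A] N) (p : Ideal A) [p.IsPrime]
    (h : Function.Injective (u.lTensor p.ResidueField)) : ∃ a ∈ p.primeCompl, a ∈ I u := by
  obtain ⟨w, hw⟩ := baseChange_leftInv_of_injective (Localization.AtPrime p) u h
  haveI := Module.finitePresentation_of_projective A N
  have h1 : IsLocalizedModule p.primeCompl (TensorProduct.mk A (Localization.AtPrime p) M 1) :=
    (isLocalizedModule_iff_isBaseChange p.primeCompl (Localization.AtPrime p) _).mpr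
      (TensorProduct.isBaseChange A M (Localization.AtPrime p))
  have h2 : IsLocalizedModule p.primeCompl (TensorProduct.mk A (Localization.AtPrime p) N 1) :=
    (isLocalizedModule_iff_isBaseChange p.primeCompl (Localization.AtPrime p) _).mpr
      (TensorProduct.isBaseChange A N (Localization.AtPrime p))
  exact mem_of_leftInv_fp p.primeCompl (TensorProduct.mk A (Localization.AtPrime p) M 1)
    (TensorProduct.mk A (Localization.AtPrime p) N 1) u
    ((u.baseChange (Localization.AtPrime p)).restrictScalars A) (by ext m; simp)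
    (w.restrictScalars A) (LinearMap.ext fun x => LinearMap.congr_fun hw x)

lemma mem_of_injective [Module.Finite A M] [Module.Projective A N]
    (u : M →ₗ[A] N) (p : Ideal A) [p.IsPrime]
    (h : Function.Injective (u.lTensor p.ResidueField)) : ∃ a ∈ p.primeCompl, a ∈ I u := by
  obtain ⟨ι, _, a, b, hab⟩ := exists_factor u
  have h0 : Function.Injective ((a ∘ₗ u).lTensor p.ResidueField) := by
    have : u.lTensor p.ResidueField = (b.lTensor _) ∘ₗ ((a ∘ₗ u).lTensor _) := by
      rw [← LinearMap.lTensor_comp, hab]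
    rw [this, LinearMap.coe_comp] at h
    exact Function.Injective.of_comp h
  obtain ⟨c, hcS, hc⟩ := mem_of_injective_free (a ∘ₗ u) p h0
  exact ⟨c, hcS, I_comp_le u a hc⟩

end proj

section res
variable {M N : Type*} [AddCommGroup M] [Module A M] [AddCommGroup N] [Module A N]

lemma smul_injective_residue (p : Ideal A) [p.IsPrime] {a : A} (hap : a ∉ p)
    (X : Type*) [AddCommGroup X] [Module A X] :
    Function.Injective (fun x : p.ResidueField ⊗[A] X => a • x) := by
  have hunit : IsUnit (algebraMap A p.ResidueField a) := by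
    rw [isUnit_iff_ne_zero, ne_eq, Ideal.algebraMap_residueField_eq_zero]; exact hap
  intro x y hxy
  simp only at hxy
  rw [← algebraMap_smul p.ResidueField a x, ← algebraMap_smul p.ResidueField a y] at hxy
  exact hunit.smul_left_cancel.mp hxy

lemma injective_of_mem (u : M →ₗ[A] N) (p : Ideal A) [p.IsPrime] {a : A} (hap : a ∉ p)
    (ha : a ∈ I u) : Function.Injective (u.lTensor p.ResidueField) := by
  obtain ⟨w, hw⟩ := ha
  have h1 : (w.lTensor p.ResidueField) ∘ₗ (u.lTensor p.ResidueField) = a • LinearMap.id := by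
    rw [← LinearMap.lTensor_comp, hw, LinearMap.lTensor_smul, LinearMap.lTensor_id]
  intro x y hxy
  have h2 : a • x = a • y := by
    have := congrArg (w.lTensor p.ResidueField) hxy
    rw [← LinearMap.comp_apply, ← LinearMap.comp_apply, h1] at this
    simpa using this
  exact smul_injective_residue p hap M h2

lemma surjective_of_mem (u : M →ₗ[A] N) (p : Ideal A) [p.IsPrime] {a : A} (hap : a ∉ p)
    (ha : a ∈ J u) : Function.Surjective (u.lTensor p.ResidueField) := by
  obtain ⟨w, hw⟩ := ha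
  have h1 : (u.lTensor p.ResidueField) ∘ₗ (w.lTensor p.ResidueField) = a • LinearMap.id := by
    rw [← LinearMap.lTensor_comp, hw, LinearMap.lTensor_smul, LinearMap.lTensor_id]
  have hunit : IsUnit (algebraMap A p.ResidueField a) := by
    rw [isUnit_iff_ne_zero, ne_eq, Ideal.algebraMap_residueField_eq_zero]; exact hap
  obtain ⟨c, hc⟩ := hunit.exists_right_inv
  intro y
  refine ⟨w.lTensor p.ResidueField (c • y), ?_⟩
  rw [← LinearMap.comp_apply, h1, LinearMap.smul_apply, LinearMap.id_apply,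
    ← algebraMap_smul p.ResidueField a, smul_smul, hc, one_smul]

end res

end H3LI
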