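import Mathlib
import Groth.Agent.Lib.helper3.LeftInv

open TensorProduct KaehlerDifferential

namespace H3SL

universe u

variable {R C : Type u} [CommRing R] [CommRing C] [Algebra R C]
  (P : Algebra.Extension.{u} R C) [Algebra.FormallySmooth R P.Ring] (S : Submonoid C)

lemma injective_iff :
    Function.Injective (LocalizedModule.map S P.cotangentComplex) ↔
      Subsingleton (Algebra.H1Cotangent R (Localization S)) := by
  have hex : Function.Exact (LocalizedModule.map S P.h1Cotangentι)
      (LocalizedModule.map S P.cotangentComplex) :=
    LocalizedModule.map_exact S _ _ P.exact_hCotangentι_cotangentComplex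
  have hinj : Function.Injective (LocalizedModule.map S P.h1Cotangentι) :=
    LocalizedModule.map_injective S _ P.h1Cotangentι_injective
  let e : P.H1Cotangent ≃ₗ[C] Algebra.H1Cotangent R C := P.equivH1CotangentOfFormallySmooth
  have h1 : Subsingleton (LocalizedModule S P.H1Cotangent) ↔
      Subsingleton (Algebra.H1Cotangent R (Localization S)) :=
    (IsLocalizedModule.iso S
      ((Algebra.H1Cotangent.map R R C (Localization S)) ∘ₗ e.toLinearMap)).subsingleton_congr
  rw [← h1]
  constructor
  · intro hu
    refine ⟨fun x y => hinj ?_⟩
    have hx : LocalizedModule.map S P.h1Cotangentι x = 0 := by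
      apply hu
      rw [map_zero]
      exact (hex _).mpr ⟨x, rfl⟩
    have hy : LocalizedModule.map S P.h1Cotangentι y = 0 := by
      apply hu
      rw [map_zero]
      exact (hex _).mpr ⟨y, rfl⟩
    rw [hx, hy]
  · intro hs
    rw [injective_iff_map_eq_zero]
    intro x hx
    obtain ⟨k, rfl⟩ := (hex x).mp hx
    rw [Subsingleton.elim k 0, map_zero]

lemma proj_iff :
    Module.Projective (Localization S) Ω[Localization S⁄R] ↔
      Module.Projective (Localization S) (LocalizedModule S Ω[C⁄R]) := by
  have e := (IsLocalizedModule.iso S
    (KaehlerDifferential.map R R C (Localization S))).extendScalarsOfIsLocalization S (Localization S)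
  exact ⟨fun _ => Module.Projective.of_equiv e.symm, fun _ => Module.Projective.of_equiv e⟩

theorem key :
    Algebra.FormallySmooth R (Localization S) ↔
      ∃ w : LocalizedModule S P.CotangentSpace →ₗ[Localization S] LocalizedModule S P.Cotangent,
        w ∘ₗ LocalizedModule.map S P.cotangentComplex = LinearMap.id := by
  rw [Algebra.formallySmooth_iff, ← injective_iff P S, proj_iff]
  have hex : Function.Exact (LocalizedModule.map S P.cotangentComplex)
      (LocalizedModule.map S P.toKaehler) :=
    LocalizedModule.map_exact S _ _ P.exact_cotangentComplex_toKaehler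
  have hsurj : Function.Surjective (LocalizedModule.map S P.toKaehler) :=
    LocalizedModule.map_surjective S _ P.toKaehler_surjective
  have tfae : (Function.Injective (LocalizedModule.map S P.cotangentComplex) ∧
      ∃ l, (LocalizedModule.map S P.toKaehler) ∘ₗ l = LinearMap.id) ↔
      (Function.Surjective (LocalizedModule.map S P.toKaehler) ∧
      ∃ l, l ∘ₗ (LocalizedModule.map S P.cotangentComplex) = LinearMap.id) :=
    (@Function.Exact.split_tfae' (Localization S) (LocalizedModule S P.Cotangent)
      (LocalizedModule S P.CotangentSpace) (LocalizedModule S Ω[C⁄R]) _ _ _ _ _ _ _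
      (LocalizedModule.map S P.cotangentComplex) (LocalizedModule.map S P.toKaehler) hex).out 0 1
  constructor
  · rintro ⟨hproj, hinj⟩
    obtain ⟨l, hl⟩ := Module.projective_lifting_property
      (LocalizedModule.map S P.toKaehler) LinearMap.id hsurj
    exact (tfae.mp ⟨hinj, l, hl⟩).2
  · rintro ⟨w, hw⟩
    obtain ⟨hinj, l, hl⟩ := tfae.mpr ⟨hsurj, w, hw⟩
    exact ⟨Module.Projective.of_split l _ hl, hinj⟩

end H3SL

namespace H3SL

universe u

section quot

variable {A B C : Type u} [CommRing A] [CommRing B] [CommRing C] [Algebra A B] [Algebra B C]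
  [Algebra A C] [IsScalarTower A B C]
  (hsurj : Function.Surjective (algebraMap B C))

/-- the extension `B → C`. -/
noncomputable abbrev ext : Algebra.Extension.{u} A C := ⟨B, _, Function.surjInv_eq hsurj⟩

instance [Algebra.FormallySmooth A B] : Algebra.FormallySmooth A (ext (A := A) hsurj).Ring :=
  ‹Algebra.FormallySmooth A B›

lemma finite_cotangent [Module.Finite B (RingHom.ker (algebraMap B C)).Cotangent] :
    Module.Finite C (ext (A := A) hsurj).Cotangent := by
  let P := ext (A := A) hsurj
  let e : P.ker.Cotangent ≃ₗ[P.Ring] P.Cotangent :=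
    { __ := AddEquiv.refl _, map_smul' r m := by ext1; simp; rfl }
  haveI : Module.Finite P.Ring P.ker.Cotangent := ‹Module.Finite B (RingHom.ker (algebraMap B C)).Cotangent›
  haveI : Module.Finite P.Ring P.Cotangent := Module.Finite.equiv e
  exact Module.Finite.of_restrictScalars_finite P.Ring _ _

variable [Algebra.FormallySmooth A B] [Module.Finite B (RingHom.ker (algebraMap B C)).Cotangent]

set_option backward.isDefEq.respectTransparency false in
theorem smooth_loc_iff (p : Ideal C) [p.IsPrime] :
    Algebra.FormallySmooth A (Localization.AtPrime p) ↔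
      ∃ a ∈ H3LI.I (ext (A := A) hsurj).cotangentComplex, a ∉ p := by
  let P := ext (A := A) hsurj
  haveI : Module.Finite C P.Cotangent := finite_cotangent hsurj
  haveI : Module.Projective B Ω[B⁄A] := inferInstance
  haveI : Module.Projective C P.CotangentSpace :=
    inferInstanceAs (Module.Projective C (C ⊗[B] Ω[B⁄A]))
  have hu' : ((LocalizedModule.map p.primeCompl P.cotangentComplex).restrictScalars C) ∘ₗ
      LocalizedModule.mkLinearMap p.primeCompl P.Cotangent =
      LocalizedModule.mkLinearMap p.primeCompl P.CotangentSpace ∘ₗ P.cotangentComplex := by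
    ext x
    simp [LocalizedModule.map_mk]
  refine (key P p.primeCompl).trans ?_
  constructor
  · rintro ⟨w, hw⟩
    obtain ⟨a, haS, ha⟩ := H3LI.mem_of_leftInv (M' := LocalizedModule p.primeCompl P.Cotangent)
      (N' := LocalizedModule p.primeCompl P.CotangentSpace) p.primeCompl
      (LocalizedModule.mkLinearMap p.primeCompl P.Cotangent)
      (LocalizedModule.mkLinearMap p.primeCompl P.CotangentSpace) P.cotangentComplex
      ((LocalizedModule.map p.primeCompl P.cotangentComplex).restrictScalars C) hu'
      (w.restrictScalars C) (by ext x; exact congr($hw x))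
    exact ⟨a, ha, haS⟩
  · rintro ⟨a, ha, hap⟩
    obtain ⟨w', hw'⟩ := H3LI.leftInv_of_mem (M' := LocalizedModule p.primeCompl P.Cotangent)
      (N' := LocalizedModule p.primeCompl P.CotangentSpace) p.primeCompl
      (LocalizedModule.mkLinearMap p.primeCompl P.Cotangent)
      (LocalizedModule.mkLinearMap p.primeCompl P.CotangentSpace) P.cotangentComplex
      ((LocalizedModule.map p.primeCompl P.cotangentComplex).restrictScalars C) hu' hap ha
    refine ⟨w'.extendScalarsOfIsLocalization p.primeCompl (Localization p.primeCompl), ?_⟩
    ext x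
    exact congr($hw' x)

include hsurj in
theorem isOpen_smooth :
    IsOpen {p : PrimeSpectrum C | Algebra.FormallySmooth A (Localization.AtPrime p.asIdeal)} := by
  have : {p : PrimeSpectrum C | Algebra.FormallySmooth A (Localization.AtPrime p.asIdeal)} =
      (PrimeSpectrum.zeroLocus (H3LI.I (ext (A := A) hsurj).cotangentComplex : Set C))ᶜ := by
    ext p
    simp only [Set.mem_setOf_eq, Set.mem_compl_iff, PrimeSpectrum.mem_zeroLocus, Set.not_subset,
      SetLike.mem_coe]
    exact smooth_loc_iff hsurj p.asIdeal
  rw [this]
  exact (PrimeSpectrum.isClosed_zeroLocus _).isOpen_compl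

include hsurj in
theorem smooth_iff_max :
    Algebra.FormallySmooth A C ↔
      ∀ (m : Ideal C) [m.IsMaximal], Algebra.FormallySmooth A (Localization.AtPrime m) := by
  constructor
  · intro h m _
    haveI : Algebra.FormallySmooth C (Localization.AtPrime m) :=
      Algebra.FormallySmooth.of_isLocalization m.primeCompl
    exact Algebra.FormallySmooth.comp A C (Localization.AtPrime m)
  · intro h
    have htop : H3LI.I (ext (A := A) hsurj).cotangentComplex = ⊤ := by
      by_contra hne
      obtain ⟨m, hm, hle⟩ := Ideal.exists_le_maximal _ hne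
      obtain ⟨a, ha, ham⟩ := (smooth_loc_iff hsurj m).mp (h m)
      exact ham (hle ha)
    have h1 : (1 : C) ∈ H3LI.I (ext (A := A) hsurj).cotangentComplex := by
      rw [htop]; trivial
    obtain ⟨w, hw⟩ := H3LI.one_mem_I.mp h1
    exact (ext (A := A) hsurj).formallySmooth_iff_split_injection.mpr ⟨w, hw⟩

end quot

end H3SL
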