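import Mathlib
import Groth.Agent.Lib.helper3.SmoothLoc

open TensorProduct KaehlerDifferential

namespace H3Jac

universe u

section linalg

variable {K W : Type*} [Field K] [AddCommGroup W] [Module K W]

/-- a separating family of functionals detects linear independence by a nonzero minor. -/
lemma exists_det_ne_zero {m : ℕ} (w : Fin m → W) (hw : LinearIndependent K w)
    (𝓛 : Set (W →ₗ[K] K)) (hsep : ∀ x : W, x ≠ 0 → ∃ l ∈ 𝓛, l x ≠ 0) :
    ∃ l : Fin m → (W →ₗ[K] K), (∀ j, l j ∈ 𝓛) ∧ (Matrix.of fun i j => l j (w i)).det ≠ 0 := by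
  classical
  let U : Submodule K W := Submodule.span K (Set.range w)
  let bU : Module.Basis (Fin m) K U := Module.Basis.span hw
  have hbU : ∀ i, (bU i : W) = w i := fun i => by rw [Module.Basis.span_apply hw i]
  haveI : FiniteDimensional K U := Module.Finite.of_basis bU
  let ρ : (W →ₗ[K] K) →ₗ[K] Module.Dual K U := (LinearMap.lcomp K K U.subtype)
  have hρ : ∀ (l : W →ₗ[K] K) (x : U), ρ l x = l x := fun l x => rfl
  let Φ : Submodule K (Module.Dual K U) := Submodule.span K (ρ '' 𝓛)
  have hco : Φ.dualCoannihilator = ⊥ := by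
    rw [eq_bot_iff]
    intro x hx
    rw [Submodule.mem_dualCoannihilator] at hx
    rw [Submodule.mem_bot]
    by_contra hne
    have hne' : (x : W) ≠ 0 := fun h => hne (Subtype.ext h)
    obtain ⟨l, hl, hlx⟩ := hsep x hne'
    exact hlx (hx (ρ l) (Submodule.subset_span ⟨l, hl, rfl⟩))
  have htop : Φ = ⊤ := by
    have := Subspace.dualCoannihilator_dualAnnihilator_eq (W := Φ)
    rw [hco, Submodule.dualAnnihilator_bot] at this
    exact this.symm
  obtain ⟨T, hTsub, hTspan, hTli⟩ := exists_linearIndependent K (ρ '' 𝓛)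
  have hTtop : Submodule.span K T = ⊤ := by rw [hTspan]; exact htop
  let bT : Module.Basis T K (Module.Dual K U) :=
    Module.Basis.mk hTli (by rw [Subtype.range_coe_subtype]; simpa using hTtop.ge)
  have hbT : ∀ t : T, bT t = (t : Module.Dual K U) := fun t => by
    simp [bT]
  haveI : Finite T := (Module.Finite.finite_basis bT)
  haveI : Fintype T := Fintype.ofFinite T
  have hcard : Fintype.card T = m := by
    have h1 := Module.finrank_eq_card_basis bT
    have h2 := Module.finrank_eq_card_basis bU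
    rw [Subspace.dual_finrank_eq] at h1
    rw [← h1, h2, Fintype.card_fin]
  let e : Fin m ≃ T := (Fintype.equivFinOfCardEq hcard).symm
  have hpre : ∀ t : T, ∃ l ∈ 𝓛, ρ l = (t : Module.Dual K U) := fun t => hTsub t.2
  choose l hl𝓛 hlρ using hpre
  refine ⟨fun j => l (e j), fun j => hl𝓛 _, ?_⟩
  let bT' : Module.Basis (Fin m) K (Module.Dual K U) := bT.reindex e.symm
  have hmat : (Matrix.of fun i j => l (e j) (w i)) = bU.dualBasis.toMatrix bT' := by
    ext i j
    rw [Matrix.of_apply, Module.Basis.toMatrix_apply, Module.Basis.dualBasis_repr]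
    simp only [bT', Module.Basis.reindex_apply, Equiv.symm_symm, hbT, ← hlρ, hρ, hbU]
  rw [hmat]
  have := Module.Basis.toMatrix_mul_toMatrix_flip bU.dualBasis bT'
  intro h0
  have h1 := congrArg Matrix.det this
  rw [Matrix.det_mul, h0, zero_mul, Matrix.det_one] at h1
  exact zero_ne_one h1

end linalg

section sep

variable {B K Ω : Type*} [CommRing B] [CommRing K] [Algebra B K] [AddCommGroup Ω] [Module B Ω]

/-- the functional on `K ⊗ Ω` induced by a `B`-linear form on `Ω`. -/
noncomputable def ev (l : Ω →ₗ[B] B) : K ⊗[B] Ω →ₗ[K] K :=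
  (AlgebraTensorModule.rid B K K).toLinearMap ∘ₗ l.baseChange K

lemma ev_tmul (l : Ω →ₗ[B] B) (c : K) (ω : Ω) : ev l (c ⊗ₜ[B] ω) = algebraMap B K (l ω) * c := by
  simp [ev, Algebra.smul_def]

lemma eq_zero_of_ev [Module.Projective B Ω] (w : K ⊗[B] Ω)
    (h : ∀ l : Ω →ₗ[B] B, ev l w = 0) : w = 0 := by
  classical
  obtain ⟨s, hs⟩ := Module.projective_def'.mp (inferInstance : Module.Projective B Ω)
  let bF : Module.Basis Ω B (Ω →₀ B) := Finsupp.basisSingleOne
  let bK : Module.Basis Ω K (K ⊗[B] (Ω →₀ B)) := bF.baseChange K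
  have key : ∀ (w : K ⊗[B] Ω) (i : Ω), bK.repr (s.baseChange K w) i = ev (bF.coord i ∘ₗ s) w := by
    intro w i
    induction w using TensorProduct.induction_on with
    | zero => simp
    | tmul c ω =>
      rw [LinearMap.baseChange_tmul, ev_tmul]
      simp only [bK, Module.Basis.baseChange_repr_tmul]
      simp [Algebra.smul_def]
    | add x y hx hy => simp only [map_add, Finsupp.add_apply, hx, hy]
  have hz : s.baseChange K w = 0 := by
    apply bK.ext_elem
    intro i
    rw [key, h, map_zero, Finsupp.zero_apply]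
  have hid : ((Finsupp.linearCombination B id).baseChange K) ∘ₗ (s.baseChange K) =
      (LinearMap.id : K ⊗[B] Ω →ₗ[K] K ⊗[B] Ω) := by
    rw [← LinearMap.baseChange_comp, hs, LinearMap.baseChange_id]
  calc w = ((Finsupp.linearCombination B id).baseChange K) (s.baseChange K w) := by
        rw [← LinearMap.comp_apply, hid, LinearMap.id_apply]
    _ = 0 := by rw [hz, map_zero]

end sep

section main

variable {A B : Type u} [CommRing A] [CommRing B] [Algebra A B] [Algebra.FormallySmooth A B]
  (J q : Ideal B) [q.IsPrime] (hJq : J ≤ q) [hp : (q.map (Ideal.Quotient.mk J)).IsPrime]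

/-- the residue field. -/
abbrev kap (J q : Ideal B) [(q.map (Ideal.Quotient.mk J)).IsPrime] : Type u :=
  (q.map (Ideal.Quotient.mk J)).ResidueField

lemma hsurj : Function.Surjective (algebraMap B (B ⧸ J)) := Ideal.Quotient.mk_surjective

/-- the extension. -/
noncomputable abbrev PP : Algebra.Extension.{u} A (B ⧸ J) := H3SL.ext (A := A) (hsurj J)

lemma mem_ker_iff (b : B) : b ∈ (PP (A := A) J).ker ↔ b ∈ J := by
  show b ∈ RingHom.ker (algebraMap B (B ⧸ J)) ↔ b ∈ J
  rw [RingHom.mem_ker, Ideal.Quotient.algebraMap_eq, Ideal.Quotient.eq_zero_iff_mem]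

include hJq in
lemma algebraMap_eq_zero_iff (b : B) : algebraMap B (kap J q) b = 0 ↔ b ∈ q := by
  rw [IsScalarTower.algebraMap_apply B (B ⧸ J) (kap J q), Ideal.algebraMap_residueField_eq_zero,
    Ideal.Quotient.algebraMap_eq, Ideal.mem_quotient_iff_mem hJq]

/-- the vector `1 ⊗ [g]`. -/
noncomputable def vv (g : (PP (A := A) J).ker) : (kap J q) ⊗[B ⧸ J] (PP (A := A) J).Cotangent :=
  (1 : (kap J q)) ⊗ₜ[B ⧸ J] Algebra.Extension.Cotangent.mk g

lemma tmul_bsmul (b : B) (y : (PP (A := A) J).Cotangent) :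
    (1 : (kap J q)) ⊗ₜ[B ⧸ J] (b • y) = algebraMap B (kap J q) b • ((1 : (kap J q)) ⊗ₜ[B ⧸ J] y) := by
  rw [← algebraMap_smul (B ⧸ J) b y, TensorProduct.tmul_smul, TensorProduct.smul_tmul',
    TensorProduct.smul_tmul', IsScalarTower.algebraMap_apply B (B ⧸ J) (kap J q), Algebra.smul_def,
    smul_eq_mul]

/-- the comparison with `(kap J q) ⊗[B] Ω`. -/
noncomputable def εε : (kap J q) ⊗[B ⧸ J] (PP (A := A) J).CotangentSpace ≃ₗ[(kap J q)] (kap J q) ⊗[B] Ω[B⁄A] :=
  AlgebraTensorModule.cancelBaseChange B (B ⧸ J) (kap J q) (kap J q) Ω[B⁄A]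

lemma εε_u_vv (g : (PP (A := A) J).ker) :
    εε J q ((PP (A := A) J).cotangentComplex.lTensor (kap J q) (vv J q g)) = (1 : (kap J q)) ⊗ₜ[B] D A B g.1 := by
  rw [vv, LinearMap.lTensor_tmul, Algebra.Extension.cotangentComplex_mk, εε]
  erw [AlgebraTensorModule.cancelBaseChange_tmul]
  rw [one_smul]

lemma ev_εε_u_vv (l : Ω[B⁄A] →ₗ[B] B) (g : (PP (A := A) J).ker) :
    ev l (εε J q ((PP (A := A) J).cotangentComplex.lTensor (kap J q) (vv J q g))) =
      algebraMap B (kap J q) (l (D A B g.1)) := by
  rw [εε_u_vv, ev_tmul, mul_one]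

lemma finite_cot (hJ : J.FG) : Module.Finite B (RingHom.ker (algebraMap B (B ⧸ J))).Cotangent := by
  have hker : RingHom.ker (algebraMap B (B ⧸ J)) = J := by
    rw [Ideal.Quotient.algebraMap_eq, Ideal.mk_ker]
  rw [hker]
  haveI : Module.Finite B J := Module.Finite.iff_fg.mpr hJ
  exact Module.Finite.of_surjective J.toCotangent (Ideal.toCotangent_surjective J)

theorem smooth_iff_inj (hJ : J.FG) :
    Algebra.FormallySmooth A (Localization.AtPrime (q.map (Ideal.Quotient.mk J))) ↔
      Function.Injective ((PP (A := A) J).cotangentComplex.lTensor (kap J q)) := by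
  haveI := finite_cot J hJ
  haveI : Module.Finite (B ⧸ J) (PP (A := A) J).Cotangent := H3SL.finite_cotangent (hsurj J)
  haveI : Module.Projective (B ⧸ J) (PP (A := A) J).CotangentSpace :=
    inferInstanceAs (Module.Projective (B ⧸ J) ((B ⧸ J) ⊗[B] Ω[B⁄A]))
  rw [H3SL.smooth_loc_iff (hsurj J)]
  constructor
  · rintro ⟨a, ha, hap⟩
    exact H3LI.injective_of_mem _ _ hap ha
  · intro h
    obtain ⟨a, haS, ha⟩ := H3LI.mem_of_injective _ _ h
    exact ⟨a, ha, haS⟩

include hJq in
lemma span_vv {m : ℕ} (f : Fin m → B) (hfJ : ∀ i, f i ∈ J)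
    (hgen : J.map (algebraMap B (Localization.AtPrime q)) =
      Ideal.span (Set.range fun i => algebraMap B (Localization.AtPrime q) (f i))) :
    Submodule.span (kap J q)
      (Set.range fun i => vv (A := A) J q ⟨f i, (mem_ker_iff J _).mpr (hfJ i)⟩) = ⊤ := by
  rw [eq_top_iff]
  rintro x -
  induction x using TensorProduct.induction_on with
  | zero => exact Submodule.zero_mem _
  | add x y hx hy => exact Submodule.add_mem _ hx hy
  | tmul c y =>
    have h1 : c ⊗ₜ[B ⧸ J] y = c • ((1 : kap J q) ⊗ₜ[B ⧸ J] y) := by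
      rw [TensorProduct.smul_tmul', smul_eq_mul, mul_one]
    rw [h1]
    refine Submodule.smul_mem _ _ ?_
    obtain ⟨g, rfl⟩ := Algebra.Extension.Cotangent.mk_surjective y
    have hgJ : g.1 ∈ J := (mem_ker_iff J _).mp g.2
    have hmem : algebraMap B (Localization.AtPrime q) g.1 ∈
        Ideal.span (Set.range fun i => algebraMap B (Localization.AtPrime q) (f i)) := by
      rw [← hgen]; exact Ideal.mem_map_of_mem _ hgJ
    obtain ⟨β, hβ⟩ := (Submodule.mem_span_range_iff_exists_fun _).mp hmem
    obtain ⟨s, hs⟩ := IsLocalization.exist_integer_multiples q.primeCompl Finset.univ β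
    choose b hb using fun i => hs i (Finset.mem_univ i)
    have h2 : algebraMap B (Localization.AtPrime q) ((s : B) * g.1) =
        algebraMap B (Localization.AtPrime q) (∑ i, b i * f i) := by
      rw [map_mul, ← hβ, Finset.mul_sum, map_sum]
      refine Finset.sum_congr rfl fun i _ => ?_
      rw [map_mul, hb i]
      simp only [Algebra.smul_def, smul_eq_mul, Algebra.algebraMap_self, RingHom.id_apply]
      ring
    obtain ⟨t, ht⟩ := (IsLocalization.eq_iff_exists q.primeCompl _).mp h2
    have h3 : ((t : B) * (s : B)) • g =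
        ∑ i, ((t : B) * b i) • (⟨f i, (mem_ker_iff J _).mpr (hfJ i)⟩ : (PP (A := A) J).ker) := by
      apply Subtype.ext
      rw [Submodule.coe_smul, Submodule.coe_sum, smul_eq_mul, mul_assoc, ht, Finset.mul_sum]
      refine Finset.sum_congr rfl fun i _ => ?_
      rw [Submodule.coe_smul, smul_eq_mul, mul_assoc]
    have h4 := congrArg (Algebra.Extension.Cotangent.mk (P := PP (A := A) J)) h3
    rw [map_smul, map_sum] at h4
    simp_rw [map_smul] at h4
    have h5 := congrArg (fun y => (1 : kap J q) ⊗ₜ[B ⧸ J] y) h4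
    simp only [tmul_bsmul, TensorProduct.tmul_sum] at h5
    have hne : algebraMap B (kap J q) ((t : B) * (s : B)) ≠ 0 := by
      rw [ne_eq, algebraMap_eq_zero_iff J q hJq]
      exact (q.primeCompl.mul_mem t.2 s.2)
    have h6 : (1 : kap J q) ⊗ₜ[B ⧸ J] Algebra.Extension.Cotangent.mk g =
        (algebraMap B (kap J q) ((t : B) * (s : B)))⁻¹ •
          ∑ i, algebraMap B (kap J q) ((t : B) * b i) •
            vv (A := A) J q ⟨f i, (mem_ker_iff J _).mpr (hfJ i)⟩ := by
      unfold vv
      rw [← h5, smul_smul, inv_mul_cancel₀ hne, one_smul]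
    rw [h6]
    exact Submodule.smul_mem _ _ (Submodule.sum_mem _ fun i _ =>
      Submodule.smul_mem _ _ (Submodule.subset_span ⟨i, rfl⟩))

lemma ev_εε_bc_vv (l : Ω[B⁄A] →ₗ[B] B) (g : (PP (A := A) J).ker) :
    ev l (εε J q ((PP (A := A) J).cotangentComplex.baseChange (kap J q) (vv J q g))) =
      algebraMap B (kap J q) (l (D A B g.1)) :=
  ev_εε_u_vv J q l g

include hJq in
theorem inj_of_jac {m : ℕ} (f : Fin m → B) (hfJ : ∀ i, f i ∈ J)
    (hgen : J.map (algebraMap B (Localization.AtPrime q)) =
      Ideal.span (Set.range fun i => algebraMap B (Localization.AtPrime q) (f i)))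
    (D' : Fin m → Derivation A B B) (hdet : Matrix.det (Matrix.of fun i j => D' j (f i)) ∉ q) :
    Function.Injective ((PP (A := A) J).cotangentComplex.lTensor (kap J q)) := by
  have hspan := span_vv (A := A) J q hJq f hfJ hgen
  have hbc : ∀ x, (PP (A := A) J).cotangentComplex.lTensor (kap J q) x =
      (PP (A := A) J).cotangentComplex.baseChange (kap J q) x := fun x => rfl
  rw [injective_iff_map_eq_zero]
  intro x hx
  rw [hbc] at hx
  have hxmem : x ∈ Submodule.span (kap J q)
      (Set.range fun i => vv (A := A) J q ⟨f i, (mem_ker_iff J _).mpr (hfJ i)⟩) := by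
    rw [hspan]; trivial
  obtain ⟨c, rfl⟩ := (Submodule.mem_span_range_iff_exists_fun _).mp hxmem
  have hc : c = 0 := by
    let Amat : Matrix (Fin m) (Fin m) (kap J q) :=
      Matrix.of fun i j => algebraMap B (kap J q) (D' j (f i))
    have hA : Amat.det ≠ 0 := by
      have : Amat = (algebraMap B (kap J q)).mapMatrix (Matrix.of fun i j => D' j (f i)) := by
        ext i j; simp [Amat]
      rw [this, ← RingHom.map_det, ne_eq, algebraMap_eq_zero_iff J q hJq]
      exact hdet
    apply Matrix.eq_zero_of_vecMul_eq_zero hA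
    ext j
    have h1 := congrArg (fun w => ev (D' j).liftKaehlerDifferential (εε J q w)) hx
    simp only [map_sum, map_smul, map_zero, ev_εε_bc_vv,
      Derivation.liftKaehlerDifferential_comp_D, smul_eq_mul] at h1
    rw [Matrix.vecMul, Pi.zero_apply, ← h1]
    simp [dotProduct, Amat]
  rw [hc]
  simp

lemma ker_eq : (PP (A := A) J).ker = J := by
  ext b; exact mem_ker_iff J b

lemma not_mem_q_of_mk {b : B} (hb : Ideal.Quotient.mk J b ∉ q.map (Ideal.Quotient.mk J)) : b ∉ q :=
  fun h => hb (Ideal.mem_map_of_mem _ h)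

/-- clearing denominators in the cotangent module. -/
lemma exists_sq_mem {m : ℕ} (g : Fin m → (PP (A := A) J).ker)
    (hspan : Submodule.span (Localization.AtPrime (q.map (Ideal.Quotient.mk J)))
      (Set.range fun i => (1 : Localization.AtPrime (q.map (Ideal.Quotient.mk J))) ⊗ₜ[B ⧸ J]
        (Algebra.Extension.Cotangent.mk (g i) : (PP (A := A) J).Cotangent)) = ⊤)
    (x : (PP (A := A) J).ker) :
    ∃ (c : B) (a : Fin m → B), Ideal.Quotient.mk J c ∉ q.map (Ideal.Quotient.mk J) ∧
      c * x.1 - ∑ i, a i * (g i).1 ∈ J ^ 2 := by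
  set Cp := Localization.AtPrime (q.map (Ideal.Quotient.mk J)) with hCp
  set M := (PP (A := A) J).Cotangent with hM
  have hx : (1 : Cp) ⊗ₜ[B ⧸ J] (Algebra.Extension.Cotangent.mk x : M) ∈
      Submodule.span Cp (Set.range fun i => (1 : Cp) ⊗ₜ[B ⧸ J]
        (Algebra.Extension.Cotangent.mk (g i) : M)) := by
    rw [hspan]; trivial
  obtain ⟨γ, hγ⟩ := (Submodule.mem_span_range_iff_exists_fun _).mp hx
  obtain ⟨s, hs⟩ := IsLocalization.exist_integer_multiples
    (q.map (Ideal.Quotient.mk J)).primeCompl Finset.univ γ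
  choose a ha using fun i => hs i (Finset.mem_univ i)
  haveI : IsLocalizedModule (q.map (Ideal.Quotient.mk J)).primeCompl
      (TensorProduct.mk (B ⧸ J) Cp M 1) :=
    (isLocalizedModule_iff_isBaseChange _ Cp _).mpr (TensorProduct.isBaseChange (B ⧸ J) M Cp)
  have h1 : TensorProduct.mk (B ⧸ J) Cp M 1 ((s : B ⧸ J) • Algebra.Extension.Cotangent.mk x) =
      TensorProduct.mk (B ⧸ J) Cp M 1 (∑ i, a i • Algebra.Extension.Cotangent.mk (g i)) := by
    simp only [TensorProduct.mk_apply, TensorProduct.tmul_smul, TensorProduct.tmul_sum]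
    rw [← hγ, Finset.smul_sum]
    refine Finset.sum_congr rfl fun i _ => ?_
    rw [← smul_assoc, ← ha i, algebraMap_smul]
  obtain ⟨t, ht⟩ := IsLocalizedModule.exists_of_eq
    (S := (q.map (Ideal.Quotient.mk J)).primeCompl) h1
  obtain ⟨s', hs'⟩ := Ideal.Quotient.mk_surjective (s : B ⧸ J)
  obtain ⟨t', ht'⟩ := Ideal.Quotient.mk_surjective (t : B ⧸ J)
  choose a' ha' using fun i => Ideal.Quotient.mk_surjective (a i)
  refine ⟨t' * s', fun i => t' * a' i, ?_, ?_⟩
  · rw [map_mul, hs', ht']
    exact (q.map (Ideal.Quotient.mk J)).primeCompl.mul_mem t.2 s.2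
  · have h2 : (Algebra.Extension.Cotangent.mk
        ((t' * s') • x - ∑ i, (t' * a' i) • g i) : M) = 0 := by
      rw [map_sub, map_smul, map_sum, sub_eq_zero]
      simp_rw [map_smul]
      rw [Submonoid.smul_def, Submonoid.smul_def] at ht
      rw [mul_smul, ← algebraMap_smul (B ⧸ J) s', ← algebraMap_smul (B ⧸ J) t',
        Ideal.Quotient.algebraMap_eq, hs', ht', ht, Finset.smul_sum]
      refine Finset.sum_congr rfl fun i _ => ?_
      rw [mul_smul, ← algebraMap_smul (B ⧸ J) (a' i) (Algebra.Extension.Cotangent.mk (g i) : M),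
        ← algebraMap_smul (B ⧸ J) t', Ideal.Quotient.algebraMap_eq, ha' i, ht']
    rw [Algebra.Extension.Cotangent.mk_eq_zero_iff] at h2
    have h3 : ((PP (A := A) J).ker) ^ 2 = J ^ 2 := by rw [ker_eq]
    rw [← h3]
    convert h2 using 1
    simp [Submodule.coe_sum]

include hJq in
lemma gen_of_basis (hJ : J.FG) {m : ℕ} (g : Fin m → (PP (A := A) J).ker)
    (bV : Module.Basis (Fin m) (kap J q) ((kap J q) ⊗[B ⧸ J] (PP (A := A) J).Cotangent))
    (hbV : ∀ i, bV i = vv J q (g i)) :
    J.map (algebraMap B (Localization.AtPrime q)) =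
      Ideal.span (Set.range fun i => algebraMap B (Localization.AtPrime q) (g i).1) := by
  haveI := finite_cot J hJ
  haveI : Module.Finite (B ⧸ J) (PP (A := A) J).Cotangent := H3SL.finite_cotangent (hsurj J)
  have hspan : Submodule.span (Localization.AtPrime (q.map (Ideal.Quotient.mk J)))
      (Set.range fun i => (1 : Localization.AtPrime (q.map (Ideal.Quotient.mk J))) ⊗ₜ[B ⧸ J]
        (Algebra.Extension.Cotangent.mk (g i) : (PP (A := A) J).Cotangent)) = ⊤ := by
    let e := AlgebraTensorModule.cancelBaseChange (B ⧸ J)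
      (Localization.AtPrime (q.map (Ideal.Quotient.mk J))) (kap J q) (kap J q)
      (PP (A := A) J).Cotangent
    let b' := bV.map e.symm
    refine IsLocalRing.span_eq_top_of_tmul_eq_basis
      (R := Localization.AtPrime (q.map (Ideal.Quotient.mk J)))
      (M := Localization.AtPrime (q.map (Ideal.Quotient.mk J)) ⊗[B ⧸ J] (PP (A := A) J).Cotangent)
      _ b' (fun i => ?_)
    rw [Module.Basis.map_apply, hbV, vv, LinearEquiv.eq_symm_apply]
    erw [AlgebraTensorModule.cancelBaseChange_tmul]
    rw [one_smul]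
  apply le_antisymm
  · apply Submodule.le_of_le_smul_of_le_jacobson_bot
      (I := IsLocalRing.maximalIdeal (Localization.AtPrime q)) (Ideal.FG.map hJ _)
      (IsLocalRing.maximalIdeal_le_jacobson ⊥)
    refine Ideal.map_le_iff_le_comap.mpr fun x hx => ?_
    rw [Ideal.mem_comap]
    obtain ⟨c, a, hc, hca⟩ := exists_sq_mem J q g hspan ⟨x, (mem_ker_iff J x).mpr hx⟩
    have hcq : c ∉ q := not_mem_q_of_mk J q hc
    obtain ⟨υ, hυ⟩ := IsLocalization.map_units (Localization.AtPrime q) (⟨c, hcq⟩ : q.primeCompl)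
    simp only at hυ hca
    set T : Ideal (Localization.AtPrime q) :=
      Ideal.span (Set.range fun i => algebraMap B (Localization.AtPrime q) (g i).1) ⊔
        IsLocalRing.maximalIdeal (Localization.AtPrime q) •
          J.map (algebraMap B (Localization.AtPrime q)) with hT
    have h1 : algebraMap B (Localization.AtPrime q) (∑ i, a i * (g i).1) ∈ T := by
      rw [map_sum]
      refine Ideal.sum_mem _ fun i _ => ?_
      rw [map_mul]
      exact Ideal.mem_sup_left (Ideal.mul_mem_left _ _ (Ideal.subset_span ⟨i, rfl⟩))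
    have h2 : algebraMap B (Localization.AtPrime q) (c * x - ∑ i, a i * (g i).1) ∈ T := by
      refine Ideal.mem_sup_right ?_
      have h3 := Ideal.mem_map_of_mem (algebraMap B (Localization.AtPrime q)) hca
      rw [pow_two, Ideal.map_mul] at h3
      rw [smul_eq_mul]
      refine Ideal.mul_mono_left ?_ h3
      rw [← Localization.AtPrime.map_eq_maximalIdeal]
      exact Ideal.map_mono hJq
    have h4 : algebraMap B (Localization.AtPrime q) (c * x) ∈ T := by
      have := Ideal.add_mem _ h2 h1
      rwa [← map_add, sub_add_cancel] at this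
    have h5 : algebraMap B (Localization.AtPrime q) x =
        (↑υ⁻¹ : Localization.AtPrime q) * algebraMap B (Localization.AtPrime q) (c * x) := by
      rw [map_mul, ← hυ, ← mul_assoc, Units.inv_mul, one_mul]
    rw [h5]
    exact Ideal.mul_mem_left _ _ h4
  · rw [Ideal.span_le]
    rintro _ ⟨i, rfl⟩
    exact Ideal.mem_map_of_mem _ ((mem_ker_iff J _).mp (g i).2)

include hJq in
theorem jac_of_inj (hJ : J.FG)
    (hinj : Function.Injective ((PP (A := A) J).cotangentComplex.lTensor (kap J q))) :
    ∃ (m : ℕ) (f : Fin m → B) (D' : Fin m → Derivation A B B), (∀ i, f i ∈ J) ∧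
      J.map (algebraMap B (Localization.AtPrime q)) =
        Ideal.span (Set.range fun i => algebraMap B (Localization.AtPrime q) (f i)) ∧
      Matrix.det (Matrix.of fun i j => D' j (f i)) ∉ q := by
  classical
  haveI := finite_cot J hJ
  haveI : Module.Finite (B ⧸ J) (PP (A := A) J).Cotangent := H3SL.finite_cotangent (hsurj J)
  have hS : Submodule.span (kap J q) (Set.range (vv (A := A) J q)) = ⊤ := by
    rw [eq_top_iff]
    rintro x -
    induction x using TensorProduct.induction_on with
    | zero => exact Submodule.zero_mem _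
    | add x y hx hy => exact Submodule.add_mem _ hx hy
    | tmul c y =>
      obtain ⟨g, rfl⟩ := Algebra.Extension.Cotangent.mk_surjective y
      have h1 : c ⊗ₜ[B ⧸ J] (Algebra.Extension.Cotangent.mk g : (PP (A := A) J).Cotangent) =
          c • vv J q g := by
        rw [vv, TensorProduct.smul_tmul', smul_eq_mul, mul_one]
      rw [h1]
      exact Submodule.smul_mem _ _ (Submodule.subset_span ⟨g, rfl⟩)
  obtain ⟨T, hTsub, hTspan, hTli⟩ :=
    exists_linearIndependent (kap J q) (Set.range (vv (A := A) J q))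
  have hTtop : Submodule.span (kap J q) T = ⊤ := by rw [hTspan, hS]
  let bT : Module.Basis T (kap J q) ((kap J q) ⊗[B ⧸ J] (PP (A := A) J).Cotangent) :=
    Module.Basis.mk hTli (by rw [Subtype.range_coe_subtype]; simpa using hTtop.ge)
  have hbT : ∀ t : T, bT t = (t : (kap J q) ⊗[B ⧸ J] (PP (A := A) J).Cotangent) := fun t => by
    simp [bT]
  haveI : Finite T := Module.Finite.finite_basis bT
  haveI : Fintype T := Fintype.ofFinite T
  let e : Fin (Fintype.card T) ≃ T := (Fintype.equivFin T).symm
  have hpre : ∀ t : T, ∃ g, vv (A := A) J q g =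
      (t : (kap J q) ⊗[B ⧸ J] (PP (A := A) J).Cotangent) := fun t => hTsub t.2
  choose g hg using hpre
  let bV : Module.Basis (Fin (Fintype.card T)) (kap J q)
      ((kap J q) ⊗[B ⧸ J] (PP (A := A) J).Cotangent) := bT.reindex e.symm
  have hbV : ∀ i, bV i = vv J q (g (e i)) := fun i => by
    simp only [bV, Module.Basis.reindex_apply, Equiv.symm_symm, hbT, hg]
  have hgen := gen_of_basis (A := A) J q hJq hJ (fun i => g (e i)) bV hbV
  let ubc := (PP (A := A) J).cotangentComplex.baseChange (kap J q)
  have hubc : Function.Injective ubc := hinj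
  have hli : LinearIndependent (kap J q) (fun i => εε J q (ubc (vv J q (g (e i))))) := by
    have h1 : LinearIndependent (kap J q) (fun i => vv (A := A) J q (g (e i))) := by
      have := bV.linearIndependent
      convert this using 1
      funext i
      rw [hbV]
    exact h1.map' ((εε J q).toLinearMap ∘ₗ ubc) (by
      rw [LinearMap.ker_eq_bot]; exact (εε J q).injective.comp hubc)
  obtain ⟨l, hl, hdet⟩ := exists_det_ne_zero _ hli
    (Set.range (ev (B := B) (K := kap J q) (Ω := Ω[B⁄A])))
    (fun x hx => by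
      by_contra hcon
      push_neg at hcon
      exact hx (eq_zero_of_ev x fun l' => hcon _ ⟨l', rfl⟩))
  choose l' hl' using hl
  refine ⟨Fintype.card T, fun i => (g (e i)).1,
    fun j => (l' j).compDer (KaehlerDifferential.D A B),
    fun i => (mem_ker_iff J _).mp (g (e i)).2, hgen, ?_⟩
  intro hq
  apply hdet
  have hmat : (Matrix.of fun i j => (l j) (εε J q (ubc (vv J q (g (e i)))))) =
      (algebraMap B (kap J q)).mapMatrix (Matrix.of fun i j =>
        ((l' j).compDer (KaehlerDifferential.D A B)) (g (e i)).1) := by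
    ext i j
    simp only [Matrix.of_apply, RingHom.mapMatrix_apply, Matrix.map_apply, ← hl']
    exact ev_εε_bc_vv J q (l' j) (g (e i))
  rw [hmat, ← RingHom.map_det, algebraMap_eq_zero_iff J q hJq]
  exact hq

end main

section li

variable {A B : Type u} [CommRing A] [CommRing B] [Algebra A B] (q : Ideal B) [q.IsPrime]

lemma exists_der_of_li [Module.Projective B Ω[B⁄A]] {m : ℕ} (f : Fin m → B)
    (hli : LinearIndependent q.ResidueField
      (fun i => (1 : q.ResidueField) ⊗ₜ[B] KaehlerDifferential.D A B (f i))) :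
    ∃ D' : Fin m → Derivation A B B, Matrix.det (Matrix.of fun i j => D' j (f i)) ∉ q := by
  obtain ⟨l, hl, hdet⟩ := exists_det_ne_zero _ hli
    (Set.range (ev (B := B) (K := q.ResidueField) (Ω := Ω[B⁄A])))
    (fun x hx => by
      by_contra hcon
      push_neg at hcon
      exact hx (eq_zero_of_ev x fun l' => hcon _ ⟨l', rfl⟩))
  choose l' hl' using hl
  refine ⟨fun j => (l' j).compDer (KaehlerDifferential.D A B), fun hq => hdet ?_⟩
  have hmat : (Matrix.of fun i j => (l j) ((1 : q.ResidueField) ⊗ₜ[B]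
        KaehlerDifferential.D A B (f i))) =
      (algebraMap B q.ResidueField).mapMatrix (Matrix.of fun i j =>
        ((l' j).compDer (KaehlerDifferential.D A B)) (f i)) := by
    ext i j
    simp only [Matrix.of_apply, RingHom.mapMatrix_apply, Matrix.map_apply, ← hl']
    rw [ev_tmul, mul_one]
    rfl
  rw [hmat, ← RingHom.map_det, Ideal.algebraMap_residueField_eq_zero]
  exact hq

lemma li_of_det {m : ℕ} (f : Fin m → B) (D' : Fin m → Derivation A B B)
    (hdet : Matrix.det (Matrix.of fun i j => D' j (f i)) ∉ q) :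
    LinearIndependent q.ResidueField
      (fun i => (1 : q.ResidueField) ⊗ₜ[B] KaehlerDifferential.D A B (f i)) := by
  rw [Fintype.linearIndependent_iff]
  intro c hc
  have hc0 : c = 0 := by
    let Amat : Matrix (Fin m) (Fin m) q.ResidueField :=
      Matrix.of fun i j => algebraMap B q.ResidueField (D' j (f i))
    have hA : Amat.det ≠ 0 := by
      have : Amat = (algebraMap B q.ResidueField).mapMatrix (Matrix.of fun i j => D' j (f i)) := by
        ext i j; simp [Amat]
      rw [this, ← RingHom.map_det, ne_eq, Ideal.algebraMap_residueField_eq_zero]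
      exact hdet
    apply Matrix.eq_zero_of_vecMul_eq_zero hA
    ext j
    have h1 := congrArg (fun w => ev (K := q.ResidueField) (D' j).liftKaehlerDifferential w) hc
    simp only [map_sum, map_smul, map_zero, ev_tmul, mul_one,
      Derivation.liftKaehlerDifferential_comp_D, smul_eq_mul] at h1
    rw [Matrix.vecMul, Pi.zero_apply, ← h1]
    simp [dotProduct, Amat]
  intro i
  rw [hc0]; rfl

end li

end H3Jac
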