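import Mathlib
import Groth.Prelude.Def_KZero

/-!
# K₀ of finite projective modules over a local ring (helper3)
-/

universe u

open CategoryTheory Function

namespace H3K0

variable (R : Type u) [CommRing R]

/-- the object property "finite projective" -/
abbrev FP : ObjectProperty (ModuleCat.{u} R) :=
  fun M : ModuleCat.{u} R => Module.Finite R M ∧ Module.Projective R M

/-- class of a finite projective module -/
noncomputable def cls (X : Type u) [AddCommGroup X] [Module R X]
    (h : Module.Finite R X ∧ Module.Projective R X) : KZero.K0sub (FP R) :=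
  QuotientAddGroup.mk (FreeAbelianGroup.of (⟨ModuleCat.of R X, h⟩ : Subtype (FP R)))

variable {R}

theorem cls_ses {X₁ X₂ X₃ : Type u} [AddCommGroup X₁] [AddCommGroup X₂] [AddCommGroup X₃]
    [Module R X₁] [Module R X₂] [Module R X₃]
    (h₁ : Module.Finite R X₁ ∧ Module.Projective R X₁)
    (h₂ : Module.Finite R X₂ ∧ Module.Projective R X₂)
    (h₃ : Module.Finite R X₃ ∧ Module.Projective R X₃)
    (f : X₁ →ₗ[R] X₂) (g : X₂ →ₗ[R] X₃) (hf : Injective f) (hg : Surjective g)
    (hex : Function.Exact f g) : cls R X₂ h₂ = cls R X₁ h₁ + cls R X₃ h₃ := by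
  let S : ShortComplex (ModuleCat.{u} R) :=
    ShortComplex.mk (ModuleCat.ofHom f) (ModuleCat.ofHom g) (by
      ext x
      exact hex.apply_apply_eq_zero x)
  have hS : S.ShortExact := by
    haveI : Mono S.f := (ModuleCat.mono_iff_injective _).2 hf
    haveI : Epi S.g := (ModuleCat.epi_iff_surjective _).2 hg
    exact ⟨(ShortComplex.ShortExact.moduleCat_exact_iff_function_exact S).2 hex⟩
  have hmem : FreeAbelianGroup.of (⟨S.X₂, h₂⟩ : Subtype (FP R)) -
      FreeAbelianGroup.of (⟨S.X₁, h₁⟩ : Subtype (FP R)) -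
      FreeAbelianGroup.of (⟨S.X₃, h₃⟩ : Subtype (FP R)) ∈ KZero.relSub (FP R) :=
    AddSubgroup.subset_closure ⟨S, h₁, h₂, h₃, hS, rfl⟩
  have h0 := (QuotientAddGroup.eq_zero_iff _).2 hmem
  rw [QuotientAddGroup.mk_sub, QuotientAddGroup.mk_sub, sub_sub, sub_eq_zero] at h0
  exact h0

theorem fp_punit : Module.Finite R PUnit.{u+1} ∧ Module.Projective R PUnit.{u+1} :=
  ⟨inferInstance, inferInstance⟩

theorem cls_punit : cls R PUnit.{u+1} fp_punit = 0 := by
  have h := cls_ses (R := R) fp_punit fp_punit fp_punit (0 : PUnit.{u+1} →ₗ[R] PUnit.{u+1})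
    (0 : PUnit.{u+1} →ₗ[R] PUnit.{u+1}) (fun _ _ _ => Subsingleton.elim _ _)
    (fun _ => ⟨PUnit.unit, Subsingleton.elim _ _⟩)
    (fun y => ⟨fun _ => ⟨PUnit.unit, Subsingleton.elim _ _⟩, fun _ => Subsingleton.elim _ _⟩)
  exact left_eq_add.1 h

theorem cls_equiv {X Y : Type u} [AddCommGroup X] [AddCommGroup Y] [Module R X] [Module R Y]
    (hX : Module.Finite R X ∧ Module.Projective R X)
    (hY : Module.Finite R Y ∧ Module.Projective R Y) (e : X ≃ₗ[R] Y) :
    cls R X hX = cls R Y hY := by
  have h := cls_ses (R := R) fp_punit hX hY (0 : PUnit.{u+1} →ₗ[R] X) e.toLinearMap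
    (fun _ _ _ => Subsingleton.elim _ _) e.surjective (by
      intro y
      constructor
      · intro hy
        refine ⟨PUnit.unit, ?_⟩
        rw [LinearMap.zero_apply]
        exact (e.injective (hy.trans (map_zero e).symm)).symm
      · rintro ⟨x, rfl⟩
        rw [LinearMap.zero_apply]
        exact map_zero e)
  rw [h, cls_punit, zero_add]

theorem cls_prod {X Y : Type u} [AddCommGroup X] [AddCommGroup Y] [Module R X] [Module R Y]
    (hX : Module.Finite R X ∧ Module.Projective R X)
    (hY : Module.Finite R Y ∧ Module.Projective R Y)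
    (hXY : Module.Finite R (X × Y) ∧ Module.Projective R (X × Y)) :
    cls R (X × Y) hXY = cls R X hX + cls R Y hY :=
  cls_ses hX hXY hY (LinearMap.inl R X Y) (LinearMap.snd R X Y) LinearMap.inl_injective
    LinearMap.snd_surjective Function.Exact.inl_snd

theorem fp_self : Module.Finite R R ∧ Module.Projective R R := ⟨inferInstance, inferInstance⟩

theorem fp_pi (n : ℕ) : Module.Finite R (Fin n → R) ∧ Module.Projective R (Fin n → R) :=
  ⟨inferInstance, inferInstance⟩

theorem cls_pi (n : ℕ) : cls R (Fin n → R) (fp_pi n) = n • cls R R fp_self := by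
  induction n with
  | zero =>
    rw [zero_smul, ← cls_punit (R := R)]
    exact cls_equiv _ _ (LinearEquiv.ofSubsingleton _ _)
  | succ n ih =>
    have h1 : cls R (Fin (n + 1) → R) (fp_pi (n + 1)) =
        cls R (R × (Fin n → R)) ⟨inferInstance, inferInstance⟩ :=
      cls_equiv _ _ (Fin.consLinearEquiv R (fun _ : Fin (n + 1) => R)).symm
    rw [h1, cls_prod fp_self (fp_pi n), ih, succ_nsmul, add_comm]

variable (R)

theorem main [IsLocalRing R] :
    ∃ e : KZero.K0sub (FP R) ≃+ ℤ, e (KZero.clSub (FP R) (ModuleCat.of R R)) = 1 := by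
  classical
  let φ₀ : FreeAbelianGroup (Subtype (FP R)) →+ ℤ :=
    FreeAbelianGroup.lift (fun X : Subtype (FP R) => ((Module.finrank R X.1 : ℕ) : ℤ))
  have hrel : KZero.relSub (FP R) ≤ φ₀.ker := by
    rw [KZero.relSub, AddSubgroup.closure_le]
    rintro x ⟨S, h₁, h₂, h₃, hS, rfl⟩
    rw [SetLike.mem_coe, AddMonoidHom.mem_ker, map_sub, map_sub]
    simp only [φ₀, FreeAbelianGroup.lift_apply_of]
    haveI : Module.Finite R S.X₁ := h₁.1
    haveI : Module.Projective R S.X₁ := h₁.2
    haveI : Module.Finite R S.X₃ := h₃.1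
    haveI : Module.Projective R S.X₃ := h₃.2
    haveI : Module.Free R S.X₁ := Module.free_of_flat_of_isLocalRing
    haveI : Module.Free R S.X₃ := Module.free_of_flat_of_isLocalRing
    have hex : Function.Exact S.f.hom S.g.hom :=
      (CategoryTheory.ShortComplex.ShortExact.moduleCat_exact_iff_function_exact S).1 hS.exact
    obtain ⟨s, hs⟩ := Module.projective_lifting_property S.g.hom LinearMap.id
      hS.moduleCat_surjective_g
    let e := (hex.splitSurjectiveEquiv hS.moduleCat_injective_f ⟨s, hs⟩).1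
    have hadd : Module.finrank R S.X₂ = Module.finrank R S.X₁ + Module.finrank R S.X₃ := by
      rw [LinearEquiv.finrank_eq e, Module.finrank_prod]
    rw [hadd]
    push_cast
    ring
  let e' : KZero.K0sub (FP R) →+ ℤ := QuotientAddGroup.lift (KZero.relSub (FP R)) φ₀ hrel
  let ψ : ℤ →+ KZero.K0sub (FP R) := zmultiplesHom _ (cls R R fp_self)
  have he'cls : ∀ (X : Subtype (FP R)),
      e' (QuotientAddGroup.mk (FreeAbelianGroup.of X)) = ((Module.finrank R X.1 : ℕ) : ℤ) := by
    intro X
    simp only [e', QuotientAddGroup.lift_mk, φ₀, FreeAbelianGroup.lift_apply_of]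
  have hR1 : e' (cls R R fp_self) = 1 := by
    rw [cls, he'cls]
    simp
  have hψe : ∀ x, ψ (e' x) = x := by
    intro x
    induction x using QuotientAddGroup.induction_on with
    | H y =>
      induction y using FreeAbelianGroup.induction_on with
      | zero => simp
      | of X =>
        rw [he'cls]
        haveI : Module.Finite R X.1 := X.2.1
        haveI : Module.Projective R X.1 := X.2.2
        haveI : Module.Free R X.1 := Module.free_of_flat_of_isLocalRing
        have h1 : (QuotientAddGroup.mk (FreeAbelianGroup.of X) : KZero.K0sub (FP R)) =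
            cls R X.1 X.2 := rfl
        rw [h1, cls_equiv X.2 (fp_pi _) (Module.finBasis R X.1).equivFun, cls_pi]
        simp [ψ]
      | neg X ih =>
        rw [QuotientAddGroup.mk_neg, map_neg, map_neg, ih]
      | add a b ha hb =>
        rw [QuotientAddGroup.mk_add, map_add, map_add, ha, hb]
  have heψ : ∀ n : ℤ, e' (ψ n) = n := by
    intro n
    simp only [ψ, zmultiplesHom_apply, map_zsmul, hR1, smul_eq_mul, mul_one]
  refine ⟨AddMonoidHom.toAddEquiv e' ψ (AddMonoidHom.ext hψe) (AddMonoidHom.ext heψ), ?_⟩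
  have h2 : KZero.clSub (FP R) (ModuleCat.of R R) = cls R R fp_self := by
    rw [KZero.clSub, dif_pos (fp_self : FP R (ModuleCat.of R R))]
    rfl
  rw [h2]
  exact hR1

end H3K0
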