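import Groth.Prelude.Def_KZero2
import Mathlib

set_option autoImplicit false
universe v u
open CategoryTheory CategoryTheory.Limits CategoryTheory.Pretriangulated
open KZero ZeroObject

namespace H3KTri

variable {C : Type u} [Category.{v} C] [Preadditive C] [HasZeroObject C]
    [HasShift C ℤ] [∀ n : ℤ, (shiftFunctor C n).Additive] [Pretriangulated C]

theorem rel (T : Triangle C) (hT : T ∈ distTriang C) :
    KZero.clTri T.obj₂ = KZero.clTri T.obj₁ + KZero.clTri T.obj₃ := by
  have h0 : (QuotientAddGroup.mk (FreeAbelianGroup.of ⟨T.obj₂, trivial⟩ -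
      FreeAbelianGroup.of ⟨T.obj₁, trivial⟩ -
      FreeAbelianGroup.of ⟨T.obj₃, trivial⟩) : KZero.K0tri C) = 0 :=
    (QuotientAddGroup.eq_zero_iff _).mpr
      (AddSubgroup.subset_closure ⟨T, trivial, trivial, trivial, hT, rfl⟩)
  rw [QuotientAddGroup.mk_sub, QuotientAddGroup.mk_sub, sub_sub, sub_eq_zero] at h0
  exact h0

theorem cl_zero : KZero.clTri (0 : C) = 0 := by
  have := rel _ (contractible_distinguished (0 : C))
  simpa using this

set_option backward.defeqAttrib.useBackward true in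
set_option backward.isDefEq.respectTransparency false in
theorem cl_iso {X Y : C} (e : X ≅ Y) : KZero.clTri X = KZero.clTri Y := by
  have h : Triangle.mk e.hom (0 : Y ⟶ 0) 0 ∈ distTriang C :=
    isomorphic_distinguished _ (contractible_distinguished X) _
      (Triangle.isoMk _ _ (Iso.refl _) e.symm (Iso.refl _) (by dsimp; simp) (by dsimp; simp) (by dsimp; simp))
  have := rel _ h
  simp only [Triangle.mk_obj₁, Triangle.mk_obj₂, Triangle.mk_obj₃] at this
  rw [this, cl_zero, add_zero]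

theorem cl_shift_one (X : C) : KZero.clTri (X⟦(1 : ℤ)⟧) = - KZero.clTri X := by
  have := rel _ (contractible_distinguished₂ X)
  simp only [Triangle.mk_obj₁, Triangle.mk_obj₂, Triangle.mk_obj₃] at this
  rw [cl_zero] at this
  exact (neg_eq_of_add_eq_zero_right this.symm).symm

theorem cl_shift_succ (X : C) (m m' : ℤ) (h : m + 1 = m') :
    KZero.clTri ((shiftFunctor C m').obj X) = - KZero.clTri ((shiftFunctor C m).obj X) := by
  rw [cl_iso ((shiftFunctorAdd' C m 1 m' h).app X)]
  exact cl_shift_one _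

theorem cl_shift_two (X : C) (m m' : ℤ) (h : m + 2 = m') :
    KZero.clTri ((shiftFunctor C m').obj X) = KZero.clTri ((shiftFunctor C m).obj X) := by
  rw [cl_shift_succ X (m + 1) m' (by omega), cl_shift_succ X m (m + 1) rfl, neg_neg]

theorem cl_shift_even (X : C) (k : ℤ) :
    KZero.clTri ((shiftFunctor C (2 * k)).obj X) = KZero.clTri X := by
  induction k using Int.induction_on with
  | zero => exact cl_iso ((shiftFunctorZero' C (2 * 0) (by simp)).app X)
  | succ i ih =>
    rw [cl_shift_two X (2 * (i : ℤ)) (2 * ((i : ℤ) + 1)) (by ring)]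
    exact ih
  | pred i ih =>
    rw [← cl_shift_two X (2 * (-(i : ℤ) - 1)) (2 * (-(i : ℤ))) (by ring)]
    exact ih

/-- glue a map from `f 0` and maps from `f (i+1)`. -/
def glue (f : ℕ → C) (Z : C) (a : f 0 ⟶ Z) (b : ∀ i, f (i + 1) ⟶ Z) : ∀ i, f i ⟶ Z
  | 0 => a
  | (i + 1) => b i

theorem swindle (f : ℕ → C) [HasCoproduct f] (m : ℤ)
    (e : ∀ i, f (i + 1) ≅ (shiftFunctor C m).obj (f i))
    (hm : ∀ X : C, KZero.clTri ((shiftFunctor C m).obj X) = KZero.clTri X) :
    KZero.clTri (f 0) = 0 := by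
  have hc : IsColimit ((shiftFunctor C m).mapCocone (colimit.cocone (Discrete.functor f))) :=
    isColimitOfPreserves _ (colimit.isColimit _)
  let s : Cocone (Discrete.functor f ⋙ shiftFunctor C m) :=
    { pt := (∐ f)
      ι := Discrete.natTrans (fun i => (e i.as).inv ≫ Sigma.ι f (i.as + 1)) }
  let ψ' : ((shiftFunctor C m).obj (∐ f)) ⟶ (∐ f) := hc.desc s
  have hψ' : ∀ i, (shiftFunctor C m).map (Sigma.ι f i) ≫ ψ' = (e i).inv ≫ Sigma.ι f (i + 1) :=
    fun i => hc.fac s ⟨i⟩
  let φ : (∐ f) ⟶ f 0 ⊞ ((shiftFunctor C m).obj (∐ f)) := Sigma.desc (glue f (f 0 ⊞ ((shiftFunctor C m).obj (∐ f))) biprod.inl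
    (fun i => (e i).hom ≫ (shiftFunctor C m).map (Sigma.ι f i) ≫ biprod.inr))
  have hφ0 : Sigma.ι f 0 ≫ φ = biprod.inl := by
    simp only [φ, colimit.ι_desc, Cofan.mk_ι_app]; rfl
  have hφs : ∀ i, Sigma.ι f (i + 1) ≫ φ =
      (e i).hom ≫ (shiftFunctor C m).map (Sigma.ι f i) ≫ biprod.inr := by
    intro i
    simp only [φ, colimit.ι_desc, Cofan.mk_ι_app]; rfl
  let ψ : f 0 ⊞ ((shiftFunctor C m).obj (∐ f)) ⟶ (∐ f) := biprod.desc (Sigma.ι f 0) ψ'
  have h1 : φ ≫ ψ = 𝟙 (∐ f) := by
    apply Sigma.hom_ext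
    intro i
    cases i with
    | zero => rw [← Category.assoc, hφ0]; simp [ψ]
    | succ i =>
      rw [← Category.assoc, hφs]
      simp only [Category.assoc, ψ, biprod.inr_desc, Category.comp_id]
      rw [hψ', Iso.hom_inv_id_assoc]
  have h2 : ψ ≫ φ = 𝟙 _ := by
    apply biprod.hom_ext'
    · simp only [ψ, biprod.inl_desc_assoc, Category.comp_id]
      exact hφ0
    · simp only [ψ, biprod.inr_desc_assoc, Category.comp_id]
      apply hc.hom_ext
      rintro ⟨i⟩
      show (shiftFunctor C m).map (Sigma.ι f i) ≫ ψ' ≫ φ = (shiftFunctor C m).map (Sigma.ι f i) ≫ biprod.inr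
      rw [← Category.assoc, hψ', Category.assoc, hφs, Iso.inv_hom_id_assoc]
  have hiso : KZero.clTri (∐ f) = KZero.clTri (f 0 ⊞ ((shiftFunctor C m).obj (∐ f))) := cl_iso ⟨φ, ψ, h1, h2⟩
  have hsum := rel _ (binaryBiproductTriangle_distinguished (f 0) ((shiftFunctor C m).obj (∐ f)))
  simp only [binaryBiproductTriangle_obj₁, binaryBiproductTriangle_obj₂,
    binaryBiproductTriangle_obj₃] at hsum
  rw [← hiso, hm (∐ f)] at hsum
  exact (add_eq_right.mp hsum.symm)

end H3KTri
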