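import Groth.Agent.Lib.helper3.LeftInv

open TensorProduct

namespace H3LI

universe u

variable {A : Type u} [CommRing A]

section retract
variable {X Y : Type*} [AddCommGroup X] [Module A X] [AddCommGroup Y] [Module A Y]

lemma map_comp_smul (S : Submonoid A) (i : X →ₗ[A] Y) (π : Y →ₗ[A] X) {a : A}
    (h : π ∘ₗ i = a • LinearMap.id) (x : LocalizedModule S X) :
    LocalizedModule.map S π (LocalizedModule.map S i x) = a • x := by
  induction x using LocalizedModule.induction_on with
  | h m s =>
    rw [LocalizedModule.map_mk, LocalizedModule.map_mk, ← LinearMap.comp_apply, h]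
    simp [LocalizedModule.smul'_mk]

lemma finite_projective_of_retract (S : Submonoid A) (i : X →ₗ[A] Y) (π : Y →ₗ[A] X) {a : A}
    (haS : a ∈ S) (h : π ∘ₗ i = a • LinearMap.id) [Module.Finite A Y] [Module.Projective A Y] :
    Module.Finite (Localization S) (LocalizedModule S X) ∧
      Module.Projective (Localization S) (LocalizedModule S X) := by
  have hunit : IsUnit (algebraMap A (Localization S) a) := IsLocalization.map_units _ ⟨a, haS⟩
  obtain ⟨c, hc⟩ := hunit.exists_left_inv
  have h1 : (c • LocalizedModule.map S π) ∘ₗ LocalizedModule.map S i = LinearMap.id := by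
    refine LinearMap.ext fun x => ?_
    rw [LinearMap.comp_apply, LinearMap.smul_apply, map_comp_smul S i π h x,
      ← algebraMap_smul (Localization S) a x, smul_smul, hc, one_smul]
    rfl
  exact ⟨Module.Finite.of_surjective (c • LocalizedModule.map S π)
    (fun x => ⟨LocalizedModule.map S i x, LinearMap.congr_fun h1 x⟩),
    Module.Projective.of_split _ _ h1⟩

end retract

section props
variable {P₁ P₂ : Type*} [AddCommGroup P₁] [Module A P₁] [AddCommGroup P₂] [Module A P₂]

lemma props_inj [Module.Finite A P₂] [Module.Projective A P₂] (S : Submonoid A)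
    (φ : P₁ →ₗ[A] P₂) {a : A} (haS : a ∈ S) (ha : a ∈ I φ) :
    Function.Injective (LocalizedModule.map S φ) ∧
      Module.Finite (Localization S) (LocalizedModule S (P₂ ⧸ LinearMap.range φ)) ∧
      Module.Projective (Localization S) (LocalizedModule S (P₂ ⧸ LinearMap.range φ)) := by
  obtain ⟨w, hw⟩ := ha
  refine ⟨?_, ?_⟩
  · intro x y hxy
    have := congrArg (LocalizedModule.map S w) hxy
    rw [map_comp_smul S φ w hw, map_comp_smul S φ w hw] at this
    exact IsLocalizedModule.smul_injective (LocalizedModule.mkLinearMap S P₁) ⟨a, haS⟩ this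
  · have he : LinearMap.range φ ≤ LinearMap.ker (a • LinearMap.id - φ ∘ₗ w) := by
      rintro _ ⟨x, rfl⟩
      have := LinearMap.congr_fun hw x
      simp only [LinearMap.comp_apply, LinearMap.smul_apply, LinearMap.id_apply] at this
      simp [this]
    have h2 : (LinearMap.range φ).mkQ ∘ₗ
        (LinearMap.range φ).liftQ (a • LinearMap.id - φ ∘ₗ w) he = a • LinearMap.id := by
      apply Submodule.linearMap_qext
      ext x
      simp
    exact finite_projective_of_retract S _ _ haS h2

lemma props_surj [Module.Finite A P₁] [Module.Projective A P₁] (S : Submonoid A)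
    (φ : P₁ →ₗ[A] P₂) {a : A} (haS : a ∈ S) (ha : a ∈ J φ) :
    Function.Surjective (LocalizedModule.map S φ) ∧
      Module.Finite (Localization S) (LocalizedModule S (LinearMap.ker φ)) ∧
      Module.Projective (Localization S) (LocalizedModule S (LinearMap.ker φ)) := by
  obtain ⟨σ, hσ⟩ := ha
  have hunit : IsUnit (algebraMap A (Localization S) a) := IsLocalization.map_units _ ⟨a, haS⟩
  obtain ⟨c, hc⟩ := hunit.exists_left_inv
  refine ⟨?_, ?_⟩
  · intro y
    refine ⟨c • LocalizedModule.map S σ y, ?_⟩
    rw [map_smul, map_comp_smul S σ φ hσ, ← algebraMap_smul (Localization S) a y, smul_smul, hc,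
      one_smul]
  · have he : ∀ x, (a • LinearMap.id - σ ∘ₗ φ : P₁ →ₗ[A] P₁) x ∈ LinearMap.ker φ := by
      intro x
      have := LinearMap.congr_fun hσ (φ x)
      simp only [LinearMap.comp_apply, LinearMap.smul_apply, LinearMap.id_apply] at this
      simp [this]
    have h2 : ((a • LinearMap.id - σ ∘ₗ φ : P₁ →ₗ[A] P₁).codRestrict (LinearMap.ker φ) he) ∘ₗ
        (LinearMap.ker φ).subtype = a • LinearMap.id := by
      ext x
      simp
    exact finite_projective_of_retract S _ _ haS h2

lemma mem_J_of_surjective [Module.Finite A P₂] [Module.Projective A P₂] (φ : P₁ →ₗ[A] P₂)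
    (p : Ideal A) [hp : p.IsPrime] (h : Function.Surjective (φ.lTensor p.ResidueField)) :
    ∃ a, a ∉ p ∧ a ∈ J φ := by
  have hex : Function.Exact (φ.lTensor p.ResidueField)
      ((LinearMap.range φ).mkQ.lTensor p.ResidueField) :=
    lTensor_exact _ (LinearMap.exact_map_mkQ_range φ) (Submodule.mkQ_surjective _)
  have hsub : Subsingleton (p.ResidueField ⊗[A] (P₂ ⧸ LinearMap.range φ)) := by
    have h0 : ∀ z : p.ResidueField ⊗[A] (P₂ ⧸ LinearMap.range φ), z = 0 := by
      intro z
      obtain ⟨z', rfl⟩ := LinearMap.lTensor_surjective p.ResidueField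
        (Submodule.mkQ_surjective (LinearMap.range φ)) z
      obtain ⟨z'', rfl⟩ := h z'
      exact hex.apply_apply_eq_zero z''
    exact ⟨fun x y => by rw [h0 x, h0 y]⟩
  have hsupp : (⟨p, hp⟩ : PrimeSpectrum A) ∉ Module.support A (P₂ ⧸ LinearMap.range φ) := by
    rw [Module.mem_support_iff_nontrivial_residueField_tensorProduct,
      not_nontrivial_iff_subsingleton]
    exact hsub
  rw [Module.support_eq_zeroLocus, PrimeSpectrum.mem_zeroLocus, Set.not_subset] at hsupp
  obtain ⟨a, ha, hap⟩ := hsupp
  refine ⟨a, hap, ?_⟩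
  have hmem : ∀ y : P₂, (a • LinearMap.id : P₂ →ₗ[A] P₂) y ∈ LinearMap.range φ := by
    intro y
    have := Module.mem_annihilator.mp ha ((LinearMap.range φ).mkQ y)
    rw [← map_smul, Submodule.mkQ_apply, Submodule.Quotient.mk_eq_zero] at this
    simpa using this
  obtain ⟨σ, hσ⟩ := Module.projective_lifting_property φ.rangeRestrict
    ((a • LinearMap.id : P₂ →ₗ[A] P₂).codRestrict (LinearMap.range φ) hmem)
    (LinearMap.surjective_rangeRestrict φ)
  refine ⟨σ, ?_⟩
  ext y
  have := congrArg Subtype.val (LinearMap.congr_fun hσ y)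
  simpa using this

end props

end H3LI
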