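import Groth.Agent.Lib.helper3.LeftInv

open TensorProduct

namespace H3LI

universe u

variable {A : Type u} [CommRing A]
variable {M N : Type u} [AddCommGroup M] [Module A M] [AddCommGroup N] [Module A N]

lemma descent_free [Module.Finite A M] [Module.Finite A N] [Module.Free A N] (u : M →ₗ[A] N)
    (A' : Type u) [CommRing A'] [Algebra A A'] [Module.FaithfullyFlat A A']
    (w' : A' ⊗[A] N →ₗ[A'] A' ⊗[A] M) (hw' : w' ∘ₗ u.baseChange A' = LinearMap.id) :
    ∃ w : N →ₗ[A] M, w ∘ₗ u = LinearMap.id := by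
  have hinj' : Function.Injective (u.baseChange A') := fun x y hxy => by
    have := congrArg w' hxy
    rwa [← LinearMap.comp_apply, ← LinearMap.comp_apply, hw'] at this
  have hinj : Function.Injective u := by
    rw [← Module.FaithfullyFlat.lTensor_injective_iff_injective A A' u]
    exact hinj'
  haveI : Module.FinitePresentation A N := Module.finitePresentation_of_projective A N
  haveI : Module.FinitePresentation A (N ⧸ LinearMap.range u) :=
    Module.finitePresentation_of_surjective (LinearMap.range u).mkQ (Submodule.mkQ_surjective _)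
      (by rw [Submodule.ker_mkQ, LinearMap.range_eq_map]; exact Module.Finite.fg_top.map u)
  have hsurj' : Function.Surjective ((LinearMap.range u).mkQ.baseChange A') :=
    LinearMap.lTensor_surjective A' (Submodule.mkQ_surjective _)
  have hex' : Function.Exact (u.baseChange A') ((LinearMap.range u).mkQ.baseChange A') :=
    lTensor_exact A' (LinearMap.exact_map_mkQ_range u) (Submodule.mkQ_surjective _)
  obtain ⟨π', hπ'⟩ : ∃ π' : A' ⊗[A] N →ₗ[A'] A' ⊗[A] (N ⧸ LinearMap.range u),
      π' = (LinearMap.range u).mkQ.baseChange A' := ⟨_, rfl⟩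
  rw [← hπ'] at hsurj' hex'
  obtain ⟨e', he'⟩ : ∃ e' : A' ⊗[A] N →ₗ[A'] A' ⊗[A] N,
      e' = LinearMap.id - u.baseChange A' ∘ₗ w' := ⟨_, rfl⟩
  have hle : LinearMap.ker π' ≤ LinearMap.ker e' := by
    intro x hx
    obtain ⟨y, rfl⟩ := (hex' x).mp hx
    have := LinearMap.congr_fun hw' y
    simp only [LinearMap.comp_apply, LinearMap.id_apply] at this
    simp [he', this]
  have hē : π' ∘ₗ ((LinearMap.ker π').liftQ e' hle ∘ₗ
      (π'.quotKerEquivOfSurjective hsurj').symm.toLinearMap) = LinearMap.id := by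
    refine LinearMap.ext fun z => ?_
    obtain ⟨y, rfl⟩ := hsurj' z
    have h1 : (π'.quotKerEquivOfSurjective hsurj').symm (π' y) = Submodule.Quotient.mk y := by
      rw [LinearEquiv.symm_apply_eq]; rfl
    simp only [LinearMap.comp_apply, LinearEquiv.coe_coe, h1, Submodule.liftQ_apply,
      LinearMap.id_apply]
    rw [he']
    simp only [LinearMap.sub_apply, LinearMap.id_apply, LinearMap.comp_apply, map_sub]
    rw [hex'.apply_apply_eq_zero, sub_zero]
  haveI : Module.Projective A' (A' ⊗[A] (N ⧸ LinearMap.range u)) :=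
    Module.Projective.of_split _ π' hē
  haveI : Module.Flat A (N ⧸ LinearMap.range u) :=
    Module.Flat.of_flat_tensorProduct A (N ⧸ LinearMap.range u) A'
  haveI : Module.Projective A (N ⧸ LinearMap.range u) :=
    Module.Flat.projective_of_finitePresentation
  obtain ⟨σ, hσ⟩ := Module.projective_lifting_property (LinearMap.range u).mkQ LinearMap.id
    (Submodule.mkQ_surjective _)
  have he : ∀ y : N, (LinearMap.id - σ ∘ₗ (LinearMap.range u).mkQ : N →ₗ[A] N) y ∈
      LinearMap.range u := by
    intro y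
    rw [← Submodule.Quotient.mk_eq_zero (LinearMap.range u), ← Submodule.mkQ_apply]
    have := LinearMap.congr_fun hσ ((LinearMap.range u).mkQ y)
    simp only [LinearMap.comp_apply, LinearMap.id_apply, Submodule.mkQ_apply] at this
    simp only [LinearMap.sub_apply, LinearMap.id_apply, LinearMap.comp_apply, map_sub,
      Submodule.mkQ_apply, this, sub_self]
  refine ⟨(LinearEquiv.ofInjective u hinj).symm.toLinearMap ∘ₗ
    (LinearMap.id - σ ∘ₗ (LinearMap.range u).mkQ : N →ₗ[A] N).codRestrict (LinearMap.range u) he,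
    ?_⟩
  ext x
  simp only [LinearMap.comp_apply, LinearEquiv.coe_coe, LinearMap.id_apply]
  rw [LinearEquiv.symm_apply_eq]
  ext
  have h0 : (Submodule.Quotient.mk (u x) : N ⧸ LinearMap.range u) = 0 :=
    (Submodule.Quotient.mk_eq_zero _).mpr (LinearMap.mem_range_self u x)
  simp [h0]

lemma descent [Module.Finite A M] [Module.Projective A N] (u : M →ₗ[A] N)
    (A' : Type u) [CommRing A'] [Algebra A A'] [Module.FaithfullyFlat A A']
    (w' : A' ⊗[A] N →ₗ[A'] A' ⊗[A] M) (hw' : w' ∘ₗ u.baseChange A' = LinearMap.id) :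
    ∃ w : N →ₗ[A] M, w ∘ₗ u = LinearMap.id := by
  obtain ⟨ι, _, a, b, hab⟩ := exists_factor u
  have h0 : (w' ∘ₗ b.baseChange A') ∘ₗ (a ∘ₗ u).baseChange A' = LinearMap.id := by
    rw [LinearMap.comp_assoc, ← LinearMap.baseChange_comp, hab, hw']
  obtain ⟨w₀, hw₀⟩ := descent_free (a ∘ₗ u) A' _ h0
  exact ⟨w₀ ∘ₗ a, by rw [LinearMap.comp_assoc, hw₀]⟩

end H3LI
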