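import Mathlib

namespace Groth.Agent.Lib.helper3.LocAtPrime
universe u
theorem atPrime_of_forall_le {R S : Type u} [CommRing R] [CommRing S] [Algebra R S]
    (p : Ideal R) [p.IsPrime] (q : Ideal S) [q.IsPrime] [q.LiesOver p]
    (h : ∀ q' : Ideal S, q'.IsPrime → q'.under R ≤ p → q' ≤ q) :
    IsLocalization.AtPrime (Localization (Algebra.algebraMapSubmonoid S p.primeCompl)) q := by
  refine IsLocalization.of_le (Algebra.algebraMapSubmonoid S p.primeCompl) q.primeCompl ?_ ?_
  · rintro _ ⟨r, hr, rfl⟩
    intro hq
    apply hr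
    rw [q.over_def p]
    exact hq
  · intro s hs
    by_contra hu
    obtain ⟨m, hm, hsm⟩ := exists_max_ideal_of_mem_nonunits hu
    set q' := m.comap (algebraMap S (Localization (Algebra.algebraMapSubmonoid S p.primeCompl))) with hq'
    have hq'p : q'.IsPrime := Ideal.comap_isPrime _ _
    have : q' ≤ q := by
      apply h q' hq'p
      intro r hr
      by_contra hrp
      have : IsUnit (algebraMap S (Localization (Algebra.algebraMapSubmonoid S p.primeCompl)) (algebraMap R S r)) :=
        IsLocalization.map_units _ (⟨algebraMap R S r, ⟨r, hrp, rfl⟩⟩ : Algebra.algebraMapSubmonoid S p.primeCompl)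
      exact hm.ne_top (Ideal.eq_top_of_isUnit_mem _ hr this)
    exact hs (this hsm)

end Groth.Agent.Lib.helper3.LocAtPrime
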