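import Mathlib
import Groth.Agent.Lib.helper1.RigClosed

open AlgebraicGeometry TopologicalSpace

namespace H3LCP

lemma isMaximal_of_lt {R : Type*} [CommRing R] [IsNoetherianRing R] (p : PrimeSpectrum R)
    (hp : IsLocallyClosed ({p} : Set (PrimeSpectrum R))) (q : PrimeSpectrum R)
    (hpq : p.asIdeal < q.asIdeal) : q.asIdeal.IsMaximal := by
  obtain ⟨O, Z, hO, hZ, hOZ⟩ := hp
  have hpOZ : p ∈ O ∩ Z := hOZ ▸ Set.mem_singleton p
  obtain ⟨_, ⟨f, rfl⟩, hpf, hfO⟩ :=
    PrimeSpectrum.isTopologicalBasis_basic_opens.exists_subset_of_mem_open hpOZ.1 hO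
  have hf : ∀ q' : PrimeSpectrum R, p.asIdeal < q'.asIdeal → f ∈ q'.asIdeal := by
    intro q' hlt
    by_contra hfq
    have h1 : q' ∈ O := hfO hfq
    have h2 : q' ∈ Z := by
      have : p ⤳ q' := (PrimeSpectrum.le_iff_specializes p q').mp hlt.le
      exact this.mem_closed hZ hpOZ.2
    have h3 : q' ∈ ({p} : Set _) := hOZ ▸ ⟨h1, h2⟩
    rw [Set.mem_singleton_iff] at h3
    exact hlt.ne (by rw [h3])
  have hker : RingHom.ker (Ideal.Quotient.mk p.asIdeal) = p.asIdeal := Ideal.mk_ker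
  have key := Helper1.RigClosed.nonzero_prime_props (D := R ⧸ p.asIdeal)
    (Ideal.Quotient.mk _ f)
    (by rw [ne_eq, Ideal.Quotient.eq_zero_iff_mem]; exact hpf)
    (by
      intro P hP hP0
      have hlt : p.asIdeal < P.comap (Ideal.Quotient.mk p.asIdeal) := by
        refine lt_of_le_of_ne ?_ ?_
        · intro a ha
          rw [Ideal.mem_comap, Ideal.Quotient.eq_zero_iff_mem.mpr ha]; exact P.zero_mem
        · intro heq
          apply hP0
          rw [eq_bot_iff]; intro d hd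
          obtain ⟨a, rfl⟩ := Ideal.Quotient.mk_surjective d
          have : a ∈ P.comap (Ideal.Quotient.mk p.asIdeal) := hd
          rw [← heq] at this
          exact (Submodule.mem_bot _).mpr (Ideal.Quotient.eq_zero_iff_mem.mpr this)
      exact hf ⟨P.comap _, inferInstance⟩ hlt)
  have hle : RingHom.ker (Ideal.Quotient.mk p.asIdeal) ≤ q.asIdeal := by
    rw [hker]; exact hpq.le
  have hprime : (q.asIdeal.map (Ideal.Quotient.mk p.asIdeal)).IsPrime :=
    Ideal.map_isPrime_of_surjective Ideal.Quotient.mk_surjective hle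
  have hne : q.asIdeal.map (Ideal.Quotient.mk p.asIdeal) ≠ ⊥ := by
    intro h0
    rw [Ideal.map_eq_bot_iff_le_ker, hker] at h0
    exact absurd hpq (not_lt_of_ge h0)
  have hmax := (key _ hprime hne).2
  have hcomap : (q.asIdeal.map (Ideal.Quotient.mk p.asIdeal)).comap
      (Ideal.Quotient.mk p.asIdeal) = q.asIdeal := by
    rw [Ideal.comap_map_of_surjective _ Ideal.Quotient.mk_surjective, ← RingHom.ker_eq_comap_bot,
      sup_eq_left]
    exact hle
  rw [← hcomap]
  exact Ideal.comap_isMaximal_of_surjective _ Ideal.Quotient.mk_surjective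

lemma key {X : Type*} [TopologicalSpace X] (U : Set X) {R : Type*} [CommRing R]
    [IsNoetherianRing R] (h : U ≃ₜ PrimeSpectrum R) (x y z : X) (hxU : x ∈ U) (hyU : y ∈ U)
    (hzU : z ∈ U) (hx : IsLocallyClosed ({x} : Set X)) (hxy : x ⤳ y) (hne : y ≠ x)
    (hyz : y ⤳ z) : z = y := by
  have hx' : IsLocallyClosed ({h ⟨x, hxU⟩} : Set (PrimeSpectrum R)) := by
    have h1 : IsLocallyClosed ({⟨x, hxU⟩} : Set U) := by
      have := hx.preimage (continuous_subtype_val : Continuous (Subtype.val : U → X))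
      convert this using 1
      ext ⟨a, ha⟩; simp [Subtype.ext_iff]
    have h2 := h1.preimage h.symm.continuous
    convert h2 using 1
    ext a
    simp only [Set.mem_singleton_iff, Set.mem_preimage]
    rw [Homeomorph.symm_apply_eq]
  have hxy' : h ⟨x, hxU⟩ ⤳ h ⟨y, hyU⟩ :=
    ((subtype_specializes_iff (⟨x, hxU⟩ : U) ⟨y, hyU⟩).mpr hxy).map h.continuous
  have hyz' : h ⟨y, hyU⟩ ⤳ h ⟨z, hzU⟩ :=
    ((subtype_specializes_iff (⟨y, hyU⟩ : U) ⟨z, hzU⟩).mpr hyz).map h.continuous
  rw [← PrimeSpectrum.le_iff_specializes] at hxy' hyz'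
  have hlt : (h ⟨x, hxU⟩).asIdeal < (h ⟨y, hyU⟩).asIdeal :=
    lt_of_le_of_ne hxy' (fun heq => hne (by
      have := h.injective (PrimeSpectrum.ext heq)
      exact (congrArg Subtype.val this).symm))
  have hmax := isMaximal_of_lt _ hx' _ hlt
  have h3 : (h ⟨y, hyU⟩).asIdeal = (h ⟨z, hzU⟩).asIdeal :=
    hmax.eq_of_le (h ⟨z, hzU⟩).2.ne_top hyz'
  have h4 := h.injective (PrimeSpectrum.ext h3)
  exact (congrArg Subtype.val h4).symm

universe u

lemma closed_of_ne (X : Scheme.{u}) [IsLocallyNoetherian X] (x : X)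
    (hx : IsLocallyClosed ({x} : Set X)) (y : X) (hy : y ∈ closure ({x} : Set X)) (hne : y ≠ x) :
    IsClosed ({y} : Set X) := by
  have hxy : x ⤳ y := specializes_iff_mem_closure.mpr hy
  have hcl : ∀ z, y ⤳ z → z = y := by
    intro z hyz
    obtain ⟨U, hU, hzU, -⟩ := Opens.isBasis_iff_nbhd.mp X.isBasis_affineOpens
      (show z ∈ (⊤ : X.Opens) from trivial)
    haveI : IsNoetherianRing Γ(X, U) := IsLocallyNoetherian.component_noetherian ⟨U, hU⟩
    have hyU : y ∈ U := hyz.mem_open U.isOpen hzU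
    have hxU : x ∈ U := hxy.mem_open U.isOpen hyU
    obtain ⟨h⟩ : Nonempty ((U : Set X) ≃ₜ PrimeSpectrum Γ(X, U)) :=
      ⟨Scheme.homeoOfIso (IsAffineOpen.isoSpec hU)⟩
    exact key (U : Set X) h x y z hxU hyU hzU hx hxy hne hyz
  rw [← closure_eq_iff_isClosed]
  ext z
  rw [← specializes_iff_mem_closure, Set.mem_singleton_iff]
  exact ⟨hcl z, fun h => h ▸ specializes_rfl⟩

end H3LCP
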