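import Mathlib

/-! Spans in localized modules (helper3). -/

namespace H3LocSpan

variable {R : Type*} [CommRing R]

theorem exists_smul_mem_span (p : Submonoid R) {P : Type*} [AddCommGroup P] [Module R P]
    {ι : Type*} (v : ι → P) (y : P)
    (hy : LocalizedModule.mkLinearMap p P y ∈ Submodule.span (Localization p)
      (Set.range fun j => LocalizedModule.mkLinearMap p P (v j))) :
    ∃ s ∈ p, s • y ∈ Submodule.span R (Set.range v) := by
  have hloc := Submodule.localized'_span (Localization p) p (LocalizedModule.mkLinearMap p P)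
    (Set.range v)
  have hmem : LocalizedModule.mkLinearMap p P y ∈
      (Submodule.span R (Set.range v)).localized' (Localization p) p
        (LocalizedModule.mkLinearMap p P) := by
    rw [hloc, ← Set.range_comp]
    exact hy
  obtain ⟨n, hn, t, hnt⟩ := hmem
  rw [IsLocalizedModule.mk'_eq_iff, Submonoid.smul_def, ← map_smul] at hnt
  obtain ⟨c, hc⟩ := IsLocalizedModule.exists_of_eq (S := p) hnt
  refine ⟨(c : R) * (t : R), p.mul_mem c.2 t.2, ?_⟩
  rw [mul_smul]
  rw [Submonoid.smul_def, Submonoid.smul_def] at hc
  rw [← hc]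
  exact Submodule.smul_mem _ _ hn

theorem span_eq_top_of_smul_mem (f : R) {M : Type*} [AddCommGroup M] [Module R M]
    {ι : Type*} (x : ι → M) (h : ∀ m : M, f • m ∈ Submodule.span R (Set.range x)) :
    Submodule.span (Localization.Away f)
      (Set.range fun j => LocalizedModule.mkLinearMap (Submonoid.powers f) M (x j)) = ⊤ := by
  have hloc := Submodule.localized'_span (Localization.Away f) (Submonoid.powers f)
    (LocalizedModule.mkLinearMap (Submonoid.powers f) M) (Set.range x)
  rw [← Set.range_comp] at hloc
  have : (⇑(LocalizedModule.mkLinearMap (Submonoid.powers f) M) ∘ x) =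
      fun j => LocalizedModule.mkLinearMap (Submonoid.powers f) M (x j) := rfl
  rw [this] at hloc
  rw [← hloc, eq_top_iff]
  intro y _
  obtain ⟨⟨m, t⟩, rfl⟩ := IsLocalizedModule.mk'_surjective (Submonoid.powers f)
    (LocalizedModule.mkLinearMap (Submonoid.powers f) M) y
  refine ⟨f • m, h m, (⟨f, Submonoid.mem_powers f⟩ : Submonoid.powers f) * t, ?_⟩
  have := IsLocalizedModule.mk'_cancel_left (LocalizedModule.mkLinearMap (Submonoid.powers f) M) m
    (⟨f, Submonoid.mem_powers f⟩ : Submonoid.powers f) t
  exact this

end H3LocSpan
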