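import Mathlib

/-!
# Local criterion of flatness, without Tor (helper1)

`Tor1Zero R N M` says `Tor₁(N, M) = 0`, phrased as: every short exact sequence ending in `N`
stays left exact after `- ⊗ M`.
-/

universe u v

namespace H3LCV

open scoped TensorProduct
open Function

/-- `Tor₁ᴿ(N, M) = 0`, phrased without Tor. -/
def Tor1Zero (R : Type u) [CommRing R] (N : Type u) (M : Type v) [AddCommGroup N] [Module R N]
    [AddCommGroup M] [Module R M] : Prop :=
  ∀ (A B : Type u) [AddCommGroup A] [AddCommGroup B] [Module R A] [Module R B]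
    (i : A →ₗ[R] B) (p : B →ₗ[R] N), Injective i → Surjective p → Exact i p →
    Injective (i.rTensor M)

variable {R : Type u} [CommRing R]
variable {N : Type u} {M : Type v} [AddCommGroup N] [Module R N] [AddCommGroup M] [Module R M]

theorem Tor1Zero.of_projective [Module.Projective R N] : Tor1Zero R N M := by
  intro A B _ _ _ _ i p hi hp hex
  obtain ⟨s, hs⟩ := Module.projective_lifting_property p LinearMap.id hp
  have hsplit := (hex.split_tfae hi hp).out 0 1
  obtain ⟨l, hl⟩ := hsplit.mp ⟨s, hs⟩
  have h1 : (l.rTensor M) ∘ₗ (i.rTensor M) = LinearMap.id := by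
    rw [← LinearMap.rTensor_comp, hl, LinearMap.rTensor_id]
  intro x y hxy
  have h2 := congrArg (l.rTensor M) hxy
  rw [← LinearMap.comp_apply, ← LinearMap.comp_apply, h1] at h2
  exact h2

theorem Tor1Zero.of_exact {K F : Type u} [AddCommGroup K] [Module R K] [AddCommGroup F]
    [Module R F] (j : K →ₗ[R] F) (π : F →ₗ[R] N) (hπ : Surjective π) (hex : Exact j π)
    (hF : Tor1Zero R F M) (hj : Injective (j.rTensor M)) : Tor1Zero R N M := by
  intro A B _ _ _ _ i p hi hp hip
  let P : Submodule R (B × F) :=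
    LinearMap.ker (p ∘ₗ LinearMap.fst R B F - π ∘ₗ LinearMap.snd R B F)
  have hPmem : ∀ z : B × F, z ∈ P ↔ p z.1 = π z.2 := by
    intro z
    simp only [P, LinearMap.mem_ker, LinearMap.sub_apply, LinearMap.comp_apply,
      LinearMap.fst_apply, LinearMap.snd_apply, sub_eq_zero]
  let aP : A →ₗ[R] P := LinearMap.codRestrict P (LinearMap.inl R B F ∘ₗ i) (by
    intro a
    rw [hPmem]
    simp [hip.apply_apply_eq_zero])
  let kP : K →ₗ[R] P := LinearMap.codRestrict P (LinearMap.inr R B F ∘ₗ j) (by
    intro k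
    rw [hPmem]
    simp [hex.apply_apply_eq_zero])
  let prB : P →ₗ[R] B := LinearMap.fst R B F ∘ₗ P.subtype
  let prF : P →ₗ[R] F := LinearMap.snd R B F ∘ₗ P.subtype
  have haPinj : Injective aP := by
    intro a a' h
    apply hi
    exact congrArg (fun z : P => (z : B × F).1) h
  have hprFsurj : Surjective prF := by
    intro f
    obtain ⟨b, hb⟩ := hp (π f)
    exact ⟨⟨(b, f), (hPmem _).mpr hb⟩, rfl⟩
  have hexF : Exact aP prF := by
    intro z
    constructor
    · intro hz
      have hz2 : (z : B × F).2 = 0 := hz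
      have hz1 : p (z : B × F).1 = 0 := by rw [(hPmem _).mp z.2, hz2, map_zero]
      obtain ⟨a, ha⟩ := (hip _).mp hz1
      exact ⟨a, Subtype.ext (Prod.ext ha hz2.symm)⟩
    · rintro ⟨a, rfl⟩
      rfl
  have haPM : Injective (aP.rTensor M) := hF A P aP prF haPinj hprFsurj hexF
  have hprBsurj : Surjective prB := by
    intro b
    obtain ⟨f, hf⟩ := hπ (p b)
    exact ⟨⟨(b, f), (hPmem _).mpr hf.symm⟩, rfl⟩
  have hexB : Exact kP prB := by
    intro z
    constructor
    · intro hz
      have hz1 : (z : B × F).1 = 0 := hz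
      have hz2 : π (z : B × F).2 = 0 := by rw [← (hPmem _).mp z.2, hz1, map_zero]
      obtain ⟨k, hk⟩ := (hex _).mp hz2
      exact ⟨k, Subtype.ext (Prod.ext hz1.symm hk)⟩
    · rintro ⟨k, rfl⟩
      rfl
  have hexBM : Exact (kP.rTensor M) (prB.rTensor M) := rTensor_exact M hexB hprBsurj
  have c1 : prB ∘ₗ aP = i := LinearMap.ext fun a => rfl
  have c2 : prF ∘ₗ kP = j := LinearMap.ext fun k => rfl
  have c3 : prF ∘ₗ aP = 0 := LinearMap.ext fun a => rfl
  rw [injective_iff_map_eq_zero]
  intro x hx
  have h1 : (prB.rTensor M) ((aP.rTensor M) x) = 0 := by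
    rw [← LinearMap.rTensor_comp_apply, c1]
    exact hx
  obtain ⟨y, hy⟩ := (hexBM _).mp h1
  have h2 : (j.rTensor M) y = 0 := by
    rw [← c2, LinearMap.rTensor_comp_apply, hy, ← LinearMap.rTensor_comp_apply, c3,
      LinearMap.rTensor_zero, LinearMap.zero_apply]
  have hy0 : y = 0 := by
    apply hj
    rw [h2, map_zero]
  rw [hy0, map_zero] at hy
  apply haPM
  rw [← hy, map_zero]

theorem Tor1Zero.of_submodule_quotient (L : Submodule R N) (hL : Tor1Zero R L M)
    (hQ : Tor1Zero R (N ⧸ L) M) : Tor1Zero R N M := by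
  intro A B _ _ _ _ i p hi hp hip
  let B' : Submodule R B := L.comap p
  let i' : A →ₗ[R] B' := LinearMap.codRestrict B' i (by
    intro a
    show p (i a) ∈ L
    rw [hip.apply_apply_eq_zero]
    exact L.zero_mem)
  let p' : B' →ₗ[R] L := p.restrict (fun b hb => hb)
  have hi' : Injective i' := by
    intro a a' h
    apply hi
    exact congrArg (fun z : B' => (z : B)) h
  have hp' : Surjective p' := by
    intro l
    obtain ⟨b, hb⟩ := hp (l : N)
    refine ⟨⟨b, ?_⟩, Subtype.ext hb⟩
    show p b ∈ L
    rw [hb]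
    exact l.2
  have hex' : Exact i' p' := by
    intro b
    constructor
    · intro hb
      have hb' : p (b : B) = 0 := congrArg (fun z : L => (z : N)) hb
      obtain ⟨a, ha⟩ := (hip _).mp hb'
      exact ⟨a, Subtype.ext ha⟩
    · rintro ⟨a, rfl⟩
      apply Subtype.ext
      exact hip.apply_apply_eq_zero a
  have h1 : Injective (i'.rTensor M) := hL A B' i' p' hi' hp' hex'
  have hq : Surjective (L.mkQ ∘ₗ p) := (Submodule.mkQ_surjective L).comp hp
  have hex2 : Exact B'.subtype (L.mkQ ∘ₗ p) := by
    intro b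
    constructor
    · intro hb
      have hbL : p b ∈ L := (Submodule.Quotient.mk_eq_zero L).mp hb
      exact ⟨⟨b, hbL⟩, rfl⟩
    · rintro ⟨b', rfl⟩
      exact (Submodule.Quotient.mk_eq_zero L).mpr b'.2
  have h2 : Injective (B'.subtype.rTensor M) :=
    hQ B' B B'.subtype (L.mkQ ∘ₗ p) Subtype.val_injective hq hex2
  have hc : i = B'.subtype ∘ₗ i' := LinearMap.ext fun a => rfl
  rw [hc, LinearMap.rTensor_comp]
  exact h2.comp h1

theorem rTensor_mapRange_injective {K F : Type u} [AddCommGroup K] [Module R K]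
    [AddCommGroup F] [Module R F] (ι : Type u) (j : K →ₗ[R] F)
    (hj : Injective (j.rTensor M)) :
    Injective ((Finsupp.mapRange.linearMap j : (ι →₀ K) →ₗ[R] (ι →₀ F)).rTensor M) := by
  classical
  have hnat : ∀ z : (ι →₀ K) ⊗[R] M,
      TensorProduct.finsuppLeft R R F M ι (((Finsupp.mapRange.linearMap j).rTensor M) z) =
        Finsupp.mapRange.linearMap (j.rTensor M) (TensorProduct.finsuppLeft R R K M ι z) := by
    intro z
    induction z using TensorProduct.induction_on with
    | zero => simp
    | tmul p m =>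
      apply Finsupp.ext
      intro i'
      rw [LinearMap.rTensor_tmul, TensorProduct.finsuppLeft_apply_tmul_apply,
        Finsupp.mapRange.linearMap_apply, Finsupp.mapRange_apply,
        Finsupp.mapRange.linearMap_apply, Finsupp.mapRange_apply,
        TensorProduct.finsuppLeft_apply_tmul_apply, LinearMap.rTensor_tmul]
    | add x y hx hy => simp only [map_add, hx, hy]
  intro z z' h
  have h1 := congrArg (TensorProduct.finsuppLeft R R F M ι) h
  rw [hnat, hnat] at h1
  simp only [Finsupp.mapRange.linearMap_apply] at h1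
  have h2 := Finsupp.mapRange_injective (j.rTensor M) (map_zero _) hj h1
  exact (TensorProduct.finsuppLeft R R K M ι).injective h2

theorem tor1Zero_finsupp_quotient (I : Ideal R) (hI : Injective (I.subtype.rTensor M))
    (ι : Type u) : Tor1Zero R (ι →₀ (R ⧸ I)) M := by
  classical
  refine Tor1Zero.of_exact (K := ι →₀ I) (F := ι →₀ R)
    (Finsupp.mapRange.linearMap I.subtype) (Finsupp.mapRange.linearMap I.mkQ) ?_ ?_
    Tor1Zero.of_projective (rTensor_mapRange_injective ι I.subtype hI)
  · exact Finsupp.mapRange_surjective _ (map_zero _) (Submodule.mkQ_surjective I)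
  · intro z
    constructor
    · intro hz
      have hzi : ∀ i, z i ∈ I := fun i => by
        have h0 := DFunLike.congr_fun hz i
        rw [Finsupp.mapRange.linearMap_apply, Finsupp.mapRange_apply] at h0
        exact (Submodule.Quotient.mk_eq_zero I).mp h0
      refine ⟨Finsupp.onFinset z.support (fun i => (⟨z i, hzi i⟩ : I)) ?_, ?_⟩
      · intro i hi
        rw [Finsupp.mem_support_iff]
        intro h0
        exact hi (Subtype.ext h0)
      · apply Finsupp.ext
        intro i
        rfl
    · rintro ⟨w, rfl⟩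
      apply Finsupp.ext
      intro i
      rw [Finsupp.mapRange.linearMap_apply, Finsupp.mapRange_apply,
        Finsupp.mapRange.linearMap_apply, Finsupp.mapRange_apply]
      exact (Submodule.Quotient.mk_eq_zero I).mpr (w i).2

theorem tor1Zero_of_torsion (I : Ideal R) (hI : Injective (I.subtype.rTensor M))
    [Module.Flat (R ⧸ I) ((R ⧸ I) ⊗[R] M)]
    (N : Type u) [AddCommGroup N] [Module R N] (hN : ∀ a ∈ I, ∀ x : N, a • x = 0) :
    Tor1Zero R N M := by
  have htors : Module.IsTorsionBySet R N (I : Set R) := fun x a => hN a.1 a.2 x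
  letI : Module (R ⧸ I) N := htors.module
  haveI : IsScalarTower R (R ⧸ I) N := htors.isScalarTower
  let π : (N →₀ (R ⧸ I)) →ₗ[R ⧸ I] N := Finsupp.linearCombination (R ⧸ I) (id : N → N)
  have hπ : Surjective π := Finsupp.linearCombination_id_surjective (R ⧸ I) N
  let K : Submodule (R ⧸ I) (N →₀ (R ⧸ I)) := LinearMap.ker π
  refine Tor1Zero.of_exact (K := K) (F := N →₀ (R ⧸ I)) (K.subtype.restrictScalars R)
    (π.restrictScalars R) hπ ?_ (tor1Zero_finsupp_quotient I hI N) ?_
  · exact LinearMap.exact_subtype_ker_map π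
  · have hfl : Injective (K.subtype.rTensor ((R ⧸ I) ⊗[R] M)) :=
      Module.Flat.rTensor_preserves_injective_linearMap K.subtype Subtype.val_injective
    have hnat : ∀ z : K ⊗[R ⧸ I] ((R ⧸ I) ⊗[R] M),
        (TensorProduct.AlgebraTensorModule.cancelBaseChange R (R ⧸ I) (R ⧸ I)
          (N →₀ (R ⧸ I)) M) ((K.subtype.rTensor ((R ⧸ I) ⊗[R] M)) z) =
        ((K.subtype.restrictScalars R).rTensor M)
          ((TensorProduct.AlgebraTensorModule.cancelBaseChange R (R ⧸ I) (R ⧸ I) K M) z) := by
      intro z
      induction z using TensorProduct.induction_on with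
      | zero => simp
      | tmul k w =>
        induction w using TensorProduct.induction_on with
        | zero => simp
        | tmul r m => rfl
        | add w w' hw hw' =>
          rw [TensorProduct.tmul_add, map_add, map_add, hw, hw', map_add, map_add]
      | add z z' hz hz' => rw [map_add, map_add, hz, hz', map_add, map_add]
    intro x y hxy
    obtain ⟨z, rfl⟩ :=
      (TensorProduct.AlgebraTensorModule.cancelBaseChange R (R ⧸ I) (R ⧸ I) K M).surjective x
    obtain ⟨z', rfl⟩ :=
      (TensorProduct.AlgebraTensorModule.cancelBaseChange R (R ⧸ I) (R ⧸ I) K M).surjective y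
    rw [← hnat, ← hnat] at hxy
    have h0 := hfl ((TensorProduct.AlgebraTensorModule.cancelBaseChange R (R ⧸ I) (R ⧸ I)
        (N →₀ (R ⧸ I)) M).injective hxy)
    rw [h0]

theorem tor1Zero_of_pow_torsion (I : Ideal R) (hI : Injective (I.subtype.rTensor M))
    [Module.Flat (R ⧸ I) ((R ⧸ I) ⊗[R] M)] (n : ℕ) :
    ∀ (N : Type u) [AddCommGroup N] [Module R N],
      (∀ a ∈ I ^ n, ∀ x : N, a • x = 0) → Tor1Zero R N M := by
  induction n with
  | zero =>
    intro N _ _ hN
    haveI : Subsingleton N := ⟨fun x y => by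
      have hx := hN 1 (by simp) x
      have hy := hN 1 (by simp) y
      rw [one_smul] at hx hy
      rw [hx, hy]⟩
    exact Tor1Zero.of_projective
  | succ n ih =>
    intro N _ _ hN
    let L : Submodule R N := I • ⊤
    refine Tor1Zero.of_submodule_quotient L (ih L ?_) (tor1Zero_of_torsion I hI (N ⧸ L) ?_)
    · intro a ha y
      apply Subtype.ext
      show a • (y : N) = 0
      have hy : (y : N) ∈ I • (⊤ : Submodule R N) := y.2
      refine Submodule.smul_induction_on (p := fun z => a • z = 0) hy ?_ ?_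
      · intro c hc z _
        rw [smul_smul]
        exact hN (a * c) (by rw [pow_succ]; exact Ideal.mul_mem_mul ha hc) z
      · intro z z' hz hz'
        rw [smul_add, hz, hz', add_zero]
    · intro a ha x
      obtain ⟨x, rfl⟩ := Submodule.Quotient.mk_surjective L x
      rw [← Submodule.Quotient.mk_smul, Submodule.Quotient.mk_eq_zero]
      exact Submodule.smul_mem_smul ha Submodule.mem_top

/-- Local criterion of flatness for a nilpotent ideal. -/
theorem flat_of_nilpotent_localCriterion (I : Ideal R) (n : ℕ) (hn : I ^ n = ⊥)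
    (hI : Injective (I.subtype.rTensor M)) [Module.Flat (R ⧸ I) ((R ⧸ I) ⊗[R] M)] :
    Module.Flat R M := by
  rw [Module.Flat.iff_rTensor_injective']
  intro 𝔞
  have h := tor1Zero_of_pow_torsion (M := M) I hI n (R ⧸ 𝔞) (by
    intro a ha x
    rw [hn, Submodule.mem_bot] at ha
    rw [ha, zero_smul])
  exact h 𝔞 R 𝔞.subtype 𝔞.mkQ Subtype.val_injective (Submodule.mkQ_surjective 𝔞)
    (LinearMap.exact_subtype_mkQ 𝔞)

end H3LCV
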