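import Mathlib
import Groth.Prelude.Def_Found

open TensorProduct
namespace Groth.Agent.Lib.helper3.ML
universe u

theorem piRightHom_natural {R : Type u} [CommRing R] {M₁ M₂ : Type u} [AddCommGroup M₁] [Module R M₁]
    [AddCommGroup M₂] [Module R M₂]
    (f : M₁ →ₗ[R] M₂) {ι : Type u} (Q : ι → Type u) [∀ i, AddCommGroup (Q i)] [∀ i, Module R (Q i)]
    (x : M₁ ⊗[R] (∀ i, Q i)) (i : ι) :
    TensorProduct.piRightHom R R M₂ Q (f.rTensor _ x) i
      = f.rTensor (Q i) (TensorProduct.piRightHom R R M₁ Q x i) := by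
  induction x using TensorProduct.induction_on with
  | zero => simp
  | tmul m q => simp [TensorProduct.piRightHom_tmul]
  | add a b ha hb => simp only [map_add, Pi.add_apply, ha, hb]

noncomputable def bcEquiv (R S M P : Type u) [CommRing R] [CommRing S] [Algebra R S]
    [AddCommGroup M] [Module R M] [AddCommGroup P] [Module S P] [Module R P] [IsScalarTower R S P] :
    (S ⊗[R] M) ⊗[S] P ≃+ M ⊗[R] P :=
  ((TensorProduct.comm S (S ⊗[R] M) P).toAddEquiv.trans
    (AlgebraTensorModule.cancelBaseChange R S S P M).toAddEquiv).trans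
    (TensorProduct.comm R P M).toAddEquiv

theorem bcEquiv_tmul (R S M P : Type u) [CommRing R] [CommRing S] [Algebra R S]
    [AddCommGroup M] [Module R M] [AddCommGroup P] [Module S P] [Module R P] [IsScalarTower R S P]
    (s : S) (m : M) (p : P) :
    bcEquiv R S M P ((s ⊗ₜ m) ⊗ₜ p) = m ⊗ₜ (s • p) := by
  simp [bcEquiv]

end Groth.Agent.Lib.helper3.ML

namespace Groth.Agent.Lib.helper3.ML
universe u

theorem directSumLeft_apply {R : Type u} [CommRing R] {ι : Type u} [DecidableEq ι] (M : ι → Type u)
    [∀ i, AddCommGroup (M i)] [∀ i, Module R (M i)] (P : Type u) [AddCommGroup P] [Module R P]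
    (x : (DirectSum ι M) ⊗[R] P) (i : ι) :
    TensorProduct.directSumLeft R R M P x i = (DirectSum.component R ι M i).rTensor P x := by
  induction x using TensorProduct.induction_on with
  | zero => simp
  | tmul m p => rw [TensorProduct.directSumLeft_tmul]; rfl
  | add a b ha hb => rw [map_add, map_add, DirectSum.add_apply, ha, hb]

theorem directSum_tensor_eq_zero {R : Type u} [CommRing R] {ι : Type u} [DecidableEq ι] (M : ι → Type u)
    [∀ i, AddCommGroup (M i)] [∀ i, Module R (M i)] (P : Type u) [AddCommGroup P] [Module R P]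
    (x : (DirectSum ι M) ⊗[R] P)
    (h : ∀ i, (DirectSum.component R ι M i).rTensor P x = 0) : x = 0 := by
  apply (TensorProduct.directSumLeft R R M P).injective
  rw [map_zero]
  refine DFinsupp.ext (fun i => ?_)
  rw [directSumLeft_apply, h i]
  rfl

end Groth.Agent.Lib.helper3.ML

namespace Groth.Agent.Lib.helper3.ML
universe u

theorem exists_sum_tmul {R : Type u} [CommRing R] {N : Type u} [AddCommGroup N] [Module R N]
    {n : ℕ} (s : Fin n → N) (hs : Submodule.span R (Set.range s) = ⊤)
    (Q : Type u) [AddCommGroup Q] [Module R Q] (t : N ⊗[R] Q) :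
    ∃ q : Fin n → Q, t = ∑ j, s j ⊗ₜ[R] q j := by
  induction t using TensorProduct.induction_on with
  | zero => exact ⟨0, by simp⟩
  | tmul m p =>
    have hm : m ∈ Submodule.span R (Set.range s) := by rw [hs]; trivial
    obtain ⟨c, rfl⟩ := (Submodule.mem_span_range_iff_exists_fun R).1 hm
    refine ⟨fun j => c j • p, ?_⟩
    rw [TensorProduct.sum_tmul]
    refine Finset.sum_congr rfl (fun j _ => ?_)
    rw [TensorProduct.smul_tmul]
  | add a b ha hb =>
    obtain ⟨q, rfl⟩ := ha
    obtain ⟨q', rfl⟩ := hb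
    refine ⟨q + q', ?_⟩
    rw [← Finset.sum_add_distrib]
    refine Finset.sum_congr rfl (fun j _ => ?_)
    rw [Pi.add_apply, TensorProduct.tmul_add]

theorem piRightHom_surjective_of_finite {R : Type u} [CommRing R] (N : Type u) [AddCommGroup N] [Module R N]
    [Module.Finite R N] {ι : Type u} (Q : ι → Type u) [∀ i, AddCommGroup (Q i)] [∀ i, Module R (Q i)] :
    Function.Surjective (TensorProduct.piRightHom R R N Q) := by
  obtain ⟨n, s, hs⟩ := Module.Finite.exists_fin (R := R) (M := N)
  intro y
  have h := fun k => exists_sum_tmul s hs (Q k) (y k)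
  choose q hq using h
  refine ⟨∑ j, s j ⊗ₜ[R] (fun k => q k j), ?_⟩
  funext k
  rw [map_sum, Finset.sum_apply, hq k]
  refine Finset.sum_congr rfl (fun j _ => ?_)
  rw [TensorProduct.piRightHom_tmul]

end Groth.Agent.Lib.helper3.ML
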