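import Mathlib
import Groth.Prelude.Def_Found
import Groth.Agent.Lib.helper3.ML

open TensorProduct
namespace Groth.Agent.Lib.helper3.ML
universe u

theorem piRightHom_injective_free {R : Type u} [CommRing R] (n : ℕ) {ι : Type u} (Q : ι → Type u)
    [∀ i, AddCommGroup (Q i)] [∀ i, Module R (Q i)] :
    Function.Injective (TensorProduct.piRightHom R R (Fin n → R) Q) := by
  rw [injective_iff_map_eq_zero]
  intro y hy
  obtain ⟨q, rfl⟩ := exists_sum_tmul (⇑(Pi.basisFun R (Fin n))) (Pi.basisFun R (Fin n)).span_eq
    (∀ i, Q i) y
  have hq : ∀ j, q j = 0 := by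
    intro j
    funext i
    have h1 := congrFun hy i
    simp only [map_sum, Finset.sum_apply, TensorProduct.piRightHom_tmul, Pi.zero_apply] at h1
    have h2 := congrArg ((TensorProduct.lid R (Q i)).toLinearMap ∘ₗ
      (LinearMap.proj j : (Fin n → R) →ₗ[R] R).rTensor (Q i)) h1
    simpa [Pi.single_apply] using h2
  simp [hq]

theorem piRightHom_injective_of_fp {R : Type u} [CommRing R] (N : Type u) [AddCommGroup N] [Module R N]
    [Module.FinitePresentation R N] {ι : Type u} (Q : ι → Type u) [∀ i, AddCommGroup (Q i)]
    [∀ i, Module R (Q i)] :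
    Function.Injective (TensorProduct.piRightHom R R N Q) := by
  obtain ⟨n, π, hπ⟩ := Module.Finite.exists_fin' R N
  have hK : (LinearMap.ker π).FG := Module.FinitePresentation.fg_ker π hπ
  haveI : Module.Finite R (LinearMap.ker π) := Module.Finite.iff_fg.2 hK
  rw [injective_iff_map_eq_zero]
  intro x hx
  obtain ⟨y, rfl⟩ := LinearMap.rTensor_surjective (∀ i, Q i) hπ x
  have hex : Function.Exact (LinearMap.ker π).subtype π := LinearMap.exact_subtype_ker_map π
  have h1 : ∀ i, ∃ z : (LinearMap.ker π) ⊗[R] Q i,
      (LinearMap.ker π).subtype.rTensor (Q i) z = TensorProduct.piRightHom R R _ Q y i := by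
    intro i
    have hex' := rTensor_exact (Q i) hex hπ
    apply (hex' _).1
    rw [← piRightHom_natural, hx]; rfl
  choose z hz using h1
  obtain ⟨w, hw⟩ := piRightHom_surjective_of_finite (LinearMap.ker π) Q z
  have h2 : (LinearMap.ker π).subtype.rTensor (∀ i, Q i) w = y := by
    apply piRightHom_injective_free n Q
    funext i
    rw [piRightHom_natural, hw, hz]
  rw [← h2, ← LinearMap.comp_apply, ← LinearMap.rTensor_comp, LinearMap.comp_ker_subtype,
    LinearMap.rTensor_zero, LinearMap.zero_apply]

theorem piRightHom_eq {R S : Type u} [CommRing R] [CommRing S] [Algebra R S] (N : Type u)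
    [AddCommGroup N] [Module R N] [Module S N] [IsScalarTower R S N]
    {ι : Type u} (Q : ι → Type u) [∀ i, AddCommGroup (Q i)] [∀ i, Module R (Q i)]
    (x : N ⊗[R] (∀ i, Q i)) :
    TensorProduct.piRightHom R S N Q x = TensorProduct.piRightHom R R N Q x := by
  induction x using TensorProduct.induction_on with
  | zero => simp
  | tmul m q => rfl
  | add a b ha hb => rw [map_add, map_add, ha, hb]

theorem piRightHom_bijective_of_fp' (R S : Type u) [CommRing R] [CommRing S] [Algebra R S]
    [Module.FinitePresentation R S]
    {ι : Type u} (Q : ι → Type u) [∀ i, AddCommGroup (Q i)] [∀ i, Module R (Q i)] :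
    Function.Bijective (TensorProduct.piRightHom R S S Q) := by
  constructor
  · intro a b hab
    apply piRightHom_injective_of_fp S Q
    rw [← piRightHom_eq (S := S), ← piRightHom_eq (S := S)]; exact hab
  · intro y
    obtain ⟨x, hx⟩ := piRightHom_surjective_of_finite S Q y
    exact ⟨x, by rw [piRightHom_eq]; exact hx⟩

theorem lTensor_injective_of_bijective {S : Type u} [CommRing S] (M : Type u) [AddCommGroup M]
    [Module S M] {A B : Type u} [AddCommGroup A] [Module S A] [AddCommGroup B] [Module S B]
    (f : A →ₗ[S] B) (hf : Function.Bijective f) : Function.Injective (LinearMap.lTensor M f) := by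
  let e := LinearEquiv.ofBijective f hf
  have : Function.LeftInverse (LinearMap.lTensor M e.symm.toLinearMap) (LinearMap.lTensor M f) := by
    intro x
    rw [← LinearMap.comp_apply, ← LinearMap.lTensor_comp]
    have h : e.symm.toLinearMap ∘ₗ f = LinearMap.id := by
      ext a; simp [e]
    rw [h, LinearMap.lTensor_id]; rfl
  exact this.injective

theorem isMittagLeffler_restrictScalars_gen (R S : Type u) [CommRing R] [CommRing S] [Algebra R S]
    (M : Type u) [AddCommGroup M] [Module S M] [Module R M] [IsScalarTower R S M]
    (hinj : ∀ (ι : Type u) (Q : ι → Type u) [∀ i, AddCommGroup (Q i)] [∀ i, Module R (Q i)],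
      Function.Injective (LinearMap.lTensor M (TensorProduct.piRightHom R S S Q)))
    (hM : CAlg.IsMittagLeffler S M) : CAlg.IsMittagLeffler R M := by
  intro ι Q _ _
  rw [injective_iff_map_eq_zero]
  intro x hx
  have key : ∀ (x : M ⊗[R] (∀ i, Q i)) (i : ι),
      TensorProduct.piRightHom S S M (fun i => S ⊗[R] Q i)
        (LinearMap.lTensor M (TensorProduct.piRightHom R S S Q)
          ((TensorProduct.AlgebraTensorModule.cancelBaseChange R S S M (∀ i, Q i)).symm x)) i
      = (TensorProduct.AlgebraTensorModule.cancelBaseChange R S S M (Q i)).symm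
          (TensorProduct.piRightHom R R M Q x i) := by
    intro x i
    induction x using TensorProduct.induction_on with
    | zero => simp
    | tmul m q => simp [TensorProduct.piRightHom_tmul]
    | add a b ha hb => simp only [map_add, Pi.add_apply, ha, hb]
  have h1 : TensorProduct.piRightHom S S M (fun i => S ⊗[R] Q i)
        (LinearMap.lTensor M (TensorProduct.piRightHom R S S Q)
          ((TensorProduct.AlgebraTensorModule.cancelBaseChange R S S M (∀ i, Q i)).symm x)) = 0 := by
    funext i
    rw [key, hx]
    simp
  have h2 := (injective_iff_map_eq_zero _).1 (hM ι (fun i => S ⊗[R] Q i)) _ h1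
  have h3 := (injective_iff_map_eq_zero _).1 (hinj ι Q) _ h2
  simpa using h3

noncomputable def canHom (R S : Type u) [CommRing R] [CommRing S] [Algebra R S]
    (M X : Type u) [AddCommGroup M] [Module S M] [Module R M] [IsScalarTower R S M]
    [AddCommGroup X] [Module S X] [Module R X] [IsScalarTower R S X] : M ⊗[R] X →+ M ⊗[S] X :=
  TensorProduct.liftAddHom (LinearMap.toAddMonoidHom'.comp (TensorProduct.mk S M X).toAddMonoidHom)
    (fun r m x => by
      show (r • m) ⊗ₜ[S] x = m ⊗ₜ[S] (r • x)
      rw [← algebraMap_smul S r m, ← algebraMap_smul S r x, TensorProduct.smul_tmul])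

noncomputable def canInv (R S : Type u) [CommRing R] [CommRing S] [Algebra R S]
    (hS : Function.Surjective (algebraMap R S))
    (M X : Type u) [AddCommGroup M] [Module S M] [Module R M] [IsScalarTower R S M]
    [AddCommGroup X] [Module S X] [Module R X] [IsScalarTower R S X] : M ⊗[S] X →+ M ⊗[R] X :=
  TensorProduct.liftAddHom (LinearMap.toAddMonoidHom'.comp (TensorProduct.mk R M X).toAddMonoidHom)
    (fun s m x => by
      obtain ⟨r, rfl⟩ := hS s
      show (algebraMap R S r • m) ⊗ₜ[R] x = m ⊗ₜ[R] (algebraMap R S r • x)
      rw [algebraMap_smul, algebraMap_smul, TensorProduct.smul_tmul])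

theorem canHom_injective (R S : Type u) [CommRing R] [CommRing S] [Algebra R S]
    (hS : Function.Surjective (algebraMap R S))
    (M X : Type u) [AddCommGroup M] [Module S M] [Module R M] [IsScalarTower R S M]
    [AddCommGroup X] [Module S X] [Module R X] [IsScalarTower R S X] :
    Function.Injective (canHom R S M X) := by
  have : Function.LeftInverse (canInv R S hS M X) (canHom R S M X) := by
    intro t
    induction t using TensorProduct.induction_on with
    | zero => simp
    | tmul m x => rfl
    | add a b ha hb => rw [map_add, map_add, ha, hb]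
  exact this.injective

theorem canHom_surjective (R S : Type u) [CommRing R] [CommRing S] [Algebra R S]
    (M X : Type u) [AddCommGroup M] [Module S M] [Module R M] [IsScalarTower R S M]
    [AddCommGroup X] [Module S X] [Module R X] [IsScalarTower R S X] :
    Function.Surjective (canHom R S M X) := by
  intro t
  induction t using TensorProduct.induction_on with
  | zero => exact ⟨0, map_zero _⟩
  | tmul m x => exact ⟨m ⊗ₜ x, rfl⟩
  | add a b ha hb =>
    obtain ⟨a', rfl⟩ := ha
    obtain ⟨b', rfl⟩ := hb
    exact ⟨a' + b', map_add _ _ _⟩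

theorem isMittagLeffler_of_surjective (R S : Type u) [CommRing R] [CommRing S] [Algebra R S]
    (hS : Function.Surjective (algebraMap R S))
    (M : Type u) [AddCommGroup M] [Module S M] [Module R M] [IsScalarTower R S M]
    (hM : CAlg.IsMittagLeffler R M) : CAlg.IsMittagLeffler S M := by
  intro ι Q _ _
  let _ : ∀ i, Module R (Q i) := fun i => Module.compHom (Q i) (algebraMap R S)
  have : ∀ i, IsScalarTower R S (Q i) := fun i =>
    IsScalarTower.of_algebraMap_smul (fun r x => rfl)
  rw [injective_iff_map_eq_zero]
  intro x hx
  obtain ⟨y, rfl⟩ := canHom_surjective R S M (∀ i, Q i) x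
  have key : ∀ (y : M ⊗[R] (∀ i, Q i)) (i : ι),
      TensorProduct.piRightHom S S M Q (canHom R S M (∀ i, Q i) y) i
        = canHom R S M (Q i) (TensorProduct.piRightHom R R M Q y i) := by
    intro y i
    induction y using TensorProduct.induction_on with
    | zero => simp
    | tmul m q => rfl
    | add a b ha hb => simp only [map_add, Pi.add_apply, ha, hb]
  have h1 : TensorProduct.piRightHom R R M Q y = 0 := by
    funext i
    apply canHom_injective R S hS M (Q i)
    rw [← key, hx]; simp
  rw [(injective_iff_map_eq_zero _).1 (hM ι Q) y h1, map_zero]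

end Groth.Agent.Lib.helper3.ML
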