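import Mathlib
import Groth.Prelude.Def_Found
import Groth.Agent.Lib.helper3.ML2

open TensorProduct
namespace Groth.Agent.Lib.helper3.ML
universe u

theorem piRightHom_const_injective_of_noetherian (R : Type u) [CommRing R] [IsNoetherianRing R]
    (A : Type u) (Q : Type u) [AddCommGroup Q] [Module R Q] :
    Function.Injective (TensorProduct.piRightHom R R Q (fun _ : A => R)) := by
  rw [injective_iff_map_eq_zero]
  intro x hx
  obtain ⟨J, hJ, y, rfl⟩ := Submodule.exists_fg_le_eq_rTensor_subtype x
  haveI : Module.Finite R J := Module.Finite.iff_fg.2 hJ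
  haveI : Module.FinitePresentation R J := Module.finitePresentation_of_finite R J
  have hy : TensorProduct.piRightHom R R J (fun _ : A => R) y = 0 := by
    funext a
    have h1 := congrFun hx a
    rw [piRightHom_natural] at h1
    exact (injective_iff_map_eq_zero _).1 (Module.Flat.rTensor_preserves_injective_linearMap
      (M := R) J.subtype J.injective_subtype) _ h1
  rw [(injective_iff_map_eq_zero _).1 (piRightHom_injective_of_fp J (fun _ : A => R)) y hy, map_zero]

theorem flat_pi_of_noetherian (R : Type u) [CommRing R] [IsNoetherianRing R] (A : Type u) :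
    Module.Flat R (A → R) := by
  rw [Module.Flat.iff_rTensor_injective']
  intro I
  rw [injective_iff_map_eq_zero]
  intro x hx
  apply (injective_iff_map_eq_zero _).1 (piRightHom_const_injective_of_noetherian R A I) x
  funext a
  have h1 : TensorProduct.piRightHom R R R (fun _ : A => R) (I.subtype.rTensor (A → R) x) a = 0 := by
    rw [hx]; simp
  rw [piRightHom_natural] at h1
  exact (injective_iff_map_eq_zero _).1 (Module.Flat.rTensor_preserves_injective_linearMap
    (M := R) I.subtype I.injective_subtype) _ h1

theorem isMittagLeffler_pi_of_noetherian (R : Type u) [CommRing R] [IsNoetherianRing R] (A : Type u) :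
    CAlg.IsMittagLeffler R (A → R) := by
  intro ι Q _ _
  rw [injective_iff_map_eq_zero]
  intro x hx
  have key : ∀ (x : (A → R) ⊗[R] (∀ i, Q i)) (a : A) (i : ι),
      (TensorProduct.rid R (∀ i, Q i) (TensorProduct.piRightHom R R (∀ i, Q i) (fun _ : A => R)
        (TensorProduct.comm R (A → R) (∀ i, Q i) x) a)) i
      = TensorProduct.rid R (Q i) (TensorProduct.piRightHom R R (Q i) (fun _ : A => R)
        (TensorProduct.comm R (A → R) (Q i) (TensorProduct.piRightHom R R (A → R) Q x i)) a) := by
    intro x a i
    induction x using TensorProduct.induction_on with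
    | zero => simp
    | tmul f q => simp [TensorProduct.piRightHom_tmul]
    | add b c hb hc => simp only [map_add, Pi.add_apply, hb, hc]
  have h1 : TensorProduct.piRightHom R R (∀ i, Q i) (fun _ : A => R)
      (TensorProduct.comm R (A → R) (∀ i, Q i) x) = 0 := by
    funext a
    apply (TensorProduct.rid R (∀ i, Q i)).injective
    funext i
    rw [key, hx]
    simp
  have h2 := (injective_iff_map_eq_zero _).1
    (piRightHom_const_injective_of_noetherian R A (∀ i, Q i)) _ h1
  simpa using h2

end Groth.Agent.Lib.helper3.ML
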