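import Mathlib
import Groth.Prelude.Def_Found
import Groth.Agent.Lib.helper3.ML3

open TensorProduct
namespace Groth.Agent.Lib.helper3.ML
universe u

theorem exists_fg_le_ker_of_rTensor_eq_zero {R : Type u} [CommRing R] {F M Q : Type u}
    [AddCommGroup F] [Module R F] [AddCommGroup M] [Module R M] [AddCommGroup Q] [Module R Q]
    (ε : F →ₗ[R] M) (hε : Function.Surjective ε) (x : F ⊗[R] Q) (hx : ε.rTensor Q x = 0) :
    ∃ K₀ : Submodule R F, K₀.FG ∧ K₀ ≤ LinearMap.ker ε ∧ K₀.mkQ.rTensor Q x = 0 := by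
  have hex := rTensor_exact Q (LinearMap.exact_subtype_ker_map ε) hε
  obtain ⟨y, rfl⟩ := (hex x).1 hx
  obtain ⟨J, hJ, y', rfl⟩ := Submodule.exists_fg_le_eq_rTensor_subtype y
  refine ⟨J.map (LinearMap.ker ε).subtype, hJ.map _, ?_, ?_⟩
  · rintro _ ⟨k, _, rfl⟩; exact k.2
  · have h0 : (J.map (LinearMap.ker ε).subtype).mkQ ∘ₗ
        ((LinearMap.ker ε).subtype ∘ₗ J.subtype) = 0 := by
      ext k
      rw [LinearMap.comp_apply, LinearMap.comp_apply, Submodule.mkQ_apply, LinearMap.zero_apply,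
        Submodule.Quotient.mk_eq_zero]
      exact Submodule.mem_map.2 ⟨k.1, k.2, rfl⟩
    have := congrArg (fun g => LinearMap.rTensor Q g y') h0
    simpa [LinearMap.rTensor_comp] using this

theorem exists_factor_of_rTensor_eq_zero {R : Type u} [CommRing R] {P M Q : Type u}
    [AddCommGroup P] [Module R P] [Module.Finite R P] [AddCommGroup M] [Module R M]
    [AddCommGroup Q] [Module R Q] (f : P →ₗ[R] M) (x : P ⊗[R] Q) (hx : f.rTensor Q x = 0) :
    ∃ (m : ℕ) (π : (Fin m → R) →ₗ[R] M) (K₀ : Submodule R (P × (Fin m → R))),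
      K₀.FG ∧ K₀ ≤ LinearMap.ker (f.coprod π) ∧
      (K₀.mkQ ∘ₗ LinearMap.inl R P (Fin m → R)).rTensor Q x = 0 := by
  have hfr : (LinearMap.range f).subtype ∘ₗ f.rangeRestrict = f := LinearMap.ext fun _ => rfl
  have hM₀fg : (LinearMap.range f).FG := by
    rw [LinearMap.range_eq_map]; exact Submodule.FG.map f Module.Finite.fg_top
  have h1 : (LinearMap.range f).subtype.rTensor Q (f.rangeRestrict.rTensor Q x)
      = (LinearMap.range f).subtype.rTensor Q 0 := by
    rw [← LinearMap.rTensor_comp_apply, map_zero, hfr]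
    exact hx
  obtain ⟨M₁, hM₁, hle, h2⟩ := hM₀fg.exists_rTensor_fg_inclusion_eq h1
  rw [map_zero] at h2
  haveI : Module.Finite R M₁ := Module.Finite.iff_fg.2 hM₁
  obtain ⟨m, π, hπ⟩ := Module.Finite.exists_fin' R M₁
  obtain ⟨g, hg⟩ : ∃ g : P →ₗ[R] M₁, g = (Submodule.inclusion hle) ∘ₗ f.rangeRestrict := ⟨_, rfl⟩
  have hε : Function.Surjective (g.coprod π) := fun y => by
    obtain ⟨v, rfl⟩ := hπ y
    exact ⟨(0, v), by simp⟩
  have h3 : (g.coprod π).rTensor Q ((LinearMap.inl R P (Fin m → R)).rTensor Q x) = 0 := by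
    rw [← LinearMap.rTensor_comp_apply, LinearMap.coprod_inl, hg, LinearMap.rTensor_comp_apply]
    exact h2
  obtain ⟨K₀, hK₀, hK₀le, h4⟩ := exists_fg_le_ker_of_rTensor_eq_zero (g.coprod π) hε _ h3
  refine ⟨m, M₁.subtype ∘ₗ π, K₀, hK₀, ?_, ?_⟩
  · intro k hk
    have h5 := hK₀le hk
    rw [LinearMap.mem_ker] at h5 ⊢
    have h6 : f.coprod (M₁.subtype ∘ₗ π) = M₁.subtype ∘ₗ (g.coprod π) := by
      apply LinearMap.ext
      intro z
      simp [hg]
    rw [h6, LinearMap.comp_apply, h5, map_zero]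
  · rw [LinearMap.rTensor_comp_apply]; exact h4

theorem finitePresentation_quotient_of_fg {R : Type u} [CommRing R] {E : Type u} [AddCommGroup E]
    [Module R E] [Module.FinitePresentation R E] (K : Submodule R E) (hK : K.FG) :
    Module.FinitePresentation R (E ⧸ K) :=
  Module.finitePresentation_of_surjective K.mkQ (Submodule.mkQ_surjective K)
    (by rw [Submodule.ker_mkQ]; exact hK)

end Groth.Agent.Lib.helper3.ML
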