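import Mathlib
import Groth.Prelude.Def_Found
import Groth.Agent.Lib.helper3.ML4

open TensorProduct
namespace Groth.Agent.Lib.helper3.ML
universe u

theorem isMittagLeffler_of_dominate_free (R : Type u) [CommRing R] (M : Type u) [AddCommGroup M]
    [Module R M]
    (h : ∀ (n : ℕ) (f : (Fin n → R) →ₗ[R] M),
        ∃ (Q : Type u) (_ : AddCommGroup Q) (_ : Module R Q) (_ : Module.FinitePresentation R Q)
          (g : (Fin n → R) →ₗ[R] Q),
          ∀ (N : Type u) [AddCommGroup N] [Module R N],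
            LinearMap.ker (f.rTensor N) = LinearMap.ker (g.rTensor N)) :
    CAlg.IsMittagLeffler R M := by
  classical
  intro ι Qf _ _
  rw [injective_iff_map_eq_zero]
  intro x hx
  obtain ⟨n, m, q, rfl⟩ := TensorProduct.exists_sum_tmul_eq x
  obtain ⟨Q, _, _, _, g, hg⟩ := h n (Fintype.linearCombination R m)
  obtain ⟨xP, hxPdef⟩ : ∃ xP : (Fin n → R) ⊗[R] (∀ i, Qf i),
      xP = ∑ j, (Pi.single j (1:R)) ⊗ₜ[R] q j := ⟨_, rfl⟩
  have hxP : (Fintype.linearCombination R m).rTensor (∀ i, Qf i) xP = ∑ j, m j ⊗ₜ[R] q j := by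
    rw [hxPdef, map_sum]
    refine Finset.sum_congr rfl (fun j _ => ?_)
    rw [LinearMap.rTensor_tmul, Fintype.linearCombination_apply_single, one_smul]
  have h1 : ∀ i, TensorProduct.piRightHom R R (Fin n → R) Qf xP i
      ∈ LinearMap.ker (g.rTensor (Qf i)) := by
    intro i
    rw [← hg (Qf i), LinearMap.mem_ker, ← piRightHom_natural, hxP, hx]; rfl
  have h2 : TensorProduct.piRightHom R R Q Qf (g.rTensor (∀ i, Qf i) xP) = 0 := by
    funext i
    rw [piRightHom_natural]; exact h1 i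
  have h3 : g.rTensor (∀ i, Qf i) xP = 0 :=
    (injective_iff_map_eq_zero _).1 (piRightHom_injective_of_fp Q Qf) _ h2
  have h4 : xP ∈ LinearMap.ker ((Fintype.linearCombination R m).rTensor (∀ i, Qf i)) := by
    rw [hg]; exact h3
  rw [← hxP]; exact h4

theorem exists_dominate_of_isMittagLeffler (R : Type u) [CommRing R] (M : Type u) [AddCommGroup M]
    [Module R M] (hM : CAlg.IsMittagLeffler R M) (P : Type u) [AddCommGroup P] [Module R P]
    [Module.FinitePresentation R P] (f : P →ₗ[R] M) :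
    ∃ (Q : Type u) (_ : AddCommGroup Q) (_ : Module R Q) (_ : Module.FinitePresentation R Q)
      (g : P →ₗ[R] Q), ∀ (N : Type u) [AddCommGroup N] [Module R N],
        LinearMap.ker (f.rTensor N) = LinearMap.ker (g.rTensor N) := by
  classical
  by_contra hcon
  let I := Σ (m : ℕ) (π : (Fin m → R) →ₗ[R] M),
    {K : Submodule R (P × (Fin m → R)) // K.FG ∧ K ≤ LinearMap.ker (f.coprod π)}
  have hex : ∀ α : I, ∃ (N : Type u) (_ : AddCommGroup N) (_ : Module R N) (x : P ⊗[R] N),
      f.rTensor N x = 0 ∧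
      (α.2.2.1.mkQ ∘ₗ LinearMap.inl R P (Fin α.1 → R)).rTensor N x ≠ 0 := by
    intro α
    by_contra hα
    apply hcon
    haveI := finitePresentation_quotient_of_fg α.2.2.1 α.2.2.2.1
    refine ⟨(P × (Fin α.1 → R)) ⧸ α.2.2.1, inferInstance, inferInstance, inferInstance,
      α.2.2.1.mkQ ∘ₗ LinearMap.inl R P (Fin α.1 → R), ?_⟩
    intro N _ _
    apply le_antisymm
    · intro x hx
      rw [LinearMap.mem_ker] at hx ⊢
      by_contra hne
      exact hα ⟨N, inferInstance, inferInstance, x, hx, hne⟩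
    · intro x hx
      rw [LinearMap.mem_ker] at hx ⊢
      have hfac : f = α.2.2.1.liftQ (f.coprod α.2.1) α.2.2.2.2 ∘ₗ
          (α.2.2.1.mkQ ∘ₗ LinearMap.inl R P (Fin α.1 → R)) := by
        ext p; simp
      rw [hfac, LinearMap.rTensor_comp_apply, hx, map_zero]
  choose N instA instM xα hxα1 hxα2 using hex
  letI : ∀ α, AddCommGroup (N α) := instA
  letI : ∀ α, Module R (N α) := instM
  obtain ⟨X, hX⟩ := piRightHom_surjective_of_finite P N xα
  have h1 : TensorProduct.piRightHom R R M N (f.rTensor (∀ α, N α) X) = 0 := by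
    funext α
    rw [piRightHom_natural, hX, hxα1]; rfl
  have h2 : f.rTensor (∀ α, N α) X = 0 := (injective_iff_map_eq_zero _).1 (hM I N) _ h1
  obtain ⟨m, π, K₀, hK₀, hle, h3⟩ := exists_factor_of_rTensor_eq_zero f X h2
  apply hxα2 (⟨m, π, ⟨K₀, hK₀, hle⟩⟩ : I)
  have h4 := congrFun (congrArg (TensorProduct.piRightHom R R _ N) h3) (⟨m, π, ⟨K₀, hK₀, hle⟩⟩ : I)
  rw [piRightHom_natural, hX, map_zero] at h4
  exact h4

end Groth.Agent.Lib.helper3.ML
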