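import Mathlib
import Groth.Prelude.Def_Found
import Groth.Prelude.Def_CAlgX
import Groth.Agent.Lib.helper3.ML5

open TensorProduct
namespace Groth.Agent.Lib.helper3.ML
universe u

theorem comm_lTensor {R : Type u} [CommRing R] {A B N : Type u} [AddCommGroup A] [Module R A]
    [AddCommGroup B] [Module R B] [AddCommGroup N] [Module R N] (h : A →ₗ[R] B) (z : N ⊗[R] A) :
    TensorProduct.comm R N B (h.lTensor N z) = h.rTensor N (TensorProduct.comm R N A z) := by
  induction z using TensorProduct.induction_on with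
  | zero => simp
  | tmul n a => simp
  | add a b ha hb => simp only [map_add, ha, hb]

theorem rTensor_lTensor_comm {R : Type u} [CommRing R] {A B C D : Type u} [AddCommGroup A]
    [Module R A] [AddCommGroup B] [Module R B] [AddCommGroup C] [Module R C] [AddCommGroup D]
    [Module R D] (a : A →ₗ[R] B) (c : C →ₗ[R] D) (z : A ⊗[R] C) :
    a.rTensor D (c.lTensor A z) = c.lTensor B (a.rTensor C z) := by
  induction z using TensorProduct.induction_on with
  | zero => simp
  | tmul n a => simp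
  | add a b ha hb => simp only [map_add, ha, hb]

theorem dominates_of_forall_fp {R : Type u} [CommRing R] {M N M' : Type u}
    [AddCommGroup M] [Module R M] [AddCommGroup N] [Module R N] [AddCommGroup M'] [Module R M']
    (f : M →ₗ[R] N) (g : M →ₗ[R] M')
    (h : ∀ (Q : Type u) [AddCommGroup Q] [Module R Q], Module.FinitePresentation R Q →
        LinearMap.ker (f.rTensor Q) ≤ LinearMap.ker (g.rTensor Q))
    (Q : Type u) [AddCommGroup Q] [Module R Q] :
    LinearMap.ker (f.rTensor Q) ≤ LinearMap.ker (g.rTensor Q) := by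
  intro x hx
  rw [LinearMap.mem_ker] at hx ⊢
  obtain ⟨Q₀, hQ₀, hsub⟩ := TensorProduct.exists_finite_submodule_right_of_setFinite {x}
    (Set.finite_singleton x)
  obtain ⟨x₀, rfl⟩ := hsub (Set.mem_singleton x)
  have h1 : Q₀.subtype.lTensor N (f.rTensor Q₀ x₀) = 0 := by
    rw [← rTensor_lTensor_comm]; exact hx
  have h1' : Q₀.subtype.rTensor N (TensorProduct.comm R N Q₀ (f.rTensor Q₀ x₀))
      = Q₀.subtype.rTensor N 0 := by
    rw [← comm_lTensor, h1]; simp
  obtain ⟨Q₁, hQ₁, hle, h2⟩ := (Module.Finite.iff_fg.1 hQ₀).exists_rTensor_fg_inclusion_eq h1'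
  rw [map_zero, ← comm_lTensor, LinearEquiv.map_eq_zero_iff] at h2
  haveI : Module.Finite R Q₁ := Module.Finite.iff_fg.2 hQ₁
  obtain ⟨n, π, hπ⟩ := Module.Finite.exists_fin' R Q₁
  obtain ⟨z, hz⟩ := LinearMap.lTensor_surjective M hπ ((Submodule.inclusion hle).lTensor M x₀)
  have h3 : π.rTensor N (TensorProduct.comm R N (Fin n → R) (f.rTensor (Fin n → R) z)) = 0 := by
    rw [← comm_lTensor, ← rTensor_lTensor_comm, hz, rTensor_lTensor_comm, h2, map_zero]
  obtain ⟨K₀, hK₀, hK₀le, h4⟩ := exists_fg_le_ker_of_rTensor_eq_zero π hπ _ h3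
  rw [← comm_lTensor, LinearEquiv.map_eq_zero_iff] at h4
  haveI := finitePresentation_quotient_of_fg K₀ hK₀
  have h5 : f.rTensor ((Fin n → R) ⧸ K₀) (K₀.mkQ.lTensor M z) = 0 := by
    rw [rTensor_lTensor_comm]; exact h4
  have h6 : g.rTensor ((Fin n → R) ⧸ K₀) (K₀.mkQ.lTensor M z) = 0 := h _ inferInstance h5
  have h7 : Q₀.subtype.lTensor M x₀
      = (Q₁.subtype ∘ₗ K₀.liftQ π hK₀le).lTensor M (K₀.mkQ.lTensor M z) := by
    rw [← LinearMap.lTensor_comp_apply]
    have : (Q₁.subtype ∘ₗ K₀.liftQ π hK₀le) ∘ₗ K₀.mkQ = Q₁.subtype ∘ₗ π := by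
      ext v; simp
    rw [this, LinearMap.lTensor_comp_apply, hz, ← LinearMap.lTensor_comp_apply,
      Submodule.subtype_comp_inclusion]
  rw [h7, rTensor_lTensor_comm, h6, map_zero]

theorem mkQ_rTensor_eq_zero_of_mem_range {R : Type u} [CommRing R] {M F : Type u}
    [AddCommGroup M] [Module R M] [AddCommGroup F] [Module R F] (F'' : Submodule R F)
    (x : F ⊗[R] M) (hx : x ∈ LinearMap.range (F''.subtype.rTensor M)) :
    F''.mkQ.rTensor M x = 0 := by
  obtain ⟨y, rfl⟩ := hx
  rw [← LinearMap.rTensor_comp_apply]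
  have h3 : F''.mkQ ∘ₗ F''.subtype = 0 := by ext v; simp
  rw [h3]; simp

theorem exists_smallest_of_flat_ml (R : Type u) [CommRing R] (M : Type u)
    [AddCommGroup M] [Module R M] [Module.Flat R M] (hM : CAlg.IsMittagLeffler R M)
    (F : Type u) [AddCommGroup F] [Module R F] (x : F ⊗[R] M) :
    ∃ F' : Submodule R F, F'.FG ∧ x ∈ LinearMap.range (F'.subtype.rTensor M) ∧
      ∀ F'' : Submodule R F, x ∈ LinearMap.range (F''.subtype.rTensor M) → F' ≤ F'' := by
  classical
  let 𝒮 := {F'' : Submodule R F // x ∈ LinearMap.range (F''.subtype.rTensor M)}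
  let Φ : F →ₗ[R] (∀ i : 𝒮, F ⧸ i.1) := LinearMap.pi (fun i => i.1.mkQ)
  have hmin : ∀ F'' : Submodule R F, x ∈ LinearMap.range (F''.subtype.rTensor M) →
      LinearMap.ker Φ ≤ F'' := by
    intro F'' hF'' v hv
    have h1 : Φ v ⟨F'', hF''⟩ = 0 := by rw [LinearMap.mem_ker.1 hv]; rfl
    simpa [Φ] using h1
  have hx0 : Φ.rTensor M x = 0 := by
    have hinj := hM 𝒮 (fun i => F ⧸ i.1)
    apply (TensorProduct.comm R (∀ i : 𝒮, F ⧸ i.1) M).injective
    apply hinj
    rw [map_zero, map_zero]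
    funext i
    have key : ∀ z : (∀ i : 𝒮, F ⧸ i.1) ⊗[R] M,
        TensorProduct.piRightHom R R M (fun i : 𝒮 => F ⧸ i.1) (TensorProduct.comm R _ M z) i
          = TensorProduct.comm R _ M ((LinearMap.proj i).rTensor M z) := by
      intro z
      induction z using TensorProduct.induction_on with
      | zero => simp
      | tmul q m => simp [TensorProduct.piRightHom_tmul]
      | add a b ha hb => simp only [map_add, Pi.add_apply, ha, hb]
    rw [key, ← LinearMap.rTensor_comp_apply]
    have h2 : (LinearMap.proj i ∘ₗ Φ) = i.1.mkQ := by ext v; rfl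
    rw [h2, mkQ_rTensor_eq_zero_of_mem_range i.1 x i.2]; simp
  have hx1 : x ∈ LinearMap.range ((LinearMap.ker Φ).subtype.rTensor M) :=
    (Module.Flat.rTensor_exact M (LinearMap.exact_subtype_ker_map Φ) x).1 hx0
  refine ⟨LinearMap.ker Φ, ?_, hx1, hmin⟩
  obtain ⟨y, hy⟩ := hx1
  obtain ⟨J, hJ, y', hy'⟩ := Submodule.exists_fg_le_eq_rTensor_subtype y
  have hle : LinearMap.ker Φ ≤ J.map (LinearMap.ker Φ).subtype := by
    apply hmin
    refine ⟨((LinearMap.ker Φ).subtype.submoduleMap J).rTensor M y', ?_⟩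
    refine Eq.trans ?_ hy
    rw [hy', ← LinearMap.rTensor_comp_apply, ← LinearMap.rTensor_comp_apply]
    rfl
  have heq : LinearMap.ker Φ = J.map (LinearMap.ker Φ).subtype :=
    le_antisymm hle (Submodule.map_subtype_le _ _)
  rw [heq]; exact hJ.map _

theorem dominates_iff_pushout (R : Type u) [CommRing R] {M N M' : Type u}
    [AddCommGroup M] [Module R M] [AddCommGroup N] [Module R N] [AddCommGroup M'] [Module R M']
    (f : M →ₗ[R] N) (g : M →ₗ[R] M') :
    (∀ (Q : Type u) [AddCommGroup Q] [Module R Q],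
      LinearMap.ker (f.rTensor Q) ≤ LinearMap.ker (g.rTensor Q)) ↔
      CAlgX.UniversallyInjective R
        ((LinearMap.range (g.prod (-f))).mkQ ∘ₗ LinearMap.inl R M' N) := by
  constructor
  · intro hdom Q _ _
    rw [injective_iff_map_eq_zero]
    intro z hz
    rw [LinearMap.rTensor_comp_apply] at hz
    have hz' : (LinearMap.inl R M' N).rTensor Q z
        ∈ LinearMap.ker ((LinearMap.range (g.prod (-f))).mkQ.rTensor Q) := hz
    rw [rTensor_mkQ] at hz'
    obtain ⟨y, hy⟩ := hz'
    obtain ⟨w, rfl⟩ := LinearMap.rTensor_surjective Q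
      (LinearMap.surjective_rangeRestrict (g.prod (-f))) y
    rw [← LinearMap.rTensor_comp_apply] at hy
    have hcomp : (LinearMap.range (g.prod (-f))).subtype ∘ₗ (g.prod (-f)).rangeRestrict
        = g.prod (-f) := LinearMap.ext fun _ => rfl
    rw [hcomp] at hy
    have h1 := congrArg ((LinearMap.snd R M' N).rTensor Q) hy
    rw [← LinearMap.rTensor_comp_apply, ← LinearMap.rTensor_comp_apply] at h1
    have e1 : LinearMap.snd R M' N ∘ₗ g.prod (-f) = -f := by ext m; simp
    have e2 : LinearMap.snd R M' N ∘ₗ LinearMap.inl R M' N = 0 := by ext m; simp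
    rw [e1, e2, LinearMap.rTensor_zero, LinearMap.zero_apply, LinearMap.rTensor_neg,
      LinearMap.neg_apply, neg_eq_zero] at h1
    have h2 : g.rTensor Q w = 0 := hdom Q h1
    have h3 := congrArg ((LinearMap.fst R M' N).rTensor Q) hy
    rw [← LinearMap.rTensor_comp_apply, ← LinearMap.rTensor_comp_apply] at h3
    have e3 : LinearMap.fst R M' N ∘ₗ g.prod (-f) = g := by ext m; simp
    have e4 : LinearMap.fst R M' N ∘ₗ LinearMap.inl R M' N = LinearMap.id := by ext m; simp
    rw [e3, e4, LinearMap.rTensor_id, LinearMap.id_apply, h2] at h3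
    exact h3.symm
  · intro hinj Q _ _ w hw
    rw [LinearMap.mem_ker] at hw ⊢
    apply hinj Q
    rw [map_zero, ← LinearMap.rTensor_comp_apply]
    have e : ((LinearMap.range (g.prod (-f))).mkQ ∘ₗ LinearMap.inl R M' N) ∘ₗ g
        = ((LinearMap.range (g.prod (-f))).mkQ ∘ₗ LinearMap.inr R M' N) ∘ₗ f := by
      ext m
      simp only [LinearMap.comp_apply, Submodule.mkQ_apply, LinearMap.inl_apply,
        LinearMap.inr_apply]
      rw [Submodule.Quotient.eq]
      refine ⟨m, ?_⟩
      simp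
    rw [e, LinearMap.rTensor_comp_apply, hw, map_zero]

end Groth.Agent.Lib.helper3.ML
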