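import Mathlib
import Groth.Prelude.Def_Found
import Groth.Agent.Lib.helper3.ML6

open TensorProduct
namespace Groth.Agent.Lib.helper3.ML
universe u

def DomEq {R : Type u} [CommRing R] {P M M' : Type u} [AddCommGroup P] [Module R P]
    [AddCommGroup M] [Module R M] [AddCommGroup M'] [Module R M']
    (f : P →ₗ[R] M) (g : P →ₗ[R] M') : Prop :=
  ∀ (X : Type u) [AddCommGroup X] [Module R X] (z : P ⊗[R] X),
    f.rTensor X z = 0 ↔ g.rTensor X z = 0

section
variable {R : Type u} [CommRing R] {P P' M M' M'' : Type u} [AddCommGroup P] [Module R P]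
    [AddCommGroup P'] [Module R P']
    [AddCommGroup M] [Module R M] [AddCommGroup M'] [Module R M'] [AddCommGroup M''] [Module R M'']

theorem DomEq.precomp {f : P →ₗ[R] M} {g : P →ₗ[R] M'} (h : DomEq f g) (a : P' →ₗ[R] P) :
    DomEq (f ∘ₗ a) (g ∘ₗ a) := by
  intro X _ _ z
  rw [LinearMap.rTensor_comp_apply, LinearMap.rTensor_comp_apply]
  exact h X _

theorem DomEq.trans {f : P →ₗ[R] M} {g : P →ₗ[R] M'} {k : P →ₗ[R] M''} (h₁ : DomEq f g)
    (h₂ : DomEq g k) : DomEq f k := fun X _ _ z => (h₁ X z).trans (h₂ X z)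

theorem assoc_rTensor_rTensor {A : Type u} [AddCommGroup A] [Module R A] (Y X : Type u)
    [AddCommGroup Y] [Module R Y] [AddCommGroup X] [Module R X]
    (k : P →ₗ[R] A) (z : (P ⊗[R] Y) ⊗[R] X) :
    TensorProduct.assoc R A Y X ((k.rTensor Y).rTensor X z)
      = k.rTensor (Y ⊗[R] X) (TensorProduct.assoc R P Y X z) := by
  have : (TensorProduct.assoc R A Y X).toLinearMap ∘ₗ (k.rTensor Y).rTensor X
      = k.rTensor (Y ⊗[R] X) ∘ₗ (TensorProduct.assoc R P Y X).toLinearMap := by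
    apply TensorProduct.ext_threefold
    intro p y x
    simp
  exact LinearMap.congr_fun this z

theorem sigma_lTensor_rTensor {A : Type u} [AddCommGroup A] [Module R A] (Y X : Type u)
    [AddCommGroup Y] [Module R Y] [AddCommGroup X] [Module R X]
    (k : P →ₗ[R] A) (z : (Y ⊗[R] P) ⊗[R] X) :
    ((TensorProduct.assoc R Y A X).trans (TensorProduct.leftComm R Y A X))
        ((k.lTensor Y).rTensor X z)
      = k.rTensor (Y ⊗[R] X)
        (((TensorProduct.assoc R Y P X).trans (TensorProduct.leftComm R Y P X)) z) := by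
  have : ((TensorProduct.assoc R Y A X).trans (TensorProduct.leftComm R Y A X)).toLinearMap
        ∘ₗ (k.lTensor Y).rTensor X
      = k.rTensor (Y ⊗[R] X) ∘ₗ
        ((TensorProduct.assoc R Y P X).trans (TensorProduct.leftComm R Y P X)).toLinearMap := by
    apply TensorProduct.ext_threefold
    intro y p x
    simp
  exact LinearMap.congr_fun this z

theorem DomEq.rTensor {f : P →ₗ[R] M} {g : P →ₗ[R] M'} (h : DomEq f g) (Y : Type u)
    [AddCommGroup Y] [Module R Y] : DomEq (f.rTensor Y) (g.rTensor Y) := by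
  intro X _ _ z
  have e1 : (f.rTensor Y).rTensor X z = 0 ↔
      f.rTensor (Y ⊗[R] X) (TensorProduct.assoc R P Y X z) = 0 := by
    rw [← assoc_rTensor_rTensor Y X f z]; exact (LinearEquiv.map_eq_zero_iff _).symm
  have e2 : (g.rTensor Y).rTensor X z = 0 ↔
      g.rTensor (Y ⊗[R] X) (TensorProduct.assoc R P Y X z) = 0 := by
    rw [← assoc_rTensor_rTensor Y X g z]; exact (LinearEquiv.map_eq_zero_iff _).symm
  rw [e1, e2]; exact h _ _

theorem DomEq.lTensor {f : P →ₗ[R] M} {g : P →ₗ[R] M'} (h : DomEq f g) (Y : Type u)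
    [AddCommGroup Y] [Module R Y] : DomEq (f.lTensor Y) (g.lTensor Y) := by
  intro X _ _ z
  have e1 : (f.lTensor Y).rTensor X z = 0 ↔
      f.rTensor (Y ⊗[R] X)
        (((TensorProduct.assoc R Y P X).trans (TensorProduct.leftComm R Y P X)) z) = 0 := by
    rw [← sigma_lTensor_rTensor Y X f z]; exact (LinearEquiv.map_eq_zero_iff _).symm
  have e2 : (g.lTensor Y).rTensor X z = 0 ↔
      g.rTensor (Y ⊗[R] X)
        (((TensorProduct.assoc R Y P X).trans (TensorProduct.leftComm R Y P X)) z) = 0 := by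
    rw [← sigma_lTensor_rTensor Y X g z]; exact (LinearEquiv.map_eq_zero_iff _).symm
  rw [e1, e2]; exact h _ _

end

theorem DomEq.map {R : Type u} [CommRing R] {P₁ P₂ M N Q₁ Q₂ : Type u}
    [AddCommGroup P₁] [Module R P₁] [AddCommGroup P₂] [Module R P₂]
    [AddCommGroup M] [Module R M] [AddCommGroup N] [Module R N]
    [AddCommGroup Q₁] [Module R Q₁] [AddCommGroup Q₂] [Module R Q₂]
    (f₁ : P₁ →ₗ[R] M) (g₁ : P₁ →ₗ[R] Q₁) (f₂ : P₂ →ₗ[R] N) (g₂ : P₂ →ₗ[R] Q₂)
    (h₁ : DomEq f₁ g₁) (h₂ : DomEq f₂ g₂) :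
    DomEq (TensorProduct.map f₁ f₂) (TensorProduct.map g₁ g₂) := by
  have s1 : DomEq (TensorProduct.map f₁ f₂) (TensorProduct.map g₁ f₂) := by
    rw [← LinearMap.rTensor_comp_lTensor, ← LinearMap.rTensor_comp_lTensor]
    exact (h₁.rTensor N).precomp _
  have s2 : DomEq (TensorProduct.map g₁ f₂) (TensorProduct.map g₁ g₂) := by
    rw [← LinearMap.lTensor_comp_rTensor, ← LinearMap.lTensor_comp_rTensor]
    exact (h₂.lTensor Q₁).precomp _
  exact s1.trans s2

theorem finitePresentation_tensor {R : Type u} [CommRing R] (Q₁ Q₂ : Type u)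
    [AddCommGroup Q₁] [Module R Q₁] [AddCommGroup Q₂] [Module R Q₂]
    [Module.FinitePresentation R Q₁] [Module.FinitePresentation R Q₂] :
    Module.FinitePresentation R (Q₁ ⊗[R] Q₂) := by
  obtain ⟨a, π₁, hπ₁⟩ := Module.Finite.exists_fin' R Q₁
  obtain ⟨b, π₂, hπ₂⟩ := Module.Finite.exists_fin' R Q₂
  have hK₁ := Module.FinitePresentation.fg_ker π₁ hπ₁
  have hK₂ := Module.FinitePresentation.fg_ker π₂ hπ₂
  haveI : Module.Finite R (LinearMap.ker π₁) := Module.Finite.iff_fg.2 hK₁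
  haveI : Module.Finite R (LinearMap.ker π₂) := Module.Finite.iff_fg.2 hK₂
  haveI : Module.FinitePresentation R ((Fin a → R) ⊗[R] (Fin b → R)) :=
    Module.finitePresentation_of_projective R _
  refine Module.finitePresentation_of_surjective (TensorProduct.map π₁ π₂)
    (TensorProduct.map_surjective hπ₁ hπ₂) ?_
  rw [TensorProduct.map_ker (LinearMap.exact_subtype_ker_map π₁) hπ₁
    (LinearMap.exact_subtype_ker_map π₂) hπ₂]
  apply Submodule.FG.sup
  · rw [LinearMap.range_eq_map]; exact Submodule.FG.map _ Module.Finite.fg_top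
  · rw [LinearMap.range_eq_map]; exact Submodule.FG.map _ Module.Finite.fg_top

theorem isMittagLeffler_tensor (R : Type u) [CommRing R] (M N : Type u) [AddCommGroup M]
    [Module R M] [AddCommGroup N] [Module R N] (hM : CAlg.IsMittagLeffler R M)
    (hN : CAlg.IsMittagLeffler R N) : CAlg.IsMittagLeffler R (M ⊗[R] N) := by
  classical
  apply isMittagLeffler_of_dominate_free
  intro n F
  obtain ⟨M', N', hM', hN', hsub⟩ := TensorProduct.exists_finite_submodule_of_setFinite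
    (Set.range (fun k : Fin n => F (Pi.single k 1))) (Set.finite_range _)
  obtain ⟨a, π₁, hπ₁⟩ := Module.Finite.exists_fin' R M'
  obtain ⟨b, π₂, hπ₂⟩ := Module.Finite.exists_fin' R N'
  have hk : ∀ k : Fin n, ∃ w : (Fin a → R) ⊗[R] (Fin b → R),
      TensorProduct.map (M'.subtype ∘ₗ π₁) (N'.subtype ∘ₗ π₂) w = F (Pi.single k 1) := by
    intro k
    obtain ⟨v, hv⟩ := LinearMap.mem_range.1 (hsub ⟨k, rfl⟩)
    obtain ⟨w, rfl⟩ := TensorProduct.map_surjective hπ₁ hπ₂ v
    refine ⟨w, ?_⟩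
    refine Eq.trans ?_ hv
    rw [TensorProduct.map_comp]; rfl
  choose w hw using hk
  obtain ⟨F'', hF''⟩ : ∃ F'' : (Fin n → R) →ₗ[R] (Fin a → R) ⊗[R] (Fin b → R),
      F'' = Fintype.linearCombination R w := ⟨_, rfl⟩
  have hF : F = TensorProduct.map (M'.subtype ∘ₗ π₁) (N'.subtype ∘ₗ π₂) ∘ₗ F'' := by
    apply (Pi.basisFun R (Fin n)).ext
    intro k
    rw [Pi.basisFun_apply, LinearMap.comp_apply, hF'', Fintype.linearCombination_apply_single,
      one_smul, hw]
  obtain ⟨Q₁, _, _, _, g₁, hg₁⟩ :=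
    exists_dominate_of_isMittagLeffler R M hM (Fin a → R) (M'.subtype ∘ₗ π₁)
  obtain ⟨Q₂, _, _, _, g₂, hg₂⟩ :=
    exists_dominate_of_isMittagLeffler R N hN (Fin b → R) (N'.subtype ∘ₗ π₂)
  have d₁ : DomEq (M'.subtype ∘ₗ π₁) g₁ := fun X _ _ z => by
    rw [← LinearMap.mem_ker, ← LinearMap.mem_ker, hg₁ X]
  have d₂ : DomEq (N'.subtype ∘ₗ π₂) g₂ := fun X _ _ z => by
    rw [← LinearMap.mem_ker, ← LinearMap.mem_ker, hg₂ X]
  have d := (DomEq.map _ g₁ _ g₂ d₁ d₂).precomp F''
  haveI := finitePresentation_tensor (R := R) Q₁ Q₂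
  refine ⟨Q₁ ⊗[R] Q₂, inferInstance, inferInstance, inferInstance,
    TensorProduct.map g₁ g₂ ∘ₗ F'', ?_⟩
  intro X _ _
  ext z
  rw [LinearMap.mem_ker, LinearMap.mem_ker, hF]
  exact d X z

end Groth.Agent.Lib.helper3.ML
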