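import Mathlib
import Groth.Prelude.Def_Found
import Groth.Prelude.Def_CAlgX
import Groth.Agent.Lib.helper3.ML7

open TensorProduct
namespace Groth.Agent.Lib.helper3.ML
universe u

theorem exists_section_of_universallyInjective {R : Type u} [CommRing R] {A B C : Type u}
    [AddCommGroup A] [Module R A] [AddCommGroup B] [Module R B] [AddCommGroup C] [Module R C]
    [Module.FinitePresentation R C]
    (ι : A →ₗ[R] B) (p : B →ₗ[R] C)
    (hι : ∀ (Q : Type u) [AddCommGroup Q] [Module R Q], Function.Injective (ι.rTensor Q))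
    (hp : Function.Surjective p) (hex : Function.Exact ι p) :
    ∃ s : C →ₗ[R] B, p ∘ₗ s = LinearMap.id := by
  classical
  obtain ⟨n, π, hπ⟩ := Module.Finite.exists_fin' R C
  have hK : (LinearMap.ker π).FG := Module.FinitePresentation.fg_ker π hπ
  haveI : Module.Finite R (LinearMap.ker π) := Module.Finite.iff_fg.2 hK
  obtain ⟨r, ρ, hρ⟩ := Module.Finite.exists_fin' R (LinearMap.ker π)
  obtain ⟨T', hT'⟩ : ∃ T' : (Fin r → R) →ₗ[R] (Fin n → R),
      T' = (LinearMap.ker π).subtype ∘ₗ ρ := ⟨_, rfl⟩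
  have hπT : π ∘ₗ T' = 0 := by
    rw [hT']
    apply LinearMap.ext
    intro v
    exact (ρ v).2
  have hrange : LinearMap.range T' = LinearMap.ker π := by
    rw [hT', LinearMap.range_comp, LinearMap.range_eq_top.2 hρ, Submodule.map_top,
      Submodule.range_subtype]
  obtain ⟨Y, hY⟩ : ∃ Y : (Fin n → R) →ₗ[R] B, p ∘ₗ Y = π :=
    Module.projective_lifting_property p π hp
  have hYT : ∀ v, (Y ∘ₗ T') v ∈ LinearMap.range ι := by
    intro v
    rw [LinearMap.mem_range]
    apply (hex _).1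
    rw [← LinearMap.comp_apply, ← LinearMap.comp_assoc, hY, hπT, LinearMap.zero_apply]
  obtain ⟨Z, hZ⟩ : ∃ Z : (Fin r → R) →ₗ[R] A, ι ∘ₗ Z = Y ∘ₗ T' := by
    obtain ⟨Z, hZ⟩ := Module.projective_lifting_property ι.rangeRestrict
      ((Y ∘ₗ T').codRestrict (LinearMap.range ι) hYT) (LinearMap.surjective_rangeRestrict ι)
    refine ⟨Z, ?_⟩
    apply LinearMap.ext
    intro v
    exact congrArg Subtype.val (LinearMap.congr_fun hZ v)
  obtain ⟨zh, hzh⟩ := (dualTensorHom_bijective (R := R) (M := Fin r → R) (N := A)).2 Z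
  have hinjD : Function.Injective
      (ι.lTensor (Module.Dual R (Fin r → R) ⧸ LinearMap.range T'.dualMap)) :=
    (LinearMap.lTensor_inj_iff_rTensor_inj _ _).2 (hι _)
  have hmk : (LinearMap.range T'.dualMap).mkQ ∘ₗ T'.dualMap = 0 := by
    apply LinearMap.ext
    intro φ
    rw [LinearMap.comp_apply, Submodule.mkQ_apply, LinearMap.zero_apply,
      Submodule.Quotient.mk_eq_zero]
    exact ⟨φ, rfl⟩
  have h1 : (LinearMap.range T'.dualMap).mkQ.rTensor A zh = 0 := by
    apply hinjD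
    rw [map_zero, ← rTensor_lTensor_comm]
    obtain ⟨yh, hyh⟩ := (dualTensorHom_bijective (R := R) (M := Fin n → R) (N := B)).2 Y
    have h2 : ι.lTensor _ zh = T'.dualMap.rTensor B yh := by
      apply (dualTensorHom_bijective (R := R) (M := Fin r → R) (N := B)).1
      have e1 := LinearMap.congr_fun (dualTensorHom_comp_lTensor (M := Fin r → R) ι) zh
      have e2 := LinearMap.congr_fun (dualTensorHom_comp_rTensor_dualMap (P := B) T') yh
      simp only [LinearMap.comp_apply] at e1 e2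
      rw [e1, e2, hzh, hyh]
      exact hZ
    rw [h2, ← LinearMap.rTensor_comp_apply, hmk, LinearMap.rTensor_zero, LinearMap.zero_apply]
  have h3 : zh ∈ LinearMap.range (T'.dualMap.rTensor A) := by
    have h4 : zh ∈ LinearMap.ker ((LinearMap.range T'.dualMap).mkQ.rTensor A) := h1
    rw [rTensor_mkQ] at h4
    obtain ⟨u, hu⟩ := h4
    obtain ⟨u', rfl⟩ := LinearMap.rTensor_surjective A
      (LinearMap.surjective_rangeRestrict T'.dualMap) u
    refine ⟨u', ?_⟩
    rw [← hu, ← LinearMap.rTensor_comp_apply]; rfl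
  obtain ⟨ξ, hξ⟩ := h3
  obtain ⟨X', hX'def⟩ : ∃ X' : (Fin n → R) →ₗ[R] A, X' = dualTensorHom R (Fin n → R) A ξ :=
    ⟨_, rfl⟩
  have hX' : Z = X' ∘ₗ T' := by
    rw [← hzh, ← hξ, hX'def]
    exact LinearMap.congr_fun (dualTensorHom_comp_rTensor_dualMap (P := A) T') ξ
  have hY'T : (Y - ι ∘ₗ X') ∘ₗ T' = 0 := by
    rw [LinearMap.sub_comp, LinearMap.comp_assoc, ← hX', hZ, sub_self]
  have hpY' : p ∘ₗ (Y - ι ∘ₗ X') = π := by
    rw [LinearMap.comp_sub, hY, ← LinearMap.comp_assoc, hex.linearMap_comp_eq_zero,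
      LinearMap.zero_comp, sub_zero]
  have hker : LinearMap.ker π ≤ LinearMap.ker (Y - ι ∘ₗ X') := by
    rw [← hrange]
    rintro _ ⟨v, rfl⟩
    exact LinearMap.congr_fun hY'T v
  refine ⟨(LinearMap.ker π).liftQ (Y - ι ∘ₗ X') hker ∘ₗ
    (LinearMap.quotKerEquivOfSurjective π hπ).symm.toLinearMap, ?_⟩
  apply LinearMap.ext
  intro c
  obtain ⟨v, rfl⟩ := hπ c
  have hsymm : (LinearMap.quotKerEquivOfSurjective π hπ).symm (π v) = Submodule.Quotient.mk v := by
    rw [LinearEquiv.symm_apply_eq]; rfl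
  rw [LinearMap.comp_apply, LinearMap.comp_apply, LinearEquiv.coe_coe, hsymm,
    Submodule.liftQ_apply, LinearMap.id_apply]
  exact LinearMap.congr_fun hpY' v

theorem dominates_iff_factors (R : Type u) [CommRing R] {M N M' : Type u}
    [AddCommGroup M] [Module R M] [AddCommGroup N] [Module R N] [AddCommGroup M'] [Module R M']
    (f : M →ₗ[R] N) (g : M →ₗ[R] M') [Module.FinitePresentation R (N ⧸ LinearMap.range f)] :
    (∀ (Q : Type u) [AddCommGroup Q] [Module R Q],
      LinearMap.ker (f.rTensor Q) ≤ LinearMap.ker (g.rTensor Q)) ↔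
      ∃ h : N →ₗ[R] M', g = h ∘ₗ f := by
  constructor
  · intro hdom
    have hui := (dominates_iff_pushout R f g).1 hdom
    obtain ⟨L, hL⟩ : ∃ L : Submodule R (M' × N), L = LinearMap.range (g.prod (-f)) := ⟨_, rfl⟩
    rw [← hL] at hui
    have hmem : ∀ m, (g m, - f m) ∈ L := fun m => by rw [hL]; exact ⟨m, rfl⟩
    obtain ⟨ι, hιdef⟩ : ∃ ι : M' →ₗ[R] (M' × N) ⧸ L, ι = L.mkQ ∘ₗ LinearMap.inl R M' N :=
      ⟨_, rfl⟩
    rw [← hιdef] at hui
    have hι : ∀ m', ι m' = L.mkQ (m', 0) := fun m' => by rw [hιdef]; rfl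
    have hLle : L ≤ LinearMap.ker ((LinearMap.range f).mkQ ∘ₗ LinearMap.snd R M' N) := by
      rw [hL]
      rintro _ ⟨m, rfl⟩
      rw [LinearMap.mem_ker, LinearMap.comp_apply, Submodule.mkQ_apply,
        Submodule.Quotient.mk_eq_zero]
      exact (LinearMap.range f).neg_mem ⟨m, rfl⟩
    obtain ⟨p, hp_mk⟩ : ∃ p : (M' × N) ⧸ L →ₗ[R] N ⧸ LinearMap.range f,
        ∀ m' n, p (L.mkQ (m', n)) = (LinearMap.range f).mkQ n :=
      ⟨L.liftQ _ hLle, fun _ _ => rfl⟩
    have hp : Function.Surjective p := by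
      intro c
      obtain ⟨n, rfl⟩ := Submodule.mkQ_surjective _ c
      exact ⟨L.mkQ (0, n), hp_mk 0 n⟩
    have hex : Function.Exact ι p := by
      intro b
      constructor
      · intro hb
        obtain ⟨⟨m', n⟩, rfl⟩ := Submodule.mkQ_surjective L b
        rw [hp_mk, Submodule.mkQ_apply, Submodule.Quotient.mk_eq_zero] at hb
        obtain ⟨m, rfl⟩ := hb
        refine ⟨m' + g m, ?_⟩
        rw [hι, Submodule.mkQ_apply, Submodule.mkQ_apply, Submodule.Quotient.eq]
        have : ((m' + g m, (0 : N)) : M' × N) - (m', f m) = (g m, - f m) := by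
          ext <;> simp
        rw [this]; exact hmem m
      · rintro ⟨m', rfl⟩
        rw [hι, hp_mk, map_zero]
    obtain ⟨s, hs⟩ := exists_section_of_universallyInjective ι p hui hp hex
    have hinj : Function.Injective ι := by
      have hR := hui R
      intro a b hab
      have h1 : ι.rTensor R (a ⊗ₜ[R] (1 : R)) = ι.rTensor R (b ⊗ₜ[R] (1 : R)) := by
        rw [LinearMap.rTensor_tmul, LinearMap.rTensor_tmul, hab]
      have h2 := hR h1
      have h3 := congrArg (TensorProduct.rid R M') h2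
      simpa using h3
    have hsplit : (∃ l, p ∘ₗ l = LinearMap.id) ↔ (∃ l, l ∘ₗ ι = LinearMap.id) :=
      (hex.split_tfae hinj hp).out 0 1
    obtain ⟨r, hr⟩ := hsplit.1 ⟨s, hs⟩
    refine ⟨r ∘ₗ L.mkQ ∘ₗ LinearMap.inr R M' N, ?_⟩
    apply LinearMap.ext
    intro m
    have h1 : L.mkQ (0, f m) = ι (g m) := by
      rw [hι, Submodule.mkQ_apply, Submodule.mkQ_apply, eq_comm, Submodule.Quotient.eq]
      have : ((g m, (0 : N)) : M' × N) - (0, f m) = (g m, - f m) := by
        ext <;> simp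
      rw [this]; exact hmem m
    rw [LinearMap.comp_apply, LinearMap.comp_apply, LinearMap.comp_apply, LinearMap.inr_apply, h1,
      ← LinearMap.comp_apply r ι, hr, LinearMap.id_apply]
  · rintro ⟨h, rfl⟩ Q _ _ x hx
    rw [LinearMap.mem_ker] at hx ⊢
    rw [LinearMap.rTensor_comp_apply, hx, map_zero]

end Groth.Agent.Lib.helper3.ML
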