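import Mathlib
import Groth.Prelude.Def_Found
import Groth.Agent.Lib.helper3.ML8

open TensorProduct
namespace Groth.Agent.Lib.helper3.ML
universe u

section DL
variable {R : Type u} [CommRing R] {ι : Type u} [Preorder ι] [IsDirected ι (· ≤ ·)] [Nonempty ι]
  [DecidableEq ι] (G : ι → Type u) [∀ i, AddCommGroup (G i)] [∀ i, Module R (G i)]
  (f : ∀ i j, i ≤ j → G i →ₗ[R] G j) [DirectedSystem G fun i j h => f i j h]

theorem of_comp_f {i j : ι} (hij : i ≤ j) :
    Module.DirectLimit.of R ι G f j ∘ₗ f i j hij = Module.DirectLimit.of R ι G f i :=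
  LinearMap.ext fun _ => Module.DirectLimit.of_f

theorem f_comp_f {i j k : ι} (hij : i ≤ j) (hjk : j ≤ k) :
    f j k hjk ∘ₗ f i j hij = f i k (hij.trans hjk) :=
  LinearMap.ext fun x => DirectedSystem.map_map' f hij hjk x

theorem exists_rTensor_eq_zero_of_of {i : ι} (X : Type u) [AddCommGroup X] [Module R X]
    (x : G i ⊗[R] X) (hx : (Module.DirectLimit.of R ι G f i).rTensor X x = 0) :
    ∃ k, ∃ hik : i ≤ k, (f i k hik).rTensor X x = 0 := by
  have h1 := TensorProduct.directLimitLeft_rTensor_of f X x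
  rw [hx, map_zero] at h1
  exact Module.DirectLimit.of.zero_exact h1.symm

theorem exists_lift_free (n : ℕ) (F : (Fin n → R) →ₗ[R] Module.DirectLimit G f) :
    ∃ (i : ι) (F₀ : (Fin n → R) →ₗ[R] G i), F = Module.DirectLimit.of R ι G f i ∘ₗ F₀ := by
  classical
  have h1 : ∀ a : Fin n, ∃ (i : ι) (x : G i),
      Module.DirectLimit.of R ι G f i x = F (Pi.single a 1) :=
    fun a => Module.DirectLimit.exists_of _
  choose ia xa hxa using h1
  obtain ⟨i, hi⟩ := Finite.exists_le ia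
  refine ⟨i, Fintype.linearCombination R (fun a => f (ia a) i (hi a) (xa a)), ?_⟩
  apply (Pi.basisFun R (Fin n)).ext
  intro a
  rw [Pi.basisFun_apply, LinearMap.comp_apply, Fintype.linearCombination_apply_single, one_smul,
    Module.DirectLimit.of_f, hxa]

theorem exists_comp_eq_of_of_comp_eq {P : Type u} [AddCommGroup P] [Module R P]
    [Module.Finite R P] {j : ι} (a b : P →ₗ[R] G j)
    (hab : Module.DirectLimit.of R ι G f j ∘ₗ a = Module.DirectLimit.of R ι G f j ∘ₗ b) :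
    ∃ (k : ι) (hjk : j ≤ k), f j k hjk ∘ₗ a = f j k hjk ∘ₗ b := by
  obtain ⟨m, s, hs⟩ := Module.Finite.exists_fin (R := R) (M := P)
  have h1 : ∀ c : Fin m, ∃ (k : ι) (hjk : j ≤ k),
      f j k hjk (a (s c)) = f j k hjk (b (s c)) := fun c =>
    Module.DirectLimit.exists_eq_of_of_eq (LinearMap.congr_fun hab (s c))
  choose kc hkc hc using h1
  obtain ⟨k, hk⟩ := Finite.exists_le kc
  obtain ⟨k', hk'1, hk'2⟩ := exists_ge_ge j k
  refine ⟨k', hk'1, ?_⟩
  apply LinearMap.ext_on hs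
  rintro _ ⟨c, rfl⟩
  rw [LinearMap.comp_apply, LinearMap.comp_apply,
    ← DirectedSystem.map_map' f (hkc c) ((hk c).trans hk'2),
    ← DirectedSystem.map_map' f (hkc c) ((hk c).trans hk'2), hc c]

theorem exists_lift_fp {Q₀ : Type u} [AddCommGroup Q₀] [Module R Q₀]
    [Module.FinitePresentation R Q₀] (h' : Q₀ →ₗ[R] Module.DirectLimit G f) :
    ∃ (k : ι) (h'' : Q₀ →ₗ[R] G k), h' = Module.DirectLimit.of R ι G f k ∘ₗ h'' := by
  classical
  obtain ⟨n, π, hπ⟩ := Module.Finite.exists_fin' R Q₀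
  have hK : (LinearMap.ker π).FG := Module.FinitePresentation.fg_ker π hπ
  obtain ⟨j, Y, hY⟩ := exists_lift_free G f n (h' ∘ₗ π)
  haveI : Module.Finite R (LinearMap.ker π) := Module.Finite.iff_fg.2 hK
  have h0 : Module.DirectLimit.of R ι G f j ∘ₗ (Y ∘ₗ (LinearMap.ker π).subtype)
      = Module.DirectLimit.of R ι G f j ∘ₗ (0 : LinearMap.ker π →ₗ[R] G j) := by
    rw [← LinearMap.comp_assoc, ← hY, LinearMap.comp_zero]
    apply LinearMap.ext
    intro v
    rw [LinearMap.comp_apply, LinearMap.comp_apply, Submodule.subtype_apply,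
      LinearMap.mem_ker.1 v.2, map_zero, LinearMap.zero_apply]
  obtain ⟨k, hjk, hk⟩ := exists_comp_eq_of_of_comp_eq G f _ _ h0
  rw [LinearMap.comp_zero] at hk
  have hker : LinearMap.ker π ≤ LinearMap.ker (f j k hjk ∘ₗ Y) := by
    intro v hv
    exact LinearMap.congr_fun hk ⟨v, hv⟩
  refine ⟨k, (LinearMap.ker π).liftQ (f j k hjk ∘ₗ Y) hker ∘ₗ
    (LinearMap.quotKerEquivOfSurjective π hπ).symm.toLinearMap, ?_⟩
  apply LinearMap.ext
  intro q
  obtain ⟨v, rfl⟩ := hπ q
  have hsymm : (LinearMap.quotKerEquivOfSurjective π hπ).symm (π v) = Submodule.Quotient.mk v := by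
    rw [LinearEquiv.symm_apply_eq]; rfl
  rw [LinearMap.comp_apply, LinearMap.comp_apply, LinearEquiv.coe_coe, hsymm,
    Submodule.liftQ_apply, LinearMap.comp_apply, Module.DirectLimit.of_f]
  exact LinearMap.congr_fun hY v

theorem ef_of_ml [∀ i, Module.FinitePresentation R (G i)]
    (hML : CAlg.IsMittagLeffler R (Module.DirectLimit G f)) (i : ι) :
    ∃ (j : ι) (hij : i ≤ j), ∀ (k : ι) (hik : i ≤ k),
      ∃ h : G k →ₗ[R] G j, f i j hij = h ∘ₗ f i k hik := by
  obtain ⟨Q₀, _, _, _, g, hg⟩ := exists_dominate_of_isMittagLeffler R _ hML (G i)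
    (Module.DirectLimit.of R ι G f i)
  haveI : Module.FinitePresentation R (Q₀ ⧸ LinearMap.range g) :=
    finitePresentation_quotient_of_fg _
      (by rw [LinearMap.range_eq_map]; exact Submodule.FG.map g Module.Finite.fg_top)
  obtain ⟨h', hh'⟩ := (dominates_iff_factors R g (Module.DirectLimit.of R ι G f i)).1
    (fun X _ _ => (hg X).ge)
  obtain ⟨j₁, h'', hh''⟩ := exists_lift_fp G f h'
  obtain ⟨j₂, hij₂, hj₁j₂⟩ := exists_ge_ge i j₁
  have h0 : Module.DirectLimit.of R ι G f j₂ ∘ₗ (f j₁ j₂ hj₁j₂ ∘ₗ (h'' ∘ₗ g))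
      = Module.DirectLimit.of R ι G f j₂ ∘ₗ f i j₂ hij₂ := by
    rw [← LinearMap.comp_assoc, of_comp_f, of_comp_f, ← LinearMap.comp_assoc, ← hh'', ← hh']
  obtain ⟨j, hj₂j, hj⟩ := exists_comp_eq_of_of_comp_eq G f _ _ h0
  refine ⟨j, hij₂.trans hj₂j, ?_⟩
  intro k hik
  haveI : Module.FinitePresentation R (G k ⧸ LinearMap.range (f i k hik)) :=
    finitePresentation_quotient_of_fg _
      (by rw [LinearMap.range_eq_map]; exact Submodule.FG.map _ Module.Finite.fg_top)
  refine (dominates_iff_factors R (f i k hik) (f i j (hij₂.trans hj₂j))).1 ?_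
  intro X _ _ z hz
  rw [LinearMap.mem_ker] at hz ⊢
  have h1 : (Module.DirectLimit.of R ι G f i).rTensor X z = 0 := by
    rw [← of_comp_f G f hik, LinearMap.rTensor_comp_apply, hz, map_zero]
  have h2 : g.rTensor X z = 0 := by
    have : z ∈ LinearMap.ker (g.rTensor X) := by rw [← hg X]; exact h1
    exact this
  have h3 : f i j (hij₂.trans hj₂j) = (f j₂ j hj₂j ∘ₗ (f j₁ j₂ hj₁j₂ ∘ₗ h'')) ∘ₗ g := by
    rw [← f_comp_f G f hij₂ hj₂j, ← hj]; rfl
  rw [h3, LinearMap.rTensor_comp_apply, h2, map_zero]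

theorem ml_of_ef [∀ i, Module.FinitePresentation R (G i)]
    (hEF : ∀ i, ∃ (j : ι) (hij : i ≤ j), ∀ (k : ι) (hik : i ≤ k),
      ∃ h : G k →ₗ[R] G j, f i j hij = h ∘ₗ f i k hik) :
    CAlg.IsMittagLeffler R (Module.DirectLimit G f) := by
  apply isMittagLeffler_of_dominate_free
  intro n F
  obtain ⟨i, F₀, rfl⟩ := exists_lift_free G f n F
  obtain ⟨j, hij, hj⟩ := hEF i
  refine ⟨G j, inferInstance, inferInstance, inferInstance, f i j hij ∘ₗ F₀, ?_⟩
  intro X _ _
  ext z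
  rw [LinearMap.mem_ker, LinearMap.mem_ker]
  constructor
  · intro hz
    rw [LinearMap.rTensor_comp_apply] at hz
    obtain ⟨k, hik, hk⟩ := exists_rTensor_eq_zero_of_of G f X _ hz
    obtain ⟨h, hh⟩ := hj k hik
    rw [LinearMap.rTensor_comp_apply, hh, LinearMap.rTensor_comp_apply, hk, map_zero]
  · intro hz
    rw [← of_comp_f G f hij, LinearMap.comp_assoc, LinearMap.rTensor_comp_apply, hz, map_zero]

end DL

end Groth.Agent.Lib.helper3.ML
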