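import Mathlib
import Groth.Prelude.Def_Found
import Groth.Agent.Lib.helper3.ML9

open TensorProduct
namespace Groth.Agent.Lib.helper3.ML
universe u

theorem ml_of_flat_smallest (R : Type u) [CommRing R] (M : Type u)
    [AddCommGroup M] [Module R M] [Module.Flat R M]
    (H : ∀ (n : ℕ) (x : (Fin n → R) ⊗[R] M), ∃ F' : Submodule R (Fin n → R),
        x ∈ LinearMap.range (F'.subtype.rTensor M) ∧
        ∀ F'' : Submodule R (Fin n → R), x ∈ LinearMap.range (F''.subtype.rTensor M) → F' ≤ F'') :
    CAlg.IsMittagLeffler R M := by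
  classical
  intro ι Q _ _
  rw [injective_iff_map_eq_zero]
  intro ξ hξ
  obtain ⟨n, m, q, rfl⟩ := TensorProduct.exists_sum_tmul_eq ξ
  obtain ⟨x, hxdef⟩ : ∃ x : (Fin n → R) ⊗[R] M, x = ∑ k, (Pi.single k (1:R)) ⊗ₜ[R] m k :=
    ⟨_, rfl⟩
  have hψ : ∀ (X : Type u) [AddCommGroup X] [Module R X] (t : Fin n → X),
      (Fintype.linearCombination R t).rTensor M x = ∑ k, t k ⊗ₜ[R] m k := by
    intro X _ _ t
    rw [hxdef, map_sum]
    refine Finset.sum_congr rfl (fun k _ => ?_)
    rw [LinearMap.rTensor_tmul, Fintype.linearCombination_apply_single, one_smul]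
  obtain ⟨F', hF'x, hF'min⟩ := H n x
  have h1 : ∀ α, F' ≤ LinearMap.ker (Fintype.linearCombination R (fun k => q k α)) := by
    intro α
    apply hF'min
    apply (Module.Flat.rTensor_exact M (LinearMap.exact_subtype_ker_map _) x).1
    rw [hψ]
    have h2 := congrFun hξ α
    rw [map_sum, Finset.sum_apply] at h2
    simp only [TensorProduct.piRightHom_tmul] at h2
    have h3 := congrArg (TensorProduct.comm R M (Q α)) h2
    simpa using h3
  have h2 : Fintype.linearCombination R q ∘ₗ F'.subtype = 0 := by
    apply LinearMap.ext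
    intro v
    funext α
    have := h1 α v.2
    rw [LinearMap.mem_ker, Fintype.linearCombination_apply] at this
    simp only [LinearMap.comp_apply, Submodule.subtype_apply, Fintype.linearCombination_apply,
      Finset.sum_apply, Pi.smul_apply, LinearMap.zero_apply, Pi.zero_apply]
    exact this
  obtain ⟨y, hy⟩ := hF'x
  have h3 : (Fintype.linearCombination R q).rTensor M x = 0 := by
    rw [← hy, ← LinearMap.rTensor_comp_apply, h2, LinearMap.rTensor_zero, LinearMap.zero_apply]
  rw [hψ] at h3
  have h4 := congrArg (TensorProduct.comm R (∀ i, Q i) M) h3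
  simpa using h4

end Groth.Agent.Lib.helper3.ML
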