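import Mathlib
import Groth.Prelude.Def_Found
import Groth.Agent.Lib.helper3.ML4
import Groth.Agent.Lib.helper3.ML5
import Groth.Agent.Lib.helper3.ML7
import Groth.Agent.Lib.helper3.ML8

open TensorProduct
namespace Groth.Agent.Lib.helper3.ML
universe u

section
variable {R : Type u} [CommRing R]

theorem tmul_one_eq_zero_iff {M : Type u} [AddCommGroup M] [Module R M] (m : M) :
    (m ⊗ₜ[R] (1:R) = 0) ↔ m = 0 := by
  constructor
  · intro h
    have := congrArg (TensorProduct.rid R M) h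
    simpa using this
  · rintro rfl; simp

theorem DomEq.ker_eq {P M M' : Type u} [AddCommGroup P] [Module R P] [AddCommGroup M]
    [Module R M] [AddCommGroup M'] [Module R M'] {f : P →ₗ[R] M} {g : P →ₗ[R] M'}
    (h : DomEq f g) (x : P) : f x = 0 ↔ g x = 0 := by
  have := h R (x ⊗ₜ 1)
  rw [LinearMap.rTensor_tmul, LinearMap.rTensor_tmul, tmul_one_eq_zero_iff,
    tmul_one_eq_zero_iff] at this
  exact this

theorem DomEq.symm {P M M' : Type u} [AddCommGroup P] [Module R P] [AddCommGroup M]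
    [Module R M] [AddCommGroup M'] [Module R M'] {f : P →ₗ[R] M} {g : P →ₗ[R] M'}
    (h : DomEq f g) : DomEq g f := fun X _ _ z => (h X z).symm

/-- f.g. version of (A). -/
theorem exists_domEq_of_finite (R : Type u) [CommRing R] (M : Type u) [AddCommGroup M]
    [Module R M] (hM : CAlg.IsMittagLeffler R M) (P : Type u) [AddCommGroup P] [Module R P]
    [Module.Finite R P] (f : P →ₗ[R] M) :
    ∃ (Q : Type u) (_ : AddCommGroup Q) (_ : Module R Q) (_ : Module.FinitePresentation R Q)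
      (g : P →ₗ[R] Q), DomEq f g := by
  obtain ⟨k, q, hq⟩ := Module.Finite.exists_fin' R P
  obtain ⟨Q, i1, i2, i3, g₀, hg₀⟩ :=
    exists_dominate_of_isMittagLeffler R M hM (Fin k → R) (f ∘ₗ q)
  have hd : DomEq (f ∘ₗ q) g₀ := fun X _ _ z => by
    have := SetLike.ext_iff.1 (hg₀ X) z
    simpa only [LinearMap.mem_ker] using this
  have hle : LinearMap.ker q ≤ LinearMap.ker g₀ := by
    intro x hx
    rw [LinearMap.mem_ker] at hx ⊢
    exact (hd.ker_eq x).1 (by rw [LinearMap.comp_apply, hx, map_zero])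
  let g : P →ₗ[R] Q := (LinearMap.ker q).liftQ g₀ hle ∘ₗ
    (LinearMap.quotKerEquivOfSurjective q hq).symm.toLinearMap
  have hgq : g ∘ₗ q = g₀ := by
    refine LinearMap.ext fun x => ?_
    have : (LinearMap.quotKerEquivOfSurjective q hq).symm (q x) = Submodule.Quotient.mk x := by
      rw [LinearEquiv.symm_apply_eq, LinearMap.quotKerEquivOfSurjective_apply_mk]
    show (LinearMap.ker q).liftQ g₀ hle
      ((LinearMap.quotKerEquivOfSurjective q hq).symm (q x)) = g₀ x
    rw [this, Submodule.liftQ_apply]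
  refine ⟨Q, i1, i2, i3, g, ?_⟩
  intro X _ _ z
  obtain ⟨z', rfl⟩ := LinearMap.rTensor_surjective X hq z
  rw [← LinearMap.rTensor_comp_apply, ← LinearMap.rTensor_comp_apply, hgq]
  exact hd X z'

theorem exists_glue {M Q : Type u} [AddCommGroup M] [Module R M] [AddCommGroup Q] [Module R Q]
    (S : ℕ → Submodule R M) (hmono : Monotone S) (hcover : ∀ m, ∃ n, m ∈ S n)
    (β : ∀ n, S n →ₗ[R] Q)
    (hcompat : ∀ n (x : M) (hx : x ∈ S n),
      β (n+1) ⟨x, hmono (Nat.le_succ n) hx⟩ = β n ⟨x, hx⟩) :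
    ∃ b : M →ₗ[R] Q, ∀ n (x : M) (hx : x ∈ S n), b x = β n ⟨x, hx⟩ := by
  classical
  have hc : ∀ n k (x : M) (hx : x ∈ S n),
      β (n + k) ⟨x, hmono (Nat.le_add_right n k) hx⟩ = β n ⟨x, hx⟩ := by
    intro n k
    induction k with
    | zero => intro x hx; rfl
    | succ k ih =>
      intro x hx
      exact (hcompat (n+k) x (hmono (Nat.le_add_right n k) hx)).trans (ih x hx)
  have hc' : ∀ n n' (hnn : n ≤ n') (x : M) (hx : x ∈ S n),
      β n' ⟨x, hmono hnn hx⟩ = β n ⟨x, hx⟩ := by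
    intro n n' hnn x hx
    obtain ⟨k, rfl⟩ := Nat.exists_eq_add_of_le hnn
    exact hc n k x hx
  let b0 : M → Q := fun m => β (Nat.find (hcover m)) ⟨m, Nat.find_spec (hcover m)⟩
  have hb0 : ∀ n (x : M) (hx : x ∈ S n), b0 x = β n ⟨x, hx⟩ := by
    intro n x hx
    exact (hc' _ n (Nat.find_min' (hcover x) hx) x (Nat.find_spec (hcover x))).symm
  refine ⟨{ toFun := b0, map_add' := ?_, map_smul' := ?_ }, hb0⟩
  · intro x y
    obtain ⟨n, hn⟩ := hcover x
    obtain ⟨n', hn'⟩ := hcover y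
    have hx : x ∈ S (max n n') := hmono (le_max_left _ _) hn
    have hy : y ∈ S (max n n') := hmono (le_max_right _ _) hn'
    rw [hb0 _ x hx, hb0 _ y hy, hb0 _ (x + y) (add_mem hx hy), ← map_add]
    rfl
  · intro r x
    obtain ⟨n, hn⟩ := hcover x
    rw [hb0 _ x hn, hb0 _ (r • x) (Submodule.smul_mem _ r hn), RingHom.id_apply, ← map_smul]
    rfl

end

structure DomData (R : Type u) [CommRing R] {S M : Type u} [AddCommGroup S] [Module R S]
    [AddCommGroup M] [Module R M] (p : S →ₗ[R] M) where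
  Q : Type u
  [acg : AddCommGroup Q]
  [mod : Module R Q]
  [fp : Module.FinitePresentation R Q]
  g : S →ₗ[R] Q
  h : DomEq p g

attribute [instance] DomData.acg DomData.mod DomData.fp

theorem exists_endo_of_ml_countable (R : Type u) [CommRing R] (M : Type u) [AddCommGroup M]
    [Module R M] (hML : CAlg.IsMittagLeffler R M) (hc : CAlg.IsCountablyGenerated R M)
    {P : Type u} [AddCommGroup P] [Module R P] [Module.Finite R P] (f : P →ₗ[R] M) :
    ∃ (Q : Type u) (_ : AddCommGroup Q) (_ : Module R Q) (_ : Module.FinitePresentation R Q)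
      (b : M →ₗ[R] Q) (c : Q →ₗ[R] M), (c ∘ₗ b) ∘ₗ f = f := by
  classical
  obtain ⟨s, hs, hspan⟩ := hc
  obtain ⟨x, hx⟩ : ∃ x : ℕ → M, insert 0 s = Set.range x :=
    (hs.insert 0).exists_eq_range (Set.insert_nonempty 0 s)
  let S : ℕ → Submodule R M := fun n =>
    LinearMap.range f ⊔ Submodule.span R (x '' Set.Iio n)
  have hmono : Monotone S := by
    intro n n' h
    exact sup_le_sup_left (Submodule.span_mono (Set.image_mono (Set.Iio_subset_Iio h))) _
  have hfin : ∀ n, Module.Finite R (S n) := by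
    intro n
    rw [Module.Finite.iff_fg]
    refine Submodule.FG.sup ?_ (Submodule.fg_span ((Set.finite_Iio n).image x))
    rw [LinearMap.range_eq_map]; exact Submodule.FG.map f Module.Finite.fg_top
  have hcover : ∀ m, ∃ n, m ∈ S n := by
    intro m
    have hm : m ∈ Submodule.span R (Set.range x) := by
      rw [← hx]
      have hle : Submodule.span R s ≤ Submodule.span R (insert 0 s) :=
        Submodule.span_mono (Set.subset_insert 0 s)
      exact hle (by rw [hspan]; exact Submodule.mem_top)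
    induction hm using Submodule.span_induction with
    | mem y hy =>
      obtain ⟨i, rfl⟩ := hy
      exact ⟨i+1, Submodule.mem_sup_right
        (Submodule.subset_span ⟨i, Nat.lt_succ_self i, rfl⟩)⟩
    | zero => exact ⟨0, zero_mem _⟩
    | add y z _ _ hy hz =>
      obtain ⟨n, hn⟩ := hy
      obtain ⟨n', hn'⟩ := hz
      exact ⟨max n n', add_mem (hmono (le_max_left _ _) hn) (hmono (le_max_right _ _) hn')⟩
    | smul r y _ hy =>
      obtain ⟨n, hn⟩ := hy
      exact ⟨n, Submodule.smul_mem _ r hn⟩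
  have hD : ∀ n, Nonempty (DomData R (S n).subtype) := by
    intro n
    haveI := hfin n
    obtain ⟨Q, i1, i2, i3, g, hg⟩ := exists_domEq_of_finite R M hML (S n) (S n).subtype
    exact ⟨{ Q := Q, g := g, h := hg }⟩
  let D : ∀ n, DomData R (S n).subtype := fun n => (hD n).some
  let ι : ∀ n, S n →ₗ[R] S (n+1) := fun n => Submodule.inclusion (hmono (Nat.le_succ n))
  have hincl : ∀ n, (S (n+1)).subtype ∘ₗ ι n = (S n).subtype :=
    fun n => Submodule.subtype_comp_inclusion _ _ _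
  have ht : ∀ n, ∃ t : (D (n+1)).Q →ₗ[R] (D n).Q,
      (D n).g = t ∘ₗ ((D (n+1)).g ∘ₗ ι n) := by
    intro n
    haveI := hfin n
    haveI : Module.FinitePresentation R
        ((D (n+1)).Q ⧸ LinearMap.range ((D (n+1)).g ∘ₗ ι n)) := by
      apply finitePresentation_quotient_of_fg
      rw [LinearMap.range_eq_map]; exact Submodule.FG.map _ Module.Finite.fg_top
    have hd : DomEq ((D (n+1)).g ∘ₗ ι n) (D n).g := by
      have h1 : DomEq ((S (n+1)).subtype ∘ₗ ι n) ((D (n+1)).g ∘ₗ ι n) :=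
        (D (n+1)).h.precomp (ι n)
      rw [hincl n] at h1
      exact h1.symm.trans (D n).h
    exact (dominates_iff_factors R ((D (n+1)).g ∘ₗ ι n) (D n).g).1
      (fun Q _ _ z hz => LinearMap.mem_ker.2 ((hd Q z).1 (LinearMap.mem_ker.1 hz)))
  choose t ht using ht
  have hh : ∃ h : (D 0).Q →ₗ[R] M, (S 0).subtype = h ∘ₗ (D 0).g := by
    haveI := hfin 0
    haveI : Module.FinitePresentation R ((D 0).Q ⧸ LinearMap.range (D 0).g) := by
      apply finitePresentation_quotient_of_fg
      rw [LinearMap.range_eq_map]; exact Submodule.FG.map _ Module.Finite.fg_top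
    exact (dominates_iff_factors R (D 0).g (S 0).subtype).1
      (fun Q _ _ z hz => LinearMap.mem_ker.2 (((D 0).h Q z).2 (LinearMap.mem_ker.1 hz)))
  obtain ⟨h0, hh0⟩ := hh
  let τ : ∀ n, (D n).Q →ₗ[R] (D 0).Q := fun n =>
    Nat.rec (motive := fun n => (D n).Q →ₗ[R] (D 0).Q) LinearMap.id (fun n τn => τn ∘ₗ t n) n
  have hτ : ∀ n, τ (n+1) = τ n ∘ₗ t n := fun n => rfl
  let β : ∀ n, S n →ₗ[R] (D 0).Q := fun n => τ n ∘ₗ (D n).g
  have hβ : ∀ n (y : M) (hy : y ∈ S n),
      β (n+1) ⟨y, hmono (Nat.le_succ n) hy⟩ = β n ⟨y, hy⟩ := by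
    intro n y hy
    show τ (n+1) ((D (n+1)).g (ι n ⟨y, hy⟩)) = τ n ((D n).g ⟨y, hy⟩)
    rw [hτ, ht n]; rfl
  obtain ⟨b, hb⟩ := exists_glue S hmono hcover β hβ
  refine ⟨(D 0).Q, inferInstance, inferInstance, inferInstance, b, h0, ?_⟩
  refine LinearMap.ext fun p => ?_
  have hp : f p ∈ S 0 := Submodule.mem_sup_left (LinearMap.mem_range_self f p)
  show h0 (b (f p)) = f p
  rw [hb 0 (f p) hp]
  show h0 (τ 0 ((D 0).g ⟨f p, hp⟩)) = f p
  have := LinearMap.congr_fun hh0 ⟨f p, hp⟩
  exact this.symm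

end Groth.Agent.Lib.helper3.ML
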