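import Groth.Agent.Lib.helper3.NilProjFree

/-! Lifting a basis modulo a nilpotent ideal when `I ⊗ M → M` is injective (helper3). -/

set_option autoImplicit false
universe u
open TensorProduct Groth.Agent.Lib.helper2

namespace H3NilBasis

variable {R : Type u} [CommRing R] (I : Ideal R)

/-- `1 ⊗ (Σ zᵢ xᵢ) = Σ z̄ᵢ (1 ⊗ xᵢ)` -/
theorem tmul_linearCombination {ι : Type*} {P : Type u} [AddCommGroup P] [Module R P] (x : ι → P)
    (z : ι →₀ R) :
    (1 : R ⧸ I) ⊗ₜ[R] Finsupp.linearCombination R x z =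
      Finsupp.linearCombination (R ⧸ I) (fun i => (1 : R ⧸ I) ⊗ₜ[R] x i)
        (Finsupp.mapRange (Ideal.Quotient.mk I) (map_zero _) z) := by
  induction z using Finsupp.induction_linear with
  | zero => simp
  | add f g hf hg =>
    rw [map_add, TensorProduct.tmul_add, hf, hg,
      Finsupp.mapRange_add (by intro a b; exact map_add _ a b), map_add]
  | single i r =>
    rw [Finsupp.mapRange_single, Finsupp.linearCombination_single,
      Finsupp.linearCombination_single, TensorProduct.tmul_smul, h2_smul_quot_tmul]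

/-- Nakayama for spans modulo a nilpotent ideal. -/
theorem span_eq_top (hI : IsNilpotent I) {M : Type u} [AddCommGroup M] [Module R M] {A : Type*}
    (x : A → M)
    (hsp : Submodule.span (R ⧸ I) (Set.range fun a => (1 : R ⧸ I) ⊗ₜ[R] x a) = ⊤) :
    Submodule.span R (Set.range x) = ⊤ := by
  apply h2_eq_top_of_sup_smul I hI
  intro y _
  have key : ∀ t ∈ Submodule.span (R ⧸ I) (Set.range fun a => (1 : R ⧸ I) ⊗ₜ[R] x a),
      ∃ n ∈ Submodule.span R (Set.range x), t = (1 : R ⧸ I) ⊗ₜ[R] n := by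
    intro t ht
    induction ht using Submodule.span_induction with
    | mem t ht =>
      obtain ⟨a, rfl⟩ := ht
      exact ⟨x a, Submodule.subset_span ⟨a, rfl⟩, rfl⟩
    | zero => exact ⟨0, Submodule.zero_mem _, (TensorProduct.tmul_zero _ _).symm⟩
    | add t₁ t₂ _ _ h₁ h₂ =>
      obtain ⟨n₁, hn₁, rfl⟩ := h₁
      obtain ⟨n₂, hn₂, rfl⟩ := h₂
      exact ⟨n₁ + n₂, Submodule.add_mem _ hn₁ hn₂, (TensorProduct.tmul_add _ _ _).symm⟩
    | smul c t _ h₁ =>
      obtain ⟨n₁, hn₁, rfl⟩ := h₁
      obtain ⟨r, rfl⟩ := Ideal.Quotient.mk_surjective c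
      refine ⟨r • n₁, Submodule.smul_mem _ _ hn₁, ?_⟩
      rw [TensorProduct.tmul_smul, h2_smul_quot_tmul]
  obtain ⟨n, hn, hyn⟩ := key ((1 : R ⧸ I) ⊗ₜ[R] y) (by rw [hsp]; trivial)
  have h1 : (1 : R ⧸ I) ⊗ₜ[R] (y - n) = 0 := by
    rw [TensorProduct.tmul_sub, hyn, sub_self]
  have h2 := h2_mem_smul_top_of_tmul_eq_zero I M _ h1
  have : y = n + (y - n) := by abel
  rw [this]
  exact Submodule.add_mem_sup hn h2

/-- the multiplication map `I ⊗ N → N` -/
noncomputable def mu (N : Type u) [AddCommGroup N] [Module R N] : I ⊗[R] N →ₗ[R] N :=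
  (TensorProduct.lid R N).toLinearMap ∘ₗ (Submodule.subtype I).rTensor N

theorem mu_tmul (N : Type u) [AddCommGroup N] [Module R N] (a : I) (n : N) :
    mu I N (a ⊗ₜ n) = (a : R) • n := by
  simp [mu]

theorem mu_natural {N N' : Type u} [AddCommGroup N] [Module R N] [AddCommGroup N'] [Module R N']
    (f : N →ₗ[R] N') (w : I ⊗[R] N) : mu I N' (f.lTensor I w) = f (mu I N w) := by
  induction w using TensorProduct.induction_on with
  | zero => simp
  | tmul a n => rw [LinearMap.lTensor_tmul, mu_tmul, mu_tmul, map_smul]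
  | add x y hx hy => rw [map_add, map_add, hx, hy, map_add, map_add]

theorem mu_mem {F : Type u} [AddCommGroup F] [Module R F] (K : Submodule R F) (w : I ⊗[R] K) :
    mu I F (K.subtype.lTensor I w) ∈ I • K := by
  induction w using TensorProduct.induction_on with
  | zero => simp
  | tmul a k =>
    rw [LinearMap.lTensor_tmul, mu_tmul]
    exact Submodule.smul_mem_smul a.2 k.2
  | add x y hx hy =>
    rw [map_add, map_add]
    exact Submodule.add_mem _ hx hy

theorem ker_le {F M : Type u} [AddCommGroup F] [Module R F] [AddCommGroup M] [Module R M]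
    (htor : Function.Injective ((Submodule.subtype I).rTensor M))
    (φ : F →ₗ[R] M) (hsurj : Function.Surjective φ)
    (h : ∀ z ∈ LinearMap.ker φ, ∃ w : I ⊗[R] F, mu I F w = z) :
    LinearMap.ker φ ≤ I • LinearMap.ker φ := by
  have hmu_inj : Function.Injective (mu I M) := by
    unfold mu
    rw [LinearMap.coe_comp]
    exact (TensorProduct.lid R M).injective.comp htor
  intro z hz
  have hz0 : φ z = 0 := hz
  obtain ⟨w, hw⟩ := h z hz
  have hw0 : φ.lTensor I w = 0 := by
    apply hmu_inj
    rw [mu_natural, hw, hz0, map_zero]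
  have hex : Function.Exact ((LinearMap.ker φ).subtype.lTensor I) (φ.lTensor I) :=
    lTensor_exact I (LinearMap.exact_subtype_ker_map φ) hsurj
  obtain ⟨w', hw'⟩ := (hex w).1 hw0
  rw [← hw, ← hw']
  exact mu_mem I (LinearMap.ker φ) w'

theorem main (hI : IsNilpotent I) (M : Type u) [AddCommGroup M] [Module R M]
    (htor : Function.Injective ((Submodule.subtype I).rTensor M)) {A : Type u} (x : A → M)
    (hli : LinearIndependent (R ⧸ I) (fun a => (1 : R ⧸ I) ⊗ₜ[R] x a))
    (hsp : Submodule.span (R ⧸ I) (Set.range fun a => (1 : R ⧸ I) ⊗ₜ[R] x a) = ⊤) :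
    LinearIndependent R x ∧ Submodule.span R (Set.range x) = ⊤ := by
  classical
  have hspan := span_eq_top I hI x hsp
  refine ⟨?_, hspan⟩
  rw [linearIndependent_iff_ker]
  apply h2_eq_bot_of_le_smul I hI
  have hsurj : Function.Surjective (Finsupp.linearCombination R x) := by
    rw [← LinearMap.range_eq_top, Finsupp.range_linearCombination]
    exact hspan
  refine ker_le I htor (Finsupp.linearCombination R x) hsurj ?_
  intro z hz
  have hz0 : Finsupp.linearCombination R x z = 0 := hz
  -- coefficients of z lie in I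
  have h0 : (1 : R ⧸ I) ⊗ₜ[R] Finsupp.linearCombination R x z = 0 := by
    rw [hz0, TensorProduct.tmul_zero]
  rw [tmul_linearCombination] at h0
  have h1 := linearIndependent_iff.1 hli _ h0
  have hzi : ∀ a, z a ∈ I := by
    intro a
    have := DFunLike.congr_fun h1 a
    rw [Finsupp.mapRange_apply, Finsupp.zero_apply, Ideal.Quotient.eq_zero_iff_mem] at this
    exact this
  refine ⟨∑ a ∈ z.support, (⟨z a, hzi a⟩ : I) ⊗ₜ[R] Finsupp.single a (1 : R), ?_⟩
  rw [map_sum]
  conv_rhs => rw [← Finsupp.sum_single z]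
  rw [Finsupp.sum]
  refine Finset.sum_congr rfl fun a _ => ?_
  rw [mu_tmul, Finsupp.smul_single, smul_eq_mul, mul_one]

end H3NilBasis
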