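import Groth.Agent.Lib.helper2.NilFree

/-! A projective module over a local ring with nilpotent maximal ideal is free (helper3). -/

set_option autoImplicit false
universe u
open TensorProduct IsLocalRing Groth.Agent.Lib.helper2

theorem h3_tmul_eq_zero_of_mem_smul_top {R : Type u} [CommRing R] (J : Ideal R) (P : Type u)
    [AddCommGroup P] [Module R P] (y : P) (h : y ∈ J • (⊤ : Submodule R P)) :
    (1 : R ⧸ J) ⊗ₜ[R] y = 0 := by
  apply (TensorProduct.quotTensorEquivQuotSMul P J).injective
  rw [TensorProduct.quotTensorEquivQuotSMul_mk_one_tmul, map_zero, Submodule.Quotient.mk_eq_zero]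
  exact h

theorem h3_free_of_projective_of_nilpotent {R : Type u} [CommRing R] [IsLocalRing R]
    (hnil : IsNilpotent (maximalIdeal R)) (P : Type u) [AddCommGroup P] [Module R P]
    [Module.Projective R P] : Module.Free R P := by
  classical
  letI : Field (R ⧸ maximalIdeal R) := Ideal.Quotient.field _
  let b := Module.Free.chooseBasis (R ⧸ maximalIdeal R) ((R ⧸ maximalIdeal R) ⊗[R] P)
  have hmk : Function.Surjective (TensorProduct.mk R (R ⧸ maximalIdeal R) P 1) :=
    TensorProduct.mk_surjective R P _ Ideal.Quotient.mk_surjective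
  choose x hx using fun i => hmk (b i)
  have hx' : ∀ i, (1 : R ⧸ maximalIdeal R) ⊗ₜ[R] x i = b i := hx
  let φ : (Module.Free.ChooseBasisIndex (R ⧸ maximalIdeal R) ((R ⧸ maximalIdeal R) ⊗[R] P) →₀ R) →ₗ[R] P :=
    Finsupp.linearCombination R x
  have h1φ : ∀ z, (1 : R ⧸ maximalIdeal R) ⊗ₜ[R] φ z =
      Finsupp.linearCombination _ b
        (Finsupp.mapRange (Ideal.Quotient.mk (maximalIdeal R)) (map_zero _) z) := by
    intro z
    induction z using Finsupp.induction_linear with
    | zero => simp
    | add f g hf hg =>
      rw [map_add, TensorProduct.tmul_add, hf, hg, Finsupp.mapRange_add (by intro a b; exact map_add _ a b), map_add]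
    | single i r =>
      rw [Finsupp.mapRange_single, Finsupp.linearCombination_single,
        Finsupp.linearCombination_single, TensorProduct.tmul_smul, hx',
        h2_smul_quot_tmul]
  have hsurj : Function.Surjective φ := by
    rw [← LinearMap.range_eq_top]
    apply h2_eq_top_of_sup_smul (maximalIdeal R) hnil
    intro y _
    obtain ⟨z, hz⟩ := Finsupp.mapRange_surjective (Ideal.Quotient.mk (maximalIdeal R)) (map_zero _)
      Ideal.Quotient.mk_surjective (b.repr ((1 : R ⧸ maximalIdeal R) ⊗ₜ[R] y))
    have h1 : (1 : R ⧸ maximalIdeal R) ⊗ₜ[R] (y - φ z) = 0 := by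
      rw [TensorProduct.tmul_sub, h1φ, hz, b.linearCombination_repr, sub_self]
    have h2 := h2_mem_smul_top_of_tmul_eq_zero (maximalIdeal R) P _ h1
    have : y = φ z + (y - φ z) := by abel
    rw [this]
    exact Submodule.add_mem_sup (LinearMap.mem_range_self φ z) h2
  obtain ⟨σ, hσ⟩ := Module.projective_lifting_property φ LinearMap.id hsurj
  have hinj : Function.Injective φ := by
    refine h2_injective_of_split (maximalIdeal R) hnil φ σ hσ ?_
    intro z hz
    have h0 := h3_tmul_eq_zero_of_mem_smul_top (maximalIdeal R) P _ hz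
    rw [h1φ] at h0
    have h1 := linearIndependent_iff.1 b.linearIndependent _ h0
    have hzi : ∀ i, z i ∈ maximalIdeal R := by
      intro i
      have := DFunLike.congr_fun h1 i
      rw [Finsupp.mapRange_apply, Finsupp.zero_apply, Ideal.Quotient.eq_zero_iff_mem] at this
      exact this
    have hzs : z = z.sum fun i r => r • Finsupp.single i (1 : R) := by
      conv_lhs => rw [← Finsupp.sum_single z]
      refine Finsupp.sum_congr fun i _ => ?_
      rw [Finsupp.smul_single, smul_eq_mul, mul_one]
    rw [hzs]
    exact Submodule.sum_mem _ fun i _ => Submodule.smul_mem_smul (hzi i) Submodule.mem_top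
  exact Module.Free.of_equiv (LinearEquiv.ofBijective φ ⟨hinj, hsurj⟩)
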