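import Groth.Agent.Lib.helper2.FSRel
import Groth.Prelude.Def_EGA41

/-! Projectivity of `Ω_{B/A} ⊗ B/𝔄` for a formally smooth adic algebra (helper3). -/

set_option autoImplicit false
universe u
open TensorProduct Groth.Agent.Lib.helper2

noncomputable section
namespace H3OmegaProj

variable {A B : Type u} [CommRing A] [CommRing B] [Algebra A B] (𝔄 : Ideal B)

variable (p : (h2M A B (B ⧸ 𝔄) →₀ (B ⧸ 𝔄)) →ₗ[B ⧸ 𝔄] h2M A B (B ⧸ 𝔄))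

def piHom : TrivSqZeroExt (B ⧸ 𝔄) (h2M A B (B ⧸ 𝔄) →₀ (B ⧸ 𝔄)) →ₐ[A]
    TrivSqZeroExt (B ⧸ 𝔄) (h2M A B (B ⧸ 𝔄)) :=
  AlgHom.restrictScalars A (TrivSqZeroExt.map p)

theorem fst_piHom (w : TrivSqZeroExt (B ⧸ 𝔄) (h2M A B (B ⧸ 𝔄) →₀ (B ⧸ 𝔄))) :
    TrivSqZeroExt.fst (piHom 𝔄 p w) = TrivSqZeroExt.fst w :=
  TrivSqZeroExt.fst_map p w

theorem snd_piHom (w : TrivSqZeroExt (B ⧸ 𝔄) (h2M A B (B ⧸ 𝔄) →₀ (B ⧸ 𝔄))) :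
    TrivSqZeroExt.snd (piHom 𝔄 p w) = p (TrivSqZeroExt.snd w) :=
  TrivSqZeroExt.snd_map p w

theorem piHom_surjective (hp : Function.Surjective p) : Function.Surjective (piHom 𝔄 p) := by
  intro w
  obtain ⟨m, hm⟩ := hp (TrivSqZeroExt.snd w)
  refine ⟨TrivSqZeroExt.inl (TrivSqZeroExt.fst w) + TrivSqZeroExt.inr m, ?_⟩
  apply TrivSqZeroExt.ext
  · rw [fst_piHom, TrivSqZeroExt.fst_add, TrivSqZeroExt.fst_inl, TrivSqZeroExt.fst_inr, add_zero]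
  · rw [snd_piHom, TrivSqZeroExt.snd_add, TrivSqZeroExt.snd_inl, TrivSqZeroExt.snd_inr, zero_add, hm]

theorem ker_sq : (RingHom.ker (piHom 𝔄 p)) ^ 2 = ⊥ := by
  rw [eq_bot_iff, pow_two, Ideal.mul_le]
  intro x hx y hy
  have hx' : piHom 𝔄 p x = 0 := hx
  have hy' : piHom 𝔄 p y = 0 := hy
  have h1 : TrivSqZeroExt.fst x = 0 := by rw [← fst_piHom 𝔄 p, hx']; rfl
  have h2 : TrivSqZeroExt.fst y = 0 := by rw [← fst_piHom 𝔄 p, hy']; rfl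
  rw [Ideal.mem_bot]
  apply TrivSqZeroExt.ext
  · rw [TrivSqZeroExt.fst_mul, h1, zero_mul]; rfl
  · rw [TrivSqZeroExt.snd_mul, h1, h2, zero_smul, MulOpposite.op_zero, zero_smul, add_zero]; rfl

/-- the canonical map `u₀ : B → D(T)` -/
def u0 : B →ₐ[A] TrivSqZeroExt (B ⧸ 𝔄) (h2M A B (B ⧸ 𝔄)) := IsScalarTower.toAlgHom A B _

theorem u0_apply (b : B) : u0 (A := A) 𝔄 b =
    TrivSqZeroExt.inl (algebraMap B (B ⧸ 𝔄) b) + TrivSqZeroExt.inr (h2el A B (B ⧸ 𝔄) b) := rfl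

theorem u0_of_mem (b : B) (hb : b ∈ 𝔄) : u0 (A := A) 𝔄 b =
    TrivSqZeroExt.inr (h2el A B (B ⧸ 𝔄) b) := by
  rw [u0_apply, Ideal.Quotient.algebraMap_eq, Ideal.Quotient.eq_zero_iff_mem.2 hb,
    TrivSqZeroExt.inl_zero, zero_add]

theorem u0_of_mem_mul (x : B) (hx : x ∈ 𝔄 * 𝔄) : u0 (A := A) 𝔄 x = 0 := by
  refine Submodule.mul_induction_on hx (fun a ha b hb => ?_) (fun x y hx hy => ?_)
  · rw [map_mul, u0_of_mem 𝔄 a ha, u0_of_mem 𝔄 b hb, TrivSqZeroExt.inr_mul_inr]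
  · rw [map_add, hx, hy, add_zero]

theorem main (𝔞 : Ideal A) (𝔟 : Ideal B) (hAB : ∃ k : ℕ, (𝔞 ^ k).map (algebraMap A B) ≤ 𝔟)
    (h : EGA41.IsFormallySmoothAdic A 𝔞 B 𝔟) (h𝔄 : ∃ n : ℕ, 𝔟 ^ n ≤ 𝔄)
    (p₀ : (((B ⧸ 𝔄) ⊗[B] Ω[B⁄A]) →₀ (B ⧸ 𝔄)) →ₗ[B ⧸ 𝔄] ((B ⧸ 𝔄) ⊗[B] Ω[B⁄A]))
    (hp₀ : Function.Surjective p₀) :
    ∃ s : ((B ⧸ 𝔄) ⊗[B] Ω[B⁄A]) →ₗ[B ⧸ 𝔄] (((B ⧸ 𝔄) ⊗[B] Ω[B⁄A]) →₀ (B ⧸ 𝔄)),
      p₀ ∘ₗ s = LinearMap.id := by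
  obtain ⟨n, hn⟩ := h𝔄
  obtain ⟨k, hk⟩ := hAB
  let p : (h2M A B (B ⧸ 𝔄) →₀ (B ⧸ 𝔄)) →ₗ[B ⧸ 𝔄] h2M A B (B ⧸ 𝔄) := p₀
  have hp : Function.Surjective p := hp₀
  let e := Ideal.quotientKerAlgEquivOfSurjective (piHom_surjective (A := A) 𝔄 p hp)
  let u : B →ₐ[A] (TrivSqZeroExt (B ⧸ 𝔄) (h2M A B (B ⧸ 𝔄) →₀ (B ⧸ 𝔄)) ⧸ RingHom.ker (piHom 𝔄 p)) :=
    (e.symm : _ →ₐ[A] _).comp (u0 𝔄)
  have hc2 : (𝔞 ^ (k * n)).map (algebraMap A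
      (TrivSqZeroExt (B ⧸ 𝔄) (h2M A B (B ⧸ 𝔄) →₀ (B ⧸ 𝔄)))) = ⊥ := by
    rw [eq_bot_iff, Ideal.map_le_iff_le_comap]
    intro a ha
    rw [Ideal.mem_comap, Ideal.mem_bot, TrivSqZeroExt.algebraMap_eq_inl',
      IsScalarTower.algebraMap_apply A B (B ⧸ 𝔄), Ideal.Quotient.algebraMap_eq,
      Ideal.Quotient.eq_zero_iff_mem.2, TrivSqZeroExt.inl_zero]
    apply hn
    have h1 : algebraMap A B a ∈ ((𝔞 ^ k).map (algebraMap A B)) ^ n := by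
      rw [← Ideal.map_pow, ← pow_mul]
      exact Ideal.mem_map_of_mem _ ha
    exact Ideal.pow_right_mono hk n h1
  have hc3 : ∀ x ∈ 𝔟 ^ (n + n), u x = 0 := by
    intro x hx
    show e.symm (u0 𝔄 x) = 0
    rw [u0_of_mem_mul 𝔄 x, map_zero]
    rw [pow_add] at hx
    exact Ideal.mul_mono hn hn hx
  obtain ⟨v, hv⟩ := h (TrivSqZeroExt (B ⧸ 𝔄) (h2M A B (B ⧸ 𝔄) →₀ (B ⧸ 𝔄)))
    (RingHom.ker (piHom 𝔄 p)) ⟨2, by rw [Ideal.zero_eq_bot]; exact ker_sq 𝔄 p⟩ ⟨k * n, hc2⟩ u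
    ⟨n + n, hc3⟩
  · have hv' : ∀ b, piHom 𝔄 p (v b) = u0 𝔄 b := by
      intro b
      have h1 := congrArg e (AlgHom.congr_fun hv b)
      have h2 : e (u b) = u0 𝔄 b := e.apply_symm_apply _
      rw [h2] at h1
      rw [← h1]
      rfl
    have hfst : ∀ b, TrivSqZeroExt.fst (v b) = algebraMap B (B ⧸ 𝔄) b := by
      intro b
      rw [← fst_piHom 𝔄 p, hv', u0_apply, TrivSqZeroExt.fst_add, TrivSqZeroExt.fst_inl,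
        TrivSqZeroExt.fst_inr, add_zero]
    have hsnd : ∀ b, p (TrivSqZeroExt.snd (v b)) = h2el A B (B ⧸ 𝔄) b := by
      intro b
      rw [← snd_piHom 𝔄 p, hv', u0_apply, TrivSqZeroExt.snd_add, TrivSqZeroExt.snd_inl,
        TrivSqZeroExt.snd_inr, zero_add]
    let δ : Derivation A B (h2M A B (B ⧸ 𝔄) →₀ (B ⧸ 𝔄)) := Derivation.mk'
      { toFun := fun b => TrivSqZeroExt.snd (v b)
        map_add' := fun x y => by rw [map_add, TrivSqZeroExt.snd_add]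
        map_smul' := fun a x => by
          rw [map_smul, TrivSqZeroExt.snd_smul, RingHom.id_apply] }
      (fun x y => by
        show TrivSqZeroExt.snd (v (x * y)) = x • TrivSqZeroExt.snd (v y) + y • TrivSqZeroExt.snd (v x)
        rw [map_mul, TrivSqZeroExt.snd_mul, hfst, hfst, op_smul_eq_smul, algebraMap_smul,
          algebraMap_smul])
    have hδ : ∀ b, δ b = TrivSqZeroExt.snd (v b) := fun b => rfl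
    let l : Ω[B⁄A] →ₗ[B] (h2M A B (B ⧸ 𝔄) →₀ (B ⧸ 𝔄)) := δ.liftKaehlerDifferential
    let s : ((B ⧸ 𝔄) ⊗[B] Ω[B⁄A]) →ₗ[B ⧸ 𝔄] (h2M A B (B ⧸ 𝔄) →₀ (B ⧸ 𝔄)) :=
      LinearMap.liftBaseChange (B ⧸ 𝔄) l
    refine ⟨s, ?_⟩
    have key : ∀ ω : Ω[B⁄A], p₀ (l ω) = (1 : B ⧸ 𝔄) ⊗ₜ[B] ω := by
      intro ω
      have := Derivation.liftKaehlerDifferential_unique ((p₀.restrictScalars B) ∘ₗ l)
        (TensorProduct.mk B (B ⧸ 𝔄) Ω[B⁄A] 1) ?_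
      · exact LinearMap.congr_fun this ω
      · ext b
        show p₀ (l (KaehlerDifferential.D A B b)) = (1 : B ⧸ 𝔄) ⊗ₜ[B] KaehlerDifferential.D A B b
        rw [Derivation.liftKaehlerDifferential_comp_D, hδ]
        exact hsnd b
    apply TensorProduct.AlgebraTensorModule.ext
    intro c ω
    show p (s (c ⊗ₜ ω)) = c ⊗ₜ ω
    rw [LinearMap.liftBaseChange_tmul, map_smul,
      show p (l ω) = (1 : B ⧸ 𝔄) ⊗ₜ[B] ω from key ω]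
    show c • ((1 : B ⧸ 𝔄) ⊗ₜ[B] ω) = c ⊗ₜ ω
    rw [TensorProduct.smul_tmul', smul_eq_mul, mul_one]

end H3OmegaProj
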