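import Mathlib

set_option maxSynthPendingDepth 3
set_option linter.style.haveILetI false

namespace Groth.Agent.Lib.helper3.PureFlat
universe u
open Module LocalizedModule

variable {R : Type u} [CommRing R] {M : Type u} [AddCommGroup M] [Module R M] [Module.Finite R M]
  [Module.Flat R M]

attribute [local instance] Module.free_of_flat_of_isLocalRing

variable (M) in
theorem exists_map_surj (p : Ideal R) [p.IsPrime] :
    ∃ (φ : (Fin (rankAtStalk M ⟨p, inferInstance⟩) →₀ R) →ₗ[R] M) (a : R), a ∉ p ∧
      Function.Surjective (LocalizedModule.map (Submonoid.powers a) φ) := by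
  haveI : Nontrivial R := ⟨⟨0, 1, fun h01 =>
    (inferInstance : p.IsPrime).ne_top ((Ideal.eq_top_iff_one p).2 (h01 ▸ p.zero_mem))⟩⟩
  let Rₚ := Localization.AtPrime p
  let n := rankAtStalk M ⟨p, inferInstance⟩
  let f : (Fin n →₀ R) →ₗ[R] Fin n →₀ Rₚ := Finsupp.mapRange.linearMap (Algebra.linearMap R Rₚ)
  let g : M →ₗ[R] LocalizedModule.AtPrime p M := LocalizedModule.mkLinearMap p.primeCompl M
  obtain ⟨φ, -, -, hφps⟩ := exists_localizedMap_surjective_of_surjective p.primeCompl f g
    ((finBasis Rₚ (LocalizedModule.AtPrime p M)).repr.restrictScalars R).symm.surjective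
  obtain ⟨a, hap, hφas⟩ := by
    refine exists_localizedMap_away_surjective_of_localizedMap_atPrime_surjective p φ ?_
    simpa [LocalizedModule.coe_map_eq f g]
  exact ⟨φ, a, hap, hφas⟩

variable (M) in
theorem exists_nhds_rank_le (p : Ideal R) [p.IsPrime] :
    ∃ a ∉ p, ∀ q : PrimeSpectrum R, a ∉ q.asIdeal →
      rankAtStalk M q ≤ rankAtStalk M ⟨p, inferInstance⟩ := by
  haveI : Nontrivial R := ⟨⟨0, 1, fun h01 =>
    (inferInstance : p.IsPrime).ne_top ((Ideal.eq_top_iff_one p).2 (h01 ▸ p.zero_mem))⟩⟩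
  obtain ⟨φ, a, hap, hφas⟩ := exists_map_surj M p
  refine ⟨a, hap, fun q haq => ?_⟩
  haveI := q.2
  have hφq : Function.Surjective (LocalizedModule.map q.asIdeal.primeCompl φ) := by
    rw [φ.localizedMap_surjective_iff_subsingleton_localized_coker] at hφas ⊢
    rw [LocalizedModule.subsingleton_iff] at hφas ⊢
    intro m
    obtain ⟨r, ⟨k, rfl⟩, hr⟩ := hφas m
    exact ⟨a ^ k, fun hmem => haq (q.2.mem_of_pow_mem k hmem), hr⟩
  calc rankAtStalk M q
      = Module.finrank (Localization.AtPrime q.asIdeal)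
          (LocalizedModule q.asIdeal.primeCompl M) := rfl
    _ ≤ Module.finrank (Localization.AtPrime q.asIdeal)
          (LocalizedModule q.asIdeal.primeCompl (Fin (rankAtStalk M ⟨p, inferInstance⟩) →₀ R)) :=
        LinearMap.finrank_le_finrank_of_surjective hφq
    _ = rankAtStalk (Fin (rankAtStalk M ⟨p, inferInstance⟩) →₀ R) q := rfl
    _ = rankAtStalk M ⟨p, inferInstance⟩ := by
        rw [rankAtStalk_eq_finrank_of_free]; simp

variable (M) in
theorem free_away_of_rank_const_nhds (p : Ideal R) [p.IsPrime] (b : R) (hb : b ∉ p)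
    (h : ∀ q : PrimeSpectrum R, b ∉ q.asIdeal →
      rankAtStalk M q = rankAtStalk M ⟨p, inferInstance⟩) :
    ∃ c ∉ p, Module.Free (Localization.Away c) (LocalizedModule.Away c M) := by
  haveI : Nontrivial R := ⟨⟨0, 1, fun h01 =>
    (inferInstance : p.IsPrime).ne_top ((Ideal.eq_top_iff_one p).2 (h01 ▸ p.zero_mem))⟩⟩
  obtain ⟨φ, a, hap, hφas⟩ := exists_map_surj M p
  have hc : a * b ∉ p := fun hmem => ((inferInstance : p.IsPrime).mem_or_mem hmem).elim hap hb
  have hφcs : Function.Surjective (LocalizedModule.map (Submonoid.powers (a * b)) φ) := by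
    rw [φ.localizedMap_surjective_iff_subsingleton_localized_coker] at hφas ⊢
    rw [LocalizedModule.subsingleton_iff] at hφas ⊢
    intro m
    obtain ⟨r, ⟨k, rfl⟩, hr⟩ := hφas m
    refine ⟨(a * b) ^ k, ⟨k, rfl⟩, ?_⟩
    rw [mul_pow, mul_comm, mul_smul, hr, smul_zero]
  have : Module.Free (Localization.Away (a * b))
      (LocalizedModule.Away (a * b) (Fin (rankAtStalk M ⟨p, inferInstance⟩) →₀ R)) :=
    Module.Free.of_equiv (IsLocalizedModule.isBaseChange (Submonoid.powers (a * b))
      (Localization.Away (a * b)) (mkLinearMap (Submonoid.powers (a * b))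
        (Fin (rankAtStalk M ⟨p, inferInstance⟩) →₀ R))).equiv
  let φc : LocalizedModule.Away (a * b) (Fin (rankAtStalk M ⟨p, inferInstance⟩) →₀ R)
      →ₗ[Localization.Away (a * b)] LocalizedModule.Away (a * b) M :=
    LocalizedModule.map (Submonoid.powers (a * b)) φ
  refine ⟨a * b, hc, Module.Free.of_equiv <| LinearEquiv.ofBijective φc <|
    bijective_of_surjective_of_rankAtStalk_eq hφcs <| fun m _ ↦ ?_⟩
  have hbm : b ∉ (PrimeSpectrum.comap (algebraMap R (Localization (Submonoid.powers (a * b))))
      ⟨m, inferInstance⟩).asIdeal := by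
    intro hmem
    have hu : IsUnit (algebraMap R (Localization.Away (a * b)) (a * b)) :=
      IsLocalization.Away.algebraMap_isUnit (a * b)
    rw [map_mul] at hu
    have hbm' : algebraMap R (Localization.Away (a * b)) b ∈ m := hmem
    exact (inferInstance : m.IsPrime).ne_top
      (Ideal.eq_top_of_isUnit_mem _ (Ideal.mul_mem_left _ _ hbm') hu)
  simp [rankAtStalk_isBaseChange (LocalizedModule.isBaseChange (Submonoid.powers (a * b)) _),
    h _ hbm]

theorem projective_of_closed_genStable_open
    (H : ∀ Z : Set (PrimeSpectrum R), IsClosed Z → StableUnderGeneralization Z → IsOpen Z) :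
    Module.Projective R M := by
  have hZclosed : ∀ n : ℕ, IsClosed {q : PrimeSpectrum R | n ≤ rankAtStalk M q} := by
    intro n
    rw [← isOpen_compl_iff, isOpen_iff_forall_mem_open]
    intro p hp
    simp only [Set.mem_compl_iff, Set.mem_ofPred_eq, not_le] at hp
    haveI := p.2
    obtain ⟨a, hap, ha⟩ := exists_nhds_rank_le M p.asIdeal
    refine ⟨PrimeSpectrum.basicOpen a, ?_, (PrimeSpectrum.basicOpen a).2, hap⟩
    intro q hq
    simp only [Set.mem_compl_iff, Set.mem_ofPred_eq, not_le]
    exact lt_of_le_of_lt (ha q hq) hp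
  have hZgen : ∀ n : ℕ,
      StableUnderGeneralization {q : PrimeSpectrum R | n ≤ rankAtStalk M q} := by
    intro n x y hyx hx
    have hle : y ≤ x := (PrimeSpectrum.le_iff_specializes y x).2 hyx
    simp only [Set.mem_ofPred_eq] at hx ⊢
    rwa [rankAtStalk_eq_of_le_of_finite_of_flat M hle]
  have hZopen : ∀ n : ℕ, IsOpen {q : PrimeSpectrum R | n ≤ rankAtStalk M q} :=
    fun n => H _ (hZclosed n) (hZgen n)
  have hUopen : ∀ n : ℕ, IsOpen {q : PrimeSpectrum R | rankAtStalk M q = n} := by
    intro n
    have : {q : PrimeSpectrum R | rankAtStalk M q = n}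
        = {q | n ≤ rankAtStalk M q} ∩ {q | n + 1 ≤ rankAtStalk M q}ᶜ := by
      ext q
      simp only [Set.mem_ofPred_eq, Set.mem_inter_iff, Set.mem_compl_iff, not_le]
      omega
    rw [this]
    exact (hZopen n).inter (hZclosed (n+1)).isOpen_compl
  have hloc : ∀ (p : Ideal R) [p.IsPrime],
      ∃ c ∉ p, Module.Free (Localization.Away c) (LocalizedModule.Away c M) := by
    intro p _
    obtain ⟨b, hb1, hb2⟩ : ∃ b : R, b ∉ p ∧ ∀ q : PrimeSpectrum R, b ∉ q.asIdeal →
        rankAtStalk M q = rankAtStalk M ⟨p, inferInstance⟩ := by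
      obtain ⟨_, ⟨b, rfl⟩, hpb, hsub⟩ :=
        PrimeSpectrum.isTopologicalBasis_basic_opens.exists_subset_of_mem_open
          (show (⟨p, inferInstance⟩ : PrimeSpectrum R) ∈
            {q | rankAtStalk M q = rankAtStalk M ⟨p, inferInstance⟩} from rfl) (hUopen _)
      exact ⟨b, hpb, fun q hq => hsub hq⟩
    exact free_away_of_rank_const_nhds M p b hb1 hb2
  haveI : Module.FinitePresentation R M := by
    let s : Set R := {c | Module.Free (Localization.Away c) (LocalizedModule.Away c M)}
    have hs : Ideal.span s = ⊤ := by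
      by_contra hne
      obtain ⟨m, hm, hle⟩ := Ideal.exists_le_maximal _ hne
      haveI := hm.isPrime
      obtain ⟨c, hc, hfree⟩ := hloc m
      exact hc (hle (Ideal.subset_span hfree))
    refine Module.FinitePresentation.of_localizationSpan s hs (fun g => ?_)
    haveI : Module.Free (Localization.Away g.1) (LocalizedModule.Away g.1 M) := g.2
    exact Module.finitePresentation_of_projective _ _
  exact Module.Flat.projective_of_finitePresentation

end Groth.Agent.Lib.helper3.PureFlat
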