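import Mathlib
import Groth.Prelude.Def_CAlgX
import Groth.Agent.Lib.helper2.QReg2
import Groth.Agent.Lib.helper2.QReg4

/-! Quasi-regular sequences in the Jacobson radical of a Noetherian ring are regular
(adapted from helper2's local version `h2_regular_of_qreg`). -/

universe u
open MvPolynomial
open scoped Pointwise

theorem h3_regular_of_qreg_jacobson : ∀ (N : ℕ) (A : Type u) [CommRing A] [IsNoetherianRing A]
    (g : Fin N → A), (∀ i, g i ∈ Ideal.jacobson (⊥ : Ideal A)) →
    CAlgX.IsQuasiRegular g → RingTheory.Sequence.IsWeaklyRegular A (List.ofFn g) := by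
  intro N
  induction N with
  | zero =>
    intro A _ _ g _ _
    rw [List.ofFn_zero]
    exact RingTheory.Sequence.IsWeaklyRegular.nil A A
  | succ N ih =>
    intro A _ _ g hm hq
    classical
    have hI : Ideal.span (Set.range g) ≤ Ideal.jacobson (⊥ : Ideal A) :=
      Ideal.span_le.mpr (by rintro _ ⟨i, rfl⟩; exact hm i)
    -- Step 1: `g 0` is a nonzerodivisor
    have hreg0 : IsSMulRegular A (g 0) := by
      rw [isSMulRegular_iff_right_eq_zero_of_smul]
      intro ξ hξ
      have hmem : ∀ ν, ξ ∈ Ideal.span (Set.range g) ^ ν := by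
        intro ν
        induction ν with
        | zero => rw [pow_zero, Ideal.one_eq_top]; trivial
        | succ ν ihν =>
          obtain ⟨F, hF1, -, hF3⟩ := h2_hom_repr g ⊤ ν ξ (by rw [Ideal.top_mul]; exact ihν)
          have hcoef := hq (ν + 1) (F * X 0) (hF1.mul (isHomogeneous_X _ 0))
            (by
              rw [map_mul, eval_X, hF3, mul_comm, ← smul_eq_mul, hξ]
              exact zero_mem _)
          have hF2 : ∀ d, F.coeff d ∈ Ideal.span (Set.range g) := fun d => by
            have h0 := hcoef (d + Finsupp.single 0 1)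
            rwa [coeff_mul_X] at h0
          have h1 := h2_eval_mem g (Ideal.span (Set.range g)) ν F hF1 hF2
          rwa [hF3, ← pow_succ'] at h1
      have hkr : (⨅ i : ℕ, Ideal.span (Set.range g) ^ i) = ⊥ := by
        convert! (Ideal.span (Set.range g)).iInf_pow_smul_eq_bot_of_le_jacobson (M := A) hI
        ext i
        rw [smul_eq_mul, ← Ideal.one_eq_top, mul_one]
      have h2 : ξ ∈ (⨅ i : ℕ, Ideal.span (Set.range g) ^ i) := (Ideal.mem_iInf).mpr hmem
      rw [hkr] at h2
      exact h2
    -- the quotient ring
    have hmq : ∀ i : Fin N, Ideal.Quotient.mk (Ideal.span {g 0}) (g i.succ) ∈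
        Ideal.jacobson (⊥ : Ideal (A ⧸ Ideal.span {g 0})) := by
      intro i
      rw [Ideal.mem_jacobson_bot]
      intro y
      obtain ⟨y, rfl⟩ := Ideal.Quotient.mk_surjective y
      have h1 := (Ideal.mem_jacobson_bot.1 (hm i.succ)) y
      have h2 := h1.map (Ideal.Quotient.mk (Ideal.span {g 0}))
      rwa [map_add, map_mul, map_one] at h2
    -- Step 2: the images of `g 1, …` are quasi-regular in the quotient
    have hI'I : Ideal.span (Set.range fun i : Fin N => g i.succ) ≤ Ideal.span (Set.range g) :=
      Ideal.span_mono (by rintro _ ⟨i, rfl⟩; exact ⟨i.succ, rfl⟩)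
    have haI : g 0 ∈ Ideal.span (Set.range g) := Ideal.subset_span ⟨0, rfl⟩
    have hIeq : Ideal.span (Set.range g) =
        Ideal.span {g 0} ⊔ Ideal.span (Set.range fun i : Fin N => g i.succ) := by
      apply le_antisymm
      · rw [Ideal.span_le]
        rintro _ ⟨i, rfl⟩
        refine Fin.cases ?_ (fun j => ?_) i
        · exact Ideal.mem_sup_left (Ideal.mem_span_singleton_self _)
        · exact Ideal.mem_sup_right (Ideal.subset_span ⟨j, rfl⟩)
      · exact sup_le ((Ideal.span_singleton_le_iff_mem _).mpr haI) hI'I
    have hspanq : Ideal.span (Set.range fun i : Fin N =>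
        Ideal.Quotient.mk (Ideal.span {g 0}) (g i.succ)) =
        (Ideal.span (Set.range fun i : Fin N => g i.succ)).map
          (Ideal.Quotient.mk (Ideal.span {g 0})) := by
      rw [Ideal.map_span, ← Set.range_comp]
      rfl
    have hqr' : CAlgX.IsQuasiRegular
        (fun i : Fin N => Ideal.Quotient.mk (Ideal.span {g 0}) (g i.succ)) := by
      intro ν Fb hFb hev db
      obtain ⟨F, hF, rfl⟩ := h2_hom_lift (Ideal.span {g 0}) ν Fb hFb
      -- evaluate
      have hevF : Ideal.Quotient.mk (Ideal.span {g 0}) (eval (fun i : Fin N => g i.succ) F) =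
          eval (fun i : Fin N => Ideal.Quotient.mk (Ideal.span {g 0}) (g i.succ))
            (MvPolynomial.map (Ideal.Quotient.mk (Ideal.span {g 0})) F) := by
        rw [MvPolynomial.eval_map]
        exact MvPolynomial.eval₂_comp_left (Ideal.Quotient.mk (Ideal.span {g 0}))
          (RingHom.id A) (fun i : Fin N => g i.succ) F
      rw [← hevF, hspanq, ← Ideal.map_pow] at hev
      have hev2 : eval (fun i : Fin N => g i.succ) F ∈
          (Ideal.span (Set.range fun i : Fin N => g i.succ)) ^ (ν + 1) ⊔ Ideal.span {g 0} := by
        have h0 : eval (fun i : Fin N => g i.succ) F ∈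
            (((Ideal.span (Set.range fun i : Fin N => g i.succ)) ^ (ν + 1)).map
              (Ideal.Quotient.mk (Ideal.span {g 0}))).comap
              (Ideal.Quotient.mk (Ideal.span {g 0})) := hev
        rwa [Ideal.comap_map_of_surjective _ Ideal.Quotient.mk_surjective,
          ← RingHom.ker_eq_comap_bot, Ideal.mk_ker] at h0
      obtain ⟨z, hz, w, hw, hzw⟩ := Submodule.mem_sup.mp hev2
      obtain ⟨ω, rfl⟩ := Ideal.mem_span_singleton'.mp hw
      obtain ⟨G', hG'1, hG'2, hG'3⟩ := h2_hom_repr (fun i : Fin N => g i.succ)
        (Ideal.span (Set.range fun i : Fin N => g i.succ)) ν z (by rw [← pow_succ']; exact hz)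
      -- `F₁ = F - G'`
      have hF₁ : (F - G').IsHomogeneous ν := hF.sub hG'1
      have hF₁ev : eval (fun i : Fin N => g i.succ) (F - G') = ω * g 0 := by
        rw [map_sub, hG'3, ← hzw]; ring
      have hF₁mem : eval (fun i : Fin N => g i.succ) (F - G') ∈
          Ideal.span (Set.range g) ^ ν := by
        have h0 := h2_eval_mem (fun i : Fin N => g i.succ) ⊤ ν (F - G') hF₁ (fun _ => trivial)
        rw [Ideal.top_mul] at h0
        exact Ideal.pow_right_mono hI'I ν h0
      -- coefficients of `F₁` lie in `I`
      have hF₁coef : ∀ d, (F - G').coeff d ∈ Ideal.span (Set.range g) := by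
        rcases Nat.eq_zero_or_pos ν with hν | hν
        · subst hν
          intro d
          have htd : (F - G').totalDegree = 0 := Nat.le_zero.mp hF₁.totalDegree_le
          have hC := totalDegree_eq_zero_iff_eq_C.mp htd
          have hc0 : (F - G').coeff 0 = ω * g 0 := by
            rw [← hF₁ev, hC, eval_C, coeff_C, if_pos rfl]
          rw [hC, coeff_C]
          split_ifs
          · rw [hc0]; exact Ideal.mul_mem_left _ _ haI
          · exact zero_mem _
        · obtain ⟨ν', rfl⟩ : ∃ ν', ν = ν' + 1 := ⟨ν - 1, by omega⟩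
          -- `ω ∈ I ^ ν'`
          have hω : ∀ i, i ≤ ν' → ω ∈ Ideal.span (Set.range g) ^ i := by
            intro i
            induction i with
            | zero => intro _; rw [pow_zero, Ideal.one_eq_top]; trivial
            | succ i ihi =>
              intro hi
              have hωi := ihi (by omega)
              obtain ⟨G, hG1, -, hG3⟩ := h2_hom_repr g ⊤ i ω (by rw [Ideal.top_mul]; exact hωi)
              have hcoef := hq (i + 1) (G * X 0) (hG1.mul (isHomogeneous_X _ 0))
                (by
                  rw [map_mul, eval_X, hG3, ← hF₁ev]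
                  exact Ideal.pow_le_pow_right (by omega) hF₁mem)
              have hG2 : ∀ d, G.coeff d ∈ Ideal.span (Set.range g) := fun d => by
                have h0 := hcoef (d + Finsupp.single 0 1)
                rwa [coeff_mul_X] at h0
              have h1 := h2_eval_mem g (Ideal.span (Set.range g)) i G hG1 hG2
              rwa [hG3, ← pow_succ'] at h1
          obtain ⟨G, hG1, -, hG3⟩ := h2_hom_repr g ⊤ ν' ω
            (by rw [Ideal.top_mul]; exact hω ν' le_rfl)
          have hH : (rename Fin.succ (F - G') - G * X 0).IsHomogeneous (ν' + 1) :=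
            (hF₁.rename_isHomogeneous).sub (hG1.mul (isHomogeneous_X _ 0))
          have hHev : eval g (rename Fin.succ (F - G') - G * X 0) = 0 := by
            rw [map_sub, eval_rename, map_mul, eval_X, hG3]
            have h0 : (g ∘ Fin.succ) = fun i : Fin N => g i.succ := rfl
            rw [h0, hF₁ev, sub_self]
          have hHcoef := hq (ν' + 1) _ hH (by rw [hHev]; exact zero_mem _)
          intro d
          have h1 := hHcoef (d.mapDomain Fin.succ)
          rw [coeff_sub, coeff_rename_mapDomain Fin.succ (Fin.succ_injective N), coeff_mul_X',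
            if_neg, sub_zero] at h1
          · exact h1
          · rw [Finsupp.mem_support_iff, not_not, Finsupp.mapDomain_of_notMem_range]
            rintro ⟨j, hj⟩
            exact Fin.succ_ne_zero j hj
      have hFcoef : F.coeff db ∈ Ideal.span (Set.range g) := by
        have h0 : F.coeff db = (F - G').coeff db + G'.coeff db := by rw [coeff_sub]; ring
        rw [h0]
        exact Ideal.add_mem _ (hF₁coef db) (hI'I (hG'2 db))
      rw [coeff_map, hspanq]
      rw [hIeq] at hFcoef
      obtain ⟨y, hy, w', hw', hyw⟩ := Submodule.mem_sup.mp hFcoef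
      rw [← hyw, map_add, Ideal.Quotient.eq_zero_iff_mem.mpr hy, zero_add]
      exact Ideal.mem_map_of_mem _ hw'
    -- Step 3: induction
    have hrec := ih (A ⧸ Ideal.span {g 0})
      (fun i : Fin N => Ideal.Quotient.mk (Ideal.span {g 0}) (g i.succ)) hmq hqr'
    have hlist : (List.ofFn fun i : Fin N => Ideal.Quotient.mk (Ideal.span {g 0}) (g i.succ)) =
        (List.ofFn fun i : Fin N => g i.succ).map (algebraMap A (A ⧸ Ideal.span {g 0})) := by
      rw [List.map_ofFn]
      rfl
    rw [hlist, RingTheory.Sequence.isWeaklyRegular_map_algebraMap_iff] at hrec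
    have hsm : (Ideal.span {g 0} : Submodule A A) = g 0 • (⊤ : Submodule A A) := by
      rw [← Submodule.ideal_span_singleton_smul, smul_eq_mul, Ideal.mul_top]
    have hrec' : RingTheory.Sequence.IsWeaklyRegular (QuotSMulTop (g 0) A)
        (List.ofFn fun i : Fin N => g i.succ) :=
      ((Submodule.quotEquivOfEq (Ideal.span {g 0} : Submodule A A)
        (g 0 • (⊤ : Submodule A A)) hsm).isWeaklyRegular_congr _).mp hrec
    rw [List.ofFn_succ, RingTheory.Sequence.isWeaklyRegular_cons_iff]
    exact ⟨hreg0, hrec'⟩
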