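import Mathlib

namespace Groth.Agent.Lib.helper3.QuasiHomeo
universe u v
variable {A : Type u} {B : Type v} [TopologicalSpace A] [TopologicalSpace B]

theorem sub_of_preimage_sub {g : A → B}
    (ha : ∀ U₁ U₂ : Set B, IsOpen U₁ → IsOpen U₂ → g ⁻¹' U₁ = g ⁻¹' U₂ → U₁ = U₂)
    {U U' : Set B} (hU : IsOpen U) (hU' : IsOpen U') (h : g ⁻¹' U ⊆ g ⁻¹' U') : U ⊆ U' := by
  have : U ∩ U' = U := ha _ _ (hU.inter hU') hU (by
    rw [Set.preimage_inter]; exact Set.inter_eq_left.2 h)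
  rw [← this]; exact Set.inter_subset_right

theorem isCompact_preimage_iff {g : A → B}
    (ha : ∀ U₁ U₂ : Set B, IsOpen U₁ → IsOpen U₂ → g ⁻¹' U₁ = g ⁻¹' U₂ → U₁ = U₂)
    (hb : ∀ V : Set A, IsOpen V → ∃ U : Set B, IsOpen U ∧ g ⁻¹' U = V)
    (hg : Continuous g) {U : Set B} (hU : IsOpen U) : IsCompact U ↔ IsCompact (g ⁻¹' U) := by
  constructor
  · intro hc
    rw [isCompact_iff_finite_subcover]
    intro ι V hV hcov
    choose W hWo hWV using fun k => hb (V k) (hV k)
    have h1 : U ⊆ ⋃ k, W k := by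
      apply sub_of_preimage_sub ha hU (isOpen_iUnion hWo)
      rw [Set.preimage_iUnion]
      simpa only [hWV] using hcov
    obtain ⟨t, ht⟩ := hc.elim_finite_subcover W hWo h1
    refine ⟨t, ?_⟩
    intro x hx
    have := ht hx
    simp only [Set.mem_iUnion] at this ⊢
    obtain ⟨k, hk, hxk⟩ := this
    exact ⟨k, hk, by rw [← hWV k]; exact hxk⟩
  · intro hc
    rw [isCompact_iff_finite_subcover]
    intro ι W hW hcov
    obtain ⟨t, ht⟩ := hc.elim_finite_subcover (fun k => g ⁻¹' W k) (fun k => (hW k).preimage hg)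
      (by rw [← Set.preimage_iUnion]; exact Set.preimage_mono hcov)
    refine ⟨t, ?_⟩
    apply sub_of_preimage_sub ha hU (isOpen_biUnion (fun k _ => hW k))
    rw [Set.preimage_iUnion₂]
    exact ht

end Groth.Agent.Lib.helper3.QuasiHomeo
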