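import Mathlib.RingTheory.Regular.IsSMulRegular
import Mathlib.Algebra.Module.Submodule.Pointwise
import Mathlib.RingTheory.Filtration

set_option autoImplicit false
universe u v
open scoped Pointwise

namespace Groth.Agent.Helper3

theorem mem_pointwise_smul_top {A : Type u} [CommRing A] {M : Type v} [AddCommGroup M] [Module A M]
    (a : A) (x : M) : x ∈ a • (⊤ : Submodule A M) ↔ ∃ y : M, a • y = x := by
  rw [Submodule.mem_smul_pointwise_iff_exists]
  simp

theorem regCrit_of_regular {A : Type u} [CommRing A] {M : Type v} [AddCommGroup M] [Module A M]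
    (f : A) (hf : IsSMulRegular M f) (k : ℕ) (x : M)
    (hx : f ^ k • x ∈ f ^ (k + 1) • (⊤ : Submodule A M)) : x ∈ f • (⊤ : Submodule A M) := by
  rw [mem_pointwise_smul_top] at hx ⊢
  obtain ⟨y, hy⟩ := hx
  refine ⟨y, ?_⟩
  have hk : IsSMulRegular M (f ^ k) := hf.pow k
  apply hk
  change f ^ k • f • y = f ^ k • x
  rw [← hy, pow_succ, mul_smul]

theorem mem_iInf_of_regCrit {A : Type u} [CommRing A] {M : Type v} [AddCommGroup M] [Module A M]
    (f : A)
    (h : ∀ (k : ℕ) (x : M), f ^ k • x ∈ f ^ (k + 1) • (⊤ : Submodule A M) → x ∈ f • (⊤ : Submodule A M))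
    (x : M) (hx : f • x = 0) : ∀ n : ℕ, x ∈ f ^ n • (⊤ : Submodule A M) := by
  intro n
  induction n with
  | zero => simp
  | succ n ih =>
    rw [mem_pointwise_smul_top] at ih
    obtain ⟨y, hy⟩ := ih
    have h1 : f ^ (n + 1) • y ∈ f ^ (n + 1 + 1) • (⊤ : Submodule A M) := by
      have : f ^ (n + 1) • y = 0 := by
        rw [pow_succ', mul_smul, hy, hx]
      rw [this]; exact Submodule.zero_mem _
    have h2 := h (n + 1) y h1
    rw [mem_pointwise_smul_top] at h2 ⊢
    obtain ⟨y', hy'⟩ := h2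
    refine ⟨y', ?_⟩
    rw [pow_succ, mul_smul, hy', hy]

theorem regular_of_regCrit_of_iInf {A : Type u} [CommRing A] {M : Type v} [AddCommGroup M] [Module A M]
    (f : A) (hbot : (⨅ k : ℕ, f ^ k • (⊤ : Submodule A M)) = ⊥)
    (h : ∀ (k : ℕ) (x : M), f ^ k • x ∈ f ^ (k + 1) • (⊤ : Submodule A M) → x ∈ f • (⊤ : Submodule A M)) :
    IsSMulRegular M f := by
  rw [isSMulRegular_iff_right_eq_zero_of_smul]
  intro x hx
  have : x ∈ (⨅ k : ℕ, f ^ k • (⊤ : Submodule A M)) := by
    rw [Submodule.mem_iInf]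
    exact mem_iInf_of_regCrit f h x hx
  rw [hbot] at this
  exact this

theorem regular_of_regCrit_noeth {A : Type u} [CommRing A] [IsNoetherianRing A] {M : Type v}
    [AddCommGroup M] [Module A M] [Module.Finite A M] (f : A)
    (h : ∀ (k : ℕ) (x : M), f ^ k • x ∈ f ^ (k + 1) • (⊤ : Submodule A M) → x ∈ f • (⊤ : Submodule A M)) :
    IsSMulRegular M f := by
  rw [isSMulRegular_iff_right_eq_zero_of_smul]
  intro x hx
  have hmem : x ∈ (⨅ i : ℕ, (Ideal.span {f}) ^ i • ⊤ : Submodule A M) := by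
    rw [Submodule.mem_iInf]
    intro n
    rw [Ideal.span_singleton_pow, Submodule.ideal_span_singleton_smul]
    exact mem_iInf_of_regCrit f h x hx n
  rw [Ideal.mem_iInf_smul_pow_eq_bot_iff] at hmem
  obtain ⟨⟨r, hr⟩, hrx⟩ := hmem
  obtain ⟨a, rfl⟩ := Ideal.mem_span_singleton'.mp hr
  rw [← hrx]
  change (a * f) • x = 0
  rw [mul_smul, hx, smul_zero]

end Groth.Agent.Helper3
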