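import Mathlib
import Groth.Agent.Lib.helper1.LocalCrit2

/-!
# Flatness and regular elements (helper3)
-/

universe u

open TensorProduct Function

namespace H3RegFlat

/-- The kernel of a surjection between flat modules is flat. -/
theorem flat_of_exact_of_flat {R : Type u} [CommRing R] {I M Q : Type u} [AddCommGroup I]
    [AddCommGroup M] [AddCommGroup Q] [Module R I] [Module R M] [Module R Q] [Module.Flat R M]
    [Module.Flat R Q] (i : I →ₗ[R] M) (p : M →ₗ[R] Q) (hi : Injective i) (hp : Surjective p)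
    (hex : Exact i p) : Module.Flat R I := by
  rw [Module.Flat.iff_lTensor_preserves_injective_linearMap]
  intro X' X _ _ _ _ u hu
  have h1 : Injective (i.rTensor X') :=
    (LinearMap.lTensor_inj_iff_rTensor_inj _ _).1
      (LinearMap.lTensor_injective_of_exact_of_flat p hp i hi hex X')
  have h2 : Injective (u.lTensor M) := Module.Flat.lTensor_preserves_injective_linearMap u hu
  have hc : (i.rTensor X) ∘ₗ (u.lTensor I) = (u.lTensor M) ∘ₗ (i.rTensor X') := by
    rw [LinearMap.rTensor_comp_lTensor, LinearMap.lTensor_comp_rTensor]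
  intro a b hab
  apply h1
  apply h2
  have h3 := congrArg (i.rTensor X) hab
  rw [← LinearMap.comp_apply, ← LinearMap.comp_apply, hc] at h3
  exact h3

/-- The exact sequence `M/N_i --f_i--> M/N_i --> M/N_{i+1} --> 0`. -/
theorem exact_take {B M : Type u} [CommRing B] [AddCommGroup M] [Module B M] (fs : List B) (i : ℕ)
    (hi : i < fs.length) :
    ∃ hle : Ideal.ofList (fs.take i) • (⊤ : Submodule B M) ≤
        Ideal.ofList (fs.take (i + 1)) • (⊤ : Submodule B M),
      Function.Exact
        (LinearMap.lsmul B (M ⧸ (Ideal.ofList (fs.take i) • (⊤ : Submodule B M))) fs[i])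
        (Submodule.factor hle) := by
  set Ni : Submodule B M := Ideal.ofList (fs.take i) • (⊤ : Submodule B M) with hNi
  set Ni1 : Submodule B M := Ideal.ofList (fs.take (i + 1)) • (⊤ : Submodule B M) with hNi1
  have hsucc : Ni1 = Ni ⊔ ((Ideal.span {fs[i]} : Ideal B) • (⊤ : Submodule B M)) := by
    rw [hNi1, hNi, List.take_succ_eq_append_getElem hi, Ideal.ofList_append, Ideal.ofList_singleton,
      Submodule.sup_smul]
  have hle : Ni ≤ Ni1 := by rw [hsucc]; exact le_sup_left
  refine ⟨hle, ?_⟩
  intro y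
  obtain ⟨m, rfl⟩ := Submodule.Quotient.mk_surjective _ y
  constructor
  · intro h
    have h1 : (Submodule.Quotient.mk m : M ⧸ Ni1) = 0 := by simpa using h
    rw [Submodule.Quotient.mk_eq_zero, hsucc, Submodule.mem_sup] at h1
    obtain ⟨n, hn, z, hz, rfl⟩ := h1
    rw [Submodule.ideal_span_singleton_smul] at hz
    obtain ⟨m', -, rfl⟩ := (Submodule.mem_smul_pointwise_iff_exists _ _ _).1 hz
    refine ⟨Submodule.Quotient.mk m', ?_⟩
    simp only [LinearMap.lsmul_apply]
    rw [Submodule.Quotient.mk_add, (Submodule.Quotient.mk_eq_zero _).2 hn, zero_add,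
      Submodule.Quotient.mk_smul]
  · rintro ⟨y', hy'⟩
    obtain ⟨m', rfl⟩ := Submodule.Quotient.mk_surjective _ y'
    rw [← hy']
    simp only [LinearMap.lsmul_apply]
    rw [← Submodule.Quotient.mk_smul]
    change (Submodule.factor hle) (Ni.mkQ (fs[i] • m')) = 0
    rw [Submodule.factor_mk, Submodule.mkQ_apply, Submodule.Quotient.mk_eq_zero, hsucc]
    refine Submodule.mem_sup_right ?_
    rw [Submodule.ideal_span_singleton_smul]
    exact Submodule.smul_mem_pointwise_smul _ _ _ Submodule.mem_top

section Local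

variable {A B : Type u} [CommRing A] [CommRing B] [IsLocalRing A] [IsLocalRing B]
  [IsNoetherianRing A] [IsNoetherianRing B] [Algebra A B] [IsLocalHom (algebraMap A B)]

/-- If `f ∈ 𝔪_B` is `N`-regular and `N/fN` is `A`-flat then `N` is `A`-flat. -/
theorem flat_of_regular_of_flat_quot {N Q : Type u} [AddCommGroup N] [Module B N] [Module A N]
    [IsScalarTower A B N] [Module.Finite B N] [AddCommGroup Q] [Module A Q] [Module.Flat A Q]
    (f : B) (hf : f ∈ IsLocalRing.maximalIdeal B) (hreg : IsSMulRegular N f)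
    (p : N →ₗ[A] Q) (hp : Surjective p)
    (hex : Exact (((LinearMap.lsmul B N) f).restrictScalars A) p) : Module.Flat A N := by
  set 𝔪 : Ideal A := IsLocalRing.maximalIdeal A with h𝔪
  set φ : N →ₗ[A] N := ((LinearMap.lsmul B N) f).restrictScalars A with hφ
  have hφinj : Injective φ := hreg
  haveI : Module.Finite B (N ⊗[A] 𝔪) :=
    Module.Finite.equiv (TensorProduct.AlgebraTensorModule.cancelBaseChange A B B N 𝔪)
  haveI : IsNoetherian B (N ⊗[A] 𝔪) := isNoetherian_of_isNoetherianRing_of_finite B _
  let ιB : N ⊗[A] 𝔪 →ₗ[B] N ⊗[A] A := TensorProduct.AlgebraTensorModule.lTensor B N 𝔪.subtype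
  have hιB : ∀ x, ιB x = (𝔪.subtype.lTensor N) x := by
    intro x
    induction x using TensorProduct.induction_on with
    | zero => simp
    | tmul n a => simp [ιB]
    | add x y hx hy => rw [map_add, map_add, hx, hy]
  set K : Submodule B (N ⊗[A] 𝔪) := LinearMap.ker ιB with hKdef
  have hK : K = ⊥ := by
    apply Submodule.eq_bot_of_le_smul_of_le_jacobson_bot (Ideal.span {f}) K
      (IsNoetherian.noetherian K)
    · intro x hx
      have hx' : (𝔪.subtype.lTensor N) x = 0 := by rw [← hιB]; exact hx
      have h1 : (p.rTensor 𝔪) x = 0 := by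
        apply (Module.Flat.lTensor_preserves_injective_linearMap (M := Q) 𝔪.subtype
          Subtype.val_injective)
        rw [map_zero, ← LinearMap.comp_apply, LinearMap.lTensor_comp_rTensor,
          ← LinearMap.rTensor_comp_lTensor, LinearMap.comp_apply, hx', map_zero]
      obtain ⟨y, hy⟩ := (rTensor_exact 𝔪 hex hp x).1 h1
      have h2 : (𝔪.subtype.lTensor N) y = 0 := by
        apply (Module.Flat.rTensor_preserves_injective_linearMap (M := A) φ hφinj)
        rw [map_zero, ← LinearMap.comp_apply, LinearMap.rTensor_comp_lTensor,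
          ← LinearMap.lTensor_comp_rTensor, LinearMap.comp_apply, hy, hx']
      have h3 : ∀ y : N ⊗[A] 𝔪, (φ.rTensor 𝔪) y = f • y := by
        intro y
        induction y using TensorProduct.induction_on with
        | zero => simp
        | tmul n a => simp [hφ, TensorProduct.smul_tmul']
        | add x y hx hy => rw [map_add, smul_add, hx, hy]
      rw [← hy, h3]
      refine Submodule.smul_mem_smul (Ideal.mem_span_singleton_self f) ?_
      show ιB y = 0
      rw [hιB, h2]
    · exact ((Ideal.span_singleton_le_iff_mem _).2 hf).trans (IsLocalRing.maximalIdeal_le_jacobson _)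
  have hinj : Injective (𝔪.subtype.lTensor N) := by
    have h0 : Injective ιB := LinearMap.ker_eq_bot.1 hK
    intro a b hab
    apply h0
    rw [hιB, hιB, hab]
  have h1 : Injective (𝔪.subtype.rTensor N) := (LinearMap.lTensor_inj_iff_rTensor_inj _ _).1 hinj
  letI : Field (A ⧸ 𝔪) := Ideal.Quotient.field 𝔪
  haveI : Module.Flat (A ⧸ 𝔪) ((A ⧸ 𝔪) ⊗[A] N) := inferInstance
  exact Helper1.flat_of_localCriterion_of_finite (R := A) (S := B) 𝔪
    (Helper1.map_le_jacobson_of_isLocalHom 𝔪 (IsLocalRing.maximalIdeal.isMaximal A).ne_top) h1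

theorem mem_smul_top_iff {M : Type u} [AddCommGroup M] [Module B M] [Module A M]
    [IsScalarTower A B M] (I : Ideal A) (m : M) :
    m ∈ I • (⊤ : Submodule A M) ↔ m ∈ (I.map (algebraMap A B)) • (⊤ : Submodule B M) := by
  have h := Ideal.smul_restrictScalars (R := A) (S := B) I (⊤ : Submodule B M)
  rw [Submodule.restrictScalars_top] at h
  rw [← h, Submodule.restrictScalars_mem]

/-- If `M` is `A`-flat and `f` is injective on `M/𝔪M`, then `M/fM` is `A`-flat. -/
theorem flat_quot_of_flat {M Q : Type u} [AddCommGroup M] [Module B M] [Module A M]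
    [IsScalarTower A B M] [Module.Flat A M] [AddCommGroup Q] [Module B Q] [Module A Q]
    [IsScalarTower A B Q] [Module.Finite B Q]
    (f : B)
    (hf : ∀ m : M, f • m ∈ ((IsLocalRing.maximalIdeal A).map (algebraMap A B)) •
        (⊤ : Submodule B M) →
      m ∈ ((IsLocalRing.maximalIdeal A).map (algebraMap A B)) • (⊤ : Submodule B M))
    (p : M →ₗ[A] Q) (hp : Surjective p)
    (hex : Exact (((LinearMap.lsmul B M) f).restrictScalars A) p) : Module.Flat A Q := by
  set 𝔪 : Ideal A := IsLocalRing.maximalIdeal A with h𝔪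
  set φ : M →ₗ[A] M := ((LinearMap.lsmul B M) f).restrictScalars A with hφ
  have hpφ : p ∘ₗ φ = 0 := hex.linearMap_comp_eq_zero
  have hιM : Injective (𝔪.subtype.rTensor M) :=
    Module.Flat.rTensor_preserves_injective_linearMap _ Subtype.val_injective
  have himg : ∀ y : 𝔪 ⊗[A] M,
      TensorProduct.lid A M ((𝔪.subtype.rTensor M) y) ∈ 𝔪 • (⊤ : Submodule A M) := by
    intro y
    induction y using TensorProduct.induction_on with
    | zero => simp
    | tmul a m =>
      simp only [LinearMap.rTensor_tmul, Submodule.subtype_apply, TensorProduct.lid_tmul]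
      exact Submodule.smul_mem_smul a.2 Submodule.mem_top
    | add x y hx hy => rw [map_add, map_add]; exact add_mem hx hy
  have hlift : ∀ m ∈ 𝔪 • (⊤ : Submodule A M), ∃ w : 𝔪 ⊗[A] M,
      (𝔪.subtype.rTensor M) w = (TensorProduct.lid A M).symm m := by
    intro m hm
    refine Submodule.smul_induction_on hm ?_ ?_
    · intro a ha n _
      refine ⟨(⟨a, ha⟩ : 𝔪) ⊗ₜ n, ?_⟩
      apply (TensorProduct.lid A M).injective
      rw [LinearEquiv.apply_symm_apply, LinearMap.rTensor_tmul, TensorProduct.lid_tmul]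
      rfl
    · rintro _ _ ⟨w1, h1⟩ ⟨w2, h2⟩
      exact ⟨w1 + w2, by rw [map_add, map_add, h1, h2]⟩
  have hlidφ : ∀ t : A ⊗[A] M, TensorProduct.lid A M ((φ.lTensor A) t) =
      f • TensorProduct.lid A M t := by
    intro t
    induction t using TensorProduct.induction_on with
    | zero => simp
    | tmul a m =>
      rw [LinearMap.lTensor_tmul, TensorProduct.lid_tmul, TensorProduct.lid_tmul]
      exact smul_comm a f m
    | add x y hx hy => rw [map_add, map_add, map_add, smul_add, hx, hy]
  have h1 : Injective (𝔪.subtype.rTensor Q) := by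
    rw [injective_iff_map_eq_zero]
    intro z hz
    obtain ⟨y, rfl⟩ := LinearMap.lTensor_surjective 𝔪 hp z
    have h2 : (p.lTensor A) ((𝔪.subtype.rTensor M) y) = 0 := by
      rw [← LinearMap.comp_apply, LinearMap.lTensor_comp_rTensor,
        ← LinearMap.rTensor_comp_lTensor, LinearMap.comp_apply, hz]
    obtain ⟨m', hm'⟩ := (lTensor_exact A hex hp _).1 h2
    have h3 : f • (TensorProduct.lid A M m') ∈
        (𝔪.map (algebraMap A B)) • (⊤ : Submodule B M) := by
      rw [← mem_smul_top_iff (B := B), ← hlidφ, hm']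
      exact himg y
    have h4 := hf _ h3
    rw [← mem_smul_top_iff (B := B)] at h4
    obtain ⟨w, hw⟩ := hlift _ h4
    rw [LinearEquiv.symm_apply_apply] at hw
    have h5 : y = (φ.lTensor 𝔪) w := by
      apply hιM
      have hcomm : (𝔪.subtype.rTensor M) ((φ.lTensor 𝔪) w) =
          (φ.lTensor A) ((𝔪.subtype.rTensor M) w) := by
        rw [← LinearMap.comp_apply, ← LinearMap.comp_apply, LinearMap.rTensor_comp_lTensor,
          LinearMap.lTensor_comp_rTensor]
      rw [hcomm, hw, hm']
    rw [h5, ← LinearMap.comp_apply, ← LinearMap.lTensor_comp, hpφ, LinearMap.lTensor_zero,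
      LinearMap.zero_apply]
  letI : Field (A ⧸ 𝔪) := Ideal.Quotient.field 𝔪
  haveI : Module.Flat (A ⧸ 𝔪) ((A ⧸ 𝔪) ⊗[A] Q) := inferInstance
  exact Helper1.flat_of_localCriterion_of_finite (R := A) (S := B) 𝔪
    (Helper1.map_le_jacobson_of_isLocalHom 𝔪 (IsLocalRing.maximalIdeal.isMaximal A).ne_top) h1

/-- If `M` and `M/fM` are `A`-flat and `f` is injective on `M/𝔪M`, then `f` is `M`-regular. -/
theorem regular_of_flat {M Q : Type u} [AddCommGroup M] [Module B M] [Module A M]
    [IsScalarTower A B M] [Module.Finite B M] [Module.Flat A M] [AddCommGroup Q] [Module A Q]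
    [Module.Flat A Q]
    (f : B)
    (hf : ∀ m : M, f • m ∈ ((IsLocalRing.maximalIdeal A).map (algebraMap A B)) •
        (⊤ : Submodule B M) →
      m ∈ ((IsLocalRing.maximalIdeal A).map (algebraMap A B)) • (⊤ : Submodule B M))
    (p : M →ₗ[A] Q) (hp : Surjective p)
    (hex : Exact (((LinearMap.lsmul B M) f).restrictScalars A) p) : IsSMulRegular M f := by
  set 𝔪 : Ideal A := IsLocalRing.maximalIdeal A with h𝔪
  set φ : M →ₗ[A] M := ((LinearMap.lsmul B M) f).restrictScalars A with hφ
  haveI : IsNoetherian B M := isNoetherian_of_isNoetherianRing_of_finite B M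
  set K : Submodule B M := LinearMap.ker ((LinearMap.lsmul B M) f) with hKdef
  -- the image of φ
  let I : Submodule A M := LinearMap.range φ
  let φ' : M →ₗ[A] I := φ.rangeRestrict
  have hφ' : Surjective φ' := LinearMap.surjective_rangeRestrict φ
  have hexI : Exact I.subtype p := by
    intro y
    rw [hex y]
    constructor
    · rintro ⟨x, rfl⟩; exact ⟨⟨φ x, x, rfl⟩, rfl⟩
    · rintro ⟨x, rfl⟩; exact x.2
  haveI : Module.Flat A I := flat_of_exact_of_flat I.subtype p Subtype.val_injective hp hexI
  let K' : Submodule A M := LinearMap.ker φ'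
  have hK'inj : Injective (K'.subtype.lTensor (A ⧸ 𝔪)) :=
    LinearMap.lTensor_injective_of_exact_of_flat φ' hφ' K'.subtype Subtype.val_injective
      (LinearMap.exact_subtype_ker_map φ') (A ⧸ 𝔪)
  have hK'mem : ∀ y : K', f • (y : M) = 0 := by
    intro y
    have h2 : φ' (y : M) = 0 := y.2
    have h3 : ((φ' (y : M) : I) : M) = 0 := by rw [h2]; rfl
    exact h3
  have hK : K = ⊥ := by
    apply Submodule.eq_bot_of_le_smul_of_le_jacobson_bot (𝔪.map (algebraMap A B)) K
      (IsNoetherian.noetherian K)
    · intro x hx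
      have hfx : f • x = 0 := hx
      have hx𝔪 : x ∈ 𝔪 • (⊤ : Submodule A M) := by
        rw [mem_smul_top_iff (B := B)]
        apply hf
        rw [hfx]
        exact Submodule.zero_mem _
      have hxK' : x ∈ K' := by
        show φ' x = 0
        apply Subtype.ext
        simpa [φ', hφ] using hfx
      let x' : K' := ⟨x, hxK'⟩
      have h1 : ((1 : A ⧸ 𝔪) ⊗ₜ[A] x : (A ⧸ 𝔪) ⊗[A] M) = 0 := by
        apply (TensorProduct.quotTensorEquivQuotSMul M 𝔪).injective
        rw [TensorProduct.quotTensorEquivQuotSMul_mk_one_tmul, map_zero,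
          Submodule.Quotient.mk_eq_zero]
        exact hx𝔪
      have h2 : ((1 : A ⧸ 𝔪) ⊗ₜ[A] x' : (A ⧸ 𝔪) ⊗[A] K') = 0 := by
        apply hK'inj
        rw [map_zero, LinearMap.lTensor_tmul]
        exact h1
      have h3 : x' ∈ 𝔪 • (⊤ : Submodule A K') := by
        have := congrArg (TensorProduct.quotTensorEquivQuotSMul K' 𝔪) h2
        rw [TensorProduct.quotTensorEquivQuotSMul_mk_one_tmul, map_zero,
          Submodule.Quotient.mk_eq_zero] at this
        exact this
      have h4 : ∀ y ∈ 𝔪 • (⊤ : Submodule A K'), (y : M) ∈ (𝔪.map (algebraMap A B)) • K := by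
        intro y hy
        refine Submodule.smul_induction_on hy ?_ ?_
        · intro a ha y' _
          rw [Submodule.coe_smul, ← algebraMap_smul B a (y' : M)]
          exact Submodule.smul_mem_smul (Ideal.mem_map_of_mem _ ha) (hK'mem y')
        · intro y1 y2 h1 h2
          rw [Submodule.coe_add]
          exact add_mem h1 h2
      exact h4 x' h3
    · exact Helper1.map_le_jacobson_of_isLocalHom 𝔪 (IsLocalRing.maximalIdeal.isMaximal A).ne_top
  exact LinearMap.ker_eq_bot.1 hK

end Local

/-- membership in `J • ⊤` of a quotient module -/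
theorem mk_mem_smul_top_iff {B M : Type u} [CommRing B] [AddCommGroup M] [Module B M]
    (N : Submodule B M) (J : Ideal B) (x : M) :
    (Submodule.Quotient.mk x : M ⧸ N) ∈ J • (⊤ : Submodule B (M ⧸ N)) ↔
      x ∈ J • (⊤ : Submodule B M) ⊔ N := by
  have h : J • (⊤ : Submodule B (M ⧸ N)) = (J • (⊤ : Submodule B M)).map N.mkQ := by
    rw [Submodule.map_smul'', Submodule.map_top, Submodule.range_mkQ]
  rw [h, ← Submodule.mkQ_apply, ← Submodule.mem_comap, Submodule.comap_map_mkQ, sup_comm]

/-- regularity on `(M/JM)/I(M/JM)` gives the "injective mod J" condition on `M/IM`. -/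
theorem inj_mod_of_regular {B M : Type u} [CommRing B] [AddCommGroup M] [Module B M]
    (I J : Ideal B) (f : B)
    (h : IsSMulRegular ((M ⧸ (J • (⊤ : Submodule B M))) ⧸
      (I • (⊤ : Submodule B (M ⧸ (J • (⊤ : Submodule B M)))))) f)
    (m : M ⧸ (I • (⊤ : Submodule B M)))
    (hm : f • m ∈ J • (⊤ : Submodule B (M ⧸ (I • (⊤ : Submodule B M))))) :
    m ∈ J • (⊤ : Submodule B (M ⧸ (I • (⊤ : Submodule B M)))) := by
  obtain ⟨x, rfl⟩ := Submodule.Quotient.mk_surjective _ m
  rw [← Submodule.Quotient.mk_smul, mk_mem_smul_top_iff] at hm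
  rw [mk_mem_smul_top_iff]
  have h1 : f • (Submodule.Quotient.mk (Submodule.Quotient.mk x) :
      (M ⧸ (J • (⊤ : Submodule B M))) ⧸
      (I • (⊤ : Submodule B (M ⧸ (J • (⊤ : Submodule B M)))))) = 0 := by
    rw [← Submodule.Quotient.mk_smul, ← Submodule.Quotient.mk_smul, Submodule.Quotient.mk_eq_zero,
      mk_mem_smul_top_iff, sup_comm]
    exact hm
  have h2 := h (h1.trans (smul_zero f).symm)
  rw [Submodule.Quotient.mk_eq_zero, mk_mem_smul_top_iff, sup_comm] at h2
  exact h2

end H3RegFlat
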