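import Mathlib
import Groth.Agent.Lib.helper1.LocalCrit2
import Groth.Agent.Lib.helper3.RegFlat

/-!
# Flatness and regular sequences in the base ring (helper3)
-/

universe u

open TensorProduct Function

namespace H3RegFlat

variable {A : Type u} [CommRing A] {M : Type u} [AddCommGroup M] [Module A M]

theorem rTensor_lsmul_apply (I : Ideal A) (f : A) (t : (A ⧸ I) ⊗[A] M) :
    ((LinearMap.lsmul A (A ⧸ I) f).rTensor M) t = f • t := by
  induction t using TensorProduct.induction_on with
  | zero => simp
  | tmul a m => simp [TensorProduct.smul_tmul']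
  | add x y hx hy => rw [map_add, smul_add, hx, hy]

theorem rTensor_lsmul_injective_iff (I : Ideal A) (f : A) :
    Injective ((LinearMap.lsmul A (A ⧸ I) f).rTensor M) ↔
      IsSMulRegular (M ⧸ (I • (⊤ : Submodule A M))) f := by
  let e := TensorProduct.quotTensorEquivQuotSMul M I
  constructor
  · intro h x y hxy
    have h1 : f • e.symm x = f • e.symm y := by
      rw [← map_smul, ← map_smul]
      exact congrArg e.symm hxy
    rw [← rTensor_lsmul_apply, ← rTensor_lsmul_apply] at h1
    exact e.symm.injective (h h1)
  · intro h x y hxy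
    rw [rTensor_lsmul_apply, rTensor_lsmul_apply] at hxy
    have h1 : f • e x = f • e y := by
      rw [← map_smul, ← map_smul, hxy]
    exact e.injective (h h1)

theorem ideal_smul_top (I : Ideal A) : I • (⊤ : Submodule A A) = I := by
  rw [smul_eq_mul, ← Ideal.one_eq_top, mul_one]

theorem smul_top_smul_top (I : Ideal A) :
    (I • (⊤ : Submodule A A)) • (⊤ : Submodule A M) = I • (⊤ : Submodule A M) := by
  rw [ideal_smul_top]

/-- `Tor₁(A/J_i, M) = 0` when `fs` is regular on `A` and on `M`. -/
theorem tor1Zero_take (fs : List A) (hM : RingTheory.Sequence.IsWeaklyRegular M fs) :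
    ∀ i : ℕ, i ≤ fs.length →
      Helper1.Tor1Zero A (A ⧸ (Ideal.ofList (fs.take i) • (⊤ : Submodule A A))) M := by
  intro i
  induction i with
  | zero =>
    intro _
    have h0 : Ideal.ofList (fs.take 0) • (⊤ : Submodule A A) = ⊥ := by
      rw [List.take_zero, Ideal.ofList_nil, Submodule.bot_smul]
    haveI : Module.Projective A (A ⧸ (Ideal.ofList (fs.take 0) • (⊤ : Submodule A A))) :=
      Module.Projective.of_equiv (Submodule.quotEquivOfEqBot _ h0).symm
    exact Helper1.Tor1Zero.of_projective
  | succ i ih =>
    intro hi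
    have hi' : i < fs.length := by omega
    obtain ⟨hle, hex⟩ := exact_take (B := A) (M := A) fs i hi'
    refine Helper1.Tor1Zero.of_exact
      (LinearMap.lsmul A (A ⧸ (Ideal.ofList (fs.take i) • (⊤ : Submodule A A))) fs[i])
      (Submodule.factor hle) (Submodule.factor_surjective hle) hex (ih (by omega)) ?_
    have h1 := hM.regular_mod_prev i hi'
    rw [← smul_top_smul_top] at h1
    exact (rTensor_lsmul_injective_iff (M := M) (Ideal.ofList (fs.take i) • (⊤ : Submodule A A))
      fs[i]).2 h1

/-- flat base change of a weakly regular sequence in the base ring to a flat module. -/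
theorem isWeaklyRegular_of_flat [Module.Flat A M] (fs : List A)
    (hA : RingTheory.Sequence.IsWeaklyRegular A fs) :
    RingTheory.Sequence.IsWeaklyRegular M fs := by
  refine ⟨fun i hi => ?_⟩
  have h1 := hA.regular_mod_prev i hi
  have h2 : Injective ((LinearMap.lsmul A
      (A ⧸ (Ideal.ofList (fs.take i) • (⊤ : Submodule A A))) fs[i]).rTensor M) :=
    Module.Flat.rTensor_preserves_injective_linearMap _ h1
  have h3 := (rTensor_lsmul_injective_iff (M := M)
    (Ideal.ofList (fs.take i) • (⊤ : Submodule A A)) fs[i]).1 h2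
  rw [smul_top_smul_top] at h3
  exact h3

/-- The `A/J`-linear identification `(A/J) ⊗ M ≃ M/JM`. -/
noncomputable def quotTensorEquiv (J : Ideal A) :
    ((A ⧸ J) ⊗[A] M) ≃ₗ[A ⧸ J] (M ⧸ (J • (⊤ : Submodule A M))) :=
  (TensorProduct.quotTensorEquivQuotSMul M J).extendScalarsOfSurjective
    Ideal.Quotient.mk_surjective

end H3RegFlat
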