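import Mathlib

/-!
# `IM ∩ R = IR` when `M/R` is flat (helper3)
-/

universe u

open TensorProduct Function

namespace H3RegFlat

theorem mem_smul_top_of_flat_quot {A : Type u} [CommRing A] {M : Type u} [AddCommGroup M]
    [Module A M] (R : Submodule A M) [Module.Flat A (M ⧸ R)] (I : Ideal A) (z : R)
    (hz : (z : M) ∈ I • (⊤ : Submodule A M)) : z ∈ I • (⊤ : Submodule A R) := by
  have hinj : Injective (R.subtype.lTensor (A ⧸ I)) :=
    LinearMap.lTensor_injective_of_exact_of_flat R.mkQ (Submodule.mkQ_surjective R) R.subtype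
      Subtype.val_injective (LinearMap.exact_subtype_mkQ R) (A ⧸ I)
  have h1 : ((1 : A ⧸ I) ⊗ₜ[A] (z : M) : (A ⧸ I) ⊗[A] M) = 0 := by
    apply (TensorProduct.quotTensorEquivQuotSMul M I).injective
    rw [TensorProduct.quotTensorEquivQuotSMul_mk_one_tmul, map_zero,
      Submodule.Quotient.mk_eq_zero]
    exact hz
  have h2 : ((1 : A ⧸ I) ⊗ₜ[A] z : (A ⧸ I) ⊗[A] R) = 0 := by
    apply hinj
    rw [map_zero, LinearMap.lTensor_tmul]
    exact h1
  have h3 := congrArg (TensorProduct.quotTensorEquivQuotSMul R I) h2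
  rw [TensorProduct.quotTensorEquivQuotSMul_mk_one_tmul, map_zero,
    Submodule.Quotient.mk_eq_zero] at h3
  exact h3

end H3RegFlat
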