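import Mathlib

/-!
# Powers of regular sequences (helper3)
-/

universe u

open Function RingTheory.Sequence Pointwise

namespace H3RegPow

variable {R : Type u} [CommRing R]

/-- weak regularity on the outer terms of a short exact sequence gives it on the middle. -/
theorem isWeaklyRegular_of_exact (rs : List R) :
    ∀ {M' M M'' : Type u} [AddCommGroup M'] [AddCommGroup M] [AddCommGroup M''] [Module R M']
      [Module R M] [Module R M''] (i : M' →ₗ[R] M) (p : M →ₗ[R] M''), Injective i → Surjective p →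
      Exact i p → IsWeaklyRegular M' rs → IsWeaklyRegular M'' rs → IsWeaklyRegular M rs := by
  induction rs with
  | nil => intros; exact IsWeaklyRegular.nil R _
  | cons r rs ih =>
    intro M' M M'' _ _ _ _ _ _ i p hi hp hex h' h''
    rw [isWeaklyRegular_cons_iff] at h' h'' ⊢
    refine ⟨isSMulRegular_of_range_eq_ker hi hex.linearMap_ker_eq.symm h'.1 h''.1, ?_⟩
    refine ih (QuotSMulTop.map r i) (QuotSMulTop.map r p) ?_ (QuotSMulTop.map_surjective r hp)
      (QuotSMulTop.map_exact r hex hp) h'.2 h''.2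
    have h0 : Exact (0 : PUnit.{u+1} →ₗ[R] M') i := by
      intro y
      constructor
      · intro hy
        exact ⟨0, by rw [LinearMap.zero_apply]; exact (hi (hy.trans (map_zero i).symm)).symm⟩
      · rintro ⟨x, rfl⟩
        rw [LinearMap.zero_apply, map_zero]
    have h1 := QuotSMulTop.map_first_exact_on_four_term_exact_of_isSMulRegular_last h0 hex h''.1
    rw [injective_iff_map_eq_zero]
    intro x hx
    obtain ⟨y, hy⟩ := (h1 x).1 hx
    rw [← hy, map_zero, LinearMap.zero_apply]

/-- the short exact sequence `0 → M/a^v → M/a^(v+1) → M/a → 0`. -/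
theorem exists_ses {M : Type u} [AddCommGroup M] [Module R M] (a : R) (ha : IsSMulRegular M a)
    (v : ℕ) :
    ∃ (i : QuotSMulTop (a ^ v) M →ₗ[R] QuotSMulTop (a ^ (v + 1)) M)
      (p : QuotSMulTop (a ^ (v + 1)) M →ₗ[R] QuotSMulTop a M),
      Injective i ∧ Surjective p ∧ Exact i p := by
  have h1 : (a ^ v • (⊤ : Submodule R M)) ≤
      (a ^ (v + 1) • (⊤ : Submodule R M)).comap (LinearMap.lsmul R M a) := by
    intro m hm
    obtain ⟨m', -, rfl⟩ := (Submodule.mem_smul_pointwise_iff_exists _ _ _).1 hm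
    rw [Submodule.mem_comap, LinearMap.lsmul_apply, smul_smul, ← pow_succ']
    exact Submodule.smul_mem_pointwise_smul _ _ _ Submodule.mem_top
  have h2 : (a ^ (v + 1) • (⊤ : Submodule R M)) ≤ (a • (⊤ : Submodule R M)) := by
    intro m hm
    obtain ⟨m', -, rfl⟩ := (Submodule.mem_smul_pointwise_iff_exists _ _ _).1 hm
    rw [pow_succ', mul_smul]
    exact Submodule.smul_mem_pointwise_smul _ _ _ Submodule.mem_top
  refine ⟨Submodule.mapQ _ _ (LinearMap.lsmul R M a) h1, Submodule.factor h2, ?_,
    Submodule.factor_surjective h2, ?_⟩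
  · rw [injective_iff_map_eq_zero]
    intro x hx
    obtain ⟨m, rfl⟩ := Submodule.Quotient.mk_surjective _ x
    rw [Submodule.mapQ_apply, Submodule.Quotient.mk_eq_zero, LinearMap.lsmul_apply] at hx
    obtain ⟨m', -, hm'⟩ := (Submodule.mem_smul_pointwise_iff_exists _ _ _).1 hx
    rw [pow_succ', mul_smul] at hm'
    have := ha hm'
    rw [Submodule.Quotient.mk_eq_zero, ← this]
    exact Submodule.smul_mem_pointwise_smul _ _ _ Submodule.mem_top
  · intro y
    obtain ⟨m, rfl⟩ := Submodule.Quotient.mk_surjective _ y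
    constructor
    · intro hy
      change (Submodule.factor h2) ((a ^ (v + 1) • (⊤ : Submodule R M)).mkQ m) = 0 at hy
      rw [Submodule.factor_mk, Submodule.mkQ_apply, Submodule.Quotient.mk_eq_zero] at hy
      obtain ⟨m', -, rfl⟩ := (Submodule.mem_smul_pointwise_iff_exists _ _ _).1 hy
      exact ⟨Submodule.Quotient.mk m', by rw [Submodule.mapQ_apply, LinearMap.lsmul_apply]⟩
    · rintro ⟨x, hx⟩
      obtain ⟨m', rfl⟩ := Submodule.Quotient.mk_surjective _ x
      rw [← hx, Submodule.mapQ_apply, LinearMap.lsmul_apply]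
      change (Submodule.factor h2) ((a ^ (v + 1) • (⊤ : Submodule R M)).mkQ (a • m')) = 0
      rw [Submodule.factor_mk, Submodule.mkQ_apply, Submodule.Quotient.mk_eq_zero]
      exact Submodule.smul_mem_pointwise_smul _ _ _ Submodule.mem_top

/-- replacing the first element of a weakly regular sequence by a power. -/
theorem pow_cons {M : Type u} [AddCommGroup M] [Module R M] (a : R) (rs : List R)
    (h : IsWeaklyRegular M (a :: rs)) (v : ℕ) (hv : 1 ≤ v) : IsWeaklyRegular M (a ^ v :: rs) := by
  induction v, hv using Nat.le_induction with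
  | base => simpa using h
  | succ v hv ih =>
    have h' := h
    rw [isWeaklyRegular_cons_iff] at h' ih ⊢
    obtain ⟨i, p, hi, hp, hex⟩ := exists_ses (M := M) a h'.1 v
    exact ⟨h'.1.pow (v + 1), isWeaklyRegular_of_exact rs i p hi hp hex ih.2 h'.2⟩

theorem main : ∀ (n : ℕ) (M : Type u) [AddCommGroup M] [Module R M] (f : Fin n → R)
    (v : Fin n → ℕ), (∀ i, 1 ≤ v i) → IsWeaklyRegular M (List.ofFn f) →
    IsWeaklyRegular M (List.ofFn fun i => f i ^ v i)
  | 0, M, _, _, f, v, hv, h => by
    rw [List.ofFn_zero]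
    exact IsWeaklyRegular.nil R M
  | n + 1, M, _, _, f, v, hv, h => by
    rw [List.ofFn_succ] at h ⊢
    have h1 := pow_cons (f 0) _ h (v 0) (hv 0)
    rw [isWeaklyRegular_cons_iff] at h1 ⊢
    exact ⟨h1.1, main n _ (fun i => f i.succ) (fun i => v i.succ) (fun i => hv _) h1.2⟩

end H3RegPow
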