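import Groth.Prelude.Def_W4sga3xxiRoot
import Mathlib

set_option autoImplicit false

namespace Groth.Agent.Helper3.RD
open RootD

variable {ι M N : Type*} [AddCommGroup M] [AddCommGroup N] (P : RootPairing ι ℤ M N)

theorem pairingIn_int (i j : ι) : P.pairingIn ℤ i j = P.pairing i j := by
  have := P.algebraMap_pairingIn ℤ i j
  simpa using this

theorem root_neg (i : ι) : P.root (P.reflectionPerm i i) = - P.root i := by simp

theorem root_mem_natSpan {S : Set ι} {i : ι} (hi : i ∈ S) : P.root i ∈ natSpan P S :=
  AddSubmonoid.subset_closure ⟨i, hi, rfl⟩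

theorem natSpan_mono {S T : Set ι} (h : S ⊆ T) : natSpan P S ≤ natSpan P T :=
  AddSubmonoid.closure_mono (Set.image_mono h)

theorem mem_natSpan_iff_multiset (S : Set ι) (x : M) :
    x ∈ natSpan P S ↔ ∃ l : Multiset ι, (∀ a ∈ l, a ∈ S) ∧ (l.map P.root).sum = x := by
  constructor
  · intro hx
    induction hx using AddSubmonoid.closure_induction with
    | mem y hy =>
      obtain ⟨i, hi, rfl⟩ := hy
      exact ⟨{i}, by simpa using hi, by simp⟩
    | zero => exact ⟨0, by simp, by simp⟩
    | add y z _ _ hy hz =>
      obtain ⟨l, hl, rfl⟩ := hy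
      obtain ⟨l', hl', rfl⟩ := hz
      refine ⟨l + l', ?_, by simp⟩
      intro a ha
      rcases Multiset.mem_add.mp ha with h | h
      · exact hl a h
      · exact hl' a h
  · rintro ⟨l, hl, rfl⟩
    apply AddSubmonoid.multiset_sum_mem
    intro y hy
    obtain ⟨a, ha, rfl⟩ := Multiset.mem_map.mp hy
    exact root_mem_natSpan P (hl a ha)

theorem mem_natSpan_iff_finsupp (S : Set ι) (x : M) :
    x ∈ natSpan P S ↔ ∃ c : ι →₀ ℤ, ↑c.support ⊆ S ∧ (∀ j, 0 ≤ c j) ∧
      Finsupp.linearCombination ℤ P.root c = x := by
  classical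
  constructor
  · intro hx
    induction hx using AddSubmonoid.closure_induction with
    | mem y hy =>
      obtain ⟨i, hi, rfl⟩ := hy
      refine ⟨Finsupp.single i 1, ?_, ?_, by simp⟩
      · intro j hj
        have : j = i := by
          have := Finsupp.support_single_subset hj
          simpa using this
        rw [this]; exact hi
      · intro j
        rw [Finsupp.single_apply]
        split_ifs <;> simp
    | zero => exact ⟨0, by simp, by simp, by simp⟩
    | add y z _ _ hy hz =>
      obtain ⟨c, hc, hc0, rfl⟩ := hy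
      obtain ⟨c', hc', hc0', rfl⟩ := hz
      refine ⟨c + c', ?_, ?_, by simp⟩
      · intro j hj
        have := Finsupp.support_add hj
        rcases Finset.mem_union.mp this with h | h
        · exact hc h
        · exact hc' h
      · intro j
        have := hc0 j
        have := hc0' j
        simp only [Finsupp.coe_add, Pi.add_apply]
        omega
  · rintro ⟨c, hc, hc0, rfl⟩
    rw [Finsupp.linearCombination_apply, Finsupp.sum]
    apply AddSubmonoid.sum_mem
    intro j hj
    have h1 : c j • P.root j = (c j).toNat • P.root j := by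
      rw [← natCast_zsmul, Int.toNat_of_nonneg (hc0 j)]
    rw [h1]
    exact AddSubmonoid.nsmul_mem _ (root_mem_natSpan P (hc hj)) _

variable [Finite ι]

/-- Key lemma: if a positive multiple of a root is a sum of roots, some summand pairs positively. -/
theorem exists_pos_pairing (l : Multiset ι) (k : ι) (c : ℕ) (hc : 0 < c)
    (hk : c • P.root k = (l.map P.root).sum) : ∃ a ∈ l, 0 < P.pairing a k := by
  have h2 : (P.coroot' k) (c • P.root k) = (P.coroot' k) ((l.map P.root).sum) := by rw [hk]
  rw [map_multiset_sum, Multiset.map_map, map_nsmul, P.root_coroot'_eq_pairing, P.pairing_same] at h2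
  by_contra hcon
  push_neg at hcon
  have h3 : (l.map (⇑(P.coroot' k) ∘ ⇑P.root)).sum ≤ Multiset.card (l.map (⇑(P.coroot' k) ∘ ⇑P.root)) • 0 := by
    apply Multiset.sum_le_card_nsmul
    intro x hx
    obtain ⟨a, ha, rfl⟩ := Multiset.mem_map.mp hx
    simpa [P.root_coroot'_eq_pairing] using hcon a ha
  rw [← h2] at h3
  simp at h3
  omega

theorem exists_sub_mem (l : Multiset ι) (k : ι) (hne : k ∉ l) (c : ℕ) (hc : 0 < c)
    (hk : c • P.root k = (l.map P.root).sum) :
    ∃ a ∈ l, 0 < P.pairing a k ∧ ∃ k' : ι, P.root k' = P.root k - P.root a := by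
  obtain ⟨a, ha, hp⟩ := exists_pos_pairing P l k c hc hk
  refine ⟨a, ha, hp, ?_⟩
  have hp' : 0 < P.pairingIn ℤ a k := by rwa [pairingIn_int]
  have hak : a ≠ k := fun h => hne (h ▸ ha)
  have := P.root_sub_root_mem_of_pairingIn_pos hp' hak
  rw [← P.neg_mem_range_root_iff, neg_sub] at this
  exact this

/-- A closed set of roots contains every root which is a sum of roots of the set. -/
theorem mem_of_isClosedSub_of_sum {S : Set ι} (hS : IsClosedSub P S) :
    ∀ (n : ℕ) (l : Multiset ι), Multiset.card l = n → (∀ a ∈ l, a ∈ S) → ∀ k, P.root k = (l.map P.root).sum → k ∈ S := by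
  classical
  intro n
  induction n with
  | zero =>
    intro l hl _ k hk
    rw [Multiset.card_eq_zero] at hl
    subst hl
    simp at hk
    exact absurd hk (P.ne_zero k)
  | succ n ih =>
    intro l hl hlS k hk
    by_cases hkl : k ∈ l
    · exact hlS k hkl
    · obtain ⟨a, ha, _, k', hk'⟩ := exists_sub_mem P l k hkl 1 one_pos (by simpa using hk)
      have hl' : Multiset.card (l.erase a) = n := by
        rw [Multiset.card_erase_of_mem ha, hl]; rfl
      have hsum : P.root k' = ((l.erase a).map P.root).sum := by
        have h1 : l = a ::ₘ l.erase a := (Multiset.cons_erase ha).symm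
        have h2 : (l.map P.root).sum = P.root a + ((l.erase a).map P.root).sum := by
          conv_lhs => rw [h1]
          simp
        rw [hk', hk, h2]; abel
      have hk'S : k' ∈ S := ih (l.erase a) hl' (fun b hb => hlS b (Multiset.mem_of_mem_erase hb)) k' hsum
      exact hS hk'S (hlS a ha) (by rw [hk']; abel)

theorem isClosedSub_iff_natSpan (S : Set ι) :
    IsClosedSub P S ↔ ∀ k : ι, P.root k ∈ natSpan P S → k ∈ S := by
  constructor
  · intro hS k hk
    obtain ⟨l, hl, hsum⟩ := (mem_natSpan_iff_multiset P S _).mp hk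
    exact mem_of_isClosedSub_of_sum P hS _ l rfl hl k hsum.symm
  · intro h i j k hi hj hk
    apply h
    rw [hk]
    exact AddSubmonoid.add_mem _ (root_mem_natSpan P hi) (root_mem_natSpan P hj)

end Groth.Agent.Helper3.RD
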