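import Groth.Agent.Lib.helper3.RootD9

set_option autoImplicit false

namespace Groth.Agent.Helper3.RD
open RootD

variable {ι M N : Type*} [AddCommGroup M] [AddCommGroup N] (P : RootPairing ι ℤ M N) [Finite ι]

/-- a linear functional which does not vanish on any root -/
theorem exists_dual_ne_zero : ∃ f : Module.Dual ℤ M, ∀ i, f (P.root i) ≠ 0 := by
  classical
  have := Fintype.ofFinite ι
  let e := Fintype.equivFin ι
  let p : ι → Polynomial ℤ := fun i => ∑ j, Polynomial.C (P.pairing i j) * Polynomial.X ^ (e j : ℕ)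
  have hp : ∀ i, p i ≠ 0 := by
    intro i h
    have h1 : (p i).coeff (e i : ℕ) = 2 := by
      simp only [p, Polynomial.finset_sum_coeff, Polynomial.coeff_C_mul, Polynomial.coeff_X_pow]
      rw [Finset.sum_eq_single i]
      · simp [P.pairing_same]
      · intro j _ hj
        have : (e i : ℕ) ≠ (e j : ℕ) := by
          intro h2
          exact hj (e.injective (Fin.ext h2)).symm
        simp [this]
      · simp
    rw [h] at h1
    simp at h1
  have hprod : ∏ i, p i ≠ 0 := Finset.prod_ne_zero_iff.mpr (fun i _ => hp i)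
  obtain ⟨t, ht⟩ : ∃ t : ℤ, (∏ i, p i).eval t ≠ 0 := by
    by_contra h
    push_neg at h
    exact hprod (Polynomial.funext (fun t => by simp [h t]))
  let n : N := ∑ j, (t ^ (e j : ℕ)) • P.coroot j
  refine ⟨P.toLinearMap.flip n, fun i => ?_⟩
  have h1 : P.toLinearMap (P.root i) n = (p i).eval t := by
    simp only [n, p, map_sum, map_smul, P.root_coroot_eq_pairing,
      Polynomial.eval_finset_sum, Polynomial.eval_mul, Polynomial.eval_C, Polynomial.eval_pow,
      Polynomial.eval_X, smul_eq_mul]
    apply Finset.sum_congr rfl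
    intro j _
    ring
  rw [LinearMap.flip_apply, h1]
  intro h0
  apply ht
  rw [Polynomial.eval_prod]
  exact Finset.prod_eq_zero (Finset.mem_univ i) h0

theorem isSimpleSys_baseOf (f : Module.Dual ℤ M) (hf : ∀ i, f (P.root i) ≠ 0) :
    IsSimpleSys P (IsAddIndecomposable.baseOf P.root (f : M →+ ℤ)) := by
  letI := P.indexNeg
  refine ⟨P.linearIndepOn_root_baseOf' (S := ℤ) f hf, fun i => ?_⟩
  exact IsAddIndecomposable.mem_or_neg_mem_closure_baseOf P.root (f : M →+ ℤ) i (hf i) (by simp)

theorem exists_simpleSys : ∃ Δ : Set ι, IsSimpleSys P Δ := by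
  obtain ⟨f, hf⟩ := exists_dual_ne_zero P
  exact ⟨_, isSimpleSys_baseOf P f hf⟩

end Groth.Agent.Helper3.RD
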