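import Groth.Agent.Lib.helper3.RootD10

set_option autoImplicit false

namespace Groth.Agent.Helper3.RD
open RootD

variable {ι M N : Type*} [AddCommGroup M] [AddCommGroup N] (P : RootPairing ι ℤ M N)

theorem mem_image_smul_iff (g : P.Aut) (S : Set ι) (k : ι) :
    k ∈ (fun i : ι => g • i) '' S ↔ g⁻¹ • k ∈ S := by
  constructor
  · rintro ⟨i, hi, rfl⟩
    simpa using hi
  · intro h
    exact ⟨g⁻¹ • k, h, by simp⟩

theorem aut_smul_neg (g : P.Aut) (i : ι) :
    g • P.reflectionPerm i i = P.reflectionPerm (g • i) (g • i) := by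
  apply P.root.injective
  rw [aut_smul_root, root_neg, root_neg, aut_smul_root, smul_neg]

theorem aut_smul_mem_natSpan (g : P.Aut) {S : Set ι} {x : M} (hx : x ∈ natSpan P S) :
    g • x ∈ natSpan P ((fun i : ι => g • i) '' S) := by
  induction hx using AddSubmonoid.closure_induction with
  | mem y hy =>
    obtain ⟨i, hi, rfl⟩ := hy
    rw [← aut_smul_root]
    exact root_mem_natSpan P ⟨i, hi, rfl⟩
  | zero => rw [smul_zero]; exact AddSubmonoid.zero_mem _
  | add y z _ _ hy hz => rw [smul_add]; exact AddSubmonoid.add_mem _ hy hz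

theorem image_image_inv (g : P.Aut) (S : Set ι) :
    (fun i : ι => g⁻¹ • i) '' ((fun i : ι => g • i) '' S) = S := by
  ext k
  rw [mem_image_smul_iff, mem_image_smul_iff]
  simp

theorem aut_smul_mem_natSpan_iff (g : P.Aut) {S : Set ι} {x : M} :
    g • x ∈ natSpan P ((fun i : ι => g • i) '' S) ↔ x ∈ natSpan P S := by
  constructor
  · intro h
    have := aut_smul_mem_natSpan P g⁻¹ h
    rwa [image_image_inv, inv_smul_smul] at this
  · exact aut_smul_mem_natSpan P g

theorem isPosSys_image (g : P.Aut) {S : Set ι} (hS : IsPosSys P S) :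
    IsPosSys P ((fun i : ι => g • i) '' S) := by
  refine ⟨?_, ?_, ?_⟩
  · intro k hk hk'
    rw [mem_image_smul_iff] at hk hk'
    rw [aut_smul_neg] at hk'
    exact hS.disjoint hk hk'
  · intro k
    rw [mem_image_smul_iff, mem_image_smul_iff, aut_smul_neg]
    exact hS.cover _
  · intro k n hn hk
    rw [mem_image_smul_iff]
    apply hS.sat n hn
    have : n • P.root k = g • (n • P.root (g⁻¹ • k)) := by
      rw [aut_smul_root, smul_comm, smul_inv_smul]
    rw [this, aut_smul_mem_natSpan_iff] at hk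
    exact hk

theorem isSimpleSys_image (g : P.Aut) {Δ : Set ι} (hΔ : IsSimpleSys P Δ) :
    IsSimpleSys P ((fun i : ι => g • i) '' Δ) := by
  refine ⟨?_, ?_⟩
  · have h1 : LinearIndepOn ℤ (P.root ∘ (RootPairing.Equiv.indexHom P g)) Δ := by
      have h2 : P.root ∘ (RootPairing.Equiv.indexHom P g) = (RootPairing.Equiv.weightHom P g) ∘ P.root := by
        ext i
        exact aut_smul_root P g i
      rw [h2]
      exact LinearIndependent.map' hΔ.linInd (RootPairing.Equiv.weightHom P g : M →ₗ[ℤ] M)
        (LinearEquiv.ker _)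
    exact (linearIndepOn_equiv (RootPairing.Equiv.indexHom P g)).mp h1
  · intro k
    have h := hΔ.mem_or_neg_mem (g⁻¹ • k)
    have e : P.root k = g • P.root (g⁻¹ • k) := by rw [aut_smul_root, smul_inv_smul]
    rcases h with h | h
    · left
      rw [e]; exact aut_smul_mem_natSpan P g h
    · right
      rw [e, ← smul_neg]; exact aut_smul_mem_natSpan P g h

theorem posOf_image (g : P.Aut) (Δ : Set ι) :
    posOf P ((fun i : ι => g • i) '' Δ) = (fun i : ι => g • i) '' posOf P Δ := by
  ext k
  rw [mem_image_smul_iff]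
  have e : P.root k = g • P.root (g⁻¹ • k) := by rw [aut_smul_root, smul_inv_smul]
  change P.root k ∈ natSpan P _ ↔ P.root (g⁻¹ • k) ∈ natSpan P Δ
  rw [e, aut_smul_mem_natSpan_iff]

end Groth.Agent.Helper3.RD
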