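import Groth.Agent.Lib.helper3.RootD11

set_option autoImplicit false

namespace Groth.Agent.Helper3.RD
open RootD

variable {ι M N : Type*} [AddCommGroup M] [AddCommGroup N] (P : RootPairing ι ℤ M N) [Finite ι]

/-- a simple reflection permutes the positive roots other than `d`, `2d` -/
theorem simple_refl_pos {Δ : Set ι} (hΔ : IsSimpleSys P Δ) {d k : ι} (hd : d ∈ Δ)
    (hk : k ∈ posOf P Δ) (hkd : k ≠ d) (hk2 : P.root k ≠ (2 : ℤ) • P.root d) :
    P.reflectionPerm d k ∈ posOf P Δ := by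
  apply reflectionPerm_mem_posOf hΔ k d hk hd
  by_contra hli
  have hli' : ¬ LinearIndependent ℤ ![P.root d, P.root k] := by
    rwa [LinearIndependent.pair_symm_iff]
  rcases pos_dep_simple P hΔ hk hd hli' with h | h
  exacts [hkd h, hk2 h]

theorem eq_of_posSys_subset {S T : Set ι} (hS : IsPosSys P S) (hT : IsPosSys P T) (h : S ⊆ T) : S = T :=
  Set.Subset.antisymm h (fun k hk => (hS.cover k).resolve_right (fun h' => hT.disjoint hk (h h')))

theorem exists_weyl_image_eq_posOf (Δ : Set ι) (hΔ : IsSimpleSys P Δ) :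
    ∀ (n : ℕ) (S : Set ι), IsPosSys P S → (S \ posOf P Δ).ncard = n →
      ∃ g : P.Aut, g ∈ P.weylGroup ∧ (fun i : ι => g • i) '' S = posOf P Δ := by
  have hT : IsPosSys P (posOf P Δ) := posOf_isPosSys hΔ
  intro n
  induction n using Nat.strong_induction_on with
  | _ n ih =>
    intro S hS hn
    by_cases hST : S ⊆ posOf P Δ
    · refine ⟨1, one_mem _, ?_⟩
      rw [← eq_of_posSys_subset P hS hT hST]
      simp
    · have hex : ∃ d ∈ Δ, d ∉ S := by
        by_contra hcon
        push_neg at hcon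
        exact hST (le_of_eq ((subset_iff_eq_posOf hΔ S hS).mp hcon))
      obtain ⟨d, hd, hdS⟩ := hex
      have hnd : P.reflectionPerm d d ∈ S := (hS.cover d).resolve_left hdS
      let r : P.Aut := RootPairing.Equiv.reflection P d
      have hr : ∀ i : ι, r • i = P.reflectionPerm d i := fun i => rfl
      have hrr : ∀ i : ι, r • (r • i) = i := fun i => by rw [hr, hr, P.reflectionPerm_self]
      let S' : Set ι := (fun i : ι => r • i) '' S
      have hS' : IsPosSys P S' := isPosSys_image P r hS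
      have hdT : d ∈ posOf P Δ := subset_posOf hd
      have hsub : (fun i : ι => r • i) '' (S' \ posOf P Δ) ⊂ S \ posOf P Δ := by
        refine ⟨?_, ?_⟩
        · rintro _ ⟨k', ⟨⟨k, hk, rfl⟩, hk'T⟩, rfl⟩
          simp only [hrr]
          refine ⟨hk, fun hkT => hk'T ?_⟩
          show P.reflectionPerm d k ∈ posOf P Δ
          apply simple_refl_pos P hΔ hd hkT
          · rintro rfl; exact hdS hk
          · intro h2
            apply hdS
            apply hS.sat 2 two_pos
            have : (2 : ℕ) • P.root d = (2 : ℤ) • P.root d := by rw [two_smul, two_smul]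
            rw [this, ← h2]
            exact root_mem_natSpan P hk
        · intro hcon
          have hmem : P.reflectionPerm d d ∈ S \ posOf P Δ := ⟨hnd, hT.disjoint hdT⟩
          obtain ⟨k', ⟨_, hk'T⟩, hk'⟩ := hcon hmem
          apply hk'T
          have : k' = d := by
            have h1 : r • (r • k') = r • P.reflectionPerm d d := congrArg (fun i => r • i) hk'
            rw [hrr, hr, P.reflectionPerm_self] at h1
            exact h1
          rw [this]; exact hdT
      have hlt : (S' \ posOf P Δ).ncard < n := by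
        rw [← hn, ← Set.ncard_image_of_injective (S' \ posOf P Δ) (MulAction.injective r)]
        exact Set.ncard_lt_ncard hsub (Set.toFinite _)
      obtain ⟨g', hg', hg'S⟩ := ih _ hlt S' hS' rfl
      refine ⟨g' * r, mul_mem hg' (P.reflection_mem_weylGroup d), ?_⟩
      rw [← hg'S]
      ext k
      simp only [S', Set.mem_image, mul_smul]
      constructor
      · rintro ⟨i, hi, rfl⟩
        exact ⟨r • i, ⟨i, hi, rfl⟩, rfl⟩
      · rintro ⟨_, ⟨i, hi, rfl⟩, rfl⟩
        exact ⟨i, hi, rfl⟩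

theorem weylGroup_transitive_posSys (S S' : Set ι) (hS : IsPosSys P S) (hS' : IsPosSys P S') :
    ∃ g : P.Aut, g ∈ P.weylGroup ∧ (fun i : ι => g • i) '' S = S' := by
  obtain ⟨Δ, hΔ⟩ := exists_simpleSys P
  obtain ⟨g₁, hg₁, h₁⟩ := exists_weyl_image_eq_posOf P Δ hΔ _ S hS rfl
  obtain ⟨g₂, hg₂, h₂⟩ := exists_weyl_image_eq_posOf P Δ hΔ _ S' hS' rfl
  refine ⟨g₂⁻¹ * g₁, mul_mem (inv_mem hg₂) hg₁, ?_⟩
  have : (fun i : ι => (g₂⁻¹ * g₁) • i) '' S = (fun i : ι => g₂⁻¹ • i) '' ((fun i : ι => g₁ • i) '' S) := by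
    rw [Set.image_image]
    simp only [mul_smul]
  rw [this, h₁, ← h₂, image_image_inv]

theorem simpleSys_eq_of_posOf_eq {Δ Δ' : Set ι} (hΔ : IsSimpleSys P Δ) (hΔ' : IsSimpleSys P Δ')
    (h : posOf P Δ = posOf P Δ') : Δ = Δ' := by
  ext k
  constructor
  · intro hk
    have hkp : k ∈ posOf P Δ := subset_posOf hk
    have := (mem_simpleSys_iff_not_sum P Δ hΔ k hkp).mp hk
    rw [h] at this hkp
    exact (mem_simpleSys_iff_not_sum P Δ' hΔ' k hkp).mpr this
  · intro hk
    have hkp : k ∈ posOf P Δ' := subset_posOf hk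
    have := (mem_simpleSys_iff_not_sum P Δ' hΔ' k hkp).mp hk
    rw [← h] at this hkp
    exact (mem_simpleSys_iff_not_sum P Δ hΔ k hkp).mpr this

theorem existsUnique_simpleSys_subset_posSys (S : Set ι) (hS : IsPosSys P S) :
    ∃! Δ : Set ι, IsSimpleSys P Δ ∧ Δ ⊆ S := by
  obtain ⟨Δ₀, hΔ₀⟩ := exists_simpleSys P
  obtain ⟨g, _, hg⟩ := exists_weyl_image_eq_posOf P Δ₀ hΔ₀ _ S hS rfl
  have hS_eq : S = posOf P ((fun i : ι => g⁻¹ • i) '' Δ₀) := by
    rw [posOf_image, ← hg, image_image_inv]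
  refine ⟨(fun i : ι => g⁻¹ • i) '' Δ₀, ⟨isSimpleSys_image P g⁻¹ hΔ₀, ?_⟩, ?_⟩
  · rw [hS_eq]; exact subset_posOf
  · rintro Δ' ⟨hΔ', hsub⟩
    apply simpleSys_eq_of_posOf_eq P hΔ' (isSimpleSys_image P g⁻¹ hΔ₀)
    rw [← hS_eq]
    exact ((subset_iff_eq_posOf hΔ' S hS).mp hsub).symm

theorem weylGroup_transitive_simpleSys (Δ Δ' : Set ι) (hΔ : IsSimpleSys P Δ) (hΔ' : IsSimpleSys P Δ') :
    ∃ g : P.Aut, g ∈ P.weylGroup ∧ (fun i : ι => g • i) '' Δ = Δ' := by
  obtain ⟨g, hg, h⟩ := weylGroup_transitive_posSys P _ _ (posOf_isPosSys hΔ) (posOf_isPosSys hΔ')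
  refine ⟨g, hg, ?_⟩
  apply simpleSys_eq_of_posOf_eq P (isSimpleSys_image P g hΔ) hΔ'
  rw [posOf_image, h]

end Groth.Agent.Helper3.RD
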