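import Groth.Agent.Lib.helper3.RootD12

set_option autoImplicit false

namespace Groth.Agent.Helper3.RD
open RootD

variable {ι M N : Type*} [AddCommGroup M] [AddCommGroup N] {P : RootPairing ι ℤ M N} {Δ : Set ι}

theorem exists_coeffVec (hΔ : IsSimpleSys P Δ) (k : ι) :
    ∃ c : ι →₀ ℤ, ↑c.support ⊆ Δ ∧ Finsupp.linearCombination ℤ P.root c = P.root k := by
  obtain ⟨c, hc, _, h | h⟩ := exists_coeff hΔ k
  · exact ⟨c, hc, h⟩
  · exact ⟨-c, by rwa [Finsupp.support_neg], by rw [map_neg, h, neg_neg]⟩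

/-- the coefficient vector of a root with respect to a simple system -/
noncomputable def coeffVec (hΔ : IsSimpleSys P Δ) (k : ι) : ι →₀ ℤ := (exists_coeffVec hΔ k).choose

theorem coeffVec_support (hΔ : IsSimpleSys P Δ) (k : ι) : ↑(coeffVec hΔ k).support ⊆ Δ :=
  (exists_coeffVec hΔ k).choose_spec.1

theorem coeffVec_lc (hΔ : IsSimpleSys P Δ) (k : ι) :
    Finsupp.linearCombination ℤ P.root (coeffVec hΔ k) = P.root k :=
  (exists_coeffVec hΔ k).choose_spec.2

theorem coeffVec_unique (hΔ : IsSimpleSys P Δ) (k : ι) {c : ι →₀ ℤ} (hc : ↑c.support ⊆ Δ)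
    (h : Finsupp.linearCombination ℤ P.root c = P.root k) : c = coeffVec hΔ k :=
  coeff_unique hΔ.linInd hc (coeffVec_support hΔ k) (h.trans (coeffVec_lc hΔ k).symm)

theorem mem_posOf_iff_coeffVec (hΔ : IsSimpleSys P Δ) (k : ι) :
    k ∈ posOf P Δ ↔ ∀ j, 0 ≤ coeffVec hΔ k j := by
  constructor
  · intro hk
    obtain ⟨c, hc, hc0, h⟩ := (mem_posOf_iff k).mp hk
    rw [← coeffVec_unique hΔ k hc h]
    exact hc0
  · intro h
    exact (mem_posOf_iff k).mpr ⟨_, coeffVec_support hΔ k, h, coeffVec_lc hΔ k⟩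

theorem coeffVec_simple (hΔ : IsSimpleSys P Δ) {d : ι} (hd : d ∈ Δ) :
    coeffVec hΔ d = Finsupp.single d 1 :=
  (coeffVec_unique hΔ d (support_single_subset' hd 1) (by simp)).symm

theorem coeffVec_neg (hΔ : IsSimpleSys P Δ) (k : ι) :
    coeffVec hΔ (P.reflectionPerm k k) = - coeffVec hΔ k :=
  (coeffVec_unique hΔ _ (by rw [Finsupp.support_neg]; exact coeffVec_support hΔ k)
    (by rw [map_neg, coeffVec_lc, root_neg])).symm

theorem coeffVec_reflection (hΔ : IsSimpleSys P Δ) {d : ι} (hd : d ∈ Δ) (k : ι) :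
    coeffVec hΔ (P.reflectionPerm d k) = coeffVec hΔ k - Finsupp.single d (P.pairing k d) := by
  classical
  symm
  apply coeffVec_unique hΔ
  · intro x hx
    rcases Finset.mem_union.mp (Finsupp.support_sub hx) with h | h
    · exact coeffVec_support hΔ k h
    · exact support_single_subset' hd _ h
  · rw [map_sub, coeffVec_lc, P.root_reflectionPerm, P.reflection_apply_root]; simp

/-- the height of a root -/
noncomputable def height (hΔ : IsSimpleSys P Δ) (k : ι) : ℤ := (coeffVec hΔ k).sum (fun _ a => a)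

theorem height_reflection (hΔ : IsSimpleSys P Δ) {d : ι} (hd : d ∈ Δ) (k : ι) :
    height hΔ (P.reflectionPerm d k) = height hΔ k - P.pairing k d := by
  classical
  unfold height
  rw [coeffVec_reflection hΔ hd, Finsupp.sum_sub_index (by intros; rfl), Finsupp.sum_single_index rfl]

theorem height_nonneg (hΔ : IsSimpleSys P Δ) {k : ι} (hk : k ∈ posOf P Δ) : 0 ≤ height hΔ k := by
  unfold height
  exact Finset.sum_nonneg (fun j _ => (mem_posOf_iff_coeffVec hΔ k).mp hk j)

end Groth.Agent.Helper3.RD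

namespace Groth.Agent.Helper3.RD
open RootD

variable {ι M N : Type*} [AddCommGroup M] [AddCommGroup N] {P : RootPairing ι ℤ M N} {Δ : Set ι}

theorem indiv_smul (g : P.Aut) {k : ι} (hk : IsIndiv P k) : IsIndiv P (g • k) := by
  intro j hj
  apply hk (g⁻¹ • j)
  rw [aut_smul_root, ← smul_comm, hj, aut_smul_root, inv_smul_smul]

theorem indiv_neg {k : ι} (hk : IsIndiv P k) : IsIndiv P (P.reflectionPerm k k) :=
  indiv_smul (RootPairing.Equiv.reflection P k) hk

variable [Finite ι]

theorem exists_simple_conj_of_pos (hΔ : IsSimpleSys P Δ) :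
    ∀ (n : ℕ) (k : ι), k ∈ posOf P Δ → IsIndiv P k → (height hΔ k).toNat = n →
      ∃ g ∈ Subgroup.closure ((fun i : ι => RootPairing.Equiv.reflection P i) '' Δ), ∃ i ∈ Δ, g • i = k := by
  intro n
  induction n using Nat.strong_induction_on with
  | _ n ih =>
    intro k hk hind hn
    by_cases hkΔ : k ∈ Δ
    · exact ⟨1, one_mem _, k, hkΔ, one_smul _ _⟩
    · obtain ⟨d, hd, hp, hpos⟩ := exists_simple_pairing_pos P hΔ k hk hkΔ hind
      have hh := height_reflection hΔ hd k
      have h0 := height_nonneg hΔ hpos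
      have hlt : (height hΔ (P.reflectionPerm d k)).toNat < n := by
        rw [← hn]; omega
      have hind' : IsIndiv P (P.reflectionPerm d k) := indiv_smul (RootPairing.Equiv.reflection P d) hind
      obtain ⟨g', hg', i, hi, hgi⟩ := ih _ hlt _ hpos hind' rfl
      refine ⟨RootPairing.Equiv.reflection P d * g',
        mul_mem (Subgroup.subset_closure ⟨d, hd, rfl⟩) hg', i, hi, ?_⟩
      rw [mul_smul, hgi]
      exact P.reflectionPerm_self d k

theorem exists_simple_conj (hΔ : IsSimpleSys P Δ) (k : ι) (hind : IsIndiv P k) :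
    ∃ g ∈ Subgroup.closure ((fun i : ι => RootPairing.Equiv.reflection P i) '' Δ), ∃ i ∈ Δ, g • i = k := by
  rcases (posOf_isPosSys hΔ).cover k with hk | hk
  · exact exists_simple_conj_of_pos hΔ _ k hk hind rfl
  · obtain ⟨g, hg, i, hi, hgi⟩ := exists_simple_conj_of_pos hΔ _ _ hk (indiv_neg hind) rfl
    refine ⟨g * RootPairing.Equiv.reflection P i, mul_mem hg (Subgroup.subset_closure ⟨i, hi, rfl⟩), i, hi, ?_⟩
    rw [mul_smul]
    have : RootPairing.Equiv.reflection P i • i = P.reflectionPerm i i := rfl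
    rw [this, aut_smul_neg, hgi, reflectionPerm_neg_neg]

theorem closure_simple_reflections (hΔ : IsSimpleSys P Δ) :
    Subgroup.closure ((fun i : ι => RootPairing.Equiv.reflection P i) '' Δ) = P.weylGroup := by
  apply le_antisymm
  · apply Subgroup.closure_mono
    rintro _ ⟨i, _, rfl⟩
    exact ⟨i, rfl⟩
  · rw [← closure_reflection_indiv P, Subgroup.closure_le]
    rintro _ ⟨k, hk, rfl⟩
    obtain ⟨g, hg, i, hi, hgi⟩ := exists_simple_conj hΔ k hk
    have := aut_conj_reflection P g i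
    rw [hgi] at this
    change RootPairing.Equiv.reflection P k ∈ _
    rw [← this]
    exact mul_mem (mul_mem hg (Subgroup.subset_closure ⟨i, hi, rfl⟩)) (inv_mem hg)

theorem simple_generate_and_conj (hΔ : IsSimpleSys P Δ) :
    Subgroup.closure ((fun i : ι => RootPairing.Equiv.reflection P i) '' Δ) = P.weylGroup ∧
      ∀ k : ι, IsIndiv P k → ∃ g : P.Aut, g ∈ P.weylGroup ∧ ∃ i ∈ Δ, g • i = k := by
  refine ⟨closure_simple_reflections hΔ, fun k hk => ?_⟩
  obtain ⟨g, hg, i, hi, hgi⟩ := exists_simple_conj hΔ k hk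
  rw [closure_simple_reflections hΔ] at hg
  exact ⟨g, hg, i, hi, hgi⟩

end Groth.Agent.Helper3.RD
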