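import Groth.Agent.Lib.helper3.RootD13

set_option autoImplicit false

namespace Groth.Agent.Helper3.RD
open RootD

variable {ι M N : Type*} [AddCommGroup M] [AddCommGroup N] {P : RootPairing ι ℤ M N} {Δ : Set ι}

theorem coeffVec_add (hΔ : IsSimpleSys P Δ) {i j k : ι} (h : P.root k = P.root i + P.root j) :
    coeffVec hΔ k = coeffVec hΔ i + coeffVec hΔ j := by
  classical
  symm
  apply coeffVec_unique hΔ
  · intro x hx
    rcases Finset.mem_union.mp (Finsupp.support_add hx) with h | h
    · exact coeffVec_support hΔ i h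
    · exact coeffVec_support hΔ j h
  · rw [map_add, coeffVec_lc, coeffVec_lc, h]

theorem height_add (hΔ : IsSimpleSys P Δ) {i j k : ι} (h : P.root k = P.root i + P.root j) :
    height hΔ k = height hΔ i + height hΔ j := by
  unfold height
  rw [coeffVec_add hΔ h, Finsupp.sum_add_index' (by intros; rfl) (by intros; rfl)]

theorem height_pos (hΔ : IsSimpleSys P Δ) {k : ι} (hk : k ∈ posOf P Δ) : 0 < height hΔ k := by
  have h0 := (mem_posOf_iff_coeffVec hΔ k).mp hk
  rcases (height_nonneg hΔ hk).lt_or_eq with h | h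
  · exact h
  · exfalso
    unfold height at h
    have h1 : ∀ j ∈ (coeffVec hΔ k).support, coeffVec hΔ k j = 0 :=
      (Finset.sum_eq_zero_iff_of_nonneg (fun j _ => h0 j)).mp h.symm
    have h2 : coeffVec hΔ k = 0 := by
      ext j
      by_cases hj : j ∈ (coeffVec hΔ k).support
      · exact h1 j hj
      · simpa using hj
    have := coeffVec_lc hΔ k
    rw [h2, map_zero] at this
    exact P.ne_zero k this.symm

variable [Finite ι]

/-- induction principle: a property of positive roots which holds for simple roots and is inherited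
by sums holds for all positive roots -/
theorem posOf_induction (hΔ : IsSimpleSys P Δ) (p : ι → Prop) (hs : ∀ d ∈ Δ, p d)
    (hadd : ∀ i j k, i ∈ posOf P Δ → j ∈ posOf P Δ → P.root k = P.root i + P.root j → p i → p j → p k) :
    ∀ k ∈ posOf P Δ, p k := by
  have key : ∀ (n : ℕ) (k : ι), k ∈ posOf P Δ → (height hΔ k).toNat = n → p k := by
    intro n
    induction n using Nat.strong_induction_on with
    | _ n ih =>
      intro k hk hn
      by_cases hkΔ : k ∈ Δ
      · exact hs k hkΔ
      · have := (mem_simpleSys_iff_not_sum P Δ hΔ k hk).not.mp hkΔ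
        rw [not_not] at this
        obtain ⟨i, j, hi, hj, hsum⟩ := this
        have h1 := height_add hΔ hsum
        have h2 := height_pos hΔ hi
        have h3 := height_pos hΔ hj
        exact hadd i j k hi hj hsum (ih _ (by omega) i hi rfl) (ih _ (by omega) j hj rfl)
  intro k hk
  exact key _ k hk rfl

end Groth.Agent.Helper3.RD

namespace Groth.Agent.Helper3.RD
open RootD

variable {ι M N : Type*} [AddCommGroup M] [AddCommGroup N] (P : RootPairing ι ℤ M N) [Finite ι]

theorem existsUnique_addHom_extending {G : Type*} [AddCommGroup G] (f : ι → G)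
    (hneg : ∀ i : ι, f (P.reflectionPerm i i) = -f i)
    (hadd : ∀ i j k : ι, P.root k = P.root i + P.root j → f k = f i + f j) :
    ∃! φ : Submodule.span ℤ (Set.range P.root) →+ G,
      ∀ i : ι, φ ⟨P.root i, Submodule.subset_span (Set.mem_range_self i)⟩ = f i := by
  classical
  obtain ⟨Δ, hΔ⟩ := exists_simpleSys P
  let v : Δ → M := fun d => P.root d
  have hv : LinearIndependent ℤ v := hΔ.linInd
  have hle : Submodule.span ℤ (Set.range P.root) ≤ Submodule.span ℤ (Set.range v) := by
    rw [Submodule.span_le]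
    rintro _ ⟨k, rfl⟩
    rw [← coeffVec_lc hΔ k, Finsupp.linearCombination_apply, Finsupp.sum]
    apply Submodule.sum_mem
    intro d hd
    apply Submodule.smul_mem
    exact Submodule.subset_span ⟨⟨d, coeffVec_support hΔ k hd⟩, rfl⟩
  let φ₀ : Submodule.span ℤ (Set.range P.root) →ₗ[ℤ] G :=
    (Finsupp.linearCombination ℤ (fun d : Δ => f d)) ∘ₗ hv.repr ∘ₗ Submodule.inclusion hle
  let rt : ι → Submodule.span ℤ (Set.range P.root) := fun i =>
    ⟨P.root i, Submodule.subset_span (Set.mem_range_self i)⟩
  have hφd : ∀ d ∈ Δ, φ₀ (rt d) = f d := by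
    intro d hd
    have h1 : hv.repr (Submodule.inclusion hle (rt d)) = Finsupp.single ⟨d, hd⟩ 1 :=
      hv.repr_eq_single ⟨d, hd⟩ _ rfl
    simp only [φ₀, LinearMap.comp_apply, h1]
    simp
  have hφpos : ∀ k ∈ posOf P Δ, φ₀ (rt k) = f k := by
    apply posOf_induction hΔ (fun k => φ₀ (rt k) = f k) hφd
    intro i j k _ _ hsum hi hj
    have : rt k = rt i + rt j := Subtype.ext hsum
    show φ₀ (rt k) = f k
    rw [this, map_add, hi, hj, hadd i j k hsum]
  have hφ : ∀ k, φ₀ (rt k) = f k := by
    intro k
    rcases (posOf_isPosSys hΔ).cover k with hk | hk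
    · exact hφpos k hk
    · have h1 := hφpos _ hk
      have h2 : rt (P.reflectionPerm k k) = - rt k := Subtype.ext (root_neg P k)
      rw [h2, map_neg, hneg] at h1
      exact neg_injective h1
  refine ⟨φ₀.toAddMonoidHom, fun i => hφ i, ?_⟩
  intro ψ hψ
  ext ⟨x, hx⟩
  induction hx using Submodule.span_induction with
  | mem y hy =>
    obtain ⟨i, rfl⟩ := hy
    exact (hψ i).trans (hφ i).symm
  | zero =>
    have : (⟨0, Submodule.zero_mem _⟩ : Submodule.span ℤ (Set.range P.root)) = 0 := rfl
    rw [this, map_zero, map_zero]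
  | add y z hy hz h1 h2 =>
    have : (⟨y + z, Submodule.add_mem _ hy hz⟩ : Submodule.span ℤ (Set.range P.root)) = ⟨y, hy⟩ + ⟨z, hz⟩ := rfl
    rw [this, map_add, map_add, h1, h2]
  | smul a y hy h1 =>
    have : (⟨a • y, Submodule.smul_mem _ a hy⟩ : Submodule.span ℤ (Set.range P.root)) = a • ⟨y, hy⟩ := rfl
    rw [this, map_zsmul, map_zsmul, h1]

end Groth.Agent.Helper3.RD
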