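import Groth.Agent.Lib.helper3.RootD14

set_option autoImplicit false

namespace Groth.Agent.Helper3.RD
open RootD

variable {ι M N : Type*} [AddCommGroup M] [AddCommGroup N] {P : RootPairing ι ℤ M N} {Δ : Set ι}

theorem span_root_le_span_simple (hΔ : IsSimpleSys P Δ) :
    Submodule.span ℤ (Set.range P.root) ≤ Submodule.span ℤ (P.root '' Δ) := by
  rw [Submodule.span_le]
  rintro _ ⟨k, rfl⟩
  rw [← coeffVec_lc hΔ k, Finsupp.linearCombination_apply, Finsupp.sum]
  apply Submodule.sum_mem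
  intro d hd
  apply Submodule.smul_mem
  exact Submodule.subset_span ⟨d, coeffVec_support hΔ k hd, rfl⟩

theorem exists_coeff_of_mem_span (hΔ : IsSimpleSys P Δ) {x : M}
    (hx : x ∈ Submodule.span ℤ (Set.range P.root)) :
    ∃ c : ι →₀ ℤ, ↑c.support ⊆ Δ ∧ Finsupp.linearCombination ℤ P.root c = x := by
  obtain ⟨c, hc, h⟩ := (Finsupp.mem_span_image_iff_linearCombination ℤ).mp (span_root_le_span_simple hΔ hx)
  exact ⟨c, (Finsupp.mem_supported ℤ c).mp hc, h⟩

theorem smul_eq_root_of_adjoint [Finite ι] (had : Submodule.span ℤ (Set.range P.root) = ⊤)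
    (i : ι) (hind : IsIndiv P i) (m : M) (n : ℤ) (h : n • m = P.root i) : n = 1 ∨ n = -1 := by
  classical
  obtain ⟨Δ, hΔ⟩ := exists_simpleSys P
  obtain ⟨g, _, d, hd, hgd⟩ := exists_simple_conj hΔ i hind
  have h1 : n • (g⁻¹ • m) = P.root d := by
    rw [← smul_comm, h, ← hgd, aut_smul_root, inv_smul_smul]
  obtain ⟨c, hc, hcm⟩ := exists_coeff_of_mem_span hΔ (x := g⁻¹ • m) (by rw [had]; trivial)
  have h2 : Finsupp.linearCombination ℤ P.root (n • c) = Finsupp.linearCombination ℤ P.root (Finsupp.single d 1) := by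
    rw [map_smul, hcm, h1]; simp
  have h3 := coeff_unique hΔ.linInd (c := n • c) (fun x hx => hc (Finsupp.support_smul hx))
    (support_single_subset' hd 1) h2
  have h4 := DFunLike.congr_fun h3 d
  simp only [Finsupp.smul_apply, smul_eq_mul, Finsupp.single_eq_same] at h4
  exact Int.eq_one_or_neg_one_of_mul_eq_one h4

end Groth.Agent.Helper3.RD

namespace Groth.Agent.Helper3.RD
open RootD

variable {ι M N : Type*} [AddCommGroup M] [AddCommGroup N] (P : RootPairing ι ℤ M N) [Finite ι]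

/-- a closed set of roots containing each root or its opposite contains a positive system -/
theorem exists_posSys_subset (P' : Set ι) (hP2 : ∀ i : ι, i ∈ P' ∨ P.reflectionPerm i i ∈ P')
    (hcl : IsClosedSub P P') : ∃ S' : Set ι, IsPosSys P S' ∧ S' ⊆ P' := by
  obtain ⟨Δ₀, hΔ₀⟩ := exists_simpleSys P
  have hS₀ := posOf_isPosSys hΔ₀
  have hS₀c := ((isPosSys_iff_closed P _).mp hS₀).2.2
  let S' : Set ι := {k | k ∈ P' ∧ (P.reflectionPerm k k ∈ P' → k ∈ posOf P Δ₀)}
  have hnn : ∀ k, P.reflectionPerm (P.reflectionPerm k k) (P.reflectionPerm k k) = k :=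
    reflectionPerm_neg_neg P
  refine ⟨S', (isPosSys_iff_closed P S').mpr ⟨?_, ?_, ?_⟩, fun k hk => hk.1⟩
  · rintro k ⟨hk1, hk2⟩ ⟨hk3, hk4⟩
    rw [hnn] at hk4
    exact hS₀.disjoint (hk2 hk3) (hk4 hk1)
  · intro k
    by_cases h1 : k ∈ P'
    · by_cases h2 : P.reflectionPerm k k ∈ P'
      · rcases hS₀.cover k with h3 | h3
        · exact Or.inl ⟨h1, fun _ => h3⟩
        · exact Or.inr ⟨h2, fun _ => h3⟩
      · exact Or.inl ⟨h1, fun h => absurd h h2⟩
    · have h2 := (hP2 k).resolve_left h1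
      exact Or.inr ⟨h2, fun h => absurd (by rwa [hnn] at h) h1⟩
  · rintro a b c ⟨ha1, ha2⟩ ⟨hb1, hb2⟩ hc
    refine ⟨hcl ha1 hb1 hc, fun hnc => ?_⟩
    have hna : P.reflectionPerm a a ∈ P' := by
      refine hcl hb1 hnc ?_
      rw [root_neg, root_neg, hc]; abel
    have hnb : P.reflectionPerm b b ∈ P' := by
      refine hcl ha1 hnc ?_
      rw [root_neg, root_neg, hc]; abel
    exact hS₀c (ha2 hna) (hb2 hnb) hc

theorem exists_weylGroup_image_posSys_subset_closed (S : Set ι) (hS : IsPosSys P S)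
    (P' : Set ι) (hP2 : ∀ i : ι, i ∈ P' ∨ P.reflectionPerm i i ∈ P') (hcl : IsClosedSub P P') :
    ∃ g : P.Aut, g ∈ P.weylGroup ∧ (fun i : ι => g • i) '' S ⊆ P' := by
  obtain ⟨S', hS', hsub⟩ := exists_posSys_subset P P' hP2 hcl
  obtain ⟨g, hg, h⟩ := weylGroup_transitive_posSys P S S' hS hS'
  exact ⟨g, hg, h ▸ hsub⟩

end Groth.Agent.Helper3.RD
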