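import Groth.Agent.Lib.helper3.RootD15

set_option autoImplicit false

namespace Groth.Agent.Helper3.RD
open RootD

variable {ι M N : Type*} [AddCommGroup M] [AddCommGroup N] (P : RootPairing ι ℤ M N) [Finite ι]

theorem closed_superset_posSys_eq (S : Set ι) (hS : IsPosSys P S) (Δ : Set ι)
    (hΔ : IsSimpleSys P Δ) (hΔS : Δ ⊆ S) (P' : Set ι) (hcl : IsClosedSub P P')
    (hSP : S ⊆ P') :
    P' = S ∪ {k : ι | -P.root k ∈ natSpan P {i : ι | i ∈ Δ ∧ P.reflectionPerm i i ∈ P'}} := by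
  have hSeq : S = posOf P Δ := (subset_iff_eq_posOf hΔ S hS).mp hΔS
  set Δ' : Set ι := {i : ι | i ∈ Δ ∧ P.reflectionPerm i i ∈ P'} with hΔ'
  have key : ∀ j ∈ posOf P Δ, P.reflectionPerm j j ∈ P' → P.root j ∈ natSpan P Δ' := by
    apply posOf_induction hΔ (fun j => P.reflectionPerm j j ∈ P' → P.root j ∈ natSpan P Δ')
    · intro d hd hnd
      exact root_mem_natSpan P ⟨hd, hnd⟩
    · intro i j k hi hj hsum pi pj hnk
      have hni : P.reflectionPerm i i ∈ P' := by
        refine hcl hnk (hSP (hSeq ▸ hj)) ?_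
        rw [root_neg, root_neg, hsum]; abel
      have hnj : P.reflectionPerm j j ∈ P' := by
        refine hcl hnk (hSP (hSeq ▸ hi)) ?_
        rw [root_neg, root_neg, hsum]; abel
      rw [hsum]
      exact AddSubmonoid.add_mem _ (pi hni) (pj hnj)
  ext k
  constructor
  · intro hk
    by_cases hkS : k ∈ S
    · exact Or.inl hkS
    · right
      have hnk : P.reflectionPerm k k ∈ S := (hS.cover k).resolve_left hkS
      have := key _ (hSeq ▸ hnk) (by rwa [reflectionPerm_neg_neg])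
      rw [root_neg] at this
      exact this
  · rintro (hk | hk)
    · exact hSP hk
    · change -P.root k ∈ natSpan P Δ' at hk
      apply (isClosedSub_iff_natSpan P P').mp hcl
      obtain ⟨l, hl, hsum⟩ := (mem_natSpan_iff_multiset P Δ' _).mp hk
      rw [mem_natSpan_iff_multiset]
      refine ⟨l.map (fun i => P.reflectionPerm i i), ?_, ?_⟩
      · intro a ha
        obtain ⟨b, hb, rfl⟩ := Multiset.mem_map.mp ha
        exact (hl b hb).2
      · rw [Multiset.map_map]
        have : (P.root ∘ fun i => P.reflectionPerm i i) = fun i => - P.root i := by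
          ext i; exact root_neg P i
        rw [this, Multiset.sum_map_neg, hsum, neg_neg]

theorem exists_simpleSys_of_closed_P2 (P' : Set ι)
    (hP2 : ∀ i : ι, i ∈ P' ∨ P.reflectionPerm i i ∈ P') (hcl : IsClosedSub P P') :
    ∃ Δ Δ' : Set ι, IsSimpleSys P Δ ∧ Δ' ⊆ Δ ∧
      P' = posOf P Δ ∪ {k : ι | -P.root k ∈ natSpan P Δ'} := by
  obtain ⟨S', hS', hsub⟩ := exists_posSys_subset P P' hP2 hcl
  obtain ⟨Δ, ⟨hΔ, hΔS⟩, _⟩ := existsUnique_simpleSys_subset_posSys P S' hS'
  have hSeq : S' = posOf P Δ := (subset_iff_eq_posOf hΔ S' hS').mp hΔS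
  refine ⟨Δ, {i : ι | i ∈ Δ ∧ P.reflectionPerm i i ∈ P'}, hΔ, fun i hi => hi.1, ?_⟩
  rw [← hSeq]
  exact closed_superset_posSys_eq P S' hS' Δ hΔ hΔS P' hcl hsub

end Groth.Agent.Helper3.RD
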