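import Groth.Agent.Lib.helper3.RootD16

set_option autoImplicit false

namespace Groth.Agent.Helper3.RD
open RootD

variable {ι M N : Type*} [AddCommGroup M] [AddCommGroup N] {P : RootPairing ι ℤ M N} {Δ Δ' : Set ι}

theorem mem_inSpan_iff (S : Set ι) (k : ι) :
    k ∈ inSpan P S ↔ P.root k ∈ Submodule.span ℤ (P.root '' S) := Iff.rfl

theorem reflection_mem_span_of_orth (horth : ∀ i ∈ Δ', ∀ j ∈ Δ \ Δ', P.IsOrthogonal i j)
    {e : ι} (he : e ∈ Δ) {x : M} (hx : x ∈ Submodule.span ℤ (P.root '' Δ')) :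
    P.reflection e x ∈ Submodule.span ℤ (P.root '' Δ') := by
  induction hx using Submodule.span_induction with
  | mem y hy =>
    obtain ⟨d, hd, rfl⟩ := hy
    rw [P.reflection_apply_root]
    by_cases he' : e ∈ Δ'
    · exact Submodule.sub_mem _ (Submodule.subset_span ⟨d, hd, rfl⟩)
        (Submodule.smul_mem _ _ (Submodule.subset_span ⟨e, he', rfl⟩))
    · have := (horth d hd e ⟨he, he'⟩).1
      rw [this, zero_smul, sub_zero]
      exact Submodule.subset_span ⟨d, hd, rfl⟩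
  | zero => rw [map_zero]; exact Submodule.zero_mem _
  | add y z _ _ hy hz => rw [map_add]; exact Submodule.add_mem _ hy hz
  | smul a y _ hy => rw [map_smul]; exact Submodule.smul_mem _ _ hy

theorem weylSimple_smul_mem_span_of_orth (horth : ∀ i ∈ Δ', ∀ j ∈ Δ \ Δ', P.IsOrthogonal i j)
    {g : P.Aut} (hg : g ∈ Subgroup.closure ((fun i : ι => RootPairing.Equiv.reflection P i) '' Δ)) :
    ∀ {x : M}, x ∈ Submodule.span ℤ (P.root '' Δ') → g • x ∈ Submodule.span ℤ (P.root '' Δ') := by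
  induction hg using Subgroup.closure_induction'' with
  | one => intro x hx; simpa using hx
  | mem y hy =>
    obtain ⟨e, he, rfl⟩ := hy
    intro x hx
    exact reflection_mem_span_of_orth horth he hx
  | inv_mem y hy =>
    obtain ⟨e, he, rfl⟩ := hy
    intro x hx
    rw [RootPairing.Equiv.reflection_inv]
    exact reflection_mem_span_of_orth horth he hx
  | mul y z _ _ hy hz =>
    intro x hx
    rw [mul_smul]
    exact hy (hz hx)

variable [Finite ι]

theorem inSpan_partition (hΔ : IsSimpleSys P Δ)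
    (hsub : Δ' ⊆ Δ) (horth : ∀ i ∈ Δ', ∀ j ∈ Δ \ Δ', P.IsOrthogonal i j) (k : ι) :
    (k ∈ inSpan P Δ' ∨ k ∈ inSpan P (Δ \ Δ')) ∧
      ¬ (k ∈ inSpan P Δ' ∧ k ∈ inSpan P (Δ \ Δ')) := by
  classical
  have horth' : ∀ i ∈ Δ \ Δ', ∀ j ∈ Δ \ (Δ \ Δ'), P.IsOrthogonal i j := by
    intro i hi j hj
    have hj' : j ∈ Δ' := by
      by_contra h
      exact hj.2 ⟨hj.1, h⟩
    exact (horth j hj' i hi).symm
  have hind : ∀ k : ι, IsIndiv P k → (k ∈ inSpan P Δ' ∨ k ∈ inSpan P (Δ \ Δ')) := by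
    intro k hk
    obtain ⟨g, hg, d, hd, hgd⟩ := exists_simple_conj hΔ k hk
    by_cases hd' : d ∈ Δ'
    · left
      rw [mem_inSpan_iff, ← hgd, aut_smul_root]
      exact weylSimple_smul_mem_span_of_orth horth hg (Submodule.subset_span ⟨d, hd', rfl⟩)
    · right
      rw [mem_inSpan_iff, ← hgd, aut_smul_root]
      exact weylSimple_smul_mem_span_of_orth horth' hg (Submodule.subset_span ⟨d, ⟨hd, hd'⟩, rfl⟩)
  constructor
  · by_cases hk : IsIndiv P k
    · exact hind k hk
    · unfold IsIndiv at hk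
      push_neg at hk
      obtain ⟨l, hl⟩ := hk
      rcases hind l (indiv_of_two_smul P hl) with h | h
      · left
        rw [mem_inSpan_iff, ← hl]; exact Submodule.smul_mem _ _ h
      · right
        rw [mem_inSpan_iff, ← hl]; exact Submodule.smul_mem _ _ h
  · rintro ⟨h1, h2⟩
    obtain ⟨c, hc, hcl⟩ := (Finsupp.mem_span_image_iff_linearCombination ℤ).mp h1
    obtain ⟨c', hc', hcl'⟩ := (Finsupp.mem_span_image_iff_linearCombination ℤ).mp h2
    rw [Finsupp.mem_supported] at hc hc'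
    have := coeff_unique hΔ.linInd (fun x hx => hsub (hc hx)) (fun x hx => (hc' hx).1) (hcl.trans hcl'.symm)
    have h0 : c = 0 := by
      ext x
      by_contra hx
      have hx1 : x ∈ c.support := Finsupp.mem_support_iff.mpr hx
      have hx2 : x ∈ c'.support := this ▸ hx1
      exact (hc' hx2).2 (hc hx1)
    rw [h0, map_zero] at hcl
    exact P.ne_zero k hcl.symm

end Groth.Agent.Helper3.RD

namespace Groth.Agent.Helper3.RD
open RootD

variable {ι M N : Type*} [AddCommGroup M] [AddCommGroup N] {P : RootPairing ι ℤ M N} {Δ : Set ι} [Finite ι]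

theorem inSpan_inter_subset (hΔ : IsSimpleSys P Δ) (A : Set ι) (hc : IsClosedSub P A)
    (hs : IsSymmSub P A) : inSpan P (Δ ∩ A) ⊆ A := by
  intro k hk
  rw [mem_inSpan_iff] at hk
  obtain ⟨c, hc1, hcl⟩ := (Finsupp.mem_span_image_iff_linearCombination ℤ).mp hk
  rw [Finsupp.mem_supported] at hc1
  have hcv : c = coeffVec hΔ k := coeffVec_unique hΔ k (fun x hx => (hc1 hx).1) hcl
  rcases (posOf_isPosSys hΔ).cover k with hpos | hneg
  · have h0 := (mem_posOf_iff_coeffVec hΔ k).mp hpos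
    rw [← hcv] at h0
    have : P.root k ∈ natSpan P (Δ ∩ A) := (mem_natSpan_iff_finsupp P _ _).mpr ⟨c, hc1, h0, hcl⟩
    exact (isClosedSub_iff_natSpan P A).mp hc k (natSpan_mono P Set.inter_subset_right this)
  · have h0 := (mem_posOf_iff_coeffVec hΔ _).mp hneg
    rw [coeffVec_neg, ← hcv] at h0
    have : P.root (P.reflectionPerm k k) ∈ natSpan P (Δ ∩ A) :=
      (mem_natSpan_iff_finsupp P _ _).mpr ⟨-c, by rwa [Finsupp.support_neg], h0, by rw [map_neg, hcl, root_neg]⟩
    have h1 := (isClosedSub_iff_natSpan P A).mp hc _ (natSpan_mono P Set.inter_subset_right this)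
    have := hs h1
    rwa [reflectionPerm_neg_neg] at this

theorem closedSymm_partition_eq_inSpan (hΔ : IsSimpleSys P Δ) (R' : Set ι)
    (hc : IsClosedSub P R') (hs : IsSymmSub P R') (hc' : IsClosedSub P R'ᶜ)
    (hs' : IsSymmSub P R'ᶜ) :
    R' = inSpan P (Δ ∩ R') ∧ R'ᶜ = inSpan P (Δ \ R') ∧
      ∀ i ∈ Δ ∩ R', ∀ j ∈ Δ \ R', P.IsOrthogonal i j := by
  have horth : ∀ i ∈ Δ ∩ R', ∀ j ∈ Δ \ R', P.IsOrthogonal i j := by
    intro i hi j hj
    by_contra h
    exact hj.2 (mem_of_partition_of_nonorth P R' hc hs hc' hs' i j hi.2 h)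
  have hdiff : Δ \ (Δ ∩ R') = Δ \ R' := Set.diff_self_inter
  have hpart := fun k => inSpan_partition hΔ (Δ' := Δ ∩ R') Set.inter_subset_left (by rwa [hdiff]) k
  rw [hdiff] at hpart
  have h1 := inSpan_inter_subset hΔ R' hc hs
  have h2 : inSpan P (Δ \ R') ⊆ R'ᶜ := by
    have := inSpan_inter_subset hΔ R'ᶜ hc' hs'
    rwa [← Set.diff_eq] at this
  refine ⟨Set.Subset.antisymm ?_ h1, Set.Subset.antisymm ?_ h2, horth⟩
  · intro k hk
    rcases (hpart k).1 with h | h
    · exact h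
    · exact absurd hk (h2 h)
  · intro k hk
    rcases (hpart k).1 with h | h
    · exact absurd (h1 h) hk
    · exact h

theorem nonOrthogonal_chain_of_connected (hΔ : IsSimpleSys P Δ)
    (hconn : ∀ Δ' : Set ι, Δ' ⊆ Δ → (∀ i ∈ Δ', ∀ j ∈ Δ \ Δ', P.IsOrthogonal i j) → Δ' = ∅ ∨ Δ' = Δ)
    (i j : ι) : Relation.ReflTransGen (fun a b : ι => ¬ P.IsOrthogonal a b) i j := by
  obtain ⟨h1, h2, h3, h4⟩ := component_closedSymm P i
  set C : Set ι := {j : ι | Relation.ReflTransGen (fun a b : ι => ¬ P.IsOrthogonal a b) i j} with hC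
  obtain ⟨e1, _, e3⟩ := closedSymm_partition_eq_inSpan hΔ C h1 h2 h3 h4
  have hiC : i ∈ C := Relation.ReflTransGen.refl
  rcases hconn (Δ ∩ C) Set.inter_subset_left (by rwa [Set.diff_self_inter]) with h | h
  · exfalso
    rw [e1, h, mem_inSpan_iff] at hiC
    simp at hiC
    exact P.ne_zero i hiC
  · have : j ∈ C := by
      rw [e1, h, mem_inSpan_iff]
      exact span_root_le_span_simple hΔ (Submodule.subset_span ⟨j, rfl⟩)
    exact this

end Groth.Agent.Helper3.RD
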