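import Groth.Agent.Lib.helper3.RootD17

set_option autoImplicit false

namespace Groth.Agent.Helper3.RD
open RootD

variable {ι M N : Type*} [AddCommGroup M] [AddCommGroup N] (P : RootPairing ι ℤ M N) [Finite ι]

/-- sign of the root form on two roots is the sign of the pairing -/
theorem rootForm_le_zero_of_pairing_le_zero [Fintype ι] {i j : ι} (h : P.pairing i j ≤ 0) :
    P.RootForm (P.root i) (P.root j) ≤ 0 := by
  have h1 := P.toInvariantForm.two_mul_apply_root_root i j
  have h2 : 0 < P.RootForm (P.root j) (P.root j) :=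
    P.rootForm_pos_of_ne_zero (Submodule.subset_span ⟨j, rfl⟩) (P.ne_zero j)
  change 2 * P.RootForm (P.root i) (P.root j) = P.pairing i j * P.RootForm (P.root j) (P.root j) at h1
  nlinarith

/-- Linear independence of a family of roots with pairwise nonpositive pairings such that no nontrivial
nonnegative combination vanishes. -/
theorem linearIndepOn_of_pairing_le_zero (Δ : Set ι)
    (hp : ∀ d ∈ Δ, ∀ e ∈ Δ, d ≠ e → P.pairing d e ≤ 0)
    (hpos : ∀ c : ι →₀ ℤ, ↑c.support ⊆ Δ → (∀ j, 0 ≤ c j) →
      Finsupp.linearCombination ℤ P.root c = 0 → c = 0) :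
    LinearIndepOn ℤ P.root Δ := by
  classical
  have := Fintype.ofFinite ι
  rw [linearIndepOn_iff]
  intro l hl hl0
  rw [Finsupp.mem_supported] at hl
  -- positive and negative parts
  let lp : ι →₀ ℤ := l.mapRange (fun a => max a 0) (by simp)
  let ln : ι →₀ ℤ := l.mapRange (fun a => max (-a) 0) (by simp)
  have hlp : ∀ j, lp j = max (l j) 0 := fun j => by simp [lp]
  have hln : ∀ j, ln j = max (-(l j)) 0 := fun j => by simp [ln]
  have hsub : l = lp - ln := by
    ext j
    simp only [Finsupp.coe_sub, Pi.sub_apply, hlp, hln]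
    rcases le_total (l j) 0 with h | h
    · rw [max_eq_right h, max_eq_left (by omega)]; ring
    · rw [max_eq_left h, max_eq_right (by omega)]; ring
  have hsp : ↑lp.support ⊆ Δ := by
    intro j hj
    apply hl
    rw [Finset.mem_coe, Finsupp.mem_support_iff] at hj ⊢
    intro h0
    rw [hlp, h0] at hj
    simp at hj
  have hsn : ↑ln.support ⊆ Δ := by
    intro j hj
    apply hl
    rw [Finset.mem_coe, Finsupp.mem_support_iff] at hj ⊢
    intro h0
    rw [hln, h0] at hj
    simp at hj
  have hx : Finsupp.linearCombination ℤ P.root lp = Finsupp.linearCombination ℤ P.root ln := by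
    have := hl0
    rw [hsub, map_sub, sub_eq_zero] at this
    exact this
  obtain ⟨x, hxdef⟩ : ∃ x, x = Finsupp.linearCombination ℤ P.root lp := ⟨_, rfl⟩
  rw [← hxdef] at hx
  have hxmem : x ∈ P.rootSpan ℤ := by
    rw [hxdef, Finsupp.linearCombination_apply, Finsupp.sum]
    exact Submodule.sum_mem _ (fun j _ => Submodule.smul_mem _ _ (Submodule.subset_span ⟨j, rfl⟩))
  have hB : P.RootForm x x ≤ 0 := by
    have e1 : P.RootForm x x = P.RootForm (Finsupp.linearCombination ℤ P.root lp)
        (Finsupp.linearCombination ℤ P.root ln) := by rw [← hx, ← hxdef]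
    rw [e1]
    rw [Finsupp.linearCombination_apply, Finsupp.linearCombination_apply, Finsupp.sum, Finsupp.sum]
    simp only [map_sum, LinearMap.sum_apply, map_smul, LinearMap.smul_apply, smul_eq_mul]
    apply Finset.sum_nonpos
    intro e he
    rw [Finset.mul_sum]
    apply Finset.sum_nonpos
    intro d hd
    have hde : d ≠ e := by
      rintro rfl
      have h1 := Finsupp.mem_support_iff.mp hd
      have h2 := Finsupp.mem_support_iff.mp he
      rw [hlp] at h1
      rw [hln] at h2
      rcases le_total (l d) 0 with h | h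
      · exact h1 (max_eq_right h)
      · exact h2 (max_eq_right (by omega))
    have h3 : P.RootForm (P.root d) (P.root e) ≤ 0 :=
      rootForm_le_zero_of_pairing_le_zero P (hp d (hsp hd) e (hsn he) hde)
    have h4 : 0 ≤ lp d := by rw [hlp]; exact le_max_right _ _
    have h5 : 0 ≤ ln e := by rw [hln]; exact le_max_right _ _
    nlinarith [mul_nonneg h4 h5]
  have hx0 : x = 0 := by
    apply P.eq_zero_of_mem_rootSpan_of_rootForm_self_eq_zero hxmem
    exact le_antisymm hB (P.zero_le_rootForm x)
  have hlp0 : lp = 0 := hpos lp hsp (fun j => by rw [hlp]; exact le_max_right _ _) (by rw [← hxdef]; exact hx0)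
  have hln0 : ln = 0 := hpos ln hsn (fun j => by rw [hln]; exact le_max_right _ _) (by rw [← hx]; exact hx0)
  rw [hsub, hlp0, hln0, sub_zero]

end Groth.Agent.Helper3.RD

namespace Groth.Agent.Helper3.RD
open RootD

variable {ι M N : Type*} [AddCommGroup M] [AddCommGroup N] (P : RootPairing ι ℤ M N) [Finite ι]

theorem isSimpleSys_of_existsUnique_sameSign (Δ : Set ι)
    (h : ∀ k : ι, ∃! c : ι →₀ ℤ, (↑c.support ⊆ Δ ∧ ((∀ j, 0 ≤ c j) ∨ (∀ j, c j ≤ 0)) ∧
      Finsupp.linearCombination ℤ P.root c = P.root k)) :
    IsSimpleSys P Δ ∧ ∀ i ∈ Δ, IsIndiv P i := by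
  classical
  -- uniqueness for simple roots
  have huniq : ∀ d ∈ Δ, ∀ c : ι →₀ ℤ, ↑c.support ⊆ Δ → (∀ j, 0 ≤ c j) →
      Finsupp.linearCombination ℤ P.root c = P.root d → c = Finsupp.single d 1 := by
    intro d hd c hc hc0 hcl
    obtain ⟨c₀, _, hu⟩ := h d
    rw [hu c ⟨hc, Or.inl hc0, hcl⟩]
    symm
    apply hu
    refine ⟨support_single_subset' hd 1, Or.inl (fun j => ?_), by simp⟩
    rw [Finsupp.single_apply]; split_ifs <;> simp
  have hsupp_add : ∀ (a b : ι →₀ ℤ), ↑a.support ⊆ Δ → ↑b.support ⊆ Δ → ↑(a + b).support ⊆ Δ := by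
    intro a b ha hb x hx
    rcases Finset.mem_union.mp (Finsupp.support_add hx) with h | h
    · exact ha h
    · exact hb h
  have hpair : ∀ d ∈ Δ, ∀ e ∈ Δ, d ≠ e → P.pairing d e ≤ 0 := by
    intro d hd e he hde
    by_contra hpos
    push_neg at hpos
    have hpos' : 0 < P.pairingIn ℤ d e := by rwa [pairingIn_int]
    obtain ⟨k, hk⟩ := P.root_sub_root_mem_of_pairingIn_pos hpos' hde
    obtain ⟨c, ⟨hc, hsign, hcl⟩, _⟩ := h k
    rcases hsign with hc0 | hc0
    · -- root d = root e + lincomb c
      have := huniq d hd (Finsupp.single e 1 + c) (hsupp_add _ _ (support_single_subset' he 1) hc)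
        (fun j => by
          have := hc0 j
          simp only [Finsupp.coe_add, Pi.add_apply, Finsupp.single_apply]
          split_ifs <;> omega)
        (by rw [map_add, hcl, hk]; simp)
      have h1 := DFunLike.congr_fun this e
      have := hc0 e
      simp [Finsupp.single_apply, hde] at h1
      omega
    · -- root e = root d - lincomb c
      have := huniq e he (Finsupp.single d 1 + (-c))
        (hsupp_add _ _ (support_single_subset' hd 1) (by rwa [Finsupp.support_neg]))
        (fun j => by
          have := hc0 j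
          simp only [Finsupp.coe_add, Pi.add_apply, Finsupp.single_apply, Finsupp.coe_neg, Pi.neg_apply]
          split_ifs <;> omega)
        (by rw [map_add, map_neg, hcl, hk]; simp)
      have h1 := DFunLike.congr_fun this d
      have := hc0 d
      simp [Finsupp.single_apply, Ne.symm hde] at h1
      omega
  have hposc : ∀ c : ι →₀ ℤ, ↑c.support ⊆ Δ → (∀ j, 0 ≤ c j) →
      Finsupp.linearCombination ℤ P.root c = 0 → c = 0 := by
    intro c hc hc0 hcl
    by_contra hne
    obtain ⟨d, hd⟩ : ∃ d, c d ≠ 0 := by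
      by_contra hcon
      push_neg at hcon
      exact hne (Finsupp.ext hcon)
    have hdΔ : d ∈ Δ := hc (Finsupp.mem_support_iff.mpr hd)
    have := huniq d hdΔ (Finsupp.single d 1 + c) (hsupp_add _ _ (support_single_subset' hdΔ 1) hc)
      (fun j => by
        have := hc0 j
        simp only [Finsupp.coe_add, Pi.add_apply, Finsupp.single_apply]
        split_ifs <;> omega)
      (by rw [map_add, hcl]; simp)
    have h1 := DFunLike.congr_fun this d
    simp at h1
    exact hd h1
  have hli := linearIndepOn_of_pairing_le_zero P Δ hpair hposc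
  have hss : IsSimpleSys P Δ := by
    refine ⟨hli, fun k => ?_⟩
    obtain ⟨c, ⟨hc, hsign, hcl⟩, _⟩ := h k
    rcases hsign with hc0 | hc0
    · left
      exact (mem_natSpan_iff_finsupp P Δ _).mpr ⟨c, hc, hc0, hcl⟩
    · right
      refine (mem_natSpan_iff_finsupp P Δ _).mpr ⟨-c, by rwa [Finsupp.support_neg], fun j => ?_, by rw [map_neg, hcl]⟩
      have := hc0 j
      simp only [Finsupp.coe_neg, Pi.neg_apply]
      omega
  exact ⟨hss, fun i hi => isIndiv_of_mem_simpleSys hss i hi⟩

end Groth.Agent.Helper3.RD
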