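import Groth.Agent.Lib.helper3.RootD18

set_option autoImplicit false

namespace Groth.Agent.Helper3.RD
open RootD

variable {ι M N : Type*} [AddCommGroup M] [AddCommGroup N] (P : RootPairing ι ℤ M N) [Finite ι]

theorem rootForm_self_pos [Fintype ι] (j : ι) : 0 < P.RootForm (P.root j) (P.root j) :=
  P.rootForm_pos_of_ne_zero (Submodule.subset_span ⟨j, rfl⟩) (P.ne_zero j)

theorem cartan_scaled_posDef [Fintype ι] (Δ : Finset ι) (hli' : LinearIndepOn ℤ P.root (↑Δ : Set ι)) :
    (∀ a : ↥Δ, 0 < P.RootForm (P.root a) (P.root a)) ∧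
      (Matrix.of fun (a b : ↥Δ) => P.RootForm (P.root a) (P.root a) * P.pairing (b : ι) (a : ι)).IsSymm ∧
      (Matrix.of fun (a b : ↥Δ) => P.RootForm (P.root a) (P.root a) * P.pairing (b : ι) (a : ι)).PosDef := by
  classical
  have hA : ∀ a b : ι, P.RootForm (P.root a) (P.root a) * P.pairing b a = 2 * P.RootForm (P.root b) (P.root a) := by
    intro a b
    have h1 := P.toInvariantForm.two_mul_apply_root_root b a
    change 2 * P.RootForm (P.root b) (P.root a) = P.pairing b a * P.RootForm (P.root a) (P.root a) at h1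
    rw [h1]; ring
  have hsymm : ∀ a b : ι, P.RootForm (P.root a) (P.root b) = P.RootForm (P.root b) (P.root a) :=
    fun a b => (P.rootForm_symmetric.eq (P.root b) (P.root a)).symm
  refine ⟨fun a => rootForm_self_pos P a, ?_, ?_, ?_⟩
  · ext a b
    simp only [Matrix.transpose_apply, Matrix.of_apply]
    rw [hA, hA, hsymm]
  · ext a b
    simp only [Matrix.conjTranspose_apply, Matrix.of_apply, star_trivial]
    rw [hA, hA, hsymm]
  · intro x hx
    have hli : LinearIndependent ℤ (fun a : ↥Δ => P.root a) := hli'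
    set v : M := ∑ a, x a • P.root (a : ι) with hv
    have hv0 : v ≠ 0 := by
      intro h0
      apply hx
      have := Fintype.linearIndependent_iff.mp hli (fun a => x a) h0
      ext a
      exact this a
    have hvmem : v ∈ P.rootSpan ℤ :=
      Submodule.sum_mem _ (fun a _ => Submodule.smul_mem _ _ (Submodule.subset_span ⟨a, rfl⟩))
    have hpos := P.rootForm_pos_of_ne_zero hvmem hv0
    have e : (x.sum fun a xa => x.sum fun b xb => star xa * (Matrix.of fun (a b : ↥Δ) =>
        P.RootForm (P.root a) (P.root a) * P.pairing (b : ι) (a : ι)) a b * xb) = 2 * P.RootForm v v := by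
      rw [Finsupp.sum_fintype _ _ (by intro i; simp)]
      simp only [star_trivial, Matrix.of_apply]
      have : ∀ a : ↥Δ, (x.sum fun b xb => x a * (P.RootForm (P.root a) (P.root a) * P.pairing (b : ι) (a : ι)) * xb)
          = ∑ b : ↥Δ, x a * (P.RootForm (P.root a) (P.root a) * P.pairing (b : ι) (a : ι)) * x b := by
        intro a
        rw [Finsupp.sum_fintype _ _ (by intro i; simp)]
      simp only [this]
      rw [hv]
      simp only [map_sum, LinearMap.sum_apply, map_smul, LinearMap.smul_apply, smul_eq_mul, Finset.mul_sum]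
      rw [Finset.sum_comm]
      apply Finset.sum_congr rfl
      intro a _
      apply Finset.sum_congr rfl
      intro b _
      rw [hA, hsymm]; ring
    rw [e]
    omega

theorem exists_rowScaling_cartan_symm_posDef (Δ : Finset ι) (hΔ : IsSimpleSys P (↑Δ : Set ι)) :
    ∃ m : ↥Δ → ℤ, (∀ a, 0 < m a) ∧
      (Matrix.of fun (a b : ↥Δ) => m a * P.pairing (b : ι) (a : ι)).IsSymm ∧
      (Matrix.of fun (a b : ↥Δ) => m a * P.pairing (b : ι) (a : ι)).PosDef := by
  have := Fintype.ofFinite ι
  obtain ⟨h1, h2, h3⟩ := cartan_scaled_posDef P Δ hΔ.linInd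
  exact ⟨fun a => P.RootForm (P.root a) (P.root a), h1, h2, h3⟩

theorem rootForm_eq_sum_pairing [Fintype ι] (a b : ι) :
    P.RootForm (P.root a) (P.root b) = ∑ i, P.pairing a i * P.pairing b i := by
  rw [P.rootForm_apply_apply]
  simp [P.root_coroot'_eq_pairing]

open Classical in
theorem det_cartan_pos (Δ' : Finset ι) (hli : LinearIndepOn ℤ P.root (↑Δ' : Set ι)) :
    0 < Matrix.det (Matrix.of fun (a b : ↥Δ') => P.pairing (b : ι) (a : ι)) := by
  classical
  have := Fintype.ofFinite ι
  obtain ⟨hm, _, hpd⟩ := cartan_scaled_posDef P Δ' hli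
  set C : Matrix ↥Δ' ↥Δ' ℤ := Matrix.of fun (a b : ↥Δ') => P.pairing (b : ι) (a : ι) with hC
  set A : Matrix ↥Δ' ↥Δ' ℤ := Matrix.of fun (a b : ↥Δ') =>
    P.RootForm (P.root a) (P.root a) * P.pairing (b : ι) (a : ι) with hA
  have hAC : A = Matrix.diagonal (fun a : ↥Δ' => P.RootForm (P.root a) (P.root a)) * C := by
    ext a b
    simp [hA, hC, Matrix.diagonal_mul]
  have hdet : A.det = (∏ a : ↥Δ', P.RootForm (P.root a) (P.root a)) * C.det := by
    rw [hAC, Matrix.det_mul, Matrix.det_diagonal]
  have hprod : 0 < ∏ a : ↥Δ', P.RootForm (P.root a) (P.root a) := Finset.prod_pos (fun a _ => hm a)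
  -- det A ≠ 0
  have hne : A.det ≠ 0 := by
    intro h0
    obtain ⟨v, hv, hAv⟩ := Matrix.exists_mulVec_eq_zero_iff.mpr h0
    have := (Matrix.posDef_iff_dotProduct_mulVec.mp hpd).2 hv
    rw [hAv] at this
    simp at this
  -- det A ≥ 0 via the reals
  have hge : 0 ≤ A.det := by
    let Q : Matrix ↥Δ' ι ℝ := Matrix.of fun (a : ↥Δ') (i : ι) => (P.pairing (a : ι) i : ℝ)
    have hAQ : A.map (Int.cast : ℤ → ℝ) = (2 : ℝ) • (Q * Q.conjTranspose) := by
      ext a b
      simp only [Matrix.map_apply, hA, Matrix.of_apply, Matrix.smul_apply, Matrix.mul_apply,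
        Matrix.conjTranspose_apply, Q, star_trivial, smul_eq_mul]
      have h1 := P.toInvariantForm.two_mul_apply_root_root (b : ι) (a : ι)
      change 2 * P.RootForm (P.root b) (P.root a) = P.pairing b a * P.RootForm (P.root a) (P.root a) at h1
      have h2 := rootForm_eq_sum_pairing P (b : ι) (a : ι)
      have : P.RootForm (P.root a) (P.root a) * P.pairing (b : ι) (a : ι) = 2 * ∑ i, P.pairing a i * P.pairing b i := by
        rw [mul_comm, ← h1, h2]
        congr 1
        apply Finset.sum_congr rfl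
        intro i _; ring
      rw [this]
      push_cast
      rfl
    have hps : ((2 : ℝ) • (Q * Q.conjTranspose)).PosSemidef :=
      (Matrix.posSemidef_self_mul_conjTranspose Q).smul (by norm_num)
    have h3 := hps.det_nonneg
    rw [← hAQ] at h3
    have h4 : (A.map (Int.cast : ℤ → ℝ)).det = ((A.det : ℤ) : ℝ) := by
      have := (Int.castRingHom ℝ).map_det A
      simpa using this.symm
    rw [h4] at h3
    exact_mod_cast h3
  have hpos : 0 < A.det := lt_of_le_of_ne hge (Ne.symm hne)
  rw [hdet] at hpos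
  exact (pos_iff_pos_of_mul_pos hpos).mp hprod

end Groth.Agent.Helper3.RD
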