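import Groth.Agent.Lib.helper3.RootD

set_option autoImplicit false

namespace Groth.Agent.Helper3.RD
open RootD

variable {ι M N : Type*} [AddCommGroup M] [AddCommGroup N] (P : RootPairing ι ℤ M N)

theorem partition_aux (A : Set ι) (hc : IsClosedSub P A) (hs : IsSymmSub P A)
    (hc' : IsClosedSub P Aᶜ) (hs' : IsSymmSub P Aᶜ) {i j k : ι}
    (h : P.root k = P.root i + P.root j) (hi : i ∈ A) : j ∈ A ∧ k ∈ A := by
  by_cases hj : j ∈ A
  · exact ⟨hj, hc hi hj h⟩
  · exfalso
    by_cases hk : k ∈ A
    · apply hj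
      refine hc hk (hs hi) ?_
      rw [root_neg, h]; abel
    · have : i ∈ Aᶜ := by
        refine hc' (i := k) (j := P.reflectionPerm j j) hk (hs' hj) ?_
        rw [root_neg, h]; abel
      exact this hi

theorem partition_all (A : Set ι) (hc : IsClosedSub P A) (hs : IsSymmSub P A)
    (hc' : IsClosedSub P Aᶜ) (hs' : IsSymmSub P Aᶜ) {i j k : ι}
    (h : P.root k = P.root i + P.root j) :
    (i ∈ A ∧ j ∈ A ∧ k ∈ A) ∨ (i ∉ A ∧ j ∉ A ∧ k ∉ A) := by
  by_cases hi : i ∈ A
  · left
    obtain ⟨hj, hk⟩ := partition_aux P A hc hs hc' hs' h hi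
    exact ⟨hi, hj, hk⟩
  · right
    have hcc : IsClosedSub P Aᶜᶜ := by rwa [compl_compl]
    have hss : IsSymmSub P Aᶜᶜ := by rwa [compl_compl]
    obtain ⟨hj, hk⟩ := partition_aux P Aᶜ hc' hs' hcc hss h hi
    exact ⟨hi, hj, hk⟩

variable [Finite ι]

theorem isOrthogonal_iff (i j : ι) : P.IsOrthogonal i j ↔ P.pairing i j = 0 := by
  have : Module.IsReflexive ℤ M := .of_isPerfPair P.toLinearMap
  exact P.isOrthogonal_iff_pairing_eq_zero

/-- non-orthogonal roots: sum or difference is a root, or they are proportional by ±1 -/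
theorem nonorth_cases (i j : ι) (h : ¬ P.IsOrthogonal i j) :
    i = j ∨ j = P.reflectionPerm i i ∨ (∃ k, P.root i = P.root k + P.root j) ∨
      (∃ k, P.root k = P.root i + P.root j) := by
  rw [isOrthogonal_iff] at h
  by_cases hij : i = j
  · exact Or.inl hij
  by_cases hij' : j = P.reflectionPerm i i
  · exact Or.inr (Or.inl hij')
  right; right
  rcases lt_or_gt_of_ne h with hneg | hpos
  · right
    have hneg' : P.pairingIn ℤ i j < 0 := by rwa [pairingIn_int]
    have hne : P.root i ≠ -P.root j := by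
      intro h1
      apply hij'
      have : P.root j = - P.root i := by rw [h1]; simp
      exact (P.root_eq_neg_iff).mp this
    obtain ⟨k, hk⟩ := P.root_add_root_mem_of_pairingIn_neg hneg' hne
    exact ⟨k, hk⟩
  · left
    have hpos' : 0 < P.pairingIn ℤ i j := by rwa [pairingIn_int]
    obtain ⟨k, hk⟩ := P.root_sub_root_mem_of_pairingIn_pos hpos' hij
    exact ⟨k, by rw [hk]; abel⟩

theorem mem_of_partition_of_nonorth (A : Set ι) (hc : IsClosedSub P A) (hs : IsSymmSub P A)
    (hc' : IsClosedSub P Aᶜ) (hs' : IsSymmSub P Aᶜ) (i j : ι) (hi : i ∈ A)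
    (hij : ¬ P.IsOrthogonal i j) : j ∈ A := by
  rcases nonorth_cases P i j hij with h | h | ⟨k, hk⟩ | ⟨k, hk⟩
  · exact h ▸ hi
  · rw [h]; exact hs hi
  · by_contra hj
    have hcc : IsClosedSub P Aᶜᶜ := by rwa [compl_compl]
    have hss : IsSymmSub P Aᶜᶜ := by rwa [compl_compl]
    have := partition_aux P Aᶜ hc' hs' hcc hss (i := j) (j := k) (k := i) (by rw [hk]; abel) hj
    exact this.2 hi
  · exact (partition_aux P A hc hs hc' hs' hk hi).1

end Groth.Agent.Helper3.RD

namespace Groth.Agent.Helper3.RD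
open RootD

variable {ι M N : Type*} [AddCommGroup M] [AddCommGroup N] (P : RootPairing ι ℤ M N) [Finite ι]

theorem nonorth_neg (j : ι) : ¬ P.IsOrthogonal j (P.reflectionPerm j j) := by
  rw [isOrthogonal_iff, P.pairing_reflectionPerm_self_right, P.pairing_same]
  norm_num

theorem reflectionPerm_neg_neg (j : ι) :
    P.reflectionPerm (P.reflectionPerm j j) (P.reflectionPerm j j) = j := by
  apply P.root.injective
  rw [root_neg, root_neg, neg_neg]

theorem nonorth_of_add {a b k : ι} (h : P.root k = P.root a + P.root b) :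
    ¬ P.IsOrthogonal a k ∨ ¬ P.IsOrthogonal b k := by
  have h1 := P.pairing_eq_add_of_root_eq_add (l := k) h
  rw [P.pairing_same] at h1
  rw [isOrthogonal_iff, isOrthogonal_iff]
  by_contra hcon
  push_neg at hcon
  rw [hcon.1, hcon.2] at h1
  norm_num at h1

theorem component_closedSymm (i : ι) :
    IsClosedSub P {j : ι | Relation.ReflTransGen (fun a b : ι => ¬ P.IsOrthogonal a b) i j} ∧
      IsSymmSub P {j : ι | Relation.ReflTransGen (fun a b : ι => ¬ P.IsOrthogonal a b) i j} ∧
      IsClosedSub P {j : ι | Relation.ReflTransGen (fun a b : ι => ¬ P.IsOrthogonal a b) i j}ᶜ ∧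
      IsSymmSub P {j : ι | Relation.ReflTransGen (fun a b : ι => ¬ P.IsOrthogonal a b) i j}ᶜ := by
  have hsymm : IsSymmSub P {j : ι | Relation.ReflTransGen (fun a b : ι => ¬ P.IsOrthogonal a b) i j} := by
    intro j hj
    exact Relation.ReflTransGen.tail hj (nonorth_neg P j)
  refine ⟨?_, hsymm, ?_, ?_⟩
  · intro a b k ha hb hk
    rcases nonorth_of_add P hk with h | h
    · exact Relation.ReflTransGen.tail ha h
    · exact Relation.ReflTransGen.tail hb h
  · intro a b k ha hb hk hkc
    rcases nonorth_of_add P hk with h | h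
    · apply ha
      exact Relation.ReflTransGen.tail hkc (fun h' => h h'.symm)
    · apply hb
      exact Relation.ReflTransGen.tail hkc (fun h' => h h'.symm)
  · intro j hj hjc
    apply hj
    have := hsymm hjc
    rwa [reflectionPerm_neg_neg] at this

end Groth.Agent.Helper3.RD
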