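import Groth.Agent.Lib.helper3.RootD19

set_option autoImplicit false

namespace Groth.Agent.Helper3.RD
open RootD

variable {ι M N : Type*} [AddCommGroup M] [AddCommGroup N] {P : RootPairing ι ℤ M N} {Δ : Set ι} [Finite ι]

/-- product of simple reflections along a word -/
noncomputable def wordProd (P : RootPairing ι ℤ M N) (l : List ι) : P.Aut :=
  (l.map fun a => RootPairing.Equiv.reflection P a).prod

theorem wordProd_nil : wordProd P [] = 1 := rfl

theorem wordProd_cons (a : ι) (l : List ι) :
    wordProd P (a :: l) = RootPairing.Equiv.reflection P a * wordProd P l := by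
  simp [wordProd]

theorem wordProd_append (l l' : List ι) : wordProd P (l ++ l') = wordProd P l * wordProd P l' := by
  simp [wordProd]

/-- the crossing lemma -/
theorem exists_crossing (hΔ : IsSimpleSys P Δ) :
    ∀ (l₀ : List ι), (∀ x ∈ l₀, x ∈ Δ) → ∀ k ∈ posOf P Δ, IsIndiv P k → wordProd P l₀ • k ∉ posOf P Δ →
      ∃ (u v : List ι) (b : ι), l₀ = u ++ b :: v ∧ wordProd P v • k = b := by
  intro l₀
  induction l₀ with
  | nil =>
    intro _ k hk _ hneg
    rw [wordProd_nil, one_smul] at hneg
    exact absurd hk hneg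
  | cons c l₀' ih =>
    intro hl k hk hind hneg
    have hc : c ∈ Δ := hl c (List.mem_cons_self)
    have hl' : ∀ x ∈ l₀', x ∈ Δ := fun x hx => hl x (List.mem_cons_of_mem c hx)
    by_cases hk' : wordProd P l₀' • k ∈ posOf P Δ
    · refine ⟨[], l₀', c, rfl, ?_⟩
      rw [wordProd_cons, mul_smul] at hneg
      have hind' : IsIndiv P (wordProd P l₀' • k) := indiv_smul _ hind
      by_contra hne
      apply hneg
      exact simple_refl_pos P hΔ hc hk' hne (fun h2 => hind' c h2.symm)
    · obtain ⟨u, v, b, hl₀, hb⟩ := ih hl' k hk hind hk'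
      exact ⟨c :: u, v, b, by rw [hl₀]; rfl, hb⟩

theorem wordProd_exchange {g : P.Aut} {a b : ι} (h : g • a = b) :
    RootPairing.Equiv.reflection P b * g = g * RootPairing.Equiv.reflection P a := by
  have := aut_conj_reflection P g a
  rw [h] at this
  rw [← this]; group

theorem neg_root_last_of_minimal_word (hΔ : IsSimpleSys P Δ)
    (l : List ι) (hl : ∀ a ∈ l, a ∈ Δ) (hne : l ≠ [])
    (hmin : ∀ l' : List ι, (∀ a ∈ l', a ∈ Δ) → wordProd P l' = wordProd P l → l.length ≤ l'.length) :
    -P.root (wordProd P l • l.getLast hne) ∈ natSpan P Δ := by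
  have hpos := posOf_isPosSys hΔ
  set a := l.getLast hne with ha
  have hl_eq : l = l.dropLast ++ [a] := (List.dropLast_append_getLast hne).symm
  set l₀ := l.dropLast with hl₀
  have haΔ : a ∈ Δ := hl a (List.getLast_mem hne)
  have hl₀Δ : ∀ x ∈ l₀, x ∈ Δ := fun x hx => hl x (List.mem_of_mem_dropLast hx)
  by_contra hcon
  -- then w • a is positive
  have h1 : wordProd P l • a ∈ posOf P Δ := by
    rcases hpos.cover (wordProd P l • a) with h | h
    · exact h
    · exfalso
      apply hcon
      rw [posOf, Set.mem_setOf_eq, root_neg] at h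
      exact h
  -- so w₀ • a is negative
  have h2 : wordProd P l₀ • a ∉ posOf P Δ := by
    intro h
    have e : wordProd P l • a = P.reflectionPerm (wordProd P l₀ • a) (wordProd P l₀ • a) := by
      conv_lhs => rw [hl_eq, wordProd_append, mul_smul, wordProd_cons, wordProd_nil, mul_one]
      have : RootPairing.Equiv.reflection P a • a = P.reflectionPerm a a := rfl
      rw [this, aut_smul_neg]
    rw [e] at h1
    exact hpos.disjoint h h1
  obtain ⟨u, v, b, huv, hb⟩ := exists_crossing hΔ l₀ hl₀Δ a (subset_posOf haΔ)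
    (isIndiv_of_mem_simpleSys hΔ a haΔ) h2
  -- the shorter word
  have hprod : wordProd P (u ++ v) = wordProd P l := by
    conv_rhs => rw [hl_eq, huv]
    rw [wordProd_append, wordProd_append, wordProd_append, wordProd_cons, wordProd_cons, wordProd_nil, mul_one]
    have hex := wordProd_exchange hb
    have hsq : RootPairing.Equiv.reflection P a * RootPairing.Equiv.reflection P a = 1 := by
      have := RootPairing.Equiv.reflection_inv P a
      nth_rewrite 1 [← this]
      exact inv_mul_cancel _
    calc wordProd P u * wordProd P v = wordProd P u * (wordProd P v * (RootPairing.Equiv.reflection P a * RootPairing.Equiv.reflection P a)) := by rw [hsq, mul_one]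
      _ = wordProd P u * ((wordProd P v * RootPairing.Equiv.reflection P a) * RootPairing.Equiv.reflection P a) := by group
      _ = wordProd P u * ((RootPairing.Equiv.reflection P b * wordProd P v) * RootPairing.Equiv.reflection P a) := by rw [hex]
      _ = _ := by group
  have hlen := hmin (u ++ v) (by
    intro x hx
    apply hl₀Δ
    rw [huv]
    rcases List.mem_append.mp hx with h | h
    · exact List.mem_append_left _ h
    · exact List.mem_append_right _ (List.mem_cons_of_mem _ h)) hprod
  have : l.length = (u ++ b :: v).length + 1 := by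
    conv_lhs => rw [hl_eq, huv]
    simp only [List.length_append, List.length_cons, List.length_nil]
  simp only [List.length_append, List.length_cons] at this hlen
  omega

end Groth.Agent.Helper3.RD

namespace Groth.Agent.Helper3.RD
open RootD

variable {ι M N : Type*} [AddCommGroup M] [AddCommGroup N] {P : RootPairing ι ℤ M N} {Δ : Set ι} [Finite ι]

theorem exists_word_of_mem_closure {g : P.Aut}
    (hg : g ∈ Subgroup.closure ((fun i : ι => RootPairing.Equiv.reflection P i) '' Δ)) :
    ∃ l : List ι, (∀ a ∈ l, a ∈ Δ) ∧ wordProd P l = g := by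
  induction hg using Subgroup.closure_induction'' with
  | one => exact ⟨[], by simp, rfl⟩
  | mem x hx =>
    obtain ⟨i, hi, rfl⟩ := hx
    exact ⟨[i], by simpa using hi, by simp [wordProd]⟩
  | inv_mem x hx =>
    obtain ⟨i, hi, rfl⟩ := hx
    exact ⟨[i], by simpa using hi, by simp [wordProd]⟩
  | mul x y _ _ hx hy =>
    obtain ⟨l, hl, rfl⟩ := hx
    obtain ⟨l', hl', rfl⟩ := hy
    refine ⟨l ++ l', ?_, wordProd_append l l'⟩
    intro a ha
    rcases List.mem_append.mp ha with h | h
    · exact hl a h
    · exact hl' a h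

/-- the Weyl group acts simply transitively on simple systems -/
theorem weyl_eq_one_of_image_eq (hΔ : IsSimpleSys P Δ) {g : P.Aut} (hg : g ∈ P.weylGroup)
    (h : (fun i : ι => g • i) '' Δ = Δ) : g = 1 := by
  classical
  rw [← closure_simple_reflections hΔ] at hg
  have hex : ∃ n : ℕ, ∃ l : List ι, (∀ a ∈ l, a ∈ Δ) ∧ wordProd P l = g ∧ l.length = n := by
    obtain ⟨l, hl, hlg⟩ := exists_word_of_mem_closure hg
    exact ⟨l.length, l, hl, hlg, rfl⟩
  obtain ⟨l, hl, hlg, hlen⟩ := Nat.find_spec hex
  have hmin : ∀ l' : List ι, (∀ a ∈ l', a ∈ Δ) → wordProd P l' = wordProd P l → l.length ≤ l'.length := by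
    intro l' hl' hl'g
    rw [hlen]
    exact Nat.find_min' hex ⟨l', hl', hl'g.trans hlg, rfl⟩
  by_cases hne : l = []
  · rw [← hlg, hne]; rfl
  · exfalso
    have h1 := neg_root_last_of_minimal_word hΔ l hl hne hmin
    rw [hlg] at h1
    have hlast : l.getLast hne ∈ Δ := hl _ (List.getLast_mem hne)
    have h2 : g • l.getLast hne ∈ Δ := h ▸ ⟨_, hlast, rfl⟩
    have hpos := posOf_isPosSys hΔ
    have h3 : P.reflectionPerm (g • l.getLast hne) (g • l.getLast hne) ∈ posOf P Δ := by
      rw [posOf, Set.mem_setOf_eq, root_neg]; exact h1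
    exact hpos.disjoint (subset_posOf h2) h3

theorem image_mul (g h : P.Aut) (S : Set ι) :
    (fun i : ι => (g * h) • i) '' S = (fun i : ι => g • i) '' ((fun i : ι => h • i) '' S) := by
  rw [Set.image_image]
  simp only [mul_smul]

theorem aut_existsUnique_weyl_mul_stabilizer (hΔ : IsSimpleSys P Δ) (u : P.Aut) :
    ∃! w : P.weylGroup, (fun i : ι => ((w : P.Aut)⁻¹ * u) • i) '' Δ = Δ := by
  obtain ⟨g, hg, hgΔ⟩ := weylGroup_transitive_simpleSys P Δ _ hΔ (isSimpleSys_image P u hΔ)
  refine ⟨⟨g, hg⟩, ?_, ?_⟩
  · show (fun i : ι => (g⁻¹ * u) • i) '' Δ = Δ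
    rw [image_mul, ← hgΔ, image_image_inv]
  · rintro ⟨w, hw⟩ hwΔ
    replace hwΔ : (fun i : ι => (w⁻¹ * u) • i) '' Δ = Δ := hwΔ
    have h1 : (fun i : ι => u • i) '' Δ = (fun i : ι => w • i) '' Δ := by
      have : (fun i : ι => w • i) '' ((fun i : ι => (w⁻¹ * u) • i) '' Δ) = (fun i : ι => w • i) '' Δ := by
        rw [hwΔ]
      rw [← image_mul, mul_inv_cancel_left] at this
      exact this
    have h2 : (fun i : ι => (g⁻¹ * w) • i) '' Δ = Δ := by
      rw [image_mul, ← h1, ← hgΔ, image_image_inv]
    have h3 := weyl_eq_one_of_image_eq hΔ (mul_mem (inv_mem hg) hw) h2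
    apply Subtype.ext
    show w = g
    calc w = g * (g⁻¹ * w) := by group
      _ = g := by rw [h3, mul_one]

end Groth.Agent.Helper3.RD
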