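import Groth.Agent.Lib.helper3.RootD20

set_option autoImplicit false

namespace Groth.Agent.Helper3.RD
open RootD

variable {ι M N : Type*} [AddCommGroup M] [AddCommGroup N] {P : RootPairing ι ℤ M N} {Δ Δ' : Set ι} [Finite ι]

/-- the "moves into the span" condition -/
def MovesInto (P : RootPairing ι ℤ M N) (Δ' : Set ι) (g : P.Aut) : Prop :=
  ∀ k : ι, ∃ n : ℕ, 0 < n ∧ n • (P.root (g • k) - P.root k) ∈ Submodule.span ℤ (P.root '' Δ')

omit [Finite ι] in
theorem movesInto_reflection {a : ι} (ha : a ∈ Δ') : MovesInto P Δ' (RootPairing.Equiv.reflection P a) := by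
  intro k
  refine ⟨1, one_pos, ?_⟩
  rw [one_smul]
  have : RootPairing.Equiv.reflection P a • k = P.reflectionPerm a k := rfl
  rw [this, P.root_reflectionPerm, P.reflection_apply_root]
  have : P.root k - P.pairing k a • P.root a - P.root k = - (P.pairing k a • P.root a) := by abel
  rw [this]
  exact Submodule.neg_mem _ (Submodule.smul_mem _ _ (Submodule.subset_span ⟨a, ha, rfl⟩))

omit [Finite ι] in
theorem movesInto_mul {g h : P.Aut} (hg : MovesInto P Δ' g) (hh : MovesInto P Δ' h) :
    MovesInto P Δ' (g * h) := by
  intro k
  obtain ⟨n₁, hn₁, h₁⟩ := hg (h • k)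
  obtain ⟨n₂, hn₂, h₂⟩ := hh k
  refine ⟨n₁ * n₂, Nat.mul_pos hn₁ hn₂, ?_⟩
  have : (n₁ * n₂) • (P.root ((g * h) • k) - P.root k) =
      n₂ • (n₁ • (P.root (g • (h • k)) - P.root (h • k))) + n₁ • (n₂ • (P.root (h • k) - P.root k)) := by
    rw [mul_smul, mul_smul, smul_comm n₂ n₁, ← smul_add, ← smul_add]
    congr 2
    abel
  rw [this]
  exact Submodule.add_mem _ (Submodule.smul_of_tower_mem _ n₂ h₁) (Submodule.smul_of_tower_mem _ n₁ h₂)

theorem mem_weylSub_of_movesInto (hΔ : IsSimpleSys P Δ) (hsub : Δ' ⊆ Δ) :
    ∀ (n : ℕ) (l : List ι), l.length = n → (∀ a ∈ l, a ∈ Δ) → MovesInto P Δ' (wordProd P l) →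
      wordProd P l ∈ Subgroup.closure ((fun i : ι => RootPairing.Equiv.reflection P i) '' Δ') := by
  classical
  intro n
  induction n using Nat.strong_induction_on with
  | _ n ih =>
    intro l hlen hl hmv
    by_cases hmin : ∀ l' : List ι, (∀ a ∈ l', a ∈ Δ) → wordProd P l' = wordProd P l → l.length ≤ l'.length
    · by_cases hne : l = []
      · rw [hne]; exact one_mem _
      · -- the last letter lies in Δ'
        have h1 := neg_root_last_of_minimal_word hΔ l hl hne hmin
        set a := l.getLast hne with ha
        have haΔ : a ∈ Δ := hl a (List.getLast_mem hne)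
        have hl_eq : l = l.dropLast ++ [a] := (List.dropLast_append_getLast hne).symm
        obtain ⟨c, hc, hc0, hcl⟩ := (mem_natSpan_iff_finsupp P Δ _).mp h1
        obtain ⟨m, hm, hmem⟩ := hmv a
        have haΔ' : a ∈ Δ' := by
          obtain ⟨c', hc', hcl'⟩ := (Finsupp.mem_span_image_iff_linearCombination ℤ).mp hmem
          rw [Finsupp.mem_supported] at hc'
          -- m • (-(c) - single a) = c'
          have hs : ↑((m : ℤ) • (-c - Finsupp.single a 1)).support ⊆ Δ := by
            intro x hx
            have hx' := Finsupp.support_smul hx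
            rcases Finset.mem_union.mp (Finsupp.support_sub hx') with h | h
            · rw [Finsupp.support_neg] at h; exact hc h
            · exact support_single_subset' haΔ 1 h
          have e : Finsupp.linearCombination ℤ P.root ((m : ℤ) • (-c - Finsupp.single a 1)) =
              Finsupp.linearCombination ℤ P.root c' := by
            rw [hcl', map_smul, map_sub, map_neg, hcl, neg_neg, Nat.cast_smul_eq_nsmul]
            simp
          have hu := coeff_unique hΔ.linInd hs (fun x hx => hsub (hc' hx)) e
          apply hc'
          rw [← hu, Finset.mem_coe, Finsupp.mem_support_iff]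
          have := hc0 a
          simp only [Finsupp.smul_apply, Finsupp.coe_sub, Finsupp.coe_neg, Pi.sub_apply, Pi.neg_apply,
            Finsupp.single_eq_same, smul_eq_mul]
          intro h0
          have hm' : (0 : ℤ) < m := by exact_mod_cast hm
          rcases mul_eq_zero.mp h0 with h | h <;> omega
        have hra : RootPairing.Equiv.reflection P a ∈
            Subgroup.closure ((fun i : ι => RootPairing.Equiv.reflection P i) '' Δ') :=
          Subgroup.subset_closure ⟨a, haΔ', rfl⟩
        have hprod : wordProd P l = wordProd P l.dropLast * RootPairing.Equiv.reflection P a := by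
          conv_lhs => rw [hl_eq]
          rw [wordProd_append, wordProd_cons, wordProd_nil, mul_one]
        have hsq : RootPairing.Equiv.reflection P a * RootPairing.Equiv.reflection P a = 1 := by
          have := RootPairing.Equiv.reflection_inv P a
          nth_rewrite 1 [← this]
          exact inv_mul_cancel _
        have hmv' : MovesInto P Δ' (wordProd P l.dropLast) := by
          have : wordProd P l.dropLast = wordProd P l * RootPairing.Equiv.reflection P a := by
            rw [hprod, mul_assoc, hsq, mul_one]
          rw [this]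
          exact movesInto_mul hmv (movesInto_reflection haΔ')
        have hlt : l.dropLast.length < n := by
          rw [← hlen, List.length_dropLast]
          have : 0 < l.length := List.length_pos_of_ne_nil hne
          omega
        have := ih _ hlt l.dropLast rfl (fun x hx => hl x (List.mem_of_mem_dropLast hx)) hmv'
        rw [hprod]
        exact mul_mem this hra
    · push_neg at hmin
      obtain ⟨l', hl', hl'g, hl'len⟩ := hmin
      rw [← hl'g]
      exact ih _ (hlen ▸ hl'len) l' rfl hl' (hl'g ▸ hmv)

theorem mem_weylSub_iff_moves_into_span (hΔ : IsSimpleSys P Δ)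
    (hsub : Δ' ⊆ Δ) (g : P.Aut) (hg : g ∈ P.weylGroup) :
    g ∈ Subgroup.closure ((fun i : ι => RootPairing.Equiv.reflection P i) '' Δ') ↔
      ∀ k : ι, ∃ n : ℕ, 0 < n ∧ n • (P.root (g • k) - P.root k) ∈ Submodule.span ℤ (P.root '' Δ') := by
  constructor
  · intro h
    clear hg
    change MovesInto P Δ' g
    induction h using Subgroup.closure_induction'' with
    | one =>
      intro k
      exact ⟨1, one_pos, by simp⟩
    | mem x hx =>
      obtain ⟨i, hi, rfl⟩ := hx
      exact movesInto_reflection hi
    | inv_mem x hx =>
      obtain ⟨i, hi, rfl⟩ := hx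
      rw [RootPairing.Equiv.reflection_inv]
      exact movesInto_reflection hi
    | mul x y _ _ hx hy => exact movesInto_mul hx hy
  · intro h
    rw [← closure_simple_reflections hΔ] at hg
    obtain ⟨l, hl, rfl⟩ := exists_word_of_mem_closure hg
    exact mem_weylSub_of_movesInto hΔ hsub _ l rfl hl h

end Groth.Agent.Helper3.RD
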