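import Groth.Agent.Lib.helper3.RootD21

set_option autoImplicit false

namespace Groth.Agent.Helper3.RD
open RootD

variable {ι M N : Type*} [AddCommGroup M] [AddCommGroup N] (P : RootPairing ι ℤ M N) [Finite ι]

/-- combinatorial irreducibility -/
def Irr (P : RootPairing ι ℤ M N) : Prop :=
  ∀ R' : Set ι, IsClosedSub P R' → IsSymmSub P R' → IsClosedSub P R'ᶜ → IsSymmSub P R'ᶜ → R' = ∅ ∨ R' = Set.univ

theorem connected_of_irr (hirr : Irr P) (i j : ι) :
    Relation.ReflTransGen (fun a b : ι => ¬ P.IsOrthogonal a b) i j := by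
  obtain ⟨h1, h2, h3, h4⟩ := component_closedSymm P i
  rcases hirr _ h1 h2 h3 h4 with h | h
  · exfalso
    have : i ∈ {j : ι | Relation.ReflTransGen (fun a b : ι => ¬ P.IsOrthogonal a b) i j} :=
      Relation.ReflTransGen.refl
    rw [h] at this
    exact this
  · have : j ∈ {j : ι | Relation.ReflTransGen (fun a b : ι => ¬ P.IsOrthogonal a b) i j} := by
      rw [h]; trivial
    exact this

theorem nonorth_self (i : ι) : ¬ P.IsOrthogonal i i := by
  rw [isOrthogonal_iff, P.pairing_same]; norm_num

theorem isOrthogonal_flip_iff (a b : ι) : P.flip.IsOrthogonal a b ↔ P.IsOrthogonal a b := by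
  constructor
  · intro h; exact ⟨h.2, h.1⟩
  · intro h; exact ⟨h.2, h.1⟩

theorem irr_flip (hirr : Irr P) : Irr P.flip := by
  intro R' hc hs hc' hs'
  by_cases hne : R' = ∅
  · exact Or.inl hne
  · right
    obtain ⟨i, hi⟩ := Set.nonempty_iff_ne_empty.mpr hne
    ext j
    simp only [Set.mem_univ, iff_true]
    have hchain := connected_of_irr P hirr i j
    induction hchain with
    | refl => exact hi
    | tail _ hbc ih =>
      exact mem_of_partition_of_nonorth P.flip R' hc hs hc' hs' _ _ ih
        (fun h => hbc ((isOrthogonal_flip_iff P _ _).mp h))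

theorem rootForm_mul_corootForm_const [Fintype ι] (hirr : Irr P) (i j : ι) :
    P.RootForm (P.root i) (P.root i) * P.CorootForm (P.coroot i) (P.coroot i) =
      P.RootForm (P.root j) (P.root j) * P.CorootForm (P.coroot j) (P.coroot j) := by
  have hchain := connected_of_irr P hirr i j
  induction hchain with
  | refl => rfl
  | tail _ hbc ih => rw [ih]; exact rootForm_mul_corootForm P _ _ hbc

/-- invariance of the root form under the Weyl group -/
theorem rootForm_weyl_smul [Fintype ι] (g : P.Aut) (hg : g ∈ P.weylGroup) (x y : M) :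
    P.RootForm (g • x) (g • y) = P.RootForm x y := by
  induction hg using RootPairing.weylGroup.induction generalizing x y with
  | mem i =>
    rw [RootPairing.Equiv.reflection_smul, RootPairing.Equiv.reflection_smul]
    exact P.rootForm_reflection_reflection_apply i x y
  | one => simp
  | mul a b _ _ ha hb => rw [mul_smul, mul_smul, ha, hb]

theorem rootForm_root_weyl_smul [Fintype ι] (g : P.Aut) (hg : g ∈ P.weylGroup) (i : ι) :
    P.RootForm (P.root (g • i)) (P.root (g • i)) = P.RootForm (P.root i) (P.root i) := by
  rw [aut_smul_root, rootForm_weyl_smul P g hg]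

omit [Finite ι] in
theorem pairing_reflectionPerm_left (k a l : ι) :
    P.pairing (P.reflectionPerm k a) l = P.pairing a l - P.pairing a k * P.pairing k l := by
  rw [← P.root_coroot'_eq_pairing, P.root_reflectionPerm, P.reflection_apply_root, map_sub, map_smul,
    P.root_coroot'_eq_pairing, P.root_coroot'_eq_pairing, smul_eq_mul]

/-- in an irreducible system, some Weyl conjugate of `i` is not orthogonal to `j` -/
theorem exists_weyl_nonorth (hirr : Irr P) (i j : ι) :
    ∃ w : P.Aut, w ∈ P.weylGroup ∧ ¬ P.IsOrthogonal (w • i) j := by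
  have hchain := connected_of_irr P hirr i j
  induction hchain with
  | refl => exact ⟨1, one_mem _, by rw [one_smul]; exact nonorth_self P i⟩
  | @tail k l _ hkl ih =>
    obtain ⟨w, hw, hwk⟩ := ih
    by_contra hcon
    push_neg at hcon
    have h1 := hcon w hw
    have h2 := hcon (RootPairing.Equiv.reflection P k * w) (mul_mem (P.reflection_mem_weylGroup k) hw)
    rw [isOrthogonal_iff] at h1 h2 hwk hkl
    apply hkl
    have e2 : P.pairing ((RootPairing.Equiv.reflection P k * w) • i) l =
        P.pairing (w • i) l - P.pairing (w • i) k * P.pairing k l := by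
      rw [mul_smul]
      exact pairing_reflectionPerm_left P k (w • i) l
    rw [h2, h1, zero_sub] at e2
    have e3 : P.pairing (w • i) k * P.pairing k l = 0 := by omega
    rcases mul_eq_zero.mp e3 with h | h
    · exact absurd h hwk
    · exact h

theorem weylGroup_transitive_sameLength [Fintype ι] (hirr : Irr P)
    (i j : ι) (hl : P.RootForm (P.root i) (P.root i) = P.RootForm (P.root j) (P.root j)) :
    ∃ g : P.Aut, g ∈ P.weylGroup ∧ g • i = j := by
  obtain ⟨w, hw, hwij⟩ := exists_weyl_nonorth P hirr i j
  obtain ⟨g, hg, hgj⟩ := exists_weyl_of_rootForm_eq P (w • i) j hwij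
    (by rw [rootForm_root_weyl_smul P w hw, hl])
  exact ⟨g * w, mul_mem hg hw, by rw [mul_smul, hgj]⟩

end Groth.Agent.Helper3.RD
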