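import Groth.Agent.Lib.helper3.RootD22

set_option autoImplicit false

namespace Groth.Agent.Helper3.RD
open RootD

variable {ι M N : Type*} [AddCommGroup M] [AddCommGroup N] (P : RootPairing ι ℤ M N) [Finite ι] [Fintype ι]

/-- the pair of pairings of two roots lies in the finite list -/
theorem pairing_pair_mem (i j : ι) :
    (P.pairing i j, P.pairing j i) ∈
      ({(0, 0), (1, 1), (-1, -1), (1, 2), (2, 1), (-1, -2), (-2, -1), (1, 3), (3, 1), (-1, -3),
        (-3, -1), (4, 1), (1, 4), (-4, -1), (-1, -4), (2, 2), (-2, -2)} : Set (ℤ × ℤ)) := by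
  have := P.pairingIn_pairingIn_mem_set_of_isCrystallographic i j
  rwa [pairingIn_int, pairingIn_int] at this

/-- in an irreducible system the minimal length divides every length -/
theorem rootForm_min_dvd (hirr : Irr P) (i₀ : ι)
    (hmin : ∀ i : ι, P.RootForm (P.root i₀) (P.root i₀) ≤ P.RootForm (P.root i) (P.root i)) (i : ι) :
    P.RootForm (P.root i₀) (P.root i₀) ∣ P.RootForm (P.root i) (P.root i) := by
  obtain ⟨w, hw, hwi⟩ := exists_weyl_nonorth P hirr i₀ i
  have hR := rootForm_root_weyl_smul P w hw i₀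
  have hswap := rootForm_swap P i (w • i₀)
  rw [hR] at hswap
  have hpos := rootForm_self_pos P i₀
  have hle := hmin i
  have hne : P.pairing (w • i₀) i ≠ 0 := by rwa [isOrthogonal_iff] at hwi
  have hmem := pairing_pair_mem P i (w • i₀)
  generalize P.RootForm (P.root i₀) (P.root i₀) = R₀ at *
  generalize P.RootForm (P.root i) (P.root i) = Ri at *
  generalize P.pairing i (w • i₀) = a at *
  generalize P.pairing (w • i₀) i = b at *
  simp only [Set.mem_insert_iff, Set.mem_singleton_iff, Prod.mk.injEq] at hmem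
  rcases hmem with ⟨h1, h2⟩ | ⟨h1, h2⟩ | ⟨h1, h2⟩ | ⟨h1, h2⟩ | ⟨h1, h2⟩ | ⟨h1, h2⟩ | ⟨h1, h2⟩ | ⟨h1, h2⟩ |
    ⟨h1, h2⟩ | ⟨h1, h2⟩ | ⟨h1, h2⟩ | ⟨h1, h2⟩ | ⟨h1, h2⟩ | ⟨h1, h2⟩ | ⟨h1, h2⟩ | ⟨h1, h2⟩ | ⟨h1, h2⟩ <;>
  subst h1 h2 <;>
  first
  | (exfalso; omega)
  | exact ⟨1, by omega⟩
  | exact ⟨2, by omega⟩
  | exact ⟨3, by omega⟩
  | exact ⟨4, by omega⟩

theorem rootForm_neg (i : ι) :
    P.RootForm (P.root (P.reflectionPerm i i)) (P.root (P.reflectionPerm i i)) = P.RootForm (P.root i) (P.root i) := by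
  rw [root_neg]; simp

theorem coroot_neg (i : ι) : P.coroot (P.reflectionPerm i i) = - P.coroot i := by simp

theorem rootForm_smul_coroot_add {i j k : ι} (h : P.root k = P.root i + P.root j) :
    P.RootForm (P.root k) (P.root k) • P.coroot k =
      P.RootForm (P.root i) (P.root i) • P.coroot i + P.RootForm (P.root j) (P.root j) • P.coroot j := by
  rw [P.rootForm_self_smul_coroot, P.rootForm_self_smul_coroot, P.rootForm_self_smul_coroot, h, map_add,
    smul_add]

theorem existsUnique_lengthHom (hirr : Irr P) (i₀ : ι)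
    (hmin : ∀ i : ι, P.RootForm (P.root i₀) (P.root i₀) ≤ P.RootForm (P.root i) (P.root i)) :
    ∃! u : Submodule.span ℤ (Set.range P.root) →+ N, ∀ i : ι,
      u ⟨P.root i, Submodule.subset_span (Set.mem_range_self i)⟩ =
        (P.RootForm (P.root i) (P.root i) / P.RootForm (P.root i₀) (P.root i₀)) • P.coroot i := by
  have hdvd := rootForm_min_dvd P hirr i₀ hmin
  have hpos := rootForm_self_pos P i₀
  have htf := torsionFree_N P
  apply existsUnique_addHom_extending P
    (fun i => (P.RootForm (P.root i) (P.root i) / P.RootForm (P.root i₀) (P.root i₀)) • P.coroot i)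
  · intro i
    rw [rootForm_neg, coroot_neg, smul_neg]
  · intro i j k h
    apply smul_right_injective N hpos.ne'
    show P.RootForm (P.root i₀) (P.root i₀) • _ = P.RootForm (P.root i₀) (P.root i₀) • _
    rw [smul_add, smul_smul, smul_smul, smul_smul, Int.mul_ediv_cancel' (hdvd i),
      Int.mul_ediv_cancel' (hdvd j), Int.mul_ediv_cancel' (hdvd k)]
    exact rootForm_smul_coroot_add P h

end Groth.Agent.Helper3.RD

namespace Groth.Agent.Helper3.RD
open RootD

variable {ι M N : Type*} [AddCommGroup M] [AddCommGroup N] (P : RootPairing ι ℤ M N) [Finite ι] [Fintype ι]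

theorem pairing_pair_mem_red [P.IsReduced] (i j : ι) :
    (P.pairing i j, P.pairing j i) ∈
      ({(0, 0), (1, 1), (-1, -1), (1, 2), (2, 1), (-1, -2), (-2, -1), (1, 3), (3, 1), (-1, -3),
        (-3, -1), (2, 2), (-2, -2)} : Set (ℤ × ℤ)) := by
  have := P.pairingIn_pairingIn_mem_set_of_isCrystal_of_isRed i j
  rwa [pairingIn_int, pairingIn_int] at this

theorem rootForm_ratios_of_irreducible_reduced [P.IsReduced] (hirr : Irr P)
    (i₀ : ι) (hmin : ∀ i : ι, P.RootForm (P.root i₀) (P.root i₀) ≤ P.RootForm (P.root i) (P.root i)) :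
    (∀ i : ι, P.RootForm (P.root i) (P.root i) = P.RootForm (P.root i₀) (P.root i₀) ∨
        P.RootForm (P.root i) (P.root i) = 2 * P.RootForm (P.root i₀) (P.root i₀) ∨
        P.RootForm (P.root i) (P.root i) = 3 * P.RootForm (P.root i₀) (P.root i₀)) ∧
      ¬ ((∃ i : ι, P.RootForm (P.root i) (P.root i) = 2 * P.RootForm (P.root i₀) (P.root i₀)) ∧
          ∃ j : ι, P.RootForm (P.root j) (P.root j) = 3 * P.RootForm (P.root i₀) (P.root i₀)) := by
  have hpos := rootForm_self_pos P i₀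
  constructor
  · intro i
    obtain ⟨w, hw, hwi⟩ := exists_weyl_nonorth P hirr i₀ i
    have hR := rootForm_root_weyl_smul P w hw i₀
    have hswap := rootForm_swap P i (w • i₀)
    rw [hR] at hswap
    have hle := hmin i
    have hne : P.pairing (w • i₀) i ≠ 0 := by rwa [isOrthogonal_iff] at hwi
    have hmem := pairing_pair_mem_red P i (w • i₀)
    generalize P.RootForm (P.root i₀) (P.root i₀) = R₀ at *
    generalize P.RootForm (P.root i) (P.root i) = Ri at *
    generalize P.pairing i (w • i₀) = a at *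
    generalize P.pairing (w • i₀) i = b at *
    simp only [Set.mem_insert_iff, Set.mem_singleton_iff, Prod.mk.injEq] at hmem
    rcases hmem with ⟨h1, h2⟩ | ⟨h1, h2⟩ | ⟨h1, h2⟩ | ⟨h1, h2⟩ | ⟨h1, h2⟩ | ⟨h1, h2⟩ | ⟨h1, h2⟩ | ⟨h1, h2⟩ |
      ⟨h1, h2⟩ | ⟨h1, h2⟩ | ⟨h1, h2⟩ | ⟨h1, h2⟩ | ⟨h1, h2⟩ <;>
    subst h1 h2 <;> omega
  · rintro ⟨⟨i, hi⟩, ⟨j, hj⟩⟩
    obtain ⟨w, hw, hwi⟩ := exists_weyl_nonorth P hirr i j
    have hR := rootForm_root_weyl_smul P w hw i
    have hswap := rootForm_swap P j (w • i)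
    rw [hR, hi, hj] at hswap
    have hne : P.pairing (w • i) j ≠ 0 := by rwa [isOrthogonal_iff] at hwi
    have hmem := pairing_pair_mem_red P j (w • i)
    generalize P.RootForm (P.root i₀) (P.root i₀) = R₀ at *
    generalize P.pairing j (w • i) = a at *
    generalize P.pairing (w • i) j = b at *
    simp only [Set.mem_insert_iff, Set.mem_singleton_iff, Prod.mk.injEq] at hmem
    rcases hmem with ⟨h1, h2⟩ | ⟨h1, h2⟩ | ⟨h1, h2⟩ | ⟨h1, h2⟩ | ⟨h1, h2⟩ | ⟨h1, h2⟩ | ⟨h1, h2⟩ | ⟨h1, h2⟩ |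
      ⟨h1, h2⟩ | ⟨h1, h2⟩ | ⟨h1, h2⟩ | ⟨h1, h2⟩ | ⟨h1, h2⟩ <;>
    subst h1 h2 <;> omega

end Groth.Agent.Helper3.RD
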