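import Groth.Agent.Lib.helper3.RootD23

set_option autoImplicit false

namespace Groth.Agent.Helper3.RD
open RootD

section general
variable {M : Type*} [AddCommGroup M] [Module.Finite ℤ M]

theorem isTorsion_quotient_of_finrank_eq (S : Submodule ℤ M)
    (h : Module.finrank ℤ S = Module.finrank ℤ M) : Module.IsTorsion ℤ (M ⧸ S) := by
  have h1 := S.finrank_quotient_add_finrank
  have h2 : Module.finrank ℤ (M ⧸ S) = 0 := by omega
  exact Module.finrank_eq_zero_iff_isTorsion.mp h2

theorem exists_nat_smul_mem_of_finrank_eq (S : Submodule ℤ M)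
    (h : Module.finrank ℤ S = Module.finrank ℤ M) (x : M) : ∃ n : ℕ, 0 < n ∧ n • x ∈ S := by
  have ht := isTorsion_quotient_of_finrank_eq S h
  obtain ⟨a, ha⟩ := @ht (Submodule.Quotient.mk x)
  have ha0 : (a : ℤ) ≠ 0 := nonZeroDivisors.coe_ne_zero a
  have h1 : (a : ℤ) • x ∈ S := by
    rw [← Submodule.Quotient.mk_eq_zero, Submodule.Quotient.mk_smul]
    exact ha
  refine ⟨(a : ℤ).natAbs, Int.natAbs_pos.mpr ha0, ?_⟩
  rw [← Nat.cast_smul_eq_nsmul ℤ]
  rcases Int.natAbs_eq (a : ℤ) with h' | h'
  · have e : (((a : ℤ).natAbs : ℕ) : ℤ) = (a : ℤ) := by omega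
    rw [e]; exact h1
  · have e : (((a : ℤ).natAbs : ℕ) : ℤ) = -(a : ℤ) := by omega
    rw [e, neg_smul]; exact S.neg_mem h1

theorem finite_quotient_of_finrank_eq_of_le (S T : Submodule ℤ M)
    (h : Module.finrank ℤ S = Module.finrank ℤ M) (hle : S ≤ T) : Finite (M ⧸ T) := by
  have htors : Module.IsTorsion ℤ (M ⧸ T) := by
    intro y
    obtain ⟨y, rfl⟩ := Submodule.Quotient.mk_surjective _ y
    obtain ⟨n, hn, hmem⟩ := exists_nat_smul_mem_of_finrank_eq S h y
    refine ⟨⟨(n : ℤ), mem_nonZeroDivisors_of_ne_zero (by omega)⟩, ?_⟩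
    change (n : ℤ) • Submodule.Quotient.mk y = (0 : M ⧸ T)
    rw [← Submodule.Quotient.mk_smul, Submodule.Quotient.mk_eq_zero, Nat.cast_smul_eq_nsmul]
    exact hle hmem
  exact Module.finite_of_fg_torsion _ htors

end general

section hom
variable {ι M N : Type*} [AddCommGroup M] [AddCommGroup N] (P : RootPairing ι ℤ M N) [Finite ι]

theorem eq_of_pairing_two {i j : ι} (h1 : P.pairing i j = 2) (h2 : P.pairing j i = 2) : i = j := by
  have hnli : ¬ LinearIndependent ℤ ![P.root i, P.root j] := by
    rw [not_li_iff, h1, h2]; norm_num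
  have hp1 : P.toLinearMap (P.root i) (P.coroot j) = 2 := h1
  have hp2 : P.toLinearMap (P.root j) (P.coroot i) = 2 := h2
  apply P.root.injective
  rcases dep_cases P hnli with h | h | h | h | h | h
  · exact h.symm
  · exfalso; rw [h] at hp2
    simp only [map_neg, LinearMap.neg_apply, P.root_coroot_two] at hp2; omega
  · exfalso; rw [h] at hp2
    simp only [map_smul, LinearMap.smul_apply, P.root_coroot_two, smul_eq_mul] at hp2; omega
  · exfalso; rw [h] at hp2
    simp only [map_smul, LinearMap.smul_apply, P.root_coroot_two, smul_eq_mul] at hp2; omega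
  · exfalso; rw [h] at hp1
    simp only [map_smul, LinearMap.smul_apply, P.root_coroot_two, smul_eq_mul] at hp1; omega
  · exfalso; rw [h] at hp1
    simp only [map_smul, LinearMap.smul_apply, P.root_coroot_two, smul_eq_mul] at hp1; omega

omit [Finite ι] in
theorem hom_coweight_coroot {ι₂ M₂ N₂ : Type*} [AddCommGroup M₂] [AddCommGroup N₂]
    (Q : RootPairing ι₂ ℤ M₂ N₂) (f : RootPairing.Hom P Q) (i : ι) :
    f.coweightMap (Q.coroot (f.indexEquiv i)) = P.coroot i := by
  have := congrFun f.coroot_coweightMap (f.indexEquiv i)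
  simpa using this

omit [Finite ι] in
theorem span_root_le_range_hom {ι₂ M₂ N₂ : Type*} [AddCommGroup M₂] [AddCommGroup N₂]
    (Q : RootPairing ι₂ ℤ M₂ N₂) (f : RootPairing.Hom P Q) :
    Submodule.span ℤ (Set.range Q.root) ≤ LinearMap.range f.weightMap := by
  rw [Submodule.span_le]
  rintro _ ⟨i, rfl⟩
  refine ⟨P.root (f.indexEquiv.symm i), ?_⟩
  have := congrFun f.root_weightMap (f.indexEquiv.symm i)
  simpa using this

end hom

section cover
variable {ι M N : Type*} [AddCommGroup M] [AddCommGroup N] (P : RootPairing ι ℤ M N) [Finite ι]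

/-- restriction map `N → Dual (rootSpan)` -/
noncomputable def resMap : N →ₗ[ℤ] Module.Dual ℤ (Submodule.span ℤ (Set.range P.root)) :=
  (Submodule.span ℤ (Set.range P.root)).subtype.dualMap ∘ₗ P.toLinearMap.flip

omit [Finite ι] in
theorem resMap_apply (n : N) (x : Submodule.span ℤ (Set.range P.root)) :
    resMap P n x = P.toLinearMap x.1 n := rfl

theorem resMap_coroot_injective : Function.Injective (fun i => resMap P (P.coroot i)) := by
  intro i j h
  have hi := LinearMap.congr_fun h ⟨P.root i, Submodule.subset_span (Set.mem_range_self i)⟩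
  have hj := LinearMap.congr_fun h ⟨P.root j, Submodule.subset_span (Set.mem_range_self j)⟩
  simp only [resMap_apply] at hi hj
  rw [P.root_coroot_two i] at hi
  rw [P.root_coroot_two j] at hj
  exact eq_of_pairing_two P hi.symm hj

variable [Module.Finite ℤ M]

theorem isReflexive_rootSpan : Module.IsReflexive ℤ (Submodule.span ℤ (Set.range P.root)) := by
  haveI := torsionFree_M P
  infer_instance

noncomputable def adjCover :
    RootPairing ι ℤ (Submodule.span ℤ (Set.range P.root))
      (Module.Dual ℤ (Submodule.span ℤ (Set.range P.root))) :=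
  haveI := isReflexive_rootSpan P
  { toLinearMap := Module.Dual.eval ℤ _
    isPerfPair_toLinearMap := inferInstance
    root := ⟨fun i => ⟨P.root i, Submodule.subset_span (Set.mem_range_self i)⟩,
      fun i j h => P.root.injective (congrArg Subtype.val h)⟩
    coroot := ⟨fun i => resMap P (P.coroot i), resMap_coroot_injective P⟩
    root_coroot_two := fun i => P.root_coroot_two i
    reflectionPerm := P.reflectionPerm
    reflectionPerm_root := fun i j => Subtype.ext (P.reflectionPerm_root i j)
    reflectionPerm_coroot := fun i j => by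
      show resMap P (P.coroot j) - (P.toLinearMap (P.root i) (P.coroot j)) • resMap P (P.coroot i) =
        resMap P (P.coroot (P.reflectionPerm i j))
      rw [← P.reflectionPerm_coroot i j, map_sub, map_smul] }

noncomputable def adjCoverHom : RootPairing.Hom (adjCover P) P where
  weightMap := (Submodule.span ℤ (Set.range P.root)).subtype
  coweightMap := resMap P
  indexEquiv := Equiv.refl ι
  weight_coweight_transpose := by
    ext n x
    rfl
  root_weightMap := rfl
  coroot_coweightMap := rfl

end cover

end Groth.Agent.Helper3.RD
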