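import Groth.Agent.Lib.helper3.RootD24

set_option autoImplicit false

namespace Groth.Agent.Helper3.RD
open RootD

section pmor
variable {ι M N : Type*} [AddCommGroup M] [AddCommGroup N] (P : RootPairing ι ℤ M N) [Finite ι]

theorem eq_of_smul_root_eq_smul_root [P.IsReduced] {k l : ι} {a b : ℤ} (ha : 0 < a) (hb : 0 < b)
    (h : a • P.root k = b • P.root l) : k = l ∧ a = b := by
  have hnli : ¬ LinearIndependent ℤ ![P.root k, P.root l] := by
    rw [LinearIndependent.pair_iff]
    intro hh
    have := hh a (-b) (by rw [neg_smul, h]; exact add_neg_cancel _)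
    omega
  have hne : P.root l ≠ 0 := P.ne_zero l
  rcases RootPairing.IsReduced.eq_or_eq_neg k l hnli with h1 | h1
  · refine ⟨P.root.injective h1, ?_⟩
    by_contra hab
    have h2 : (a - b) • P.root l = (a - b) • (0 : M) := by
      rw [sub_smul, ← h, h1, sub_self, smul_zero]
    exact hne (smul_cancel_M P (sub_ne_zero.mpr hab) h2)
  · exfalso
    have h2 : (a + b) • P.root l = (a + b) • (0 : M) := by
      rw [add_smul, ← h, h1, smul_neg, add_neg_cancel, smul_zero]
    exact hne (smul_cancel_M P (by omega) h2)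

variable {ι' M' N' : Type*} [AddCommGroup M'] [AddCommGroup N'] (P' : RootPairing ι' ℤ M' N') [Finite ι']
  (f : M' →ₗ[ℤ] M) (g : N →ₗ[ℤ] N')
  (hfg : ∀ (m' : M') (n : N), P.toLinearMap (f m') n = P'.toLinearMap m' (g n))
  (u : ι ≃ ι') (q : ι → ℕ)
  (hroot : ∀ i : ι, f (P'.root (u i)) = (q i : ℤ) • P.root i)
  (hcoroot : ∀ i : ι, g (P.coroot i) = (q i : ℤ) • P'.coroot (u i))

include hfg hroot hcoroot in
omit [Finite ι] [Finite ι'] in
theorem pmor_pairing (i j : ι) :
    (q j : ℤ) * P.pairing j i = (q i : ℤ) * P'.pairing (u j) (u i) := by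
  have h1 := hfg (P'.root (u j)) (P.coroot i)
  simp only [hroot, hcoroot, map_smul, LinearMap.smul_apply, smul_eq_mul] at h1
  exact h1

include hfg hroot hcoroot in
theorem pmor_reflection [P.IsReduced] (hq : ∀ i, 0 < q i) (i j : ι) :
    q (P.reflectionPerm i j) = q j ∧ u (P.reflectionPerm i j) = P'.reflectionPerm (u i) (u j) := by
  obtain ⟨k, hk⟩ : ∃ k : ι, u k = P'.reflectionPerm (u i) (u j) :=
    ⟨u.symm _, u.apply_symm_apply _⟩
  have h1 : f (P'.root (P'.reflectionPerm (u i) (u j))) = (q k : ℤ) • P.root k := by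
    rw [← hk]; exact hroot k
  have h2 : P'.root (P'.reflectionPerm (u i) (u j)) =
      P'.root (u j) - P'.pairing (u j) (u i) • P'.root (u i) := (P'.reflectionPerm_root (u i) (u j)).symm
  have h3 : P.root (P.reflectionPerm i j) = P.root j - P.pairing j i • P.root i :=
    (P.reflectionPerm_root i j).symm
  have h4 : (q k : ℤ) • P.root k = (q j : ℤ) • P.root (P.reflectionPerm i j) := by
    rw [← h1, h2, map_sub, map_smul, hroot, hroot, h3, smul_sub, smul_smul, smul_smul]
    have := pmor_pairing P P' f g hfg u q hroot hcoroot i j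
    rw [show P'.pairing (u j) (u i) * (q i : ℤ) = (q j : ℤ) * P.pairing j i by
      rw [mul_comm]; exact this.symm]
  obtain ⟨hkl, hqq⟩ := eq_of_smul_root_eq_smul_root P (by exact_mod_cast hq k) (by exact_mod_cast hq j) h4
  subst hkl
  exact ⟨by exact_mod_cast hqq, hk⟩

include hfg hroot hcoroot in
theorem pmor_weyl [P.IsReduced] (hq : ∀ i, 0 < q i) (w : P.Aut) (hw : w ∈ P.weylGroup) :
    ∀ i : ι, q (w • i) = q i := by
  refine RootPairing.weylGroup.induction (P := P) (pred := fun w _ => ∀ i, q (w • i) = q i) ?_ ?_ ?_ hw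
  · intro j i
    exact (pmor_reflection P P' f g hfg u q hroot hcoroot hq j i).1
  · intro i; rw [one_smul]
  · intro x y _ _ ihx ihy i
    rw [mul_smul, ihx, ihy]

include hfg hroot hcoroot in
theorem pmor_weylEquiv [P.IsReduced] (hq : ∀ i, 0 < q i) :
    ∃ ubar : P.weylGroup ≃* P'.weylGroup,
        (∀ i : ι, ubar (RootPairing.weylGroup.ofIdx P i) = RootPairing.weylGroup.ofIdx P' (u i)) ∧
        ∀ (w : P.weylGroup) (i : ι), u ((w : P.Aut) • i) = ((ubar w : P'.weylGroup) : P'.Aut) • u i := by
  have ha := pmor_reflection P P' f g hfg u q hroot hcoroot hq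
  let c : Equiv.Perm ι ≃* Equiv.Perm ι' := u.permCongrHom
  have hc : ∀ i : ι, c (P.reflectionPerm i) = P'.reflectionPerm (u i) := by
    intro i
    ext j'
    show u (P.reflectionPerm i (u.symm j')) = P'.reflectionPerm (u i) j'
    rw [(ha i (u.symm j')).2, u.apply_symm_apply]
  have hmap : (P.weylGroupToPerm.range).map (c : Equiv.Perm ι →* Equiv.Perm ι') =
      P'.weylGroupToPerm.range := by
    rw [P.range_weylGroupToPerm, P'.range_weylGroupToPerm, MonoidHom.map_closure]
    congr 1
    ext σ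
    constructor
    · rintro ⟨_, ⟨i, rfl⟩, rfl⟩
      exact ⟨u i, (hc i).symm⟩
    · rintro ⟨i', rfl⟩
      refine ⟨P.reflectionPerm (u.symm i'), ⟨u.symm i', rfl⟩, ?_⟩
      have := hc (u.symm i')
      rw [u.apply_symm_apply] at this
      exact this
  have hinj := weylGroupToPerm_injective P
  have hinj' := weylGroupToPerm_injective P'
  let e1 : P.weylGroup ≃* P.weylGroupToPerm.range := MonoidHom.ofInjective hinj
  let e2 : P.weylGroupToPerm.range ≃* (P.weylGroupToPerm.range).map (c : Equiv.Perm ι →* Equiv.Perm ι') :=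
    c.subgroupMap _
  let e3 : (P.weylGroupToPerm.range).map (c : Equiv.Perm ι →* Equiv.Perm ι') ≃* P'.weylGroupToPerm.range :=
    MulEquiv.subgroupCongr hmap
  let e4 : P'.weylGroup ≃* P'.weylGroupToPerm.range := MonoidHom.ofInjective hinj'
  let ubar : P.weylGroup ≃* P'.weylGroup := e1.trans (e2.trans (e3.trans e4.symm))
  have hub : ∀ w : P.weylGroup, P'.weylGroupToPerm (ubar w) = c (P.weylGroupToPerm w) := by
    intro w
    show P'.weylGroupToPerm (e4.symm (e3 (e2 (e1 w)))) = _
    have := MonoidHom.apply_ofInjective_symm hinj' (e3 (e2 (e1 w)))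
    rw [this]
    rfl
  refine ⟨ubar, ?_, ?_⟩
  · intro i
    apply hinj'
    rw [hub]
    exact hc i
  · intro w i
    have h := DFunLike.congr_fun (hub w) (u i)
    have h2 : c (P.weylGroupToPerm w) (u i) = u ((w : P.Aut) • i) := by
      show u (P.weylGroupToPerm w (u.symm (u i))) = _
      rw [u.symm_apply_apply]; rfl
    exact (h.trans h2).symm

end pmor

end Groth.Agent.Helper3.RD
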