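import Groth.Agent.Lib.helper3.RootD25

set_option autoImplicit false

namespace Groth.Agent.Helper3.RD
open RootD

section sub
variable {ι M N : Type*} [AddCommGroup M] [AddCommGroup N] (P : RootPairing ι ℤ M N)

/-- `R'` is stable under the reflections in its own elements -/
def ReflStable (R' : Set ι) : Prop := ∀ i ∈ R', ∀ j ∈ R', P.reflectionPerm i j ∈ R'

/-- the root pairing with roots `R'` -/
def subP (R' : Set ι) (h : ReflStable P R') : RootPairing ↥R' ℤ M N where
  toLinearMap := P.toLinearMap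
  isPerfPair_toLinearMap := P.isPerfPair_toLinearMap
  root := ⟨fun k => P.root k.1, fun _ _ hab => Subtype.ext (P.root.injective hab)⟩
  coroot := ⟨fun k => P.coroot k.1, fun _ _ hab => Subtype.ext (P.coroot.injective hab)⟩
  root_coroot_two := fun k => P.root_coroot_two k.1
  reflectionPerm := fun i => (P.reflectionPerm i.1).subtypeEquiv (fun a => ⟨fun ha => h i.1 i.2 a ha,
    fun ha => by
      have := h i.1 i.2 _ ha
      rwa [P.reflectionPerm_self] at this⟩)
  reflectionPerm_root := fun i j => P.reflectionPerm_root i.1 j.1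
  reflectionPerm_coroot := fun i j => P.reflectionPerm_coroot i.1 j.1

theorem natSpan_subP (R' : Set ι) (h : ReflStable P R') (Ds : Set ↥R') :
    natSpan (subP P R' h) Ds = natSpan P (Subtype.val '' Ds) := by
  unfold natSpan
  congr 1
  rw [Set.image_image]
  rfl

theorem range_root_subP (R' : Set ι) (h : ReflStable P R') :
    Set.range (subP P R' h).root = P.root '' R' := by
  show (Set.range fun x : ↥R' => P.root x) = _
  rw [← Set.image_eq_range]

theorem reflStable_of_sat (R' : Set ι)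
    (hsat : ∀ k : ι, (∃ n : ℕ, 0 < n ∧ n • P.root k ∈ Submodule.span ℤ (P.root '' R')) → k ∈ R') :
    ReflStable P R' := by
  intro i hi j hj
  apply hsat
  refine ⟨1, one_pos, ?_⟩
  rw [one_smul, ← P.reflectionPerm_root i j]
  exact Submodule.sub_mem _ (Submodule.subset_span ⟨j, hj, rfl⟩)
    (Submodule.smul_mem _ _ (Submodule.subset_span ⟨i, hi, rfl⟩))

theorem exists_lift (R' : Set ι) (h : ReflStable P R') (w : (subP P R' h).Aut)
    (hw : w ∈ (subP P R' h).weylGroup) :
    ∃ g : P.Aut, g ∈ P.weylGroup ∧ ∀ k : ↥R', g • k.1 = (w • k).1 := by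
  refine RootPairing.weylGroup.induction (P := subP P R' h)
    (pred := fun w _ => ∃ g : P.Aut, g ∈ P.weylGroup ∧ ∀ k : ↥R', g • k.1 = (w • k).1) ?_ ?_ ?_ hw
  · intro a
    exact ⟨RootPairing.Equiv.reflection P a.1, P.reflection_mem_weylGroup a.1, fun k => rfl⟩
  · exact ⟨1, one_mem _, fun k => by rw [one_smul, one_smul]⟩
  · rintro x y _ _ ⟨gx, hgx, hx⟩ ⟨gy, hgy, hy⟩
    exact ⟨gx * gy, mul_mem hgx hgy, fun k => by rw [mul_smul, mul_smul, hy k, hx (y • k)]⟩

variable [Finite ι]

theorem finite_weylGroup : Finite P.weylGroup :=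
  Finite.of_injective _ (weylGroupToPerm_injective P)

/-- the averaging operator over the Weyl group -/
theorem avg_exists : ∃ (A : M →ₗ[ℤ] M) (c : ℕ), 0 < c ∧ (∀ i, A (P.root i) = 0) ∧
    ∀ x, A x - c • x ∈ Submodule.span ℤ (Set.range P.root) := by
  classical
  haveI := finite_weylGroup P
  cases nonempty_fintype P.weylGroup
  let A : M →ₗ[ℤ] M := ∑ w : P.weylGroup,
    ((RootPairing.Equiv.weightHom P (w : P.Aut) : M ≃ₗ[ℤ] M) : M →ₗ[ℤ] M)
  have hA : ∀ x, A x = ∑ w : P.weylGroup, (w : P.Aut) • x := by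
    intro x; simp only [A, LinearMap.sum_apply]; rfl
  refine ⟨A, Fintype.card P.weylGroup, Fintype.card_pos, ?_, ?_⟩
  · intro i
    have h1 : A (P.root i) = - A (P.root i) := by
      rw [hA]
      let s : P.weylGroup := RootPairing.weylGroup.ofIdx P i
      have hs : ((s : P.weylGroup) : P.Aut) • P.root i = - P.root i := by
        show P.reflection i (P.root i) = _
        exact P.reflection_apply_self i
      calc ∑ w : P.weylGroup, (w : P.Aut) • P.root i
          = ∑ w : P.weylGroup, ((w * s : P.weylGroup) : P.Aut) • P.root i :=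
            (Equiv.sum_comp (Equiv.mulRight s) (fun w : P.weylGroup => (w : P.Aut) • P.root i)).symm
        _ = ∑ w : P.weylGroup, -((w : P.Aut) • P.root i) := by
            apply Finset.sum_congr rfl; intro w _
            rw [Subgroup.coe_mul, mul_smul, hs, smul_neg]
        _ = - ∑ w : P.weylGroup, (w : P.Aut) • P.root i := Finset.sum_neg_distrib _
    have h2 : (2 : ℤ) • A (P.root i) = (2 : ℤ) • (0 : M) := by
      rw [two_smul, smul_zero]; nth_rewrite 1 [h1]; exact neg_add_cancel _
    exact smul_cancel_M P two_ne_zero h2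
  · intro x
    rw [hA]
    have : ∑ w : P.weylGroup, (w : P.Aut) • x - Fintype.card P.weylGroup • x =
        ∑ w : P.weylGroup, ((w : P.Aut) • x - x) := by
      rw [Finset.sum_sub_distrib, Finset.sum_const, Finset.card_univ]
    rw [this]
    exact Submodule.sum_mem _ (fun w _ => weyl_smul_sub_mem P w.1 w.2 x)

theorem exists_dual_ne_zero_of_finite {κ : Type*} [Finite κ] (y : κ → M)
    (hy : ∀ a, ∃ l, P.toLinearMap (y a) (P.coroot l) ≠ 0) :
    ∃ f : Module.Dual ℤ M, ∀ a, f (y a) ≠ 0 := by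
  classical
  have := Fintype.ofFinite ι
  have := Fintype.ofFinite κ
  let e := Fintype.equivFin ι
  let p : κ → Polynomial ℤ := fun a =>
    ∑ j, Polynomial.C (P.toLinearMap (y a) (P.coroot j)) * Polynomial.X ^ (e j : ℕ)
  have hp : ∀ a, p a ≠ 0 := by
    intro a h
    obtain ⟨l, hl⟩ := hy a
    have h1 : (p a).coeff (e l : ℕ) = P.toLinearMap (y a) (P.coroot l) := by
      simp only [p, Polynomial.finset_sum_coeff, Polynomial.coeff_C_mul, Polynomial.coeff_X_pow]
      rw [Finset.sum_eq_single l]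
      · simp
      · intro j _ hj
        have : (e l : ℕ) ≠ (e j : ℕ) := by
          intro h2
          exact hj (e.injective (Fin.ext h2)).symm
        simp [this]
      · simp
    rw [h, Polynomial.coeff_zero] at h1
    exact hl h1.symm
  have hprod : ∏ a, p a ≠ 0 := Finset.prod_ne_zero_iff.mpr (fun a _ => hp a)
  obtain ⟨t, ht⟩ : ∃ t : ℤ, (∏ a, p a).eval t ≠ 0 := by
    by_contra h
    push_neg at h
    exact hprod (Polynomial.funext (fun t => by simp [h t]))
  let n : N := ∑ j, (t ^ (e j : ℕ)) • P.coroot j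
  refine ⟨P.toLinearMap.flip n, fun a => ?_⟩
  have h1 : P.toLinearMap (y a) n = (p a).eval t := by
    simp only [n, p, map_sum, map_smul,
      Polynomial.eval_finset_sum, Polynomial.eval_mul, Polynomial.eval_C, Polynomial.eval_pow,
      Polynomial.eval_X, smul_eq_mul]
    apply Finset.sum_congr rfl
    intro j _
    ring
  rw [LinearMap.flip_apply, h1]
  intro h0
  apply ht
  rw [Polynomial.eval_prod]
  exact Finset.prod_eq_zero (Finset.mem_univ a) h0

/-- Lemma L: a saturated set of roots has a simple system contained in a simple system of `P` -/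
theorem exists_simpleSys_extending (R' : Set ι)
    (hsat : ∀ k : ι, (∃ n : ℕ, 0 < n ∧ n • P.root k ∈ Submodule.span ℤ (P.root '' R')) → k ∈ R') :
    ∃ (Δ : Set ι) (Δs : Set ↥R'), IsSimpleSys P Δ ∧
      IsSimpleSys (subP P R' (reflStable_of_sat P R' hsat)) Δs ∧ Subtype.val '' Δs ⊆ Δ := by
  classical
  obtain ⟨A, c, hc, hA0, hAc⟩ := avg_exists (subP P R' (reflStable_of_sat P R' hsat))
  rw [range_root_subP] at hAc
  have hy : ∀ j : ↥(R'ᶜ), ∃ l, P.toLinearMap (A (P.root j.1)) (P.coroot l) ≠ 0 := by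
    intro j
    by_contra hcon
    push_neg at hcon
    have hmem : A (P.root j.1) ∈ Submodule.span ℤ (Set.range P.root) := by
      have h1 := hAc (P.root j.1)
      have h2 : A (P.root j.1) = (A (P.root j.1) - c • P.root j.1) + c • P.root j.1 := by abel
      rw [h2]
      exact Submodule.add_mem _ (Submodule.span_mono (Set.image_subset_range _ _) h1)
        (nsmul_mem (Submodule.subset_span (Set.mem_range_self j.1)) c)
    have hz : A (P.root j.1) = 0 :=
      eq_zero_of_orth_of_smul_mem P _ (fun l => hcon l) 1 one_pos (by rw [one_smul]; exact hmem)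
    apply j.2
    apply hsat
    refine ⟨c, hc, ?_⟩
    have h1 := hAc (P.root j.1)
    rw [hz, zero_sub] at h1
    have := Submodule.neg_mem _ h1
    rwa [neg_neg] at this
  obtain ⟨f₀', hf₀'⟩ := exists_dual_ne_zero_of_finite P (fun j : ↥(R'ᶜ) => A (P.root j.1)) hy
  obtain ⟨f₁, hf₁⟩ : ∃ f₁ : Module.Dual ℤ M, ∀ x, f₁ x = f₀' (A x) := ⟨f₀' ∘ₗ A, fun x => rfl⟩
  have hf₁R : ∀ k ∈ R', f₁ (P.root k) = 0 := by
    intro k hk
    have h := hA0 ⟨k, hk⟩
    rw [hf₁, show A (P.root k) = 0 from h, map_zero]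
  have hf₁C : ∀ k ∉ R', f₁ (P.root k) ≠ 0 := fun k hk => by
    rw [hf₁]; exact hf₀' ⟨k, hk⟩
  obtain ⟨f₀, hf₀⟩ := exists_dual_ne_zero P
  cases nonempty_fintype ι
  obtain ⟨T, hTpos, hT⟩ : ∃ T : ℤ, 0 < T ∧ ∀ i, |f₀ (P.root i)| < T := by
    refine ⟨1 + ∑ i, |f₀ (P.root i)|, ?_, ?_⟩
    · have : 0 ≤ ∑ i, |f₀ (P.root i)| := Finset.sum_nonneg (fun i _ => abs_nonneg _)
      linarith
    · intro i
      have : |f₀ (P.root i)| ≤ ∑ i, |f₀ (P.root i)| :=
        Finset.single_le_sum (f := fun i => |f₀ (P.root i)|) (fun i _ => abs_nonneg _) (Finset.mem_univ i)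
      linarith
  obtain ⟨f, hfa⟩ : ∃ f : Module.Dual ℤ M, ∀ x, f x = T * f₁ x + f₀ x :=
    ⟨T • f₁ + f₀, fun x => by simp [smul_eq_mul]⟩
  have hfR : ∀ k ∈ R', f (P.root k) = f₀ (P.root k) := by
    intro k hk; rw [hfa, hf₁R k hk, mul_zero, zero_add]
  have hsign : ∀ k ∉ R', (0 < f₁ (P.root k) ∧ 0 < f (P.root k)) ∨
      (f₁ (P.root k) < 0 ∧ f (P.root k) < 0) := by
    intro k hk
    have h1 := hf₁C k hk
    have h2 := hT k
    have h3 := neg_abs_le (f₀ (P.root k))
    have h4 := le_abs_self (f₀ (P.root k))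
    rcases lt_or_gt_of_ne h1 with h | h
    · right
      refine ⟨h, ?_⟩
      rw [hfa]
      have : T * f₁ (P.root k) ≤ T * (-1) := mul_le_mul_of_nonneg_left (by omega) hTpos.le
      linarith
    · left
      refine ⟨h, ?_⟩
      rw [hfa]
      have : T * 1 ≤ T * f₁ (P.root k) := mul_le_mul_of_nonneg_left (by omega) hTpos.le
      linarith
  have hf : ∀ i, f (P.root i) ≠ 0 := by
    intro i
    by_cases hi : i ∈ R'
    · rw [hfR i hi]; exact hf₀ i
    · rcases hsign i hi with ⟨_, h⟩ | ⟨_, h⟩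
      · exact h.ne'
      · exact h.ne
  refine ⟨_, _, isSimpleSys_baseOf P f hf,
    isSimpleSys_baseOf (subP P R' (reflStable_of_sat P R' hsat)) f₀ (fun k => hf₀ k.1), ?_⟩
  rintro _ ⟨d, hd, rfl⟩
  obtain ⟨hdpos, hdind⟩ := hd
  have hdpos' : 0 < f₀ (P.root d.1) := hdpos
  refine And.intro ?_ ?_
  · show 0 < f (P.root d.1)
    rw [hfR d.1 d.2]; exact hdpos'
  · intro a ha b hb hab
    have ha' : 0 < f (P.root a) := ha
    have hb' : 0 < f (P.root b) := hb
    have hab' : P.root d.1 = P.root a + P.root b := hab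
    by_cases haR : a ∈ R'
    · have hbR : b ∈ R' := by
        apply hsat; refine ⟨1, one_pos, ?_⟩
        rw [one_smul]
        have : P.root b = P.root d.1 - P.root a := by rw [hab']; abel
        rw [this]
        exact Submodule.sub_mem _ (Submodule.subset_span ⟨d.1, d.2, rfl⟩)
          (Submodule.subset_span ⟨a, haR, rfl⟩)
      have ha'' : 0 < f₀ (P.root a) := by rw [← hfR a haR]; exact ha'
      have hb'' : 0 < f₀ (P.root b) := by rw [← hfR b hbR]; exact hb'
      exact hdind ⟨a, haR⟩ ha'' ⟨b, hbR⟩ hb'' hab'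
    · have hbR : b ∉ R' := by
        intro hbR
        apply haR
        apply hsat; refine ⟨1, one_pos, ?_⟩
        rw [one_smul]
        have : P.root a = P.root d.1 - P.root b := by rw [hab']; abel
        rw [this]
        exact Submodule.sub_mem _ (Submodule.subset_span ⟨d.1, d.2, rfl⟩)
          (Submodule.subset_span ⟨b, hbR, rfl⟩)
      exfalso
      have h1 : f₁ (P.root a) + f₁ (P.root b) = 0 := by
        rw [← map_add, ← hab']; exact hf₁R d.1 d.2
      rcases hsign a haR with ⟨h2, _⟩ | ⟨_, h2⟩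
      · rcases hsign b hbR with ⟨h3, _⟩ | ⟨_, h3⟩
        · linarith
        · linarith
      · linarith

/-- a saturated `R'` is the set of roots in the span of any simple system of `R'` -/
theorem eq_inSpan_of_sat (R' : Set ι)
    (hsat : ∀ k : ι, (∃ n : ℕ, 0 < n ∧ n • P.root k ∈ Submodule.span ℤ (P.root '' R')) → k ∈ R')
    (h : ReflStable P R') (Δs : Set ↥R') (hΔs : IsSimpleSys (subP P R' h) Δs) :
    R' = inSpan P (Subtype.val '' Δs) := by
  have hle : natSpan P (Subtype.val '' Δs) ≤
      (Submodule.span ℤ (P.root '' (Subtype.val '' Δs))).toAddSubmonoid :=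
    AddSubmonoid.closure_le.mpr (fun x hx => Submodule.subset_span hx)
  ext k
  constructor
  · intro hk
    rw [mem_inSpan_iff]
    rcases hΔs.mem_or_neg_mem ⟨k, hk⟩ with h1 | h1
    · rw [natSpan_subP] at h1
      exact hle h1
    · rw [natSpan_subP] at h1
      have := hle h1
      exact (Submodule.neg_mem_iff _).mp this
  · intro hk
    apply hsat
    refine ⟨1, one_pos, ?_⟩
    rw [one_smul]
    exact Submodule.span_mono (Set.image_mono (Subtype.coe_image_subset R' Δs)) hk

/-- the roots in the span of a part of a simple system form a saturated set -/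
theorem sat_inSpan {Δ Δ' : Set ι} (hΔ : IsSimpleSys P Δ) (hsub : Δ' ⊆ Δ) (k : ι) (n : ℕ) (hn : 0 < n)
    (hmem : n • P.root k ∈ Submodule.span ℤ (P.root '' inSpan P Δ')) : k ∈ inSpan P Δ' := by
  classical
  have hle : Submodule.span ℤ (P.root '' inSpan P Δ') ≤ Submodule.span ℤ (P.root '' Δ') := by
    rw [Submodule.span_le]
    rintro _ ⟨l, hl, rfl⟩
    exact hl
  have h1 := hle hmem
  rw [Finsupp.mem_span_image_iff_linearCombination] at h1
  obtain ⟨c, hc, hce⟩ := h1
  rw [Finsupp.mem_supported] at hc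
  have hv := coeffVec_lc hΔ k
  have hvs := coeffVec_support hΔ k
  have hsum : Finsupp.linearCombination ℤ P.root ((n : ℤ) • coeffVec hΔ k) =
      Finsupp.linearCombination ℤ P.root c := by
    rw [map_smul, hv, hce, Nat.cast_smul_eq_nsmul]
  have hs1 : ↑((n : ℤ) • coeffVec hΔ k).support ⊆ Δ := fun e he =>
    hvs (Finsupp.support_smul (Finset.mem_coe.mp he))
  have heq := coeff_unique hΔ.linInd hs1 (hc.trans hsub) hsum
  rw [mem_inSpan_iff, Finsupp.mem_span_image_iff_linearCombination]
  refine ⟨coeffVec hΔ k, ?_, hv⟩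
  rw [Finsupp.mem_supported]
  intro e he
  apply hc
  have he' : coeffVec hΔ k e ≠ 0 := Finsupp.mem_support_iff.mp (Finset.mem_coe.mp he)
  have : c e = (n : ℤ) * coeffVec hΔ k e := by rw [← heq]; simp
  have hn' : (n : ℤ) ≠ 0 := by exact_mod_cast hn.ne'
  exact Finset.mem_coe.mpr (Finsupp.mem_support_iff.mpr (by rw [this]; exact mul_ne_zero hn' he'))

end sub

end Groth.Agent.Helper3.RD
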