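import Groth.Agent.Lib.helper3.RootD26

set_option autoImplicit false

namespace Groth.Agent.Helper3.RD
open RootD

section neg
variable {ι M N : Type*} [AddCommGroup M] [AddCommGroup N] (P : RootPairing ι ℤ M N) [Finite ι]

/-- the automorphism `-1` of a root pairing -/
def negAut : P.Aut where
  weightMap := -LinearMap.id
  coweightMap := -LinearMap.id
  indexEquiv := ⟨fun i => P.reflectionPerm i i, fun i => P.reflectionPerm i i,
    fun i => reflectionPerm_neg_neg P i, fun i => reflectionPerm_neg_neg P i⟩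
  weight_coweight_transpose := by
    ext n x
    simp
  root_weightMap := by
    funext i
    show -(P.root i) = P.root (P.reflectionPerm i i)
    rw [root_neg]
  coroot_coweightMap := by
    funext i
    show -(P.coroot i) = P.coroot (P.reflectionPerm i i)
    simp
  bijective_weightMap := by
    show Function.Bijective (fun x : M => -x)
    exact neg_involutive.bijective
  bijective_coweightMap := by
    show Function.Bijective (fun x : N => -x)
    exact neg_involutive.bijective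

theorem support_subset_of_forall {c : ι →₀ ℤ} {Δ : Set ι} (h : ∀ l, l ∉ Δ → c l = 0) :
    ↑c.support ⊆ Δ := by
  intro l hl
  by_contra hlΔ
  exact (Finsupp.mem_support_iff.mp (Finset.mem_coe.mp hl)) (h l hlΔ)

theorem sat_of_submodule (V : Submodule ℤ M) :
    ∀ k : ι, (∃ n : ℕ, 0 < n ∧ n • P.root k ∈
      Submodule.span ℤ (P.root '' {l | ∃ n : ℕ, 0 < n ∧ n • P.root l ∈ V})) →
      k ∈ {l | ∃ n : ℕ, 0 < n ∧ n • P.root l ∈ V} := by
  have key : ∀ x ∈ Submodule.span ℤ (P.root '' {l | ∃ n : ℕ, 0 < n ∧ n • P.root l ∈ V}),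
      ∃ m : ℕ, 0 < m ∧ m • x ∈ V := by
    intro x hx
    induction hx using Submodule.span_induction with
    | mem x hx => obtain ⟨l, ⟨n, hn, hl⟩, rfl⟩ := hx; exact ⟨n, hn, hl⟩
    | zero => exact ⟨1, one_pos, by simp⟩
    | add x y _ _ hx hy =>
      obtain ⟨m₁, h₁, hx⟩ := hx; obtain ⟨m₂, h₂, hy⟩ := hy
      refine ⟨m₁ * m₂, Nat.mul_pos h₁ h₂, ?_⟩
      rw [smul_add]
      refine V.add_mem ?_ ?_
      · rw [mul_comm, mul_smul]; exact nsmul_mem hx m₂
      · rw [mul_smul]; exact nsmul_mem hy m₁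
    | smul a x _ hx =>
      obtain ⟨m, hm, hx⟩ := hx
      refine ⟨m, hm, ?_⟩
      rw [smul_comm]
      exact V.smul_mem a hx
  rintro k ⟨n, hn, hmem⟩
  obtain ⟨m, hm, h⟩ := key _ hmem
  exact ⟨m * n, Nat.mul_pos hm hn, by rw [mul_smul]; exact h⟩

/-- S5461 as a library lemma -/
theorem extend_simpleSys (R' : Set ι)
    (hsat : ∀ k : ι, (∃ n : ℕ, 0 < n ∧ n • P.root k ∈ Submodule.span ℤ (P.root '' R')) → k ∈ R')
    (Δ' : Set ι) (hΔ'R : Δ' ⊆ R') (hli : LinearIndepOn ℤ P.root Δ')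
    (hgen : ∀ k ∈ R', P.root k ∈ natSpan P Δ' ∨ -P.root k ∈ natSpan P Δ') :
    ∃ Δ : Set ι, IsSimpleSys P Δ ∧ Δ' ⊆ Δ ∧ R' = inSpan P Δ' := by
  obtain ⟨Δ, Δs, hΔ, hΔs, hsub⟩ := exists_simpleSys_extending P R' hsat
  have hst := reflStable_of_sat P R' hsat
  have himg : Subtype.val '' (Subtype.val ⁻¹' Δ' : Set ↥R') = Δ' := by
    rw [Subtype.image_preimage_coe]; exact Set.inter_eq_right.mpr hΔ'R
  have hΔ's : IsSimpleSys (subP P R' hst) (Subtype.val ⁻¹' Δ' : Set ↥R') := by
    refine ⟨?_, ?_⟩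
    · have h1 : LinearIndepOn ℤ P.root (Subtype.val '' (Subtype.val ⁻¹' Δ' : Set ↥R')) := by
        rw [himg]; exact hli
      exact h1.comp_of_image Subtype.val_injective.injOn
    · intro k
      rw [natSpan_subP, himg]
      exact hgen k.1 k.2
  obtain ⟨w, hw, hwΔ⟩ := weylGroup_transitive_simpleSys (subP P R' hst) Δs _ hΔs hΔ's
  obtain ⟨g, hg, hgw⟩ := exists_lift P R' hst w hw
  refine ⟨(fun i => g • i) '' Δ, isSimpleSys_image P g hΔ, ?_, ?_⟩
  · intro d hd
    have hd' : (⟨d, hΔ'R hd⟩ : ↥R') ∈ (fun i => w • i) '' Δs := by rw [hwΔ]; exact hd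
    obtain ⟨e, he, hed⟩ := hd'
    refine ⟨e.1, hsub ⟨e, he, rfl⟩, ?_⟩
    show g • e.1 = d
    rw [hgw e]
    exact congrArg Subtype.val hed
  · have := eq_inSpan_of_sat P R' hsat hst _ hΔ's
    rwa [himg] at this

theorem rank_one_gen (i : ι) (hα : IsIndiv P i) (l : ι) (n : ℕ) (hn : 0 < n)
    (h : n • P.root l ∈ Submodule.span ℤ {P.root i}) :
    P.root l ∈ natSpan P {i} ∨ -P.root l ∈ natSpan P {i} := by
  obtain ⟨a, ha⟩ := Submodule.mem_span_singleton.mp h
  have hnli : ¬ LinearIndependent ℤ ![P.root i, P.root l] := by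
    rw [LinearIndependent.pair_iff]
    intro hh
    have := hh a (-(n : ℤ)) (by rw [ha, neg_smul, Nat.cast_smul_eq_nsmul]; exact add_neg_cancel _)
    omega
  have hi : P.root i ∈ natSpan P {i} := root_mem_natSpan P (Set.mem_singleton i)
  rcases dep_cases P hnli with h1 | h1 | h1 | h1 | h1 | h1
  · left; rw [h1]; exact hi
  · right; rw [h1, neg_neg]; exact hi
  · left; rw [h1, two_smul]; exact AddSubmonoid.add_mem _ hi hi
  · right; rw [h1, neg_smul, neg_neg, two_smul]; exact AddSubmonoid.add_mem _ hi hi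
  · exact absurd h1.symm (hα l)
  · exact absurd hα (not_indiv_of_eq_neg_two P h1)

end neg

end Groth.Agent.Helper3.RD
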