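import Groth.Agent.Lib.helper3.RootD27

set_option autoImplicit false

namespace Groth.Agent.Helper3.RD
open RootD

section rk2
variable {ι M N : Type*} [AddCommGroup M] [AddCommGroup N] (P : RootPairing ι ℤ M N) [Finite ι]

theorem exists_simpleSys_rank_two (i k : ι) (hα : IsIndiv P i)
    (hli : LinearIndependent ℤ ![P.root i, P.root k]) :
    ∃ Δ : Set ι, IsSimpleSys P Δ ∧ i ∈ Δ ∧
      ∃ j ∈ Δ, ∃ a b : ℕ, P.root k = a • P.root i + b • P.root j := by
  classical
  haveI := torsionFree_M P
  obtain ⟨R', hR'⟩ : ∃ R' : Set ι, R' = {l | ∃ n : ℕ, 0 < n ∧ n • P.root l ∈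
      Submodule.span ℤ {P.root i, P.root k}} := ⟨_, rfl⟩
  have hsat : ∀ l : ι, (∃ n : ℕ, 0 < n ∧ n • P.root l ∈ Submodule.span ℤ (P.root '' R')) → l ∈ R' := by
    rw [hR']; exact sat_of_submodule P _
  have hst := reflStable_of_sat P R' hsat
  have hiR : i ∈ R' := by
    rw [hR']; exact ⟨1, one_pos, by rw [one_smul]; exact Submodule.subset_span (by simp)⟩
  have hkR : k ∈ R' := by
    rw [hR']; exact ⟨1, one_pos, by rw [one_smul]; exact Submodule.subset_span (by simp)⟩
  -- level 2 inside the rank two system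
  obtain ⟨R₁, hR₁⟩ : ∃ R₁ : Set ↥R', R₁ = {l | ∃ n : ℕ, 0 < n ∧ n • (subP P R' hst).root l ∈
      Submodule.span ℤ {P.root i}} := ⟨_, rfl⟩
  have hsat₁ : ∀ l : ↥R', (∃ n : ℕ, 0 < n ∧ n • (subP P R' hst).root l ∈
      Submodule.span ℤ ((subP P R' hst).root '' R₁)) → l ∈ R₁ := by
    rw [hR₁]; exact sat_of_submodule (subP P R' hst) _
  have hi'R₁ : (⟨i, hiR⟩ : ↥R') ∈ R₁ := by
    rw [hR₁]
    exact ⟨1, one_pos, by rw [one_smul]; exact Submodule.subset_span (Set.mem_singleton _)⟩
  obtain ⟨Δ₁, hΔ₁, hiΔ₁, -⟩ := extend_simpleSys (subP P R' hst) R₁ hsat₁ {⟨i, hiR⟩}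
    (Set.singleton_subset_iff.mpr hi'R₁)
    ((linearIndepOn_singleton_iff ℤ).mpr (P.ne_zero i))
    (by
      intro l hl
      rw [hR₁] at hl
      obtain ⟨n, hn, hl⟩ := hl
      have := rank_one_gen P i hα l.1 n hn hl
      rw [natSpan_subP, Set.image_singleton]
      exact this)
  have hΔ'R : Subtype.val '' Δ₁ ⊆ R' := Subtype.coe_image_subset R' Δ₁
  obtain ⟨Δ, hΔ, hΔ'Δ, hRin⟩ := extend_simpleSys P R' hsat (Subtype.val '' Δ₁) hΔ'R
    (LinearIndepOn.image_of_comp Subtype.val P.root hΔ₁.linInd)
    (by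
      intro l hl
      have := hΔ₁.mem_or_neg_mem ⟨l, hl⟩
      rw [natSpan_subP] at this
      exact this)
  have hiΔ' : i ∈ Subtype.val '' Δ₁ := ⟨⟨i, hiR⟩, hiΔ₁ (Set.mem_singleton _), rfl⟩
  have hiΔ : i ∈ Δ := hΔ'Δ hiΔ'
  -- every element of Δ' has a multiple in the span of α_i, α_k
  have hrep : ∀ e ∈ Subtype.val '' Δ₁, ∃ (n : ℕ) (x y : ℤ), 0 < n ∧
      x • P.root i + y • P.root k = n • P.root e := by
    intro e he
    have := hΔ'R he
    rw [hR'] at this
    obtain ⟨n, hn, hmem⟩ := this
    obtain ⟨x, y, hxy⟩ := Submodule.mem_span_pair.mp hmem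
    exact ⟨n, x, y, hn, hxy⟩
  have hG : ∀ e ∈ Subtype.val '' Δ₁, ∀ j ∈ Subtype.val '' Δ₁, e ≠ i → j ≠ i → e ≠ j → False := by
    intro e he j hj hei hji hej
    obtain ⟨ne, xe, ye, hne, hee⟩ := hrep e he
    obtain ⟨nj, xj, yj, hnj, hjj⟩ := hrep j hj
    have heΔ := hΔ'Δ he
    have hjΔ := hΔ'Δ hj
    have h1 : (ne : ℤ) • P.root e = xe • P.root i + ye • P.root k := by
      rw [Nat.cast_smul_eq_nsmul]; exact hee.symm
    have h2 : (nj : ℤ) • P.root j = xj • P.root i + yj • P.root k := by
      rw [Nat.cast_smul_eq_nsmul]; exact hjj.symm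
    have hrel : Finsupp.linearCombination ℤ P.root (Finsupp.single e (yj * ne) -
        Finsupp.single j (ye * nj) - Finsupp.single i (xe * yj - xj * ye)) =
        Finsupp.linearCombination ℤ P.root (0 : ι →₀ ℤ) := by
      rw [map_sub, map_sub, Finsupp.linearCombination_single, Finsupp.linearCombination_single,
        Finsupp.linearCombination_single, map_zero, mul_smul, mul_smul, h1, h2]
      module
    have hsupp : ↑(Finsupp.single e (yj * ne) -
        Finsupp.single j (ye * nj) - Finsupp.single i (xe * yj - xj * ye)).support ⊆ Δ := by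
      apply support_subset_of_forall
      intro l hl
      have e1 : e ≠ l := fun h => hl (h ▸ heΔ)
      have e2 : j ≠ l := fun h => hl (h ▸ hjΔ)
      have e3 : i ≠ l := fun h => hl (h ▸ hiΔ)
      simp [Finsupp.single_apply, e1, e2, e3]
    have hz := coeff_unique hΔ.linInd hsupp (by simp) hrel
    have he0 : yj * (ne : ℤ) = 0 := by
      have := DFunLike.congr_fun hz e
      simpa [Finsupp.single_apply, hej.symm, hei.symm] using this
    have hj0 : ye * (nj : ℤ) = 0 := by
      have := DFunLike.congr_fun hz j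
      simpa [Finsupp.single_apply, hej, hji.symm] using this
    have hne' : (ne : ℤ) ≠ 0 := by exact_mod_cast hne.ne'
    have hnj' : (nj : ℤ) ≠ 0 := by exact_mod_cast hnj.ne'
    have hyj : yj = 0 := (mul_eq_zero.mp he0).resolve_right hne'
    have hrel2 : Finsupp.linearCombination ℤ P.root (Finsupp.single j (nj : ℤ) - Finsupp.single i xj) =
        Finsupp.linearCombination ℤ P.root (0 : ι →₀ ℤ) := by
      rw [map_sub, Finsupp.linearCombination_single, Finsupp.linearCombination_single, map_zero, h2,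
        hyj, zero_smul, add_zero, sub_self]
    have hsupp2 : ↑(Finsupp.single j (nj : ℤ) - Finsupp.single i xj).support ⊆ Δ := by
      apply support_subset_of_forall
      intro l hl
      have e2 : j ≠ l := fun h => hl (h ▸ hjΔ)
      have e3 : i ≠ l := fun h => hl (h ▸ hiΔ)
      simp [Finsupp.single_apply, e2, e3]
    have hz2 := coeff_unique hΔ.linInd hsupp2 (by simp) hrel2
    have : (nj : ℤ) = 0 := by
      have := DFunLike.congr_fun hz2 j
      simpa [Finsupp.single_apply, hji.symm] using this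
    exact hnj' this
  -- the coefficient vector of k
  have hkspan : P.root k ∈ Submodule.span ℤ (P.root '' (Subtype.val '' Δ₁)) := by
    have : k ∈ inSpan P (Subtype.val '' Δ₁) := hRin ▸ hkR
    exact this
  rw [Finsupp.mem_span_image_iff_linearCombination] at hkspan
  obtain ⟨v, hvs, hvk⟩ := hkspan
  rw [Finsupp.mem_supported] at hvs
  have hexj : ∃ j, j ≠ i ∧ v j ≠ 0 := by
    by_contra hcon
    push_neg at hcon
    have hv1 : ∃ a : ℤ, v = Finsupp.single i a := by
      refine ⟨v i, ?_⟩
      ext l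
      by_cases hl : l = i
      · rw [hl]; simp
      · rw [Finsupp.single_apply, if_neg (Ne.symm hl)]; exact hcon l hl
    obtain ⟨a, rfl⟩ := hv1
    rw [Finsupp.linearCombination_single] at hvk
    rw [LinearIndependent.pair_iff] at hli
    have := hli a (-1) (by rw [hvk, neg_smul, one_smul]; exact add_neg_cancel _)
    omega
  obtain ⟨j, hji, hvj⟩ := hexj
  have hjΔ' : j ∈ Subtype.val '' Δ₁ := hvs (Finset.mem_coe.mpr (Finsupp.mem_support_iff.mpr hvj))
  have hjΔ : j ∈ Δ := hΔ'Δ hjΔ'
  have hv2 : ∃ a b : ℤ, v = Finsupp.single i a + Finsupp.single j b := by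
    refine ⟨v i, v j, ?_⟩
    ext l
    by_cases hl : l = i
    · rw [hl]; simp [Finsupp.single_apply, hji]
    · by_cases hl2 : l = j
      · rw [hl2]; simp [Finsupp.single_apply, hji.symm]
      · have : v l = 0 := by
          by_contra hvl
          have hlΔ' : l ∈ Subtype.val '' Δ₁ :=
            hvs (Finset.mem_coe.mpr (Finsupp.mem_support_iff.mpr hvl))
          exact hG l hlΔ' j hjΔ' hl hji hl2
        rw [this]; simp [Finsupp.single_apply, Ne.symm hl, Ne.symm hl2]
  obtain ⟨a, b, rfl⟩ := hv2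
  have hk2 : P.root k = a • P.root i + b • P.root j := by
    rw [map_add, Finsupp.linearCombination_single, Finsupp.linearCombination_single] at hvk
    exact hvk.symm
  have hsuppΔ : ↑(Finsupp.single i a + Finsupp.single j b).support ⊆ Δ := hvs.trans hΔ'Δ
  have hcv : Finsupp.single i a + Finsupp.single j b = coeffVec hΔ k := coeffVec_unique hΔ k hsuppΔ hvk
  by_cases hkpos : k ∈ posOf P Δ
  · have hnn := (mem_posOf_iff_coeffVec hΔ k).mp hkpos
    rw [← hcv] at hnn
    have ha0 : 0 ≤ a := by have := hnn i; simpa [Finsupp.single_apply, hji] using this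
    have hb0 : 0 ≤ b := by have := hnn j; simpa [Finsupp.single_apply, hji.symm] using this
    refine ⟨Δ, hΔ, hiΔ, j, hjΔ, a.toNat, b.toNat, ?_⟩
    rw [hk2, ← Nat.cast_smul_eq_nsmul ℤ, ← Nat.cast_smul_eq_nsmul ℤ, Int.toNat_of_nonneg ha0,
      Int.toNat_of_nonneg hb0]
  · have hnk : P.reflectionPerm k k ∈ posOf P Δ := by
      rcases hΔ.mem_or_neg_mem k with h | h
      · exact absurd h hkpos
      · rw [posOf, Set.mem_setOf_eq, root_neg]; exact h
    have hnn := (mem_posOf_iff_coeffVec hΔ _).mp hnk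
    rw [coeffVec_neg, ← hcv] at hnn
    have ha0 : a ≤ 0 := by have := hnn i; simpa [Finsupp.single_apply, hji] using this
    have hb0 : b ≤ 0 := by have := hnn j; simpa [Finsupp.single_apply, hji.symm] using this
    have hli' : LinearIndependent ℤ ![P.root (P.reflectionPerm k k), P.root i] := by
      rw [LinearIndependent.pair_iff] at hli ⊢
      intro s t hst
      rw [root_neg, smul_neg] at hst
      have := hli t (-s) (by rw [neg_smul, add_comm]; exact hst)
      omega
    have hrefl := reflectionPerm_mem_posOf hΔ (P.reflectionPerm k k) i hnk hiΔ hli'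
    have hp1 : P.pairing (P.reflectionPerm k k) i = - P.pairing k i := by
      show P.toLinearMap (P.root (P.reflectionPerm k k)) (P.coroot i) =
        - P.toLinearMap (P.root k) (P.coroot i)
      rw [root_neg, map_neg, LinearMap.neg_apply]
    have hp2 : P.pairing k i = 2 * a + b * P.pairing j i := by
      show P.toLinearMap (P.root k) (P.coroot i) = 2 * a + b * P.toLinearMap (P.root j) (P.coroot i)
      rw [hk2, map_add, map_smul, map_smul, LinearMap.add_apply, LinearMap.smul_apply,
        LinearMap.smul_apply, P.root_coroot_two, smul_eq_mul, smul_eq_mul]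
      ring
    have hc := coeffVec_reflection hΔ hiΔ (P.reflectionPerm k k)
    rw [coeffVec_neg, ← hcv] at hc
    have h0 := (mem_posOf_iff_coeffVec hΔ _).mp hrefl i
    rw [hc] at h0
    simp only [Finsupp.sub_apply, Finsupp.neg_apply, Finsupp.add_apply, Finsupp.single_apply,
      if_neg hji] at h0
    simp only [if_true] at h0
    have h1 : 0 ≤ a + b * P.pairing j i := by linarith
    have h2 : 0 ≤ -b := by linarith
    have hj₂ : P.root ((negAut P * RootPairing.Equiv.reflection P i) • j) =
        -P.root j + P.pairing j i • P.root i := by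
      show P.root (P.reflectionPerm (P.reflectionPerm i j) (P.reflectionPerm i j)) = _
      rw [root_neg, ← P.reflectionPerm_root i j, neg_sub, sub_eq_add_neg, add_comm]
      rfl
    refine ⟨(fun d => (negAut P * RootPairing.Equiv.reflection P i) • d) '' Δ,
      isSimpleSys_image P _ hΔ, ⟨i, hiΔ, ?_⟩, _, ⟨j, hjΔ, rfl⟩,
      (a + b * P.pairing j i).toNat, (-b).toNat, ?_⟩
    · show P.reflectionPerm (P.reflectionPerm i i) (P.reflectionPerm i i) = i
      exact reflectionPerm_neg_neg P i
    · rw [hj₂, hk2, ← Nat.cast_smul_eq_nsmul ℤ, ← Nat.cast_smul_eq_nsmul ℤ, Int.toNat_of_nonneg h1,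
        Int.toNat_of_nonneg h2]
      module

end rk2

end Groth.Agent.Helper3.RD
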