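import Groth.Agent.Lib.helper3.RootD28

set_option autoImplicit false

namespace Groth.Agent.Helper3.RD
open RootD

section rc
variable {ι M N : Type*} [AddCommGroup M] [AddCommGroup N] (P : RootPairing ι ℤ M N) [Finite ι]
  {Δ : Set ι}

omit [Finite ι] in
theorem zero_of_mem_neg_mem (hli : LinearIndepOn ℤ P.root Δ) {x : M} (hx : x ∈ natSpan P Δ)
    (hnx : -x ∈ natSpan P Δ) : x = 0 := by
  classical
  obtain ⟨c, hc, hc0, hcx⟩ := (mem_natSpan_iff_finsupp P Δ x).mp hx
  obtain ⟨c', hc', hc0', hcx'⟩ := (mem_natSpan_iff_finsupp P Δ (-x)).mp hnx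
  have := coeff_zero_of_pos_neg hli hc hc' hc0 hc0' (by rw [hcx, hcx', neg_neg])
  rw [← hcx, this, map_zero]

/-- reflection characterization, hard direction -/
theorem simple_of_reflection_stable (hΔ : IsSimpleSys P Δ) (d : ι) (hd : d ∈ posOf P Δ)
    (h : ∀ k ∈ posOf P Δ, LinearIndependent ℤ ![P.root k, P.root d] →
      P.reflectionPerm d k ∈ posOf P Δ) :
    ∃ e ∈ Δ, d = e ∨ P.root d = (2 : ℤ) • P.root e := by
  obtain ⟨l, hl, hsum⟩ := (mem_natSpan_iff_multiset P Δ (P.root d)).mp hd
  obtain ⟨e, hel, hpos⟩ := exists_pos_pairing P l d 1 one_pos (by rw [one_smul]; exact hsum.symm)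
  have heΔ : e ∈ Δ := hl e hel
  refine ⟨e, heΔ, ?_⟩
  by_cases hli : LinearIndependent ℤ ![P.root e, P.root d]
  · exfalso
    have hr := h e (subset_posOf heΔ) hli
    have hx : P.root (P.reflectionPerm d e) = P.root e - P.pairing e d • P.root d :=
      (P.reflectionPerm_root d e).symm
    obtain ⟨l', rfl⟩ := Multiset.exists_cons_of_mem hel
    have hneg : -P.root (P.reflectionPerm d e) ∈ natSpan P Δ := by
      rw [hx, ← hsum, Multiset.map_cons, Multiset.sum_cons]
      obtain ⟨m, hm⟩ : ∃ m : ℕ, P.pairing e d = (m : ℤ) + 1 :=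
        ⟨(P.pairing e d - 1).toNat, by omega⟩
      rw [hm]
      have : -(P.root e - ((m : ℤ) + 1) • (P.root e + (l'.map P.root).sum)) =
          m • P.root e + (m + 1) • (l'.map P.root).sum := by
        rw [← Nat.cast_smul_eq_nsmul ℤ m, ← Nat.cast_smul_eq_nsmul ℤ (m + 1)]
        push_cast
        module
      rw [this]
      refine AddSubmonoid.add_mem _ (AddSubmonoid.nsmul_mem _ (root_mem_natSpan P heΔ) m)
        (AddSubmonoid.nsmul_mem _ ?_ (m + 1))
      exact (mem_natSpan_iff_multiset P Δ _).mpr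
        ⟨l', fun a ha => hl a (Multiset.mem_cons_of_mem ha), rfl⟩
    have hz : P.root (P.reflectionPerm d e) = 0 := zero_of_mem_neg_mem P hΔ.linInd hr hneg
    exact P.ne_zero _ hz
  · rcases pos_dep_simple P hΔ hd heΔ hli with h1 | h1
    · exact Or.inl h1
    · exact Or.inr h1

/-- reflection characterization, easy direction -/
theorem reflection_stable_of_simple (hΔ : IsSimpleSys P Δ) (d e : ι) (he : e ∈ Δ)
    (hde : d = e ∨ P.root d = (2 : ℤ) • P.root e)
    (k : ι) (hk : k ∈ posOf P Δ) (hli : LinearIndependent ℤ ![P.root k, P.root d]) :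
    P.reflectionPerm d k ∈ posOf P Δ := by
  rcases hde with h1 | h2
  · rw [h1] at hli ⊢
    exact reflectionPerm_mem_posOf hΔ k e hk he hli
  · have hnli : ¬ LinearIndependent ℤ ![P.root e, P.root d] := not_li_of_two_smul P h2.symm
    have heq : RootPairing.Equiv.reflection P e = RootPairing.Equiv.reflection P d :=
      equivReflection_eq_of_not_li P hnli
    have hperm : P.reflectionPerm d k = P.reflectionPerm e k := by
      have := congrArg (fun g : P.Aut => g • k) heq
      exact this.symm
    rw [hperm]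
    refine reflectionPerm_mem_posOf hΔ k e hk he ?_
    rw [LinearIndependent.pair_iff] at hli ⊢
    intro s t hst
    have := hli (2 * s) t (by rw [h2, mul_smul, smul_comm t, ← smul_add, hst, smul_zero])
    omega

theorem li_flip_iff (i j : ι) :
    LinearIndependent ℤ ![P.coroot i, P.coroot j] ↔ LinearIndependent ℤ ![P.root i, P.root j] := by
  constructor
  · intro h; by_contra hn; exact (not_li_flip P hn) h
  · intro h; by_contra hn; exact (not_li_flip P.flip hn) h

theorem coroot_of_root_eq_two_smul {d e : ι} (h : P.root d = (2 : ℤ) • P.root e) :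
    (2 : ℤ) • P.coroot d = P.coroot e := by
  have hnli : ¬ LinearIndependent ℤ ![P.root e, P.root d] := not_li_of_two_smul P h.symm
  have h1 := smul_coroot_of_not_li P hnli
  have h2 : P.pairing e d * P.pairing d e = 4 := (not_li_iff P e d).mp hnli
  have h3 : P.pairing d e = 4 := by
    show P.toLinearMap (P.root d) (P.coroot e) = 4
    rw [h, map_smul, LinearMap.smul_apply, P.root_coroot_two]; norm_num
  rw [h3] at h2
  have h4 : P.pairing e d = 1 := by omega
  rw [h4, one_smul] at h1
  exact h1.symm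

theorem root_eq_two_smul_of_coroot {d i : ι} (h : (2 : ℤ) • P.coroot d = P.coroot i) :
    P.root d = (2 : ℤ) • P.root i := by
  have := coroot_of_root_eq_two_smul P.flip (d := i) (e := d) h.symm
  exact this.symm

theorem no_four_smul [Fintype ι] (e i : ι) (h : P.coroot i = (4 : ℤ) • P.coroot e) : False := by
  have h1 : P.pairing e i = 8 := by
    show P.toLinearMap (P.root e) (P.coroot i) = 8
    rw [h, map_smul, P.root_coroot_two]; norm_num
  have h2 := pairing_pair_mem P e i
  rw [h1] at h2
  simp only [Set.mem_insert_iff, Prod.mk.injEq, Set.mem_singleton_iff] at h2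
  omega

theorem isPosSys_flip_posOf [Fintype ι] (hΔ : IsSimpleSys P Δ) : IsPosSys P.flip (posOf P Δ) := by
  have hS : IsPosSys P (posOf P Δ) := posOf_isPosSys hΔ
  rw [isPosSys_iff_closed]
  refine ⟨fun i hi => hS.disjoint hi, fun i => hS.cover i, ?_⟩
  intro i j k hi hj hk
  have h := rootForm_smul_coroot_add P.flip hk
  have hk0 := rootForm_self_pos P.flip k
  have hi0 := rootForm_self_pos P.flip i
  have hj0 := rootForm_self_pos P.flip j
  generalize P.flip.RootForm (P.flip.root k) (P.flip.root k) = ck at h hk0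
  generalize P.flip.RootForm (P.flip.root i) (P.flip.root i) = ci at h hi0
  generalize P.flip.RootForm (P.flip.root j) (P.flip.root j) = cj at h hj0
  apply hS.sat ck.toNat (by omega)
  have e1 : ck.toNat • P.root k = ck • P.root k := by
    rw [← Nat.cast_smul_eq_nsmul ℤ, Int.toNat_of_nonneg hk0.le]
  rw [e1]
  have h' : ck • P.root k = ci • P.root i + cj • P.root j := h
  rw [h']
  refine AddSubmonoid.add_mem _ ?_ ?_
  · have : ci • P.root i = ci.toNat • P.root i := by
      rw [← Nat.cast_smul_eq_nsmul ℤ, Int.toNat_of_nonneg hi0.le]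
    rw [this]; exact AddSubmonoid.nsmul_mem _ (root_mem_natSpan P hi) _
  · have : cj • P.root j = cj.toNat • P.root j := by
      rw [← Nat.cast_smul_eq_nsmul ℤ, Int.toNat_of_nonneg hj0.le]
    rw [this]; exact AddSubmonoid.nsmul_mem _ (root_mem_natSpan P hj) _

theorem isSimpleSys_flip_indivCoroots (hΔ : IsSimpleSys P Δ) :
    IsSimpleSys P.flip {j : ι | ∃ i ∈ Δ, (j = i ∧ IsIndiv P.flip i) ∨
      (2 : ℤ) • P.coroot j = P.coroot i} := by
  classical
  cases nonempty_fintype ι
  have hSf := isPosSys_flip_posOf P hΔ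
  obtain ⟨D₀, ⟨hD₀, hD₀S⟩, -⟩ := existsUnique_simpleSys_subset_posSys P.flip (posOf P Δ) hSf
  have hSeq : posOf P Δ = posOf P.flip D₀ := (subset_iff_eq_posOf hD₀ _ hSf).mp hD₀S
  have hAA' : ∀ d, (∀ k ∈ posOf P Δ, LinearIndependent ℤ ![P.root k, P.root d] →
        P.reflectionPerm d k ∈ posOf P Δ) ↔
      (∀ k ∈ posOf P.flip D₀, LinearIndependent ℤ ![P.flip.root k, P.flip.root d] →
        P.flip.reflectionPerm d k ∈ posOf P.flip D₀) := by
    intro d
    rw [← hSeq]
    constructor
    · intro h k hk hli; exact h k hk ((li_flip_iff P k d).mp hli)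
    · intro h k hk hli; exact h k hk ((li_flip_iff P k d).mpr hli)
  suffices hD : {j : ι | ∃ i ∈ Δ, (j = i ∧ IsIndiv P.flip i) ∨
      (2 : ℤ) • P.coroot j = P.coroot i} = D₀ by
    rw [hD]; exact hD₀
  ext d
  constructor
  · rintro ⟨i, hi, hcase⟩
    rcases hcase with ⟨hdi, hind⟩ | h2
    · rw [hdi]
      have hA : ∀ k ∈ posOf P Δ, LinearIndependent ℤ ![P.root k, P.root i] →
          P.reflectionPerm i k ∈ posOf P Δ :=
        fun k hk hli => reflection_stable_of_simple P hΔ i i hi (Or.inl rfl) k hk hli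
      have hA' := (hAA' i).mp hA
      have hdS : i ∈ posOf P.flip D₀ := by rw [← hSeq]; exact subset_posOf hi
      obtain ⟨e, he, h1 | h1⟩ := simple_of_reflection_stable P.flip hD₀ i hdS hA'
      · rw [h1]; exact he
      · exact absurd h1.symm (hind e)
    · have hr : P.root d = (2 : ℤ) • P.root i := root_eq_two_smul_of_coroot P h2
      have hA : ∀ k ∈ posOf P Δ, LinearIndependent ℤ ![P.root k, P.root d] →
          P.reflectionPerm d k ∈ posOf P Δ :=
        fun k hk hli => reflection_stable_of_simple P hΔ d i hi (Or.inr hr) k hk hli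
      have hA' := (hAA' d).mp hA
      have hdS : d ∈ posOf P.flip D₀ := by
        rw [← hSeq]
        show P.root d ∈ natSpan P Δ
        rw [hr, two_smul]
        exact AddSubmonoid.add_mem _ (root_mem_natSpan P hi) (root_mem_natSpan P hi)
      obtain ⟨e, he, h1 | h1⟩ := simple_of_reflection_stable P.flip hD₀ d hdS hA'
      · rw [h1]; exact he
      · exfalso
        refine no_four_smul P e i ?_
        rw [← h2, show P.coroot d = (2 : ℤ) • P.coroot e from h1, smul_smul]
        norm_num
  · intro hd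
    have hind : IsIndiv P.flip d := isIndiv_of_mem_simpleSys hD₀ d hd
    have hA' : ∀ k ∈ posOf P.flip D₀, LinearIndependent ℤ ![P.flip.root k, P.flip.root d] →
        P.flip.reflectionPerm d k ∈ posOf P.flip D₀ :=
      fun k hk hli => reflection_stable_of_simple P.flip hD₀ d d hd (Or.inl rfl) k hk hli
    have hA := (hAA' d).mpr hA'
    have hdS : d ∈ posOf P Δ := by rw [hSeq]; exact subset_posOf hd
    obtain ⟨e, he, h1 | h1⟩ := simple_of_reflection_stable P hΔ d hdS hA
    · exact ⟨e, he, Or.inl ⟨h1, h1 ▸ hind⟩⟩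
    · exact ⟨e, he, Or.inr (coroot_of_root_eq_two_smul P h1)⟩

end rc

end Groth.Agent.Helper3.RD
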