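import Groth.Agent.Lib.helper3.RootD2

set_option autoImplicit false

namespace Groth.Agent.Helper3.RD
open RootD

variable {ι M N : Type*} [AddCommGroup M] [AddCommGroup N] (P : RootPairing ι ℤ M N)

theorem hom_pairing {ι₂ M₂ N₂ : Type*} [AddCommGroup M₂] [AddCommGroup N₂] (Q : RootPairing ι₂ ℤ M₂ N₂)
    (f : RootPairing.Hom P Q) (m : M) (n : N₂) :
    Q.toLinearMap (f.weightMap m) n = P.toLinearMap m (f.coweightMap n) := by
  have := LinearMap.congr_fun (RootPairing.Hom.weight_coweight_transpose_apply P Q n f) m
  simpa using this

theorem aut_smul_root (u : P.Aut) (i : ι) : P.root (u • i) = u • P.root i :=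
  RootPairing.Equiv.root_indexEquiv_eq_smul (P := P) i u

theorem aut_coweight_coroot (u : P.Aut) (i : ι) : u.toHom.coweightMap (P.coroot (u • i)) = P.coroot i := by
  have := RootPairing.Hom.coroot_coweightMap_apply P P (u • i) u.toHom
  rw [this]
  congr 1
  exact u.toHom.indexEquiv.symm_apply_apply i

theorem aut_pairing (u : P.Aut) (x : M) (i : ι) :
    P.toLinearMap (u • x) (P.coroot (u • i)) = P.toLinearMap x (P.coroot i) := by
  change P.toLinearMap (u.toHom.weightMap x) _ = _
  rw [hom_pairing, aut_coweight_coroot]

theorem aut_smul_reflection (u : P.Aut) (i : ι) (x : M) :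
    u • (P.reflection i x) = P.reflection (u • i) (u • x) := by
  have h : (P.coroot' (u • i)) (u • x) = (P.coroot' i) x := aut_pairing P u x i
  rw [P.reflection_apply, P.reflection_apply, h, smul_sub, aut_smul_root, smul_comm]

theorem aut_conj_reflection (u : P.Aut) (i : ι) :
    u * RootPairing.Equiv.reflection P i * u⁻¹ = RootPairing.Equiv.reflection P (u • i) := by
  apply RootPairing.Equiv.weightHom_injective P
  ext x
  change u • (RootPairing.Equiv.reflection P i • (u⁻¹ • x)) = RootPairing.Equiv.reflection P (u • i) • x
  rw [RootPairing.Equiv.reflection_smul, RootPairing.Equiv.reflection_smul, aut_smul_reflection,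
    smul_inv_smul]

end Groth.Agent.Helper3.RD

namespace Groth.Agent.Helper3.RD
open RootD

variable {ι M N : Type*} [AddCommGroup M] [AddCommGroup N] (P : RootPairing ι ℤ M N)

include P in
theorem torsionFree_M : Module.IsTorsionFree ℤ M := by
  have : Module.IsReflexive ℤ M := .of_isPerfPair P.toLinearMap
  infer_instance

include P in
theorem torsionFree_N : Module.IsTorsionFree ℤ N := by
  have : Module.IsReflexive ℤ N := .of_isPerfPair P.flip.toLinearMap
  infer_instance

include P in
theorem smul_cancel_M {c : ℤ} (hc : c ≠ 0) {x y : M} (h : c • x = c • y) : x = y := by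
  have := torsionFree_M P
  exact smul_right_injective M hc h

variable [Finite ι]

theorem not_li_iff (i j : ι) :
    ¬ LinearIndependent ℤ ![P.root i, P.root j] ↔ P.pairing i j * P.pairing j i = 4 := by
  have := torsionFree_M P
  rw [← P.coxeterWeight_eq_four_iff_not_linearIndependent]
  rfl

theorem not_li_flip {i j : ι} (h : ¬ LinearIndependent ℤ ![P.root i, P.root j]) :
    ¬ LinearIndependent ℤ ![P.coroot i, P.coroot j] := by
  have h1 := (not_li_iff P i j).mp h
  have h2 := (not_li_iff P.flip i j).mpr (by simpa [mul_comm] using h1)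
  exact h2

theorem smul_root_of_not_li {i j : ι} (h : ¬ LinearIndependent ℤ ![P.root i, P.root j]) :
    P.pairing j i • P.root i = (2 : ℤ) • P.root j := by
  have := torsionFree_M P
  exact P.pairing_smul_root_eq_of_not_linearIndependent h

theorem smul_coroot_of_not_li {i j : ι} (h : ¬ LinearIndependent ℤ ![P.root i, P.root j]) :
    P.pairing i j • P.coroot i = (2 : ℤ) • P.coroot j := by
  have := smul_root_of_not_li P.flip (not_li_flip P h)
  simpa using this

theorem reflection_eq_of_not_li {i j : ι} (h : ¬ LinearIndependent ℤ ![P.root i, P.root j]) :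
    P.reflection i = P.reflection j := by
  ext x
  rw [P.reflection_apply, P.reflection_apply]
  congr 1
  apply smul_cancel_M P (c := 4) (by norm_num)
  have h1 := smul_root_of_not_li P h
  have h2 := smul_coroot_of_not_li P h
  have h3 := (not_li_iff P i j).mp h
  have e1 : (4 : ℤ) • (P.coroot' j) x • P.root j = (P.toLinearMap x ((2 : ℤ) • P.coroot j)) • ((2 : ℤ) • P.root j) := by
    simp only [map_smul, smul_smul, smul_eq_mul]
    congr 1
    change _ = 2 * P.toLinearMap x (P.coroot j) * 2
    change 4 * P.toLinearMap x (P.coroot j) = _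
    ring
  rw [e1, ← h1, ← h2]
  simp only [map_smul, smul_smul, smul_eq_mul]
  congr 1
  change 4 * P.toLinearMap x (P.coroot i) = P.pairing i j * P.toLinearMap x (P.coroot i) * P.pairing j i
  rw [← h3]; ring

theorem isOrthogonal_of_commute (i j : ι) (hne : P.reflection i ≠ P.reflection j)
    (hc : Commute (P.reflection i) (P.reflection j)) : P.IsOrthogonal i j := by
  rw [isOrthogonal_iff]
  by_contra hp
  apply hne
  apply reflection_eq_of_not_li
  have h1 := congrArg (fun f => f (P.root i)) hc.eq
  simp only [LinearEquiv.mul_apply, P.reflection_apply_self, P.reflection_apply_root, map_sub, map_smul,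
    map_neg] at h1
  have h2 : P.pairing i j • (P.pairing j i • P.root i - (2 : ℤ) • P.root j) = 0 := by
    rw [smul_sub]
    linear_combination (norm := module) h1
  have := torsionFree_M P
  rw [smul_eq_zero] at h2
  rcases h2 with h2 | h2
  · exact absurd h2 hp
  · intro hli
    rw [LinearIndependent.pair_iff] at hli
    have := hli (P.pairing j i) (-2) (by rw [neg_smul, ← sub_eq_add_neg]; exact h2)
    norm_num at this

end Groth.Agent.Helper3.RD
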