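import Groth.Agent.Lib.helper3.RootD29

set_option autoImplicit false

namespace Groth.Agent.Helper3.RD
open RootD

section s5502
variable {ι M N : Type*} [AddCommGroup M] [AddCommGroup N] (P : RootPairing ι ℤ M N) [Finite ι]
  {Δ : Set ι}

/-- the coroots of a simple system of roots are linearly independent -/
theorem linearIndepOn_coroot_of_simple [Fintype ι] (hΔ : IsSimpleSys P Δ) :
    LinearIndepOn ℤ P.flip.root Δ := by
  classical
  apply linearIndepOn_of_pairing_le_zero P.flip Δ
  · intro d hd e he hde
    exact pairing_le_zero_of_simple hΔ d e hd he hde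
  · intro c hc hc0 hlc
    by_contra hne
    obtain ⟨e₀, he₀⟩ : ∃ e₀, c e₀ ≠ 0 := by
      by_contra h; push_neg at h; exact hne (Finsupp.ext h)
    have he₀Δ : e₀ ∈ Δ := hc (Finset.mem_coe.mpr (Finsupp.mem_support_iff.mpr he₀))
    have hpos1 : 1 ≤ c e₀ := by have := hc0 e₀; omega
    have hmem : -P.coroot e₀ ∈ natSpan P.flip Δ := by
      rw [mem_natSpan_iff_finsupp]
      refine ⟨c - Finsupp.single e₀ 1, ?_, ?_, ?_⟩
      · apply support_subset_of_forall
        intro l hl
        have : c l = 0 := by
          by_contra h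
          exact hl (hc (Finset.mem_coe.mpr (Finsupp.mem_support_iff.mpr h)))
        have hne' : e₀ ≠ l := fun h => hl (h ▸ he₀Δ)
        simp [Finsupp.single_apply, this, hne']
      · intro j
        by_cases hj : j = e₀
        · rw [hj]; simp; exact hpos1
        · simp [Finsupp.single_apply, Ne.symm hj, hc0 j]
      · rw [map_sub, hlc, Finsupp.linearCombination_single, one_smul, zero_sub]; rfl
    have hS := isPosSys_flip_posOf P hΔ
    have h1 : P.reflectionPerm e₀ e₀ ∈ posOf P Δ := by
      apply hS.sat 1 one_pos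
      rw [one_smul]
      have : P.flip.root (P.reflectionPerm e₀ e₀) = -P.coroot e₀ := by
        show P.coroot (P.reflectionPerm e₀ e₀) = -P.coroot e₀
        simp
      rw [this]
      exact natSpan_mono P.flip subset_posOf hmem
    exact (posOf_isPosSys hΔ).disjoint (subset_posOf he₀Δ) h1

/-- twice any coroot is an integer combination of the coroots of `Δ`, with even coefficient at a
simple root whose coroot is indivisible -/
theorem two_smul_coroot_mem (hΔ : IsSimpleSys P Δ) (i : ι) (k : ι) :
    ∃ m : ι →₀ ℤ, ↑m.support ⊆ Δ ∧ (IsIndiv P.flip i → (2 : ℤ) ∣ m i) ∧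
      Finsupp.linearCombination ℤ P.coroot m = (2 : ℤ) • P.coroot k := by
  classical
  have hD := isSimpleSys_flip_indivCoroots P hΔ
  have key : ∀ x ∈ natSpan P.flip {j : ι | ∃ i ∈ Δ, (j = i ∧ IsIndiv P.flip i) ∨
      (2 : ℤ) • P.coroot j = P.coroot i},
      ∃ m : ι →₀ ℤ, ↑m.support ⊆ Δ ∧ (IsIndiv P.flip i → (2 : ℤ) ∣ m i) ∧
        Finsupp.linearCombination ℤ P.coroot m = (2 : ℤ) • x := by
    intro x hx
    change x ∈ AddSubmonoid.closure _ at hx
    induction hx using AddSubmonoid.closure_induction with
    | mem x hx =>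
      obtain ⟨j, ⟨e, he, hcase⟩, rfl⟩ := hx
      rcases hcase with ⟨hje, _⟩ | h2
      · refine ⟨Finsupp.single e 2, support_single_subset' he 2, fun _ => ?_, ?_⟩
        · rw [Finsupp.single_apply]; split_ifs <;> simp
        · rw [Finsupp.linearCombination_single, hje]; rfl
      · refine ⟨Finsupp.single e 1, support_single_subset' he 1, fun hind => ?_, ?_⟩
        · have hei : e ≠ i := by
            rintro rfl
            exact hind j h2
          rw [Finsupp.single_apply, if_neg hei]; exact dvd_zero _
        · rw [Finsupp.linearCombination_single, one_smul, ← h2]; rfl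
    | zero => exact ⟨0, by simp, fun _ => by simp, by simp⟩
    | add x y _ _ hx hy =>
      obtain ⟨m₁, h₁, e₁, l₁⟩ := hx
      obtain ⟨m₂, h₂, e₂, l₂⟩ := hy
      refine ⟨m₁ + m₂, ?_, fun hind => ?_, ?_⟩
      · intro a ha
        rcases Finset.mem_union.mp (Finsupp.support_add (Finset.mem_coe.mp ha)) with h | h
        · exact h₁ h
        · exact h₂ h
      · rw [Finsupp.add_apply]; exact dvd_add (e₁ hind) (e₂ hind)
      · rw [map_add, l₁, l₂, smul_add]
  rcases hD.mem_or_neg_mem k with h | h
  · exact key _ h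
  · obtain ⟨m, h₁, e₁, l₁⟩ := key _ h
    refine ⟨-m, ?_, fun hind => ?_, ?_⟩
    · rw [Finsupp.support_neg]; exact h₁
    · rw [Finsupp.neg_apply]; exact (dvd_neg).mpr (e₁ hind)
    · rw [map_neg, l₁]
      show -((2 : ℤ) • -P.coroot k) = (2 : ℤ) • P.coroot k
      rw [smul_neg, neg_neg]

theorem rootForm_dvd_coeff [Fintype ι] (hΔ : IsSimpleSys P Δ)
    (k : ι) (c : ι →₀ ℤ) (hc : ↑c.support ⊆ Δ) (hck : Finsupp.linearCombination ℤ P.root c = P.root k)
    (i : ι) (hi : i ∈ Δ) :
    P.RootForm (P.root k) (P.root k) ∣ 2 * c i * P.RootForm (P.root i) (P.root i) ∧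
      (IsIndiv P.flip i →
        2 * P.RootForm (P.root k) (P.root k) ∣ 2 * c i * P.RootForm (P.root i) (P.root i)) := by
  classical
  have hLIc := linearIndepOn_coroot_of_simple P hΔ
  obtain ⟨m, hm, hme, hml⟩ := two_smul_coroot_mem P hΔ i k
  -- c' e = c e * ℓ e
  let c' : ι →₀ ℤ := Finsupp.onFinset c.support (fun e => c e * P.RootForm (P.root e) (P.root e))
    (by
      intro e he
      rw [Finsupp.mem_support_iff]
      intro h0
      apply he
      rw [h0, zero_mul])
  have hc'i : ∀ e, c' e = c e * P.RootForm (P.root e) (P.root e) := fun e => rfl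
  have hc's : ↑c'.support ⊆ Δ := by
    apply support_subset_of_forall
    intro l hl
    have : c l = 0 := by
      by_contra h
      exact hl (hc (Finset.mem_coe.mpr (Finsupp.mem_support_iff.mpr h)))
    rw [hc'i, this, zero_mul]
  have hR1 : Finsupp.linearCombination ℤ P.coroot c' =
      P.RootForm (P.root k) (P.root k) • P.coroot k := by
    have hsum : (c'.sum fun i a => a • P.coroot i) =
        ∑ a ∈ c.support, (c a * P.RootForm (P.root a) (P.root a)) • P.coroot a :=
      Finsupp.onFinset_sum _ (fun a => zero_smul _ _)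
    rw [P.rootForm_self_smul_coroot k, ← hck, Finsupp.linearCombination_apply,
      Finsupp.linearCombination_apply, hsum]
    rw [Finsupp.sum, map_sum, Finset.smul_sum]
    apply Finset.sum_congr rfl
    intro e _
    rw [map_smul, mul_smul, P.rootForm_self_smul_coroot e, smul_comm]
  have hs1 : ↑(P.RootForm (P.root k) (P.root k) • m).support ⊆ Δ := fun e he =>
    hm (Finsupp.support_smul (Finset.mem_coe.mp he))
  have hs2 : ↑((2 : ℤ) • c').support ⊆ Δ := fun e he =>
    hc's (Finsupp.support_smul (Finset.mem_coe.mp he))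
  have heq : P.RootForm (P.root k) (P.root k) • m = (2 : ℤ) • c' := by
    refine coeff_unique hLIc hs1 hs2 ?_
    show Finsupp.linearCombination ℤ P.coroot (P.RootForm (P.root k) (P.root k) • m) =
      Finsupp.linearCombination ℤ P.coroot ((2 : ℤ) • c')
    rw [map_smul, map_smul, hml, hR1, smul_comm]
  have hval : P.RootForm (P.root k) (P.root k) * m i =
      2 * (c i * P.RootForm (P.root i) (P.root i)) := by
    have := DFunLike.congr_fun heq i
    simpa [hc'i] using this
  refine ⟨Dvd.intro (m i) (by rw [hval]; ring), fun hind => ?_⟩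
  obtain ⟨t, ht⟩ := hme hind
  rw [ht] at hval
  exact Dvd.intro t (by linear_combination hval)

end s5502

end Groth.Agent.Helper3.RD
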