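import Groth.Agent.Lib.helper3.RootD30

set_option autoImplicit false

namespace Groth.Agent.Helper3.RD
open RootD

section s5481
variable {ι M N : Type*} [AddCommGroup M] [AddCommGroup N] (P : RootPairing ι ℤ M N) [Finite ι]

theorem posOf_baseOf (f : Module.Dual ℤ M) (hf : ∀ i, f (P.root i) ≠ 0) :
    posOf P (IsAddIndecomposable.baseOf P.root (f : M →+ ℤ)) = {k | 0 < f (P.root k)} := by
  have hnn : ∀ x ∈ natSpan P (IsAddIndecomposable.baseOf P.root (f : M →+ ℤ)), 0 ≤ f x := by
    intro x hx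
    change x ∈ AddSubmonoid.closure _ at hx
    induction hx using AddSubmonoid.closure_induction with
    | mem x hx =>
      obtain ⟨d, hd, rfl⟩ := hx
      have : 0 < f (P.root d) := hd.1
      exact this.le
    | zero => simp
    | add x y _ _ hx hy => rw [map_add]; exact add_nonneg hx hy
  ext k
  constructor
  · intro hk
    have h1 := hnn _ hk
    exact lt_of_le_of_ne h1 (hf k).symm
  · intro hk
    rcases (isSimpleSys_baseOf P f hf).mem_or_neg_mem k with h | h
    · exact h
    · have h1 := hnn _ h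
      rw [map_neg] at h1
      have : 0 < f (P.root k) := hk
      linarith

theorem mem_simpleSys_iff_reflection [P.IsReduced] {Δ : Set ι} (hΔ : IsSimpleSys P Δ) (d : ι) :
    d ∈ Δ ↔ d ∈ posOf P Δ ∧ ∀ k ∈ posOf P Δ, k ≠ d → P.reflectionPerm d k ∈ posOf P Δ := by
  constructor
  · intro hd
    refine ⟨subset_posOf hd, fun k hk hkd => ?_⟩
    apply reflection_stable_of_simple P hΔ d d hd (Or.inl rfl) k hk
    by_contra hnli
    rcases RootPairing.IsReduced.eq_or_eq_neg k d hnli with h | h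
    · exact hkd (P.root.injective h)
    · have h1 : P.root k ∈ natSpan P Δ := hk
      have h2 : -P.root k ∈ natSpan P Δ := by rw [h, neg_neg]; exact subset_posOf hd
      exact P.ne_zero k (zero_of_mem_neg_mem P hΔ.linInd h1 h2)
  · rintro ⟨hd, h⟩
    have h' : ∀ k ∈ posOf P Δ, LinearIndependent ℤ ![P.root k, P.root d] →
        P.reflectionPerm d k ∈ posOf P Δ := by
      intro k hk hli
      apply h k hk
      rintro rfl
      rw [LinearIndependent.pair_iff] at hli
      have := hli 1 (-1) (by rw [one_smul, neg_smul, one_smul]; exact add_neg_cancel _)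
      omega
    obtain ⟨e, he, h1 | h1⟩ := simple_of_reflection_stable P hΔ d hd h'
    · rw [h1]; exact he
    · exfalso
      have hnli : ¬ LinearIndependent ℤ ![P.root e, P.root d] := not_li_of_two_smul P h1.symm
      have hne := P.ne_zero e
      rcases RootPairing.IsReduced.eq_or_eq_neg e d hnli with h2 | h2
      · rw [h1] at h2
        apply hne
        have : (1 : ℤ) • P.root e = (1 : ℤ) • (0 : M) := by
          linear_combination (norm := module) -h2
        exact smul_cancel_M P one_ne_zero this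
      · rw [h1] at h2
        apply hne
        have : (3 : ℤ) • P.root e = (3 : ℤ) • (0 : M) := by
          linear_combination (norm := module) h2
        exact smul_cancel_M P (by norm_num) this

variable {ι' M' N' : Type*} [AddCommGroup M'] [AddCommGroup N'] (P' : RootPairing ι' ℤ M' N') [Finite ι']
  (f : M' →ₗ[ℤ] M) (g : N →ₗ[ℤ] N')
  (hfg : ∀ (m' : M') (n : N), P.toLinearMap (f m') n = P'.toLinearMap m' (g n))
  (u : ι ≃ ι') (q : ι → ℕ)
  (hroot : ∀ i : ι, f (P'.root (u i)) = (q i : ℤ) • P.root i)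
  (hcoroot : ∀ i : ι, g (P.coroot i) = (q i : ℤ) • P'.coroot (u i))

include hfg hroot hcoroot in
theorem pmor_simple_pos [P.IsReduced] [P'.IsReduced] (hq : ∀ i, 0 < q i) (Δ : Set ι) :
    (IsSimpleSys P Δ ↔ IsSimpleSys P' (u '' Δ)) ∧ (IsPosSys P Δ ↔ IsPosSys P' (u '' Δ)) := by
  classical
  have ha := pmor_reflection P P' f g hfg u q hroot hcoroot hq
  obtain ⟨ubar, -, hub2⟩ := pmor_weylEquiv P P' f g hfg u q hroot hcoroot hq
  have hU : ∀ (w : P.weylGroup) (X : Set ι), u '' ((fun i => (w : P.Aut) • i) '' X) =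
      (fun i' => ((ubar w : P'.weylGroup) : P'.Aut) • i') '' (u '' X) := by
    intro w X
    rw [Set.image_image, Set.image_image]
    exact Set.image_congr (fun i _ => hub2 w i)
  obtain ⟨f₀, hf₀⟩ := exists_dual_ne_zero P
  obtain ⟨n, hn⟩ : ∃ n : N, ∀ x, P.toLinearMap x n = f₀ x :=
    ⟨P.toLinearMap.flip.toPerfPair.symm f₀, fun x => LinearMap.apply_toPerfPair_flip P.toLinearMap f₀ x⟩
  obtain ⟨f₀', hf₀'def⟩ : ∃ f₀' : Module.Dual ℤ M', ∀ x, f₀' x = P'.toLinearMap x (g n) :=
    ⟨P'.toLinearMap.flip (g n), fun x => rfl⟩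
  have hf₀'u : ∀ i : ι, f₀' (P'.root (u i)) = (q i : ℤ) * f₀ (P.root i) := by
    intro i
    rw [hf₀'def, ← hfg, hroot, map_smul, LinearMap.smul_apply, hn, smul_eq_mul]
  have hf₀' : ∀ i', f₀' (P'.root i') ≠ 0 := by
    intro i'
    obtain ⟨i, rfl⟩ := u.surjective i'
    rw [hf₀'u]
    exact mul_ne_zero (by exact_mod_cast (hq i).ne') (hf₀ i)
  have hΔ₀ := isSimpleSys_baseOf P f₀ hf₀
  have hΔ₀' := isSimpleSys_baseOf P' f₀' hf₀'
  have hS₀ := posOf_baseOf P f₀ hf₀
  have hS₀' := posOf_baseOf P' f₀' hf₀'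
  generalize IsAddIndecomposable.baseOf P.root (f₀ : M →+ ℤ) = Δ₀ at hΔ₀ hS₀
  generalize IsAddIndecomposable.baseOf P'.root (f₀' : M' →+ ℤ) = Δ₀' at hΔ₀' hS₀'
  have huS : u '' posOf P Δ₀ = posOf P' Δ₀' := by
    rw [hS₀, hS₀']
    ext i'
    obtain ⟨i, rfl⟩ := u.surjective i'
    rw [u.injective.mem_set_image]
    show 0 < f₀ (P.root i) ↔ 0 < f₀' (P'.root (u i))
    have hqi : (0 : ℤ) < q i := by exact_mod_cast hq i
    rw [hf₀'u, mul_pos_iff_of_pos_left hqi]
  have huΔ : u '' Δ₀ = Δ₀' := by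
    ext i'
    obtain ⟨i, rfl⟩ := u.surjective i'
    rw [u.injective.mem_set_image, mem_simpleSys_iff_reflection P hΔ₀ i,
      mem_simpleSys_iff_reflection P' hΔ₀' (u i), ← huS, u.injective.mem_set_image]
    refine and_congr_right (fun _ => ?_)
    constructor
    · intro h k' hk' hne
      obtain ⟨k, hk, rfl⟩ := hk'
      rw [← (ha i k).2]
      exact ⟨_, h k hk (fun h0 => hne (congrArg u h0)), rfl⟩
    · intro h k hk hne
      have := h (u k) ⟨k, hk, rfl⟩ (fun h0 => hne (u.injective h0))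
      rw [← (ha i k).2, u.injective.mem_set_image] at this
      exact this
  have hposS₀ : IsPosSys P (posOf P Δ₀) := posOf_isPosSys hΔ₀
  have hposS₀' : IsPosSys P' (posOf P' Δ₀') := posOf_isPosSys hΔ₀'
  constructor
  · constructor
    · intro hΔ
      obtain ⟨w, hw, hwΔ⟩ := weylGroup_transitive_simpleSys P Δ₀ Δ hΔ₀ hΔ
      have h1 : u '' Δ = (fun i' => ((ubar ⟨w, hw⟩ : P'.weylGroup) : P'.Aut) • i') '' Δ₀' := by
        rw [← hwΔ, ← huΔ]; exact hU ⟨w, hw⟩ Δ₀
      rw [h1]
      exact isSimpleSys_image P' _ hΔ₀'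
    · intro hΔ'
      obtain ⟨w', hw', hwΔ'⟩ := weylGroup_transitive_simpleSys P' Δ₀' (u '' Δ) hΔ₀' hΔ'
      obtain ⟨w, hw⟩ := ubar.surjective ⟨w', hw'⟩
      have h1 : u '' ((fun i => (w : P.Aut) • i) '' Δ₀) = u '' Δ := by
        rw [hU w Δ₀, huΔ, hw]; exact hwΔ'
      have h2 := Set.image_injective.mpr u.injective h1
      rw [← h2]
      exact isSimpleSys_image P _ hΔ₀
  · constructor
    · intro hS
      obtain ⟨w, hw, hwS⟩ := weylGroup_transitive_posSys P (posOf P Δ₀) Δ hposS₀ hS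
      have h1 : u '' Δ =
          (fun i' => ((ubar ⟨w, hw⟩ : P'.weylGroup) : P'.Aut) • i') '' posOf P' Δ₀' := by
        rw [← hwS, ← huS]; exact hU ⟨w, hw⟩ _
      rw [h1]
      exact isPosSys_image P' _ hposS₀'
    · intro hS'
      obtain ⟨w', hw', hwS'⟩ :=
        weylGroup_transitive_posSys P' (posOf P' Δ₀') (u '' Δ) hposS₀' hS'
      obtain ⟨w, hw⟩ := ubar.surjective ⟨w', hw'⟩
      have h1 : u '' ((fun i => (w : P.Aut) • i) '' posOf P Δ₀) = u '' Δ := by
        rw [hU w _, huS, hw]; exact hwS'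
      have h2 := Set.image_injective.mpr u.injective h1
      rw [← h2]
      exact isPosSys_image P _ hposS₀

end s5481

end Groth.Agent.Helper3.RD
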