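import Groth.Agent.Lib.helper3.RootD3

set_option autoImplicit false

namespace Groth.Agent.Helper3.RD
open RootD

variable {ι M N : Type*} [AddCommGroup M] [AddCommGroup N] (P : RootPairing ι ℤ M N) [Finite ι]

/-- In a closed set of roots containing no pair of opposite roots, a nonempty sum of roots is nonzero. -/
theorem sum_ne_zero_of_closed {S : Set ι} (hS : IsClosedSub P S)
    (hd : ∀ ⦃i : ι⦄, i ∈ S → P.reflectionPerm i i ∉ S) :
    ∀ (n : ℕ) (l : Multiset ι), Multiset.card l = n → (∀ a ∈ l, a ∈ S) → l ≠ 0 →
      (l.map P.root).sum ≠ 0 := by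
  classical
  intro n
  induction n with
  | zero =>
    intro l hl _ hne
    exact absurd (Multiset.card_eq_zero.mp hl) hne
  | succ n ih =>
    intro l hl hlS _ hsum
    obtain ⟨a, ha⟩ := Multiset.card_pos_iff_exists_mem.mp (by omega : 0 < Multiset.card l)
    obtain ⟨l', rfl⟩ := Multiset.exists_cons_of_mem ha
    have hl' : Multiset.card l' = n := by simpa using hl
    simp only [Multiset.map_cons, Multiset.sum_cons] at hsum
    have h1 : 1 • P.root (P.reflectionPerm a a) = (l'.map P.root).sum := by
      rw [one_smul, root_neg]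
      exact neg_eq_of_add_eq_zero_right hsum
    obtain ⟨b, hb, hpos⟩ := exists_pos_pairing P l' (P.reflectionPerm a a) 1 one_pos h1
    rw [P.pairing_reflectionPerm_self_right] at hpos
    have hneg : P.pairingIn ℤ b a < 0 := by rw [pairingIn_int]; omega
    have haS : a ∈ S := hlS a (Multiset.mem_cons_self a l')
    have hbS : b ∈ S := hlS b (Multiset.mem_cons_of_mem hb)
    have hne : P.root b ≠ - P.root a := by
      intro h
      have : b = P.reflectionPerm a a := P.root_eq_neg_iff.mp h
      exact hd haS (this ▸ hbS)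
    obtain ⟨c, hc⟩ := P.root_add_root_mem_of_pairingIn_neg hneg hne
    have hcS : c ∈ S := hS hbS haS hc
    have hl'' : l' = b ::ₘ l'.erase b := (Multiset.cons_erase hb).symm
    refine ih (c ::ₘ l'.erase b) ?_ ?_ (Multiset.cons_ne_zero) ?_
    · have hp : 0 < Multiset.card l' := Multiset.card_pos_iff_exists_mem.mpr ⟨b, hb⟩
      rw [Multiset.card_cons, Multiset.card_erase_of_mem hb, Nat.pred_eq_sub_one]
      omega
    · intro x hx
      rcases Multiset.mem_cons.mp hx with rfl | hx
      · exact hcS
      · exact hlS x (Multiset.mem_cons_of_mem (Multiset.mem_of_mem_erase hx))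
    · simp only [Multiset.map_cons, Multiset.sum_cons]
      rw [hc]
      have : (l'.map P.root).sum = P.root b + ((l'.erase b).map P.root).sum := by
        conv_lhs => rw [hl'']
        simp
      rw [this] at hsum
      rw [← hsum]; abel

theorem isPosSys_iff_closed (S : Set ι) :
    IsPosSys P S ↔ ((∀ i ∈ S, P.reflectionPerm i i ∉ S) ∧ (∀ i : ι, i ∈ S ∨ P.reflectionPerm i i ∈ S) ∧
      IsClosedSub P S) := by
  constructor
  · intro h
    refine ⟨fun i hi => h.disjoint hi, h.cover, ?_⟩
    intro i j k hi hj hk
    apply h.sat 1 one_pos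
    rw [one_smul, hk]
    exact AddSubmonoid.add_mem _ (root_mem_natSpan P hi) (root_mem_natSpan P hj)
  · rintro ⟨h1, h2, h3⟩
    refine ⟨fun i hi => h1 i hi, h2, ?_⟩
    intro k n hn hk
    by_contra hkS
    have hk' : P.reflectionPerm k k ∈ S := (h2 k).resolve_left hkS
    obtain ⟨l, hl, hsum⟩ := (mem_natSpan_iff_multiset P S _).mp hk
    refine sum_ne_zero_of_closed P h3 (fun i hi => h1 i hi) _ (l + Multiset.replicate n (P.reflectionPerm k k)) rfl ?_ ?_ ?_
    · intro a ha
      rcases Multiset.mem_add.mp ha with h | h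
      · exact hl a h
      · rw [Multiset.eq_of_mem_replicate h]; exact hk'
    · intro h
      have := congrArg Multiset.card h
      simp at this
      omega
    · rw [Multiset.map_add, Multiset.sum_add, hsum, Multiset.map_replicate, Multiset.sum_replicate, root_neg]
      simp

end Groth.Agent.Helper3.RD
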