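import Groth.Agent.Lib.helper3.RootD4

set_option autoImplicit false

namespace Groth.Agent.Helper3.RD
open RootD

variable {ι M N : Type*} [AddCommGroup M] [AddCommGroup N] (P : RootPairing ι ℤ M N)

section
variable {P}
variable {Δ : Set ι}

theorem coeff_unique (hli : LinearIndepOn ℤ P.root Δ) {c c' : ι →₀ ℤ} (hc : ↑c.support ⊆ Δ)
    (hc' : ↑c'.support ⊆ Δ)
    (h : Finsupp.linearCombination ℤ P.root c = Finsupp.linearCombination ℤ P.root c') : c = c' := by
  have h1 : c - c' ∈ Finsupp.supported ℤ ℤ Δ :=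
    Submodule.sub_mem _ ((Finsupp.mem_supported ℤ c).mpr hc) ((Finsupp.mem_supported ℤ c').mpr hc')
  have h2 := linearIndepOn_iff.mp hli (c - c') h1 (by rw [map_sub, h, sub_self])
  exact sub_eq_zero.mp h2

/-- Every root is `±` a nonnegative combination of simple roots. -/
theorem exists_coeff (hΔ : IsSimpleSys P Δ) (k : ι) :
    ∃ c : ι →₀ ℤ, ↑c.support ⊆ Δ ∧ (∀ j, 0 ≤ c j) ∧
      (Finsupp.linearCombination ℤ P.root c = P.root k ∨
        Finsupp.linearCombination ℤ P.root c = - P.root k) := by
  rcases hΔ.mem_or_neg_mem k with h | h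
  · obtain ⟨c, h1, h2, h3⟩ := (mem_natSpan_iff_finsupp P Δ _).mp h
    exact ⟨c, h1, h2, Or.inl h3⟩
  · obtain ⟨c, h1, h2, h3⟩ := (mem_natSpan_iff_finsupp P Δ _).mp h
    exact ⟨c, h1, h2, Or.inr h3⟩

theorem mem_posOf_iff (k : ι) :
    k ∈ posOf P Δ ↔ ∃ c : ι →₀ ℤ, ↑c.support ⊆ Δ ∧ (∀ j, 0 ≤ c j) ∧
      Finsupp.linearCombination ℤ P.root c = P.root k :=
  mem_natSpan_iff_finsupp P Δ _

theorem subset_posOf : Δ ⊆ posOf P Δ := fun _ hi => root_mem_natSpan P hi

theorem support_single_subset' {i : ι} (hi : i ∈ Δ) (a : ℤ) : ↑(Finsupp.single i a).support ⊆ Δ := by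
  intro j hj
  have := Finsupp.support_single_subset hj
  rw [Finset.mem_singleton] at this
  rw [this]; exact hi

theorem isIndiv_of_mem_simpleSys (hΔ : IsSimpleSys P Δ) (i : ι) (hi : i ∈ Δ) : IsIndiv P i := by
  classical
  intro j hj
  obtain ⟨c, hc, hc0, h⟩ := exists_coeff hΔ j
  have hs := support_single_subset' hi (1 : ℤ)
  rcases h with h | h
  · have h1 : Finsupp.linearCombination ℤ P.root ((2 : ℤ) • c) = Finsupp.linearCombination ℤ P.root (Finsupp.single i 1) := by
      rw [map_smul, h, hj]; simp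
    have h2 := coeff_unique hΔ.linInd (c := (2 : ℤ) • c) (fun x hx => hc (Finsupp.support_smul hx)) hs h1
    have h3 := DFunLike.congr_fun h2 i
    simp at h3
    omega
  · have h1 : Finsupp.linearCombination ℤ P.root ((-2 : ℤ) • c) = Finsupp.linearCombination ℤ P.root (Finsupp.single i 1) := by
      rw [map_smul, h]; simp [← hj]
    have h2 := coeff_unique hΔ.linInd (c := (-2 : ℤ) • c) (fun x hx => hc (Finsupp.support_smul hx)) hs h1
    have h3 := DFunLike.congr_fun h2 i
    simp at h3
    omega

end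

end Groth.Agent.Helper3.RD

namespace Groth.Agent.Helper3.RD
open RootD

variable {ι M N : Type*} [AddCommGroup M] [AddCommGroup N] {P : RootPairing ι ℤ M N} {Δ : Set ι}

theorem pairing_le_zero_of_simple [Finite ι] (hΔ : IsSimpleSys P Δ) (i j : ι)
    (hi : i ∈ Δ) (hj : j ∈ Δ) (hij : i ≠ j) : P.pairing j i ≤ 0 := by
  classical
  by_contra hpos
  push_neg at hpos
  have hpos' : 0 < P.pairingIn ℤ j i := by rwa [pairingIn_int]
  obtain ⟨k, hk⟩ := P.root_sub_root_mem_of_pairingIn_pos hpos' (Ne.symm hij)
  obtain ⟨c, hc, hc0, h⟩ := exists_coeff hΔ k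
  have hs : ↑(Finsupp.single j (1:ℤ) - Finsupp.single i (1:ℤ)).support ⊆ Δ := by
    intro x hx
    rcases Finset.mem_union.mp (Finsupp.support_sub hx) with h | h
    · exact support_single_subset' hj 1 h
    · exact support_single_subset' hi 1 h
  have hlc : Finsupp.linearCombination ℤ P.root (Finsupp.single j (1:ℤ) - Finsupp.single i (1:ℤ)) = P.root k := by
    rw [map_sub, hk]; simp
  rcases h with h | h
  · have h2 := coeff_unique hΔ.linInd hc hs (h.trans hlc.symm)
    have h3 := DFunLike.congr_fun h2 i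
    have := hc0 i
    simp [Finsupp.single_apply, hij, Ne.symm hij] at h3
    omega
  · have h1 : Finsupp.linearCombination ℤ P.root (-c) = P.root k := by rw [map_neg, h, neg_neg]
    have h2 := coeff_unique hΔ.linInd (c := -c) (by rwa [Finsupp.support_neg]) hs (h1.trans hlc.symm)
    have h3 := DFunLike.congr_fun h2 j
    have := hc0 j
    simp [Finsupp.single_apply, hij, Ne.symm hij] at h3
    omega

/-- a nonnegative and a nonpositive combination which agree are both zero -/
theorem coeff_zero_of_pos_neg (hli : LinearIndepOn ℤ P.root Δ) {c c' : ι →₀ ℤ} (hc : ↑c.support ⊆ Δ)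
    (hc' : ↑c'.support ⊆ Δ) (hc0 : ∀ j, 0 ≤ c j) (hc0' : ∀ j, 0 ≤ c' j)
    (h : Finsupp.linearCombination ℤ P.root c = - Finsupp.linearCombination ℤ P.root c') : c = 0 := by
  have h1 : Finsupp.linearCombination ℤ P.root c = Finsupp.linearCombination ℤ P.root (-c') := by
    rw [map_neg, h]
  have h2 := coeff_unique hli (c' := -c') hc (by rwa [Finsupp.support_neg]) h1
  ext j
  have h3 := DFunLike.congr_fun h2 j
  have := hc0 j
  have := hc0' j
  simp at h3 ⊢
  omega

theorem posOf_isPosSys [Finite ι] (hΔ : IsSimpleSys P Δ) : IsPosSys P (posOf P Δ) := by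
  have htf := torsionFree_M P
  refine ⟨?_, ?_, ?_⟩
  · intro k hk hk'
    obtain ⟨c, hc, hc0, h⟩ := (mem_posOf_iff k).mp hk
    obtain ⟨c', hc', hc0', h'⟩ := (mem_posOf_iff _).mp hk'
    rw [root_neg] at h'
    have := coeff_zero_of_pos_neg hΔ.linInd hc hc' hc0 hc0' (by rw [h, h', neg_neg])
    rw [this] at h
    simp at h
    exact P.ne_zero k h.symm
  · intro k
    rcases hΔ.mem_or_neg_mem k with h | h
    · exact Or.inl h
    · right
      rw [posOf, Set.mem_setOf_eq, root_neg]; exact h
  · intro k n hn hk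
    replace hk : n • P.root k ∈ natSpan P Δ := by
      have hle : natSpan P (posOf P Δ) ≤ natSpan P Δ := by
        apply AddSubmonoid.closure_le.mpr
        rintro _ ⟨a, ha, rfl⟩
        exact ha
      exact hle hk
    rcases hΔ.mem_or_neg_mem k with h | h
    · exact h
    · exfalso
      obtain ⟨c, hc, hc0, h1⟩ := (mem_natSpan_iff_finsupp P Δ _).mp hk
      obtain ⟨c', hc', hc0', h1'⟩ := (mem_natSpan_iff_finsupp P Δ _).mp h
      have hn' : ∀ j, 0 ≤ ((n : ℤ) • c') j := by
        intro j
        have := hc0' j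
        simp only [Finsupp.smul_apply, smul_eq_mul]
        positivity
      have := coeff_zero_of_pos_neg hΔ.linInd (c' := (n : ℤ) • c') hc
        (fun x hx => hc' (Finsupp.support_smul hx)) hc0 hn'
        (by rw [map_smul, h1, h1']; simp)
      rw [this, map_zero, ← Nat.cast_smul_eq_nsmul ℤ n (P.root k)] at h1
      rcases smul_eq_zero.mp h1.symm with h2 | h2
      · have : n = 0 := by exact_mod_cast h2
        omega
      · exact P.ne_zero k h2

theorem subset_iff_eq_posOf [Finite ι] (hΔ : IsSimpleSys P Δ) (S : Set ι) (hS : IsPosSys P S) :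
    Δ ⊆ S ↔ S = posOf P Δ := by
  constructor
  · intro h
    have h1 : posOf P Δ ⊆ S := by
      intro k hk
      apply hS.sat 1 one_pos
      rw [one_smul]
      exact natSpan_mono P h hk
    apply Set.Subset.antisymm _ h1
    intro k hk
    rcases (posOf_isPosSys hΔ).cover k with h2 | h2
    · exact h2
    · exact absurd (h1 h2) (hS.disjoint hk)
  · intro h
    rw [h]; exact subset_posOf

theorem reflectionPerm_mem_posOf [Finite ι] (hΔ : IsSimpleSys P Δ)
    (k i : ι) (hk : k ∈ posOf P Δ) (hi : i ∈ Δ)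
    (hli : LinearIndependent ℤ ![P.root k, P.root i]) :
    P.reflectionPerm i k ∈ posOf P Δ := by
  classical
  obtain ⟨c, hc, hc0, h⟩ := (mem_posOf_iff k).mp hk
  rcases hΔ.mem_or_neg_mem (P.reflectionPerm i k) with h1 | h1
  · exact h1
  · exfalso
    obtain ⟨c', hc', hc0', h'⟩ := (mem_natSpan_iff_finsupp P Δ _).mp h1
    rw [P.root_reflectionPerm, P.reflection_apply_root] at h'
    -- c - p • single i = - c'
    have hs : ↑(c - Finsupp.single i (P.pairing k i)).support ⊆ Δ := by
      intro x hx
      rcases Finset.mem_union.mp (Finsupp.support_sub hx) with h | h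
      · exact hc h
      · exact support_single_subset' hi _ h
    have h2 : Finsupp.linearCombination ℤ P.root (c - Finsupp.single i (P.pairing k i)) =
        Finsupp.linearCombination ℤ P.root (-c') := by
      rw [map_sub, map_neg, h', h]; simp
    have h3 := coeff_unique hΔ.linInd hs (by rwa [Finsupp.support_neg]) h2
    have h4 : c = Finsupp.single i (c i) := by
      ext d
      by_cases hd : d = i
      · subst hd; simp
      · have h5 := DFunLike.congr_fun h3 d
        have := hc0 d
        have := hc0' d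
        simp [Ne.symm hd] at h5 ⊢
        omega
    rw [h4] at h
    simp at h
    rw [LinearIndependent.pair_iff] at hli
    have := hli 1 (- c i) (by rw [one_smul, neg_smul, h]; abel)
    norm_num at this

end Groth.Agent.Helper3.RD
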