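import Groth.Agent.Lib.helper3.RootD5

set_option autoImplicit false

namespace Groth.Agent.Helper3.RD
open RootD

variable {ι M N : Type*} [AddCommGroup M] [AddCommGroup N] (P : RootPairing ι ℤ M N) [Finite ι]

/-- classification of linearly dependent pairs of roots -/
theorem dep_cases {i j : ι} (h : ¬ LinearIndependent ℤ ![P.root i, P.root j]) :
    P.root j = P.root i ∨ P.root j = - P.root i ∨ P.root j = (2 : ℤ) • P.root i ∨
      P.root j = (-2 : ℤ) • P.root i ∨ P.root i = (2 : ℤ) • P.root j ∨ P.root i = (-2 : ℤ) • P.root j := by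
  have := torsionFree_M P
  have := torsionFree_N P
  have h4 := (not_li_iff P i j).mp h
  have hd : P.pairing i j ∣ 4 := Dvd.intro _ h4
  have hle : P.pairing i j ≤ 4 := Int.le_of_dvd (by norm_num) hd
  have hge : -4 ≤ P.pairing i j := by
    have : - P.pairing i j ∣ 4 := (neg_dvd).mpr hd
    have := Int.le_of_dvd (by norm_num) this
    omega
  have hcases : (P.pairing i j = 1 ∧ P.pairing j i = 4) ∨ (P.pairing i j = 2 ∧ P.pairing j i = 2) ∨
      (P.pairing j i = 1 ∧ P.pairing i j = 4) ∨ (P.pairing i j = -1 ∧ P.pairing j i = -4) ∨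
      (P.pairing i j = -2 ∧ P.pairing j i = -2) ∨ (P.pairing j i = -1 ∧ P.pairing i j = -4) := by
    generalize P.pairing i j = a at *
    generalize P.pairing j i = b at *
    interval_cases a <;> omega
  rcases hcases with h | h | h | h | h | h
  · exact Or.inr (Or.inr (Or.inl ((P.pairing_one_four_iff i j).mp h)))
  · left
    rw [(P.pairing_two_two_iff i j).mp h]
  · exact Or.inr (Or.inr (Or.inr (Or.inr (Or.inl ((P.pairing_one_four_iff j i).mp h)))))
  · exact Or.inr (Or.inr (Or.inr (Or.inl ((P.pairing_neg_one_neg_four_iff i j).mp h))))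
  · right; left
    rw [(P.pairing_neg_two_neg_two_iff i j).mp h, neg_neg]
  · exact Or.inr (Or.inr (Or.inr (Or.inr (Or.inr ((P.pairing_neg_one_neg_four_iff j i).mp h)))))

theorem not_indiv_of_eq_neg_two {i j : ι} (h : P.root i = (-2 : ℤ) • P.root j) : ¬ IsIndiv P i := by
  intro hi
  apply hi (P.reflectionPerm j j)
  rw [root_neg, h]; simp

theorem dvd_of_smul_eq_smul_indiv (i j : ι) (hind : IsIndiv P i) (a b : ℤ) (hb : b ≠ 0)
    (h : b • P.root j = a • P.root i) : b ∣ a := by
  have hnli : ¬ LinearIndependent ℤ ![P.root i, P.root j] := by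
    intro hli
    rw [LinearIndependent.pair_iff] at hli
    have := hli (-a) b (by rw [h, neg_smul]; abel)
    exact hb this.2
  have := torsionFree_M P
  have hinj := smul_left_injective ℤ (P.ne_zero i)
  rcases dep_cases P hnli with h1 | h1 | h1 | h1 | h1 | h1
  · rw [h1] at h
    have : b = a := hinj h
    exact this ▸ dvd_refl b
  · rw [h1, smul_neg, ← neg_smul] at h
    have : -b = a := hinj h
    exact ⟨-1, by omega⟩
  · rw [h1, smul_smul] at h
    have : b * 2 = a := hinj h
    exact ⟨2, this.symm⟩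
  · rw [h1, smul_smul] at h
    have : b * -2 = a := hinj h
    exact ⟨-2, this.symm⟩
  · exact absurd h1.symm (hind j)
  · exact absurd hind (not_indiv_of_eq_neg_two P h1)

end Groth.Agent.Helper3.RD

namespace Groth.Agent.Helper3.RD
open RootD

variable {ι M N : Type*} [AddCommGroup M] [AddCommGroup N] (P : RootPairing ι ℤ M N) [Finite ι]

theorem pairing_pos_symm {i j : ι} (h : 0 < P.pairing i j) : 0 < P.pairing j i := by
  have := (P.zero_lt_pairingIn_iff' ℤ (i := i) (j := j)).mp (by rwa [pairingIn_int])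
  rwa [pairingIn_int] at this

/-- a positive root which is dependent on a simple root `d` is `d` or `2d` -/
theorem pos_dep_simple {Δ : Set ι} (hΔ : IsSimpleSys P Δ) {k d : ι} (hk : k ∈ posOf P Δ) (hd : d ∈ Δ)
    (h : ¬ LinearIndependent ℤ ![P.root d, P.root k]) :
    k = d ∨ P.root k = (2 : ℤ) • P.root d := by
  have hpos := posOf_isPosSys hΔ
  have hdp : d ∈ posOf P Δ := subset_posOf hd
  have hdi := isIndiv_of_mem_simpleSys hΔ d hd
  rcases dep_cases P h with h1 | h1 | h1 | h1 | h1 | h1
  · exact Or.inl (P.root.injective h1)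
  · exfalso
    have : k = P.reflectionPerm d d := P.root_eq_neg_iff.mp h1
    exact hpos.disjoint hdp (this ▸ hk)
  · exact Or.inr h1
  · exfalso
    have : P.reflectionPerm k k ∈ posOf P Δ := by
      rw [posOf, Set.mem_setOf_eq, root_neg, h1]
      have : -((-2 : ℤ) • P.root d) = (2 : ℕ) • P.root d := by
        rw [neg_smul, neg_neg, two_smul, two_smul]
      rw [this]
      exact AddSubmonoid.nsmul_mem _ (root_mem_natSpan P hd) 2
    exact hpos.disjoint hk this
  · exact absurd h1.symm (hdi k)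
  · exact absurd hdi (not_indiv_of_eq_neg_two P h1)

theorem exists_simple_pairing_pos {Δ : Set ι} (hΔ : IsSimpleSys P Δ)
    (k : ι) (hk : k ∈ posOf P Δ) (hkΔ : k ∉ Δ) (hind : IsIndiv P k) :
    ∃ i ∈ Δ, 0 < P.pairing k i ∧ P.reflectionPerm i k ∈ posOf P Δ := by
  obtain ⟨l, hl, hsum⟩ := (mem_natSpan_iff_multiset P Δ _).mp hk
  obtain ⟨d, hd, hp⟩ := exists_pos_pairing P l k 1 one_pos (by rw [one_smul, hsum])
  refine ⟨d, hl d hd, pairing_pos_symm P hp, ?_⟩
  apply reflectionPerm_mem_posOf hΔ k d hk (hl d hd)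
  by_contra hli
  have hli' : ¬ LinearIndependent ℤ ![P.root d, P.root k] := by
    rwa [LinearIndependent.pair_symm_iff]
  rcases pos_dep_simple P hΔ hk (hl d hd) hli' with h1 | h1
  · exact hkΔ (h1 ▸ hl d hd)
  · exact hind d h1.symm

theorem weylSub_mapsTo_pos_diff (Δ Δ' : Set ι) (hΔ : IsSimpleSys P Δ) (hsub : Δ' ⊆ Δ)
    (g : P.Aut) (hg : g ∈ Subgroup.closure ((fun i : ι => RootPairing.Equiv.reflection P i) '' Δ')) :
    ∀ (k : ι), k ∈ posOf P Δ → k ∉ inSpan P Δ' → g • k ∈ posOf P Δ ∧ g • k ∉ inSpan P Δ' := by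
  have hgen : ∀ i ∈ Δ', ∀ (k : ι), k ∈ posOf P Δ → k ∉ inSpan P Δ' →
      (RootPairing.Equiv.reflection P i) • k ∈ posOf P Δ ∧ (RootPairing.Equiv.reflection P i) • k ∉ inSpan P Δ' := by
    intro i hi k hk hk'
    change P.reflectionPerm i k ∈ posOf P Δ ∧ P.reflectionPerm i k ∉ inSpan P Δ'
    have hiS : P.root i ∈ Submodule.span ℤ (P.root '' Δ') := Submodule.subset_span ⟨i, hi, rfl⟩
    constructor
    · apply reflectionPerm_mem_posOf hΔ k i hk (hsub hi)
      by_contra hli
      have hli' : ¬ LinearIndependent ℤ ![P.root i, P.root k] := by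
        rwa [LinearIndependent.pair_symm_iff]
      apply hk'
      rcases pos_dep_simple P hΔ hk (hsub hi) hli' with h1 | h1
      · rw [h1]; exact hiS
      · show P.root k ∈ Submodule.span ℤ (P.root '' Δ')
        rw [h1]; exact Submodule.smul_mem _ _ hiS
    · intro hmem
      apply hk'
      replace hmem : P.root (P.reflectionPerm i k) ∈ Submodule.span ℤ (P.root '' Δ') := hmem
      rw [P.root_reflectionPerm, P.reflection_apply_root] at hmem
      have := Submodule.add_mem _ hmem (Submodule.smul_mem _ (P.pairing k i) hiS)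
      rw [sub_add_cancel] at this
      exact this
  induction hg using Subgroup.closure_induction'' with
  | one => intro k hk hk'; exact ⟨by simpa using hk, by simpa using hk'⟩
  | mem x hx =>
    obtain ⟨i, hi, rfl⟩ := hx
    exact hgen i hi
  | inv_mem x hx =>
    obtain ⟨i, hi, rfl⟩ := hx
    rw [RootPairing.Equiv.reflection_inv]
    exact hgen i hi
  | mul x y _ _ hx hy =>
    intro k hk hk'
    rw [mul_smul]
    obtain ⟨h1, h2⟩ := hy k hk hk'
    exact hx _ h1 h2

end Groth.Agent.Helper3.RD
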