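import Groth.Agent.Lib.helper3.RootD6

set_option autoImplicit false

namespace Groth.Agent.Helper3.RD
open RootD

variable {ι M N : Type*} [AddCommGroup M] [AddCommGroup N] (P : RootPairing ι ℤ M N) [Finite ι]

theorem equivReflection_eq_of_not_li {i j : ι} (h : ¬ LinearIndependent ℤ ![P.root i, P.root j]) :
    RootPairing.Equiv.reflection P i = RootPairing.Equiv.reflection P j := by
  apply RootPairing.Equiv.weightHom_injective P
  simp only [RootPairing.Equiv.weightHom_apply, RootPairing.Equiv.reflection_weightEquiv]
  exact reflection_eq_of_not_li P h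

theorem not_li_of_two_smul {l j : ι} (h : (2 : ℤ) • P.root l = P.root j) :
    ¬ LinearIndependent ℤ ![P.root l, P.root j] := by
  intro hli
  rw [LinearIndependent.pair_iff] at hli
  have := hli 2 (-1) (by rw [h]; simp)
  norm_num at this

theorem indiv_of_two_smul {l j : ι} (h : (2 : ℤ) • P.root l = P.root j) : IsIndiv P l := by
  intro m hm
  have := torsionFree_M P
  have hinj := smul_left_injective ℤ (P.ne_zero m)
  have h4 : P.root j = (4 : ℤ) • P.root m := by rw [← h, ← hm, smul_smul]; norm_num
  have hnli : ¬ LinearIndependent ℤ ![P.root m, P.root j] := by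
    intro hli
    rw [LinearIndependent.pair_iff] at hli
    have := hli 4 (-1) (by rw [h4]; simp)
    norm_num at this
  rcases dep_cases P hnli with h1 | h1 | h1 | h1 | h1 | h1
  · rw [h4] at h1
    have : (4 : ℤ) = 1 := hinj (by simpa using h1)
    norm_num at this
  · rw [h4, ← neg_one_smul ℤ (P.root m)] at h1
    have : (4 : ℤ) = -1 := hinj h1
    norm_num at this
  · rw [h4] at h1
    have : (4 : ℤ) = 2 := hinj h1
    norm_num at this
  · rw [h4] at h1
    have : (4 : ℤ) = -2 := hinj h1
    norm_num at this
  · rw [h4, smul_smul] at h1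
    have : (1 : ℤ) = 2 * 4 := hinj (by simpa using h1)
    norm_num at this
  · rw [h4, smul_smul] at h1
    have : (1 : ℤ) = -2 * 4 := hinj (by simpa using h1)
    norm_num at this

theorem closure_reflection_indiv :
    Subgroup.closure ((fun i : ι => RootPairing.Equiv.reflection P i) '' {i : ι | IsIndiv P i}) = P.weylGroup := by
  apply le_antisymm
  · apply Subgroup.closure_mono
    rintro _ ⟨i, _, rfl⟩
    exact ⟨i, rfl⟩
  · rw [RootPairing.weylGroup, Subgroup.closure_le]
    rintro _ ⟨j, rfl⟩
    by_cases hj : IsIndiv P j
    · exact Subgroup.subset_closure ⟨j, hj, rfl⟩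
    · unfold IsIndiv at hj
      push_neg at hj
      obtain ⟨l, hl⟩ := hj
      have : RootPairing.Equiv.reflection P l = RootPairing.Equiv.reflection P j :=
        equivReflection_eq_of_not_li P (not_li_of_two_smul P hl)
      change RootPairing.Equiv.reflection P j ∈ _
      rw [← this]
      exact Subgroup.subset_closure ⟨l, indiv_of_two_smul P hl, rfl⟩

end Groth.Agent.Helper3.RD

namespace Groth.Agent.Helper3.RD
open RootD

variable {ι M N : Type*} [AddCommGroup M] [AddCommGroup N] (P : RootPairing ι ℤ M N) [Fintype ι]

theorem rootForm_swap (i j : ι) :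
    P.pairing j i * P.RootForm (P.root i) (P.root i) = P.pairing i j * P.RootForm (P.root j) (P.root j) :=
  P.toInvariantForm.pairing_mul_eq_pairing_mul_swap i j

theorem corootForm_swap (i j : ι) :
    P.pairing i j * P.CorootForm (P.coroot i) (P.coroot i) = P.pairing j i * P.CorootForm (P.coroot j) (P.coroot j) :=
  P.flip.toInvariantForm.pairing_mul_eq_pairing_mul_swap i j

theorem rootForm_mul_corootForm (i j : ι) (h : ¬ P.IsOrthogonal i j) :
    P.RootForm (P.root i) (P.root i) * P.CorootForm (P.coroot i) (P.coroot i) =
      P.RootForm (P.root j) (P.root j) * P.CorootForm (P.coroot j) (P.coroot j) := by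
  have h1 := rootForm_swap P i j
  have h2 := corootForm_swap P i j
  have hne : P.pairing i j ≠ 0 := by rwa [isOrthogonal_iff] at h
  have hne' : P.pairing j i ≠ 0 := by
    have : ¬ P.IsOrthogonal j i := fun h' => h h'.symm
    rwa [isOrthogonal_iff] at this
  have h3 : (P.pairing i j * P.pairing j i) * (P.RootForm (P.root i) (P.root i) * P.CorootForm (P.coroot i) (P.coroot i)) =
      (P.pairing i j * P.pairing j i) * (P.RootForm (P.root j) (P.root j) * P.CorootForm (P.coroot j) (P.coroot j)) := by
    calc _ = (P.pairing j i * P.RootForm (P.root i) (P.root i)) * (P.pairing i j * P.CorootForm (P.coroot i) (P.coroot i)) := by ring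
      _ = (P.pairing i j * P.RootForm (P.root j) (P.root j)) * (P.pairing j i * P.CorootForm (P.coroot j) (P.coroot j)) := by rw [h1, h2]
      _ = _ := by ring
  exact mul_left_cancel₀ (mul_ne_zero hne hne') h3

theorem rootForm_self_ne_zero (i : ι) : P.RootForm (P.root i) (P.root i) ≠ 0 :=
  P.toInvariantForm.ne_zero i

theorem exists_weyl_of_rootForm_eq (i j : ι) (hno : ¬ P.IsOrthogonal i j)
    (hl : P.RootForm (P.root i) (P.root i) = P.RootForm (P.root j) (P.root j)) :
    ∃ g : P.Aut, g ∈ P.weylGroup ∧ g • i = j := by
  have h1 := rootForm_swap P i j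
  rw [hl] at h1
  have hpp : P.pairing j i = P.pairing i j := mul_right_cancel₀ (rootForm_self_ne_zero P j) h1
  have hne : P.pairing i j ≠ 0 := by rwa [isOrthogonal_iff] at hno
  have hle : P.coxeterWeightIn ℤ i j ≤ 4 := P.coxeterWeightIn_le_four ℤ i j
  have hcw : P.coxeterWeightIn ℤ i j = P.pairing i j * P.pairing i j := by
    rw [RootPairing.coxeterWeightIn, pairingIn_int, pairingIn_int, hpp]
  rw [hcw] at hle
  have hcases : P.pairing i j = 1 ∨ P.pairing i j = -1 ∨ P.pairing i j = 2 ∨ P.pairing i j = -2 := by
    generalize P.pairing i j = a at *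
    have h1 : a ≤ 2 := by nlinarith
    have h2 : -2 ≤ a := by nlinarith
    interval_cases a <;> simp_all
  have hs : ∀ (a b : ι), RootPairing.Equiv.reflection P a • P.root b = P.root b - P.pairing b a • P.root a := by
    intro a b
    rw [RootPairing.Equiv.reflection_smul, P.reflection_apply_root]
  rcases hcases with h | h | h | h
  · refine ⟨RootPairing.Equiv.reflection P j * RootPairing.Equiv.reflection P i * RootPairing.Equiv.reflection P j,
      mul_mem (mul_mem (P.reflection_mem_weylGroup j) (P.reflection_mem_weylGroup i)) (P.reflection_mem_weylGroup j), ?_⟩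
    apply P.root.injective
    rw [aut_smul_root]
    simp only [mul_smul, RootPairing.Equiv.reflection_smul, P.reflection_apply_root, map_sub, map_smul,
      P.pairing_same, hpp, h]
    module
  · refine ⟨RootPairing.Equiv.reflection P i * RootPairing.Equiv.reflection P j,
      mul_mem (P.reflection_mem_weylGroup i) (P.reflection_mem_weylGroup j), ?_⟩
    apply P.root.injective
    rw [aut_smul_root]
    simp only [mul_smul, RootPairing.Equiv.reflection_smul, P.reflection_apply_root, map_sub, map_smul,
      P.pairing_same, hpp, h]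
    module
  · refine ⟨1, one_mem _, ?_⟩
    rw [one_smul]
    have := torsionFree_M P
    exact (P.pairing_two_two_iff i j).mp ⟨h, hpp ▸ h⟩
  · refine ⟨RootPairing.Equiv.reflection P i, P.reflection_mem_weylGroup i, ?_⟩
    have := torsionFree_M P
    have h2 := (P.pairing_neg_two_neg_two_iff i j).mp ⟨h, hpp ▸ h⟩
    apply P.root.injective
    rw [aut_smul_root, hs, P.pairing_same, h2]
    module

end Groth.Agent.Helper3.RD
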