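import Groth.Agent.Lib.helper3.RootD7

set_option autoImplicit false

namespace Groth.Agent.Helper3.RD
open RootD

variable {ι M N : Type*} [AddCommGroup M] [AddCommGroup N] (P : RootPairing ι ℤ M N) [Finite ι]

theorem eq_zero_of_orth_of_smul_mem (y : M) (h0 : ∀ i, P.coroot' i y = 0) (n : ℕ) (hn : 0 < n)
    (hy : n • y ∈ Submodule.span ℤ (Set.range P.root)) : y = 0 := by
  classical
  have := Fintype.ofFinite ι
  have htf := torsionFree_M P
  have h1 : P.RootForm (n • y) (n • y) = 0 := by
    rw [P.rootForm_apply_apply]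
    apply Finset.sum_eq_zero
    intro i _
    rw [map_nsmul, h0 i]; simp
  have h2 := P.eq_zero_of_mem_rootSpan_of_rootForm_self_eq_zero hy h1
  rw [← Nat.cast_smul_eq_nsmul ℤ n y] at h2
  rcases smul_eq_zero.mp h2 with h3 | h3
  · have : n = 0 := by exact_mod_cast h3
    omega
  · exact h3

theorem aut_coroot'_of_fix (u : P.Aut) (hfix : ∀ i : ι, u • i = i) (m : M) (i : ι) :
    P.coroot' i (u • m - m) = 0 := by
  rw [map_sub, sub_eq_zero]
  have := aut_pairing P u m i
  rw [hfix i] at this
  exact this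

theorem aut_eq_one_of_fix (u : P.Aut)
    (hs : ∀ m : M, ∃ n : ℕ, 0 < n ∧ n • (u • m - m) ∈ Submodule.span ℤ (Set.range P.root))
    (hfix : ∀ i : ι, u • i = i) : u = 1 := by
  apply RootPairing.Equiv.weightHom_injective P
  ext m
  change u • m = m
  obtain ⟨n, hn, hmem⟩ := hs m
  have := eq_zero_of_orth_of_smul_mem P (u • m - m) (aut_coroot'_of_fix P u hfix m) n hn hmem
  exact sub_eq_zero.mp this

theorem aut_smul_mem_span (u : P.Aut) {y : M} (hy : y ∈ Submodule.span ℤ (Set.range P.root)) :
    u • y ∈ Submodule.span ℤ (Set.range P.root) := by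
  induction hy using Submodule.span_induction with
  | mem x hx =>
    obtain ⟨i, rfl⟩ := hx
    rw [← aut_smul_root]
    exact Submodule.subset_span ⟨_, rfl⟩
  | zero => rw [smul_zero]; exact Submodule.zero_mem _
  | add x y _ _ hx hy => rw [smul_add]; exact Submodule.add_mem _ hx hy
  | smul a x _ hx => rw [smul_comm]; exact Submodule.smul_mem _ _ hx

theorem weyl_smul_sub_mem (g : P.Aut) (hg : g ∈ P.weylGroup) (m : M) :
    g • m - m ∈ Submodule.span ℤ (Set.range P.root) := by
  induction hg using RootPairing.weylGroup.induction generalizing m with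
  | mem i =>
    rw [RootPairing.Equiv.reflection_smul, P.reflection_apply]
    have : m - (P.coroot' i) m • P.root i - m = - ((P.coroot' i) m • P.root i) := by abel
    rw [this]
    exact Submodule.neg_mem _ (Submodule.smul_mem _ _ (Submodule.subset_span ⟨i, rfl⟩))
  | one => simp
  | mul x y _ _ hx hy =>
    have : (x * y) • m - m = x • (y • m - m) + (x • m - m) := by
      rw [mul_smul, smul_sub]; abel
    rw [this]
    exact Submodule.add_mem _ (aut_smul_mem_span P x (hy m)) (hx m)

theorem weylGroupToPerm_injective : Function.Injective P.weylGroupToPerm := by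
  rw [injective_iff_map_eq_one]
  intro g hg
  have h1 : (g : P.Aut) = 1 := by
    apply aut_eq_one_of_fix P
    · intro m
      exact ⟨1, one_pos, by rw [one_smul]; exact weyl_smul_sub_mem P g g.2 m⟩
    · intro i
      have := congrArg (fun σ : Equiv.Perm ι => σ i) hg
      exact this
  exact Subtype.ext h1

end Groth.Agent.Helper3.RD

namespace Groth.Agent.Helper3.RD
open RootD

variable {ι M N : Type*} [AddCommGroup M] [AddCommGroup N] (P : RootPairing ι ℤ M N) [Finite ι]

theorem finite_autSemisimpleType :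
    Set.Finite {u : P.Aut | ∀ m : M, ∃ n : ℕ, 0 < n ∧ n • (u • m - m) ∈ Submodule.span ℤ (Set.range P.root)} := by
  apply Set.Finite.of_injOn (f := fun u : P.Aut => RootPairing.Equiv.indexHom P u) (t := Set.univ)
    (Set.mapsTo_univ _ _) ?_ Set.finite_univ
  intro u hu v hv huv
  have hidx : ∀ i : ι, u • i = v • i := fun i => congrArg (fun σ : Equiv.Perm ι => σ i) huv
  have h1 : u⁻¹ * v = 1 := by
    apply aut_eq_one_of_fix P
    · intro m
      obtain ⟨n₁, hn₁, h₁⟩ := hv m
      obtain ⟨n₂, hn₂, h₂⟩ := hu m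
      refine ⟨n₁ * n₂, Nat.mul_pos hn₁ hn₂, ?_⟩
      have e : (n₁ * n₂) • ((u⁻¹ * v) • m - m) =
          u⁻¹ • (n₂ • (n₁ • (v • m - m)) - n₁ • (n₂ • (u • m - m))) := by
        have e1 : (u⁻¹ * v) • m - m = u⁻¹ • ((v • m - m) - (u • m - m)) := by
          rw [mul_smul, smul_sub, smul_sub, smul_sub, inv_smul_smul]; abel
        rw [e1, ← smul_comm u⁻¹ (n₁ * n₂), smul_sub (n₁ * n₂), mul_smul, smul_comm n₁ n₂ (v • m - m), mul_smul]
      rw [e]
      apply aut_smul_mem_span
      exact Submodule.sub_mem _ (Submodule.smul_of_tower_mem _ n₂ h₁) (Submodule.smul_of_tower_mem _ n₁ h₂)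
    · intro i
      rw [mul_smul, ← hidx i, inv_smul_smul]
  calc u = u * (u⁻¹ * v) := by rw [h1, mul_one]
    _ = v := by group

end Groth.Agent.Helper3.RD
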