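import Groth.Agent.Lib.helper3.RootD8

set_option autoImplicit false

namespace Groth.Agent.Helper3.RD
open RootD

variable {ι M N : Type*} [AddCommGroup M] [AddCommGroup N] (P : RootPairing ι ℤ M N) [Finite ι]

theorem mem_simpleSys_iff_not_sum (Δ : Set ι) (hΔ : IsSimpleSys P Δ)
    (k : ι) (hk : k ∈ posOf P Δ) :
    k ∈ Δ ↔ ¬ ∃ i j : ι, i ∈ posOf P Δ ∧ j ∈ posOf P Δ ∧ P.root k = P.root i + P.root j := by
  classical
  constructor
  · rintro hkΔ ⟨i, j, hi, hj, hsum⟩
    obtain ⟨c, hc, hc0, h⟩ := (mem_posOf_iff i).mp hi
    obtain ⟨c', hc', hc0', h'⟩ := (mem_posOf_iff j).mp hj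
    have hs : ↑(c + c').support ⊆ Δ := by
      intro x hx
      rcases Finset.mem_union.mp (Finsupp.support_add hx) with h | h
      · exact hc h
      · exact hc' h
    have h1 : Finsupp.linearCombination ℤ P.root (c + c') =
        Finsupp.linearCombination ℤ P.root (Finsupp.single k 1) := by
      rw [map_add, h, h', ← hsum]; simp
    have h2 := coeff_unique hΔ.linInd hs (support_single_subset' hkΔ 1) h1
    have hkk := DFunLike.congr_fun h2 k
    simp only [Finsupp.coe_add, Pi.add_apply, Finsupp.single_eq_same] at hkk
    have hzero : c = 0 ∨ c' = 0 := by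
      have h3 := hc0 k
      have h4 := hc0' k
      by_cases hck : c k = 0
      · left
        ext d
        by_cases hd : d = k
        · rw [hd, hck]; rfl
        · have h5 := DFunLike.congr_fun h2 d
          have := hc0 d
          have := hc0' d
          simp [Finsupp.single_apply, Ne.symm hd] at h5 ⊢
          omega
      · right
        ext d
        by_cases hd : d = k
        · rw [hd]; simp; omega
        · have h5 := DFunLike.congr_fun h2 d
          have := hc0 d
          have := hc0' d
          simp [Finsupp.single_apply, Ne.symm hd] at h5 ⊢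
          omega
    rcases hzero with h0 | h0
    · rw [h0] at h; simp at h; exact P.ne_zero i h.symm
    · rw [h0] at h'; simp at h'; exact P.ne_zero j h'.symm
  · intro hno
    by_contra hkΔ
    apply hno
    obtain ⟨l, hl, hsum⟩ := (mem_natSpan_iff_multiset P Δ _).mp hk
    have hkl : k ∉ l := fun h => hkΔ (hl k h)
    obtain ⟨a, ha, _, k', hk'⟩ := exists_sub_mem P l k hkl 1 one_pos (by rw [one_smul, hsum])
    refine ⟨k', a, ?_, subset_posOf (hl a ha), by rw [hk']; abel⟩
    rw [posOf, Set.mem_setOf_eq, mem_natSpan_iff_multiset]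
    refine ⟨l.erase a, fun b hb => hl b (Multiset.mem_of_mem_erase hb), ?_⟩
    have h1 : l = a ::ₘ l.erase a := (Multiset.cons_erase ha).symm
    have h2 : (l.map P.root).sum = P.root a + ((l.erase a).map P.root).sum := by
      conv_lhs => rw [h1]
      simp
    rw [hk', ← hsum, h2]; abel

end Groth.Agent.Helper3.RD

namespace Groth.Agent.Helper3.RD
open RootD

variable {ι M N : Type*} [AddCommGroup M] [AddCommGroup N] (P : RootPairing ι ℤ M N) [Finite ι]

theorem exists_chain_aux {n : ℕ} (a : Fin n → ι) :
    ∀ (c : ℕ) (L : Multiset (Fin n)), Multiset.card L = c → ∀ k : ι,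
      P.root k = (L.map (fun i => P.root (a i))).sum →
      ∃ (l : ℕ) (b : Fin l → Fin n), 0 < l ∧
        (∀ p : Fin l, ∃ j : ι, P.root j =
          ∑ q ∈ Finset.univ.filter (fun q : Fin l => q.val ≤ p.val), P.root (a (b q))) ∧
        P.root k = ∑ q, P.root (a (b q)) := by
  classical
  intro c
  induction c with
  | zero =>
    intro L hL k hk
    rw [Multiset.card_eq_zero] at hL
    subst hL
    simp at hk
    exact absurd hk (P.ne_zero k)
  | succ c ih =>
    intro L hL k hk
    by_cases hex : ∃ idx ∈ L, a idx = k
    · obtain ⟨idx, _, hidx⟩ := hex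
      refine ⟨1, fun _ => idx, one_pos, ?_, by simp [hidx]⟩
      intro p
      refine ⟨k, ?_⟩
      have : Finset.univ.filter (fun q : Fin 1 => q.val ≤ p.val) = Finset.univ := by
        ext q; simp
      rw [this]; simp [hidx]
    · push_neg at hex
      have hkL : k ∉ L.map a := by
        intro h
        obtain ⟨idx, h1, h2⟩ := Multiset.mem_map.mp h
        exact hex idx h1 h2
      have hk1 : 1 • P.root k = ((L.map a).map P.root).sum := by
        rw [one_smul, hk, Multiset.map_map]; rfl
      obtain ⟨a', ha', _, k', hk'⟩ := exists_sub_mem P (L.map a) k hkL 1 one_pos hk1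
      obtain ⟨idx, hidx, rfl⟩ := Multiset.mem_map.mp ha'
      have hcard : Multiset.card (L.erase idx) = c := by
        rw [Multiset.card_erase_of_mem hidx, hL]; rfl
      have hsum : (L.map (fun i => P.root (a i))).sum =
          P.root (a idx) + ((L.erase idx).map (fun i => P.root (a i))).sum := by
        conv_lhs => rw [← Multiset.cons_erase hidx]
        simp
      have hk'' : P.root k' = ((L.erase idx).map (fun i => P.root (a i))).sum := by
        rw [hk', hk, hsum]; abel
      obtain ⟨l', b', _, hpart, htot⟩ := ih (L.erase idx) hcard k' hk''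
      refine ⟨l' + 1, Fin.snoc (α := fun _ => Fin n) b' idx, Nat.succ_pos _, ?_, ?_⟩
      · intro p
        rw [Finset.sum_filter, Fin.sum_univ_castSucc]
        refine Fin.lastCases ?_ (fun p' => ?_) p
        · refine ⟨k, ?_⟩
          have h1 : ∀ q' : Fin l', (q'.castSucc : Fin (l'+1)).val ≤ (Fin.last l').val := by
            intro q'; simp
          simp only [h1, if_true, Fin.snoc_castSucc, Fin.snoc_last, le_refl]
          rw [← htot, hk']; abel
        · obtain ⟨j, hj⟩ := hpart p'
          refine ⟨j, ?_⟩
          rw [hj, Finset.sum_filter]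
          have h2 : ¬ ((Fin.last l').val ≤ p'.val) := by
            simp
          simp only [Fin.snoc_castSucc, Fin.val_castSucc]
          rw [if_neg h2, add_zero]
      · rw [Fin.sum_univ_castSucc]
        simp only [Fin.snoc_castSucc, Fin.snoc_last]
        rw [← htot, hk']; abel

theorem exists_chain_partialSums {n : ℕ} (a : Fin n → ι) (m : Fin n → ℕ)
    (k : ι) (hk : P.root k = ∑ i, m i • P.root (a i)) :
    ∃ (l : ℕ) (b : Fin l → Fin n), 0 < l ∧
      (∀ p : Fin l, ∃ j : ι, P.root j = ∑ q ∈ Finset.univ.filter (fun q : Fin l => q.val ≤ p.val), P.root (a (b q))) ∧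
      P.root k = ∑ q, P.root (a (b q)) := by
  apply exists_chain_aux P a _ (∑ i : Fin n, Multiset.replicate (m i) i) rfl k
  rw [hk]
  have : ∀ L : Multiset (Fin n), (L.map (fun i => P.root (a i))).sum =
      Multiset.sumAddMonoidHom (Multiset.mapAddMonoidHom (fun i => P.root (a i)) L) := fun L => rfl
  rw [this, map_sum, map_sum]
  apply Finset.sum_congr rfl
  intro i _
  simp [Multiset.map_replicate, Multiset.sum_replicate]

end Groth.Agent.Helper3.RD
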