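import Mathlib

set_option autoImplicit false

namespace H3SuppLoc

theorem supp_loc {A : Type*} [CommRing A] (M : Type*) [AddCommGroup M] [Module A M]
    (p : Ideal A) [p.IsPrime] (P' : PrimeSpectrum (Localization.AtPrime p)) :
    P' ∈ Module.support (Localization.AtPrime p) (LocalizedModule p.primeCompl M) ↔
      PrimeSpectrum.comap (algebraMap A (Localization.AtPrime p)) P' ∈ Module.support A M := by
  rw [← not_iff_not, Module.notMem_support_iff', Module.notMem_support_iff']
  constructor
  · intro h m
    obtain ⟨r', hr', hr0⟩ := h (LocalizedModule.mkLinearMap p.primeCompl M m)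
    obtain ⟨⟨a, t⟩, hat⟩ := IsLocalization.surj p.primeCompl r'
    have h1 : algebraMap A (Localization.AtPrime p) a •
        LocalizedModule.mkLinearMap p.primeCompl M m = 0 := by
      rw [← hat, mul_comm, mul_smul, hr0, smul_zero]
    rw [algebraMap_smul, ← map_smul] at h1
    obtain ⟨u, hu⟩ := (IsLocalizedModule.eq_zero_iff p.primeCompl
      (LocalizedModule.mkLinearMap p.primeCompl M)).1 h1
    refine ⟨(u : A) * a, ?_, by rw [mul_smul]; exact hu⟩
    intro hmem
    have hmem' : algebraMap A (Localization.AtPrime p) ((u : A) * a) ∈ P'.asIdeal := hmem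
    rw [map_mul, ← hat] at hmem'
    have hunit : ∀ s : p.primeCompl,
        algebraMap A (Localization.AtPrime p) s ∉ P'.asIdeal := fun s hs =>
      P'.2.ne_top (Ideal.eq_top_of_isUnit_mem _ hs (IsLocalization.map_units _ s))
    rcases P'.2.mem_or_mem hmem' with h2 | h2
    · exact hunit u h2
    · rcases P'.2.mem_or_mem h2 with h3 | h3
      · exact hr' h3
      · exact hunit t h3
  · intro h x
    induction x using LocalizedModule.induction_on with
    | h m s =>
      obtain ⟨r, hr, hr0⟩ := h m
      refine ⟨algebraMap A (Localization.AtPrime p) r, hr, ?_⟩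
      rw [algebraMap_smul, LocalizedModule.smul'_mk, hr0, LocalizedModule.zero_mk]

theorem under_le {A : Type*} [CommRing A] (p : Ideal A) [p.IsPrime]
    (P' : PrimeSpectrum (Localization.AtPrime p)) :
    P'.asIdeal.comap (algebraMap A (Localization.AtPrime p)) ≤ p := by
  have h1 : P'.asIdeal ≤ IsLocalRing.maximalIdeal (Localization.AtPrime p) :=
    IsLocalRing.le_maximalIdeal P'.2.ne_top
  have h2 := Ideal.comap_mono (f := algebraMap A (Localization.AtPrime p)) h1
  have h3 : (IsLocalRing.maximalIdeal (Localization.AtPrime p)).comap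
      (algebraMap A (Localization.AtPrime p)) = p := Localization.AtPrime.under_maximalIdeal
  rwa [h3] at h2

theorem comap_injective {A : Type*} [CommRing A] (p : Ideal A) [p.IsPrime]
    (P₁ P₂ : PrimeSpectrum (Localization.AtPrime p))
    (h : PrimeSpectrum.comap (algebraMap A (Localization.AtPrime p)) P₁ =
      PrimeSpectrum.comap (algebraMap A (Localization.AtPrime p)) P₂) : P₁ = P₂ := by
  apply PrimeSpectrum.ext
  have e1 := IsLocalization.map_under p.primeCompl (Localization.AtPrime p) P₁.asIdeal
  have e2 := IsLocalization.map_under p.primeCompl (Localization.AtPrime p) P₂.asIdeal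
  have this' : P₁.asIdeal.under A = P₂.asIdeal.under A := congrArg PrimeSpectrum.asIdeal h
  rw [← e1, ← e2, this']

end H3SuppLoc
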