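import Mathlib
import Groth.Prelude.Def_Flat

namespace Groth.Agent.Lib.helper3.TopDim
universe u
open TopologicalSpace

theorem coheight_le_dim_open {X : Type u} [TopologicalSpace X] (U : Set X) (hU : IsOpen U)
    (W : IrreducibleCloseds X) (h : ((W : Set X) ∩ U).Nonempty) :
    (Order.coheight W : WithBot ℕ∞) ≤ topologicalKrullDim U := by
  have hf : Topology.IsOpenEmbedding (Subtype.val : U → X) := hU.isOpenEmbedding_subtypeVal
  have h' : ((Subtype.val : U → X) ⁻¹' (W : Set X)).Nonempty := by
    obtain ⟨x, hxW, hxU⟩ := h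
    exact ⟨⟨x, hxU⟩, hxW⟩
  let e := IrreducibleCloseds.orderIsoOfIsOpenEmbedding (Subtype.val : U → X) hf
  let Z := e.symm ⟨W, h'⟩
  have hZ : IrreducibleCloseds.map Subtype.val hf.continuous Z = W := by
    have := e.apply_symm_apply ⟨W, h'⟩
    exact congrArg Subtype.val this
  rw [← hZ, hf.coheight_map Z]
  exact Order.coheight_le_krullDim Z

theorem localDim_le_dim (X : Type u) [TopologicalSpace X] (x : X) :
    FlatMor.localDim X x ≤ topologicalKrullDim X := by
  unfold FlatMor.localDim
  exact le_trans (iInf_le (fun U : {U : Opens X // x ∈ U} => topologicalKrullDim (U.1 : Set X))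
    ⟨⊤, trivial⟩) (topologicalKrullDim_subspace_le X _)

theorem coheight_le_localDim {X : Type u} [TopologicalSpace X] (W : IrreducibleCloseds X) (x : X)
    (hx : x ∈ (W : Set X)) :
    (Order.coheight W : WithBot ℕ∞) ≤ FlatMor.localDim X x := by
  unfold FlatMor.localDim
  refine le_iInf (fun U => ?_)
  exact coheight_le_dim_open U.1 U.1.isOpen W ⟨x, hx, U.2⟩

end Groth.Agent.Lib.helper3.TopDim

namespace Groth.Agent.Lib.helper3.TopDim
universe u
open TopologicalSpace

theorem isIrreducible_preimage_val {X : Type u} [TopologicalSpace X] (Y : Set X) (b : Set X)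
    (hb : IsIrreducible b) (hbY : b ⊆ Y) :
    IsIrreducible ((Subtype.val : Y → X) ⁻¹' b) := by
  constructor
  · obtain ⟨z, hz⟩ := hb.nonempty
    exact ⟨⟨z, hbY hz⟩, hz⟩
  · intro u' v' hu' hv' hu'n hv'n
    obtain ⟨u, hu, rfl⟩ := isOpen_induced_iff.1 hu'
    obtain ⟨v, hv, rfl⟩ := isOpen_induced_iff.1 hv'
    obtain ⟨a, hab, hau⟩ := hu'n
    obtain ⟨c, hcb, hcv⟩ := hv'n
    obtain ⟨z, hzb, hzu, hzv⟩ := hb.isPreirreducible u v hu hv ⟨a.1, hab, hau⟩ ⟨c.1, hcb, hcv⟩
    exact ⟨⟨z, hbY hzb⟩, hzb, hzu, hzv⟩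

theorem height_le_dim_closed {X : Type u} [TopologicalSpace X] (Y : Set X) (hY : IsClosed Y)
    (W : IrreducibleCloseds X) (hW : (W : Set X) ⊆ Y) :
    (Order.height W : WithBot ℕ∞) ≤ topologicalKrullDim Y := by
  have hf : Topology.IsClosedEmbedding (Subtype.val : Y → X) := hY.isClosedEmbedding_subtypeVal
  let pre : ∀ b : IrreducibleCloseds X, (b : Set X) ⊆ Y → IrreducibleCloseds Y := fun b hb =>
    { carrier := (Subtype.val : Y → X) ⁻¹' b
      isIrreducible' := isIrreducible_preimage_val Y b b.isIrreducible hb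
      isClosed' := b.isClosed.preimage continuous_subtype_val }
  have hmap : ∀ b hb, IrreducibleCloseds.map Subtype.val hf.continuous (pre b hb) = b := by
    intro b hb
    apply SetLike.coe_injective
    rw [IrreducibleCloseds.coe_map]
    show closure (Subtype.val '' ((Subtype.val : Y → X) ⁻¹' (b : Set X))) = b
    rw [Subtype.image_preimage_coe, Set.inter_eq_right.2 hb, b.isClosed.closure_eq]
  have hsub : ∀ Z : IrreducibleCloseds Y,
      ((IrreducibleCloseds.map Subtype.val hf.continuous Z : IrreducibleCloseds X) : Set X) ⊆ Y := by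
    intro Z
    rw [IrreducibleCloseds.coe_map]
    exact closure_minimal (by rintro _ ⟨y, _, rfl⟩; exact y.2) hY
  have key : ∀ Z : IrreducibleCloseds Y,
      Order.height Z = Order.height (IrreducibleCloseds.map Subtype.val hf.continuous Z) := by
    apply Order.height_eq_of_strictMono _ (IrreducibleCloseds.map_strictMono_of_isInducing hf.isInducing)
    intro Z b hb
    have hbY : (b : Set X) ⊆ Y := fun z hz => hsub Z ((SetLike.coe_subset_coe.2 hb.le) hz)
    refine ⟨pre b hbY, lt_of_le_of_ne ?_ ?_, hmap b hbY⟩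
    · rw [← SetLike.coe_subset_coe]
      intro y hy
      have h1 : (y : X) ∈ ((IrreducibleCloseds.map Subtype.val hf.continuous Z :
          IrreducibleCloseds X) : Set X) := (SetLike.coe_subset_coe.2 hb.le) hy
      rw [IrreducibleCloseds.coe_map, (hf.isClosedMap _ Z.isClosed).closure_eq] at h1
      obtain ⟨y', hy', hyy'⟩ := h1
      rw [Subtype.ext hyy'] at hy'
      exact hy'
    · intro heq
      apply hb.ne
      rw [← hmap b hbY, heq]
  rw [← hmap W hW, ← key]
  exact Order.height_le_krullDim _

end Groth.Agent.Lib.helper3.TopDim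

namespace Groth.Agent.Lib.helper3.TopDim
universe u v
open TopologicalSpace

theorem dim_le_of_finite_closed_cover {X : Type u} [TopologicalSpace X] {ι : Type v} [Finite ι]
    (Y : ι → Set X) (hY : ∀ i, IsClosed (Y i)) (hcov : ⋃ i, Y i = Set.univ) (c : WithBot ℕ∞)
    (hc : ∀ i, topologicalKrullDim (Y i) ≤ c) :
    topologicalKrullDim X ≤ c := by
  classical
  unfold topologicalKrullDim
  rw [Order.krullDim_eq_iSup_height]
  refine iSup_le (fun W => ?_)
  haveI := Fintype.ofFinite ι
  obtain ⟨z, hz, hWz⟩ := (isIrreducible_iff_sUnion_isClosed.1 W.isIrreducible) (Finset.univ.image Y)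
    (by intro z hz; obtain ⟨i, _, rfl⟩ := Finset.mem_image.1 hz; exact hY i)
    (by intro x _
        have : x ∈ ⋃ i, Y i := by rw [hcov]; trivial
        obtain ⟨i, hi⟩ := Set.mem_iUnion.1 this
        exact Set.mem_sUnion.2 ⟨Y i, by simp, hi⟩)
  obtain ⟨i, _, rfl⟩ := Finset.mem_image.1 hz
  exact le_trans (height_le_dim_closed (Y i) (hY i) W hWz) (hc i)

end Groth.Agent.Lib.helper3.TopDim

namespace Groth.Agent.Lib.helper3.TopDim
universe u v
open TopologicalSpace

theorem dim_preimage_le {X : Type u} [TopologicalSpace X] (U Y : Set X) :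
    topologicalKrullDim ((Subtype.val : U → X) ⁻¹' Y) ≤ topologicalKrullDim Y := by
  let g : ((Subtype.val : U → X) ⁻¹' Y) → Y := fun y => ⟨(y.1 : X), y.2⟩
  have hg : Continuous g :=
    Continuous.subtype_mk (continuous_subtype_val.comp continuous_subtype_val) _
  have : Topology.IsInducing g := by
    apply Topology.IsInducing.of_comp hg continuous_subtype_val
    have h2 : Topology.IsInducing (fun y : ((Subtype.val : U → X) ⁻¹' Y) => ((y.1 : U) : X)) :=
      Topology.IsInducing.subtypeVal.comp Topology.IsInducing.subtypeVal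
    exact h2
  exact this.topologicalKrullDim_le

end Groth.Agent.Lib.helper3.TopDim

namespace Groth.Agent.Lib.helper3.TopDim
universe u v
open TopologicalSpace

theorem dim_le_of_val_eq {X : Type u} [TopologicalSpace X] {A B : Type u} [TopologicalSpace A]
    [TopologicalSpace B] (a : A → X) (b : B → X) (ha : Topology.IsInducing a) (hb : Continuous b)
    (g : A → B) (hg : Continuous g) (h : ∀ y, b (g y) = a y) :
    topologicalKrullDim A ≤ topologicalKrullDim B := by
  have : Topology.IsInducing g := by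
    apply Topology.IsInducing.of_comp hg hb
    have : b ∘ g = a := funext h
    rw [this]; exact ha
  exact this.topologicalKrullDim_le

theorem exists_opens_dim_eq {X : Type u} [TopologicalSpace X] (x : X) :
    ∃ U : Opens X, x ∈ U ∧ topologicalKrullDim (U : Set X) = FlatMor.localDim X x := by
  haveI : Nonempty {U : Opens X // x ∈ U} := ⟨⟨⊤, trivial⟩⟩
  obtain ⟨U, hU⟩ := ciInf_mem (fun U : {U : Opens X // x ∈ U} => topologicalKrullDim (U.1 : Set X))
  exact ⟨U.1, U.2, hU⟩

end Groth.Agent.Lib.helper3.TopDim
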