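import Groth.Prelude.Def_TopMod
import Mathlib.Topology.Algebra.Group.Basic
import Mathlib.Topology.Algebra.OpenSubgroup
import Mathlib.Topology.Algebra.Module.Basic

/-! Helper lemmas on deduced topologies (helper3). -/

set_option autoImplicit false
universe u v w

namespace H3TopMod

variable {A : Type u} [CommRing A] [TopologicalSpace A] {X : Type v} [AddCommGroup X] [Module A X]
  [TopologicalSpace X]

/-- a linear map to a discrete module killing `J • X` for an open ideal `J` is continuous -/
theorem continuous_of_le_ker (hX : TopMod.IsDeduced A X) {E : Type w} [AddCommGroup E] [Module A E]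
    [TopologicalSpace E] [DiscreteTopology E] (φ : X →ₗ[A] E) (J : Ideal A) (hJ : IsOpen (J : Set A))
    (hle : (J • ⊤ : Submodule A X) ≤ LinearMap.ker φ) : Continuous φ := by
  haveI : IsTopologicalAddGroup X := hX.1
  have h0 : ContinuousAt (φ.toAddMonoidHom) 0 := by
    intro U hU
    have h1 : ((J • ⊤ : Submodule A X) : Set X) ∈ nhds (0 : X) := hX.2.mem_of_mem hJ
    show (φ.toAddMonoidHom) ⁻¹' U ∈ nhds (0 : X)
    refine Filter.mem_of_superset h1 ?_
    intro x hx
    have hx0 : φ x = 0 := hle hx
    show φ x ∈ U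
    rw [hx0]
    have : φ.toAddMonoidHom 0 = 0 := map_zero _
    rw [this] at hU
    exact mem_of_mem_nhds hU
  exact continuous_of_continuousAt_zero φ.toAddMonoidHom h0

/-- a continuous linear map to a discrete module kills `J • X` for some open ideal `J` -/
theorem exists_le_ker (hX : TopMod.IsDeduced A X) {E : Type w} [AddCommGroup E] [Module A E]
    [TopologicalSpace E] [DiscreteTopology E] (v : X →L[A] E) :
    ∃ J : Ideal A, IsOpen (J : Set A) ∧ (J • ⊤ : Submodule A X) ≤ LinearMap.ker (v : X →ₗ[A] E) := by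
  have h1 : IsOpen (v ⁻¹' {0}) := (isOpen_discrete _).preimage v.continuous
  have h2 : v ⁻¹' {0} ∈ nhds (0 : X) := h1.mem_nhds (by simp)
  obtain ⟨J, hJ, hsub⟩ := hX.2.mem_iff.1 h2
  exact ⟨J, hJ, fun x hx => hsub hx⟩

end H3TopMod

namespace H3TopMod

variable {A : Type u} [CommRing A] [TopologicalSpace A] {X : Type v} [AddCommGroup X] [Module A X]
  [TopologicalSpace X]

theorem isOpen_smul_top (hX : TopMod.IsDeduced A X) (J : Ideal A) (hJ : IsOpen (J : Set A)) :
    IsOpen ((J • ⊤ : Submodule A X) : Set X) := by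
  haveI : IsTopologicalAddGroup X := hX.1
  exact AddSubgroup.isOpen_of_mem_nhds (J • ⊤ : Submodule A X).toAddSubgroup (hX.2.mem_of_mem hJ)

end H3TopMod
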