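import Groth.Agent.Lib.helper3.FibCatPb
import Mathlib

set_option autoImplicit false
set_option backward.isDefEq.respectTransparency false
universe v u
open CategoryTheory CategoryTheory.Functor CategoryTheory.Limits

namespace Groth.Agent.Helper3

variable {X Y V : Type u} [Category.{v} X] [Category.{v} Y] [Category.{v} V] (p : X ⥤ Y) (q : V ⥤ Y)

abbrev tcL : CategoricalPullback p q ⥤ CategoricalPullback (CategoricalPullback.π₂ p q) (CategoricalPullback.π₂ p q) :=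
  (CategoricalPullback.CatCommSqOver.toFunctorToCategoricalPullback (CategoricalPullback.π₂ p q)
    (CategoricalPullback.π₂ p q) (CategoricalPullback p q)).obj ⟨𝟭 _, 𝟭 _, Iso.refl _⟩

abbrev tcF : X ⥤ CategoricalPullback p p :=
  (CategoricalPullback.CatCommSqOver.toFunctorToCategoricalPullback p p X).obj ⟨𝟭 _, 𝟭 _, Iso.refl _⟩

abbrev tcψ : CatCospanTransform (CategoricalPullback.π₂ p q) (CategoricalPullback.π₂ p q) p p :=
  ⟨CategoricalPullback.π₁ p q, q, CategoricalPullback.π₁ p q,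
    ⟨(CatCommSq.iso (CategoricalPullback.π₁ p q) (CategoricalPullback.π₂ p q) p q).symm⟩,
    ⟨(CatCommSq.iso (CategoricalPullback.π₁ p q) (CategoricalPullback.π₂ p q) p q).symm⟩⟩

noncomputable abbrev tcG := FibCat.categoricalPullbackMap (tcψ p q)

theorem tcG_obj_iso_hom (w : CategoricalPullback (CategoricalPullback.π₂ p q) (CategoricalPullback.π₂ p q)) :
    ((tcG p q).obj w).iso.hom = w.fst.iso.hom ≫ q.map w.iso.hom ≫ w.snd.iso.inv := by
  rw [cpm_obj_iso_hom]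
  rfl

theorem tcL_obj_iso_hom (u : CategoricalPullback p q) : ((tcL p q).obj u).iso.hom = 𝟙 u.snd := rfl

theorem tcF_obj_iso_hom (x : X) : ((tcF p).obj x).iso.hom = 𝟙 (p.obj x) := rfl

noncomputable def tcE : CategoricalPullback.π₁ p q ⋙ tcF p ≅ tcL p q ⋙ tcG p q :=
  NatIso.ofComponents (fun u => CategoricalPullback.mkIso (Iso.refl _) (Iso.refl _) (by
    have h := tcG_obj_iso_hom p q ((tcL p q).obj u)
    change p.map (𝟙 u.fst) ≫ ((tcG p q).obj ((tcL p q).obj u)).iso.hom = 𝟙 (p.obj u.fst) ≫ p.map (𝟙 u.fst)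
    rw [h]
    change p.map (𝟙 u.fst) ≫ u.iso.hom ≫ q.map (𝟙 u.snd) ≫ u.iso.inv = _
    simp)) (by
    intro u u' f
    apply CategoricalPullback.hom_ext
    · exact (Category.comp_id _).trans (Category.id_comp _).symm
    · exact (Category.comp_id _).trans (Category.id_comp _).symm)

theorem tcE_hom_app_fst (u : CategoricalPullback p q) : ((tcE p q).hom.app u).fst = 𝟙 _ := rfl
theorem tcE_hom_app_snd (u : CategoricalPullback p q) : ((tcE p q).hom.app u).snd = 𝟙 _ := rfl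


noncomputable abbrev tcK : CategoricalPullback p q ⥤ CategoricalPullback (tcF p) (tcG p q) :=
  (CategoricalPullback.CatCommSqOver.toFunctorToCategoricalPullback (tcF p) (tcG p q)
    (CategoricalPullback p q)).obj ⟨CategoricalPullback.π₁ p q, tcL p q, tcE p q⟩

theorem tcK_faithful : (tcK p q).Faithful := ⟨fun {u u'} f g h => by
  have := congrArg (fun k => k.snd.fst) h
  exact this⟩

theorem tcK_full : (tcK p q).Full := by
  refine ⟨fun {u u'} m => ?_⟩
  have hw := m.w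
  let m₁ : u.fst ⟶ u'.fst := m.fst
  let a : u ⟶ u' := m.snd.fst
  let b : u ⟶ u' := m.snd.snd
  have h1' : m₁ ≫ 𝟙 u'.fst = 𝟙 u.fst ≫ a.fst := congrArg (fun k => k.fst) hw
  have h2' : m₁ ≫ 𝟙 u'.fst = 𝟙 u.fst ≫ b.fst := congrArg (fun k => k.snd) hw
  have h3' : a.snd ≫ 𝟙 u'.snd = 𝟙 u.snd ≫ b.snd := m.snd.w
  have h1 : m₁ = a.fst := by simpa using h1'
  have h2 : m₁ = b.fst := by simpa using h2'
  have h3 : a.snd = b.snd := by simpa using h3'
  refine ⟨a, ?_⟩
  apply CategoricalPullback.hom_ext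
  · exact h1.symm
  · apply CategoricalPullback.hom_ext
    · rfl
    · apply CategoricalPullback.hom_ext
      · exact h1.symm.trans h2
      · exact h3

theorem tcK_essSurj : (tcK p q).EssSurj := by
  refine ⟨fun t => ?_⟩
  let u₁ : CategoricalPullback p q := t.snd.fst
  let u₂ : CategoricalPullback p q := t.snd.snd
  let κ : u₁.snd ≅ u₂.snd := t.snd.iso
  let θ₁ : t.fst ≅ u₁.fst := (CategoricalPullback.π₁ p p).mapIso t.iso
  let θ₂ : t.fst ≅ u₂.fst := (CategoricalPullback.π₂ p p).mapIso t.iso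
  have hA : p.map θ₁.hom ≫ (u₁.iso.hom ≫ q.map κ.hom ≫ u₂.iso.inv) = p.map θ₂.hom := by
    have hw := t.iso.hom.w
    rw [tcG_obj_iso_hom] at hw
    have : p.map θ₁.hom ≫ (u₁.iso.hom ≫ q.map κ.hom ≫ u₂.iso.inv) = 𝟙 _ ≫ p.map θ₂.hom := hw
    rw [this, Category.id_comp]
  let β₁ : u₁.fst ≅ u₂.fst := θ₁.symm ≪≫ θ₂
  have hβ : p.map β₁.hom ≫ u₂.iso.hom = u₁.iso.hom ≫ q.map κ.hom := by
    change p.map (θ₁.inv ≫ θ₂.hom) ≫ u₂.iso.hom = _
    rw [Functor.map_comp, ← hA]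
    simp [← Functor.map_comp_assoc]
  let β : u₁ ≅ u₂ := CategoricalPullback.mkIso β₁ κ hβ
  let b : (tcL p q).obj u₁ ≅ t.snd := CategoricalPullback.mkIso (Iso.refl u₁) β (by
    change (𝟙 u₁ : u₁ ⟶ u₁).snd ≫ κ.hom = 𝟙 u₁.snd ≫ κ.hom
    simp)
  refine ⟨u₁, ⟨CategoricalPullback.mkIso (x := (tcK p q).obj u₁) (y := t) θ₁.symm b ?_⟩⟩
  apply CategoricalPullback.hom_ext
  · change θ₁.inv ≫ θ₁.hom = 𝟙 u₁.fst ≫ 𝟙 u₁.fst
    simp
  · change θ₁.inv ≫ θ₂.hom = 𝟙 u₁.fst ≫ (θ₁.inv ≫ θ₂.hom)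
    simp

theorem tcK_isEquivalence : (tcK p q).IsEquivalence :=
  { faithful := tcK_faithful p q
    full := tcK_full p q
    essSurj := tcK_essSurj p q }

end Groth.Agent.Helper3
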