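import Mathlib

/-!
# Universally injective maps into flat modules (helper3)
-/

universe u

open TensorProduct Function

namespace H3UnivInj

variable {R : Type u} [CommRing R] {M M' C : Type u} [AddCommGroup M] [Module R M]
  [AddCommGroup M'] [Module R M'] [AddCommGroup C] [Module R C]

theorem lTensor_subtype_injective_of_rTensor_quot_injective [Module.Flat R M']
    (φ : M →ₗ[R] M') (p : M' →ₗ[R] C) (hp : Surjective p) (hex : Exact φ p) (I : Ideal R)
    (hI : Injective (φ.rTensor (R ⧸ I))) : Injective (I.subtype.lTensor C) := by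
  have hpφ : p ∘ₗ φ = 0 := hex.linearMap_comp_eq_zero
  have hιM' : Injective (I.subtype.lTensor M') :=
    Module.Flat.lTensor_preserves_injective_linearMap _ Subtype.val_injective
  rw [injective_iff_map_eq_zero]
  intro z hz
  obtain ⟨y, rfl⟩ := LinearMap.rTensor_surjective I hp z
  have h2 : (p.rTensor R) ((I.subtype.lTensor M') y) = 0 := by
    rw [← LinearMap.comp_apply, LinearMap.rTensor_comp_lTensor, ← LinearMap.lTensor_comp_rTensor,
      LinearMap.comp_apply, hz]
  obtain ⟨x, hx⟩ := (rTensor_exact R hex hp _).1 h2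
  have hmk : I.mkQ ∘ₗ I.subtype = 0 := (LinearMap.exact_subtype_mkQ I).linearMap_comp_eq_zero
  have h3 : (I.mkQ.lTensor M) x = 0 := by
    apply hI
    rw [map_zero, ← LinearMap.comp_apply, LinearMap.rTensor_comp_lTensor,
      ← LinearMap.lTensor_comp_rTensor, LinearMap.comp_apply, hx, ← LinearMap.comp_apply,
      ← LinearMap.lTensor_comp, hmk, LinearMap.lTensor_zero, LinearMap.zero_apply]
  obtain ⟨w, hw⟩ := (lTensor_exact M (LinearMap.exact_subtype_mkQ I)
    (Submodule.mkQ_surjective I) x).1 h3
  have h5 : y = (φ.rTensor I) w := by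
    apply hιM'
    have hcomm : (I.subtype.lTensor M') ((φ.rTensor I) w) =
        (φ.rTensor R) ((I.subtype.lTensor M) w) := by
      rw [← LinearMap.comp_apply, ← LinearMap.comp_apply, LinearMap.lTensor_comp_rTensor,
        LinearMap.rTensor_comp_lTensor]
    rw [hcomm, hw, hx]
  rw [h5, ← LinearMap.comp_apply, ← LinearMap.rTensor_comp, hpφ, LinearMap.rTensor_zero,
    LinearMap.zero_apply]

theorem injective_of_rTensor_quot_bot (φ : M →ₗ[R] M')
    (h : Injective (φ.rTensor (R ⧸ (⊥ : Ideal R)))) : Injective φ := by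
  rw [injective_iff_map_eq_zero]
  intro x hx
  have h1 : (x ⊗ₜ[R] (1 : R ⧸ (⊥ : Ideal R)) : M ⊗[R] (R ⧸ (⊥ : Ideal R))) = 0 := by
    apply h
    rw [map_zero, LinearMap.rTensor_tmul, hx, TensorProduct.zero_tmul]
  have h2 := congrArg (TensorProduct.tensorQuotEquivQuotSMul M (⊥ : Ideal R)) h1
  rw [← map_one (Ideal.Quotient.mk (⊥ : Ideal R)), TensorProduct.tensorQuotEquivQuotSMul_tmul_mk,
    map_zero, one_smul, Submodule.Quotient.mk_eq_zero, Submodule.bot_smul, Submodule.mem_bot] at h2
  exact h2

theorem rTensor_injective_of_forall_fg [Module.Flat R M'] (f : M →ₗ[R] M')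
    (h : ∀ I : Ideal R, I.FG → Injective (f.rTensor (R ⧸ I)))
    (Q : Type u) [AddCommGroup Q] [Module R Q] : Injective (f.rTensor Q) := by
  have hf : Injective f := injective_of_rTensor_quot_bot f (h ⊥ Submodule.fg_bot)
  have hex : Exact f (LinearMap.range f).mkQ := LinearMap.exact_map_mkQ_range f
  haveI : Module.Flat R (M' ⧸ LinearMap.range f) := by
    rw [Module.Flat.iff_lTensor_injective]
    intro I hI
    exact lTensor_subtype_injective_of_rTensor_quot_injective f _
      (Submodule.mkQ_surjective _) hex I (h I hI)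
  exact (LinearMap.lTensor_inj_iff_rTensor_inj _ _).1
    (LinearMap.lTensor_injective_of_exact_of_flat _ (Submodule.mkQ_surjective _) f hf hex Q)

end H3UnivInj
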